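import Cfsg.Statements.S5555
import Cfsg.Agent.Lib.Helper8_TC54
import Cfsg.Agent.Lib.Helper8_SU32Derived
import Cfsg.Agent.Lib.Helper8_ThreeTransp
import Cfsg.Agent.Lib.Helper49_CharP

/-!
# S5555: a 3-transposition group with `G / O₂(G) ≅ SU₃(2)'` splits over `O₂(G)` (helper8)

Three suitable transpositions `a, b, c` generate a subgroup of order at most `54` (coset enumeration,
`Helper8_TC54`) which maps onto `G / O₂(G)` of order `54` (`Helper8_SU32Derived`); it is a complement.
-/

set_option autoImplicit false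
set_option linter.unusedSectionVars false
open Cfsg

namespace Cfsg.Agent.S5555

open Cfsg.Agent.Lib.Helper8_ThreeTransp Cfsg.Agent.Lib.Helper8_SU32Derived

section aux

variable {L : Type*} [Group L]

/-- pairwise commuting generators generate a commutative subgroup -/
theorem comm_of_closure (J : Set L) (h : ∀ x ∈ J, ∀ y ∈ J, x * y = y * x) :
    ∀ x ∈ Subgroup.closure J, ∀ y ∈ Subgroup.closure J, x * y = y * x := by
  have h1 : Subgroup.closure J ≤ Subgroup.centralizer J := by
    rw [Subgroup.closure_le]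
    intro x hx
    rw [SetLike.mem_coe, Subgroup.mem_centralizer_iff]
    intro y hy
    exact h y hy x hx
  have h2 : Subgroup.closure J ≤ Subgroup.centralizer (Subgroup.closure J : Set L) := by
    rw [Subgroup.closure_le]
    intro x hx
    rw [SetLike.mem_coe, Subgroup.mem_centralizer_iff]
    intro y hy
    exact ((Subgroup.mem_centralizer_iff.mp (h1 hy)) x hx).symm
  intro x hx y hy
  exact ((Subgroup.mem_centralizer_iff.mp (h2 hx)) y hy).symm

/-- an element of order dividing `2` in a subgroup of order `27` is trivial -/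
theorem eq_one_of_sq_of_mem (P : Subgroup L) (hP : Nat.card P = 27) (y : L) (hy : y ∈ P)
    (h2 : y ^ 2 = 1) : y = 1 := by
  have h1 : orderOf y ∣ 27 := by
    rw [← hP, ← Subgroup.orderOf_mk y hy]
    exact orderOf_dvd_natCard _
  have h3 : orderOf y ∣ 2 := orderOf_dvd_of_pow_eq_one h2
  have h4 : orderOf y ∣ Nat.gcd 27 2 := Nat.dvd_gcd h1 h3
  have h5 : orderOf y = 1 := by
    have : Nat.gcd 27 2 = 1 := by norm_num
    rw [this] at h4
    exact Nat.dvd_one.mp h4
  exact orderOf_eq_one_iff.mp h5

/-- an element of order dividing `3` lies in every subgroup of index two -/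
theorem mem_of_cube_of_index_two (P : Subgroup L) (hP : P.index = 2) (g : L) (hg : g ^ 3 = 1) :
    g ∈ P := by
  have h1 := Subgroup.mul_self_mem_of_index_two hP (g * g)
  have h2 : g * g * (g * g) = g := by
    calc g * g * (g * g) = g ^ 3 * g := by
          rw [pow_succ, pow_two]; simp only [mul_assoc]
      _ = g := by rw [hg, one_mul]
  rwa [h2] at h1

end aux

section main

variable {G : Type*} [Group G] [Finite G]

/-- the abstract splitting theorem -/
theorem main {D : Set G} (hD : Cfsg.IsThreeTranspositionClass D) (Q : Subgroup G) [hQn : Q.Normal]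
    (h54 : Nat.card (G ⧸ Q) = 54)
    (huv : ∃ u v : G ⧸ Q, u ^ 3 = 1 ∧ v ^ 3 = 1 ∧ u * v ≠ v * u) :
    ∃ K : Subgroup G, Q.IsComplement' K := by
  classical
  obtain ⟨hD3, ⟨d₀, hd₀, hDconj⟩, hDgen⟩ := hD
  obtain ⟨u, v, hu3, hv3, huv⟩ := huv
  have h3 : Fact (Nat.Prime 3) := ⟨Nat.prime_three⟩
  let π : G →* G ⧸ Q := QuotientGroup.mk' Q
  have hπsurj : Function.Surjective π := QuotientGroup.mk'_surjective Q
  have hsq : ∀ d ∈ D, d * d = 1 := fun d hd => mem_sq hD3 hd
  have hπsq : ∀ d ∈ D, π d * π d = 1 := fun d hd => by rw [← map_mul, hsq d hd, map_one]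
  have hDcl : ∀ d ∈ D, ∀ g : G, g * d * g⁻¹ ∈ D := by
    intro d hd g
    rw [hDconj] at hd ⊢
    have hd' : IsConj d₀ d := hd
    exact hd'.trans (isConj_iff.mpr ⟨g, rfl⟩)
  -- the subgroup of order 27
  obtain ⟨P, hP⟩ := Sylow.exists_subgroup_card_pow_prime (G := G ⧸ Q) 3 (n := 3)
    (by rw [h54]; norm_num)
  have hP27 : Nat.card P = 27 := by rw [hP]; norm_num
  have hPidx : P.index = 2 := by
    have h1 := Subgroup.card_mul_index P
    rw [hP27, h54] at h1
    omega
  have huP : u ∈ P := mem_of_cube_of_index_two P hPidx u hu3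
  have hvP : v ∈ P := mem_of_cube_of_index_two P hPidx v hv3
  -- transpositions are outside `Q` and outside `P`
  have hDP : ∀ d ∈ D, π d ∉ P := by
    intro d hd hdP
    have h1 : π d = 1 := eq_one_of_sq_of_mem P hP27 _ hdP (by rw [pow_two]; exact hπsq d hd)
    have hdQ : d ∈ Q := (QuotientGroup.eq_one_iff d).mp h1
    have hDQ : D ⊆ Q := by
      intro e he
      rw [hDconj] at he hd
      have he' : IsConj d₀ e := he
      have hd' : IsConj d₀ d := hd
      obtain ⟨g, hg⟩ := isConj_iff.mp (hd'.symm.trans he')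
      rw [← hg]
      exact hQn.conj_mem d hdQ g
    have hQtop : Q = ⊤ := by
      rw [eq_top_iff, ← hDgen, Subgroup.closure_le]
      exact hDQ
    have : Nat.card (G ⧸ Q) = 1 := by
      rw [← Subgroup.index_eq_card, hQtop, Subgroup.index_top]
    omega
  have hPmul : ∀ d ∈ D, ∀ e ∈ D, π d * π e ∈ P := by
    intro d hd e he
    rw [Subgroup.mul_mem_iff_of_index_two hPidx]
    exact ⟨fun h => absurd h (hDP d hd), fun h => absurd h (hDP e he)⟩
  -- the images of the transpositions generate
  have hπD : Subgroup.closure (π '' D) = ⊤ := by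
    rw [← MonoidHom.map_closure, hDgen, Subgroup.map_top_of_surjective π hπsurj]
  have ha := hd₀
  -- two non-commuting products
  have hex : ∃ b ∈ D, ∃ c ∈ D, (π d₀ * π b) * (π d₀ * π c) ≠ (π d₀ * π c) * (π d₀ * π b) := by
    by_contra hcon
    push Not at hcon
    let J : Set (G ⧸ Q) := {y | ∃ d ∈ D, y = π d₀ * π d}
    have hJcomm : ∀ x ∈ J, ∀ y ∈ J, x * y = y * x := by
      rintro x ⟨b, hb, rfl⟩ y ⟨c, hc, rfl⟩
      exact hcon b hb c hc
    have hRcomm := comm_of_closure J hJcomm
    have hJP : Subgroup.closure J ≤ P := by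
      rw [Subgroup.closure_le]
      rintro x ⟨b, hb, rfl⟩
      exact hPmul d₀ ha b hb
    have key : ∀ g : G ⧸ Q, g ∈ Subgroup.closure J ∨ π d₀ * g ∈ Subgroup.closure J := by
      intro g
      have hg : g ∈ Subgroup.closure (π '' D) := by rw [hπD]; trivial
      induction hg using Subgroup.closure_induction_left with
      | one => left; exact one_mem _
      | mul_left x hx y _ ih =>
        obtain ⟨d, hd, rfl⟩ := hx
        have hJd : π d₀ * π d ∈ Subgroup.closure J := Subgroup.subset_closure ⟨d, hd, rfl⟩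
        rcases ih with ih | ih
        · right
          rw [← mul_assoc]
          exact mul_mem hJd ih
        · left
          have e : π d * y = (π d₀ * π d)⁻¹ * (π d₀ * y) := by
            have e1 : (π d₀ * π d)⁻¹ = π d * π d₀ := by
              apply inv_eq_of_mul_eq_one_right
              calc π d₀ * π d * (π d * π d₀) = π d₀ * (π d * π d) * π d₀ := by group
                _ = 1 := by rw [hπsq d hd, mul_one, hπsq d₀ ha]
            rw [e1]
            calc π d * y = π d * (π d₀ * π d₀) * y := by rw [hπsq d₀ ha, mul_one]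
              _ = π d * π d₀ * (π d₀ * y) := by group
          rw [e]
          exact mul_mem (inv_mem hJd) ih
      | inv_mul_cancel x hx y _ ih =>
        obtain ⟨d, hd, rfl⟩ := hx
        have hinv : (π d)⁻¹ = π d := inv_eq_of_mul_eq_one_right (hπsq d hd)
        rw [hinv]
        have hJd : π d₀ * π d ∈ Subgroup.closure J := Subgroup.subset_closure ⟨d, hd, rfl⟩
        rcases ih with ih | ih
        · right
          rw [← mul_assoc]
          exact mul_mem hJd ih
        · left
          have e : π d * y = (π d₀ * π d)⁻¹ * (π d₀ * y) := by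
            have e1 : (π d₀ * π d)⁻¹ = π d * π d₀ := by
              apply inv_eq_of_mul_eq_one_right
              calc π d₀ * π d * (π d * π d₀) = π d₀ * (π d * π d) * π d₀ := by group
                _ = 1 := by rw [hπsq d hd, mul_one, hπsq d₀ ha]
            rw [e1]
            calc π d * y = π d * (π d₀ * π d₀) * y := by rw [hπsq d₀ ha, mul_one]
              _ = π d * π d₀ * (π d₀ * y) := by group
          rw [e]
          exact mul_mem (inv_mem hJd) ih
    have hPJ : ∀ g ∈ P, g ∈ Subgroup.closure J := by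
      intro g hg
      rcases key g with h | h
      · exact h
      · exfalso
        apply hDP d₀ ha
        have : π d₀ = (π d₀ * g) * g⁻¹ := by group
        rw [this]
        exact mul_mem (hJP h) (inv_mem hg)
    exact huv (hRcomm u (hPJ u huP) v (hPJ v hvP))
  obtain ⟨b, hb, c, hc, hbc⟩ := hex
  -- notation
  set a := d₀ with ha_def
  set y₁ := π a * π b with hy₁
  set y₂ := π a * π c with hy₂
  have hy₁P : y₁ ∈ P := hPmul a ha b hb
  have hy₂P : y₂ ∈ P := hPmul a ha c hc
  -- the images of a, b, c generate the quotient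
  have hKbar : Subgroup.closure ({π a, π b, π c} : Set (G ⧸ Q)) = ⊤ := by
    set Kb := Subgroup.closure ({π a, π b, π c} : Set (G ⧸ Q)) with hKb
    have haK : π a ∈ Kb := Subgroup.subset_closure (by simp)
    have hbK : π b ∈ Kb := Subgroup.subset_closure (by simp)
    have hcK : π c ∈ Kb := Subgroup.subset_closure (by simp)
    have hR2 : Nat.card (Subgroup.closure ({y₁, y₂} : Set (G ⧸ Q))) = 27 := by
      apply card_eq_27_of_noncomm _ _ y₁ y₂ (Subgroup.subset_closure (by simp))
        (Subgroup.subset_closure (by simp)) hbc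
      rw [← hP27]
      apply Subgroup.card_dvd_of_le
      rw [Subgroup.closure_le]
      intro x hx
      simp only [Set.mem_insert_iff, Set.mem_singleton_iff] at hx
      rcases hx with rfl | rfl
      · exact hy₁P
      · exact hy₂P
    have hR2P : Subgroup.closure ({y₁, y₂} : Set (G ⧸ Q)) = P := by
      apply Subgroup.eq_of_le_of_card_ge
      · rw [Subgroup.closure_le]
        intro x hx
        simp only [Set.mem_insert_iff, Set.mem_singleton_iff] at hx
        rcases hx with rfl | rfl
        · exact hy₁P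
        · exact hy₂P
      · rw [hR2, hP27]
    have hPK : P ≤ Kb := by
      rw [← hR2P, Subgroup.closure_le]
      intro x hx
      simp only [Set.mem_insert_iff, Set.mem_singleton_iff] at hx
      rcases hx with rfl | rfl
      · exact mul_mem haK hbK
      · exact mul_mem haK hcK
    have h1 : Nat.card Kb ≠ 27 := by
      intro h
      have hPKeq : P = Kb := Subgroup.eq_of_le_of_card_ge hPK (by rw [h, hP27])
      exact hDP a ha (hPKeq ▸ haK)
    have h2 : Nat.card P ∣ Nat.card Kb := Subgroup.card_dvd_of_le hPK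
    have h3' : Nat.card Kb ∣ 54 := by rw [← h54]; exact Subgroup.card_subgroup_dvd_card Kb
    rw [hP27] at h2
    obtain ⟨k, hk⟩ := h2
    have hk54 : Nat.card Kb = 54 := by
      have hk1 : k ∣ 2 := by
        have : 27 * k ∣ 27 * 2 := by rw [← hk]; exact h3'
        exact (Nat.mul_dvd_mul_iff_left (by norm_num)).mp this
      have := Nat.le_of_dvd (by norm_num) hk1
      interval_cases k <;> omega
    exact (Subgroup.card_eq_iff_eq_top Kb).mp (by rw [hk54, h54])
  -- relations between a, b, c
  have hcube : ∀ e₁ ∈ D, ∀ e₂ ∈ D, π e₁ * π e₂ ≠ 1 → (e₁ * e₂) ^ 3 = 1 := by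
    intro e₁ h₁ e₂ h₂ hne
    rcases hD3.2 e₁ h₁ e₂ h₂ with h | h
    · exfalso
      apply hne
      apply eq_one_of_sq_of_mem P hP27 _ (hPmul e₁ h₁ e₂ h₂)
      rw [← map_mul, ← map_pow, h, map_one]
    · exact h
  have hy₁1 : y₁ ≠ 1 := by
    intro h
    apply hbc
    rw [h, one_mul, mul_one]
  have hy₂1 : y₂ ≠ 1 := by
    intro h
    apply hbc
    rw [h, one_mul, mul_one]
  have hbcD : c * b * c⁻¹ ∈ D := hDcl b hb c
  have hcinv : c⁻¹ = c := inv_eq_of_mul_eq_one_right (hsq c hc)
  have hπb : π b = π a * y₁ := by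
    rw [hy₁, ← mul_assoc, hπsq a ha, one_mul]
  have hπc : π c = π a * y₂ := by
    rw [hy₂, ← mul_assoc, hπsq a ha, one_mul]
  have hy₁inv : y₁⁻¹ = π b * π a := by
    apply inv_eq_of_mul_eq_one_right
    rw [hy₁]
    calc π a * π b * (π b * π a) = π a * (π b * π b) * π a := by group
      _ = 1 := by rw [hπsq b hb, mul_one, hπsq a ha]
  have ra : a ^ 2 = 1 := by rw [pow_two]; exact hsq a ha
  have rb : b ^ 2 = 1 := by rw [pow_two]; exact hsq b hb
  have rc : c ^ 2 = 1 := by rw [pow_two]; exact hsq c hc
  have rab : (a * b) ^ 3 = 1 := hcube a ha b hb hy₁1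
  have rac : (a * c) ^ 3 = 1 := hcube a ha c hc hy₂1
  have rbc : (b * c) ^ 3 = 1 := by
    apply hcube b hb c hc
    intro h
    apply hbc
    have h1 : π b * π c = y₁⁻¹ * y₂ := by
      rw [hy₁inv, hy₂]
      calc π b * π c = π b * (π a * π a) * π c := by rw [hπsq a ha, mul_one]
        _ = π b * π a * (π a * π c) := by group
    rw [h1] at h
    have h2 : y₂ = y₁ := by
      calc y₂ = y₁ * (y₁⁻¹ * y₂) := by group
        _ = y₁ := by rw [h, mul_one]
    rw [h2]
  have racbc : (a * c * b * c) ^ 3 = 1 := by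
    have h1 : a * c * b * c = a * (c * b * c⁻¹) := by rw [hcinv]; group
    rw [h1]
    apply hcube a ha _ hbcD
    intro h
    apply hbc
    have h2 : π a * π (c * b * c⁻¹) = y₂ * y₁⁻¹ * y₂ := by
      rw [hcinv, map_mul, map_mul, hy₁inv, hy₂]
      calc π a * (π c * π b * π c) = π a * π c * π b * (π a * π a) * π c := by
            rw [hπsq a ha, mul_one]; group
        _ = π a * π c * (π b * π a) * (π a * π c) := by group
    rw [h2] at h
    have h3 : y₁ = y₂ * y₂ := by
      calc y₁ = y₂ * (y₂ * y₁⁻¹ * y₂)⁻¹ * y₂ := by group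
        _ = y₂ * y₂ := by rw [h, inv_one, mul_one]
    rw [h3]
    group
  -- the subgroup generated by a, b, c
  obtain ⟨hKfin, hKcard⟩ := Cfsg.Agent.Lib.Helper8_TC54.card_closure_le a b c ra rb rc rab rac rbc racbc
  set K := Subgroup.closure ({a, b, c} : Set G) with hK
  have hKmap : K.map π = ⊤ := by
    rw [hK, MonoidHom.map_closure, ← hKbar]
    congr 1
    ext x
    simp only [Set.mem_image, Set.mem_insert_iff, Set.mem_singleton_iff]
    constructor
    · rintro ⟨g, hg | hg | hg, rfl⟩
      · left; rw [hg]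
      · right; left; rw [hg]
      · right; right; rw [hg]
    · rintro (h | h | h)
      · exact ⟨a, Or.inl rfl, h.symm⟩
      · exact ⟨b, Or.inr (Or.inl rfl), h.symm⟩
      · exact ⟨c, Or.inr (Or.inr rfl), h.symm⟩
  -- the restriction of the projection to `K` is bijective
  let f : K →* G ⧸ Q := π.comp K.subtype
  have hfsurj : Function.Surjective f := by
    intro y
    have hy : y ∈ K.map π := by rw [hKmap]; trivial
    obtain ⟨g, hg, rfl⟩ := hy
    exact ⟨⟨g, hg⟩, rfl⟩
  have hK54 : Nat.card K = 54 := by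
    apply le_antisymm hKcard
    rw [← h54]
    exact Nat.card_le_card_of_surjective f hfsurj
  have hfinj : Function.Injective f :=
    ((Nat.bijective_iff_surjective_and_card f).mpr ⟨hfsurj, by rw [hK54, h54]⟩).1
  refine ⟨K, Subgroup.isComplement'_of_card_mul_and_disjoint ?_ ?_⟩
  · rw [hK54, Subgroup.card_eq_card_quotient_mul_card_subgroup Q, h54, mul_comm]
  · rw [Subgroup.disjoint_def]
    intro x hxQ hxK
    have h1 : f ⟨x, hxK⟩ = f 1 := by
      rw [map_one]
      exact (QuotientGroup.eq_one_iff x).mpr hxQ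
    have h2 := hfinj h1
    exact congrArg Subtype.val h2

end main

/-- Let G be a finite group generated by a conjugacy class D of 3-transpositions, with trivial centre and with generalized Fitting subgroup F*(G) = O₂(G) (so the Fitting subgroup is O₂(G) too). If G/O₂(G) is isomorphic to the derived group of SU₃(2) (the group of order 54 generated by nine 3-transpositions), then O₂(G) has a complement in G. -/
theorem result {G : Type*} [Group G] [Finite G] {D : Set G} (hD : Cfsg.IsThreeTranspositionClass D)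
    (hZ : Subgroup.center G = ⊥) (hF : Cfsg.generalizedFittingSubgroup G = Cfsg.pCore 2 G)
    (hq : ∃ (F : Type) (_ : Field F) (_ : Fintype F), Fintype.card F = 4 ∧ Nonempty (G ⧸ Cfsg.pCore 2 G ≃* ↥(commutator ↥(Cfsg.SU 3 F 2)))) :
    ∃ K : Subgroup G, (Cfsg.pCore 2 G).IsComplement' K := by
  obtain ⟨F, _, _, hF4, ⟨e⟩⟩ := hq
  have hn : (Cfsg.pCore 2 G).Normal := Cfsg.Agent.Lib.Helper49_CharP.pCoreNormal 2 G
  have h54 : Nat.card (G ⧸ Cfsg.pCore 2 G) = 54 := by
    rw [Nat.card_congr e.toEquiv]
    exact card_commutator_SU32 hF4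
  obtain ⟨u, v, hu, hv, huv⟩ := exists_noncomm hF4
  apply main hD (Cfsg.pCore 2 G) h54
  refine ⟨e.symm u, e.symm v, ?_, ?_, ?_⟩
  · rw [← map_pow, hu, map_one]
  · rw [← map_pow, hv, map_one]
  · intro h
    apply huv
    rw [← map_mul, ← map_mul] at h
    exact e.symm.injective h

end Cfsg.Agent.S5555
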