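import Cfsg.Statements.S5559
import Cfsg.Agent.Lib.Helper92_TTDefs
import Cfsg.Agent.Lib.Helper92_TTRed
import Cfsg.Agent.Lib.Helper31_TT_M1a
import Cfsg.Agent.Lib.Helper31_TT_M5
import Cfsg.Agent.Lib.Helper31_TT_M9
import Cfsg.Agent.Lib.Helper2_TT_M6
import Cfsg.Agent.Lib.Helper51_TT_M8
import Cfsg.Agent.Lib.Helper77_TT_M7
import Cfsg.Agent.Lib.Helper49_TT_STEP01
import Cfsg.Agent.Lib.Helper70_TT_ISO54A
import Cfsg.Agent.Lib.Helper70_TT_ISO54B
import Cfsg.Agent.Lib.Helper61_F4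
import Cfsg.Agent.Lib.Helper23_CharP
import Cfsg.Agent.S0444

set_option autoImplicit false
set_option linter.unusedSectionVars false
set_option linter.unusedVariables false
open Cfsg

namespace Cfsg.Agent.S5559

open Cfsg.Agent.Lib.Helper92_TTDefs Cfsg.Agent.Lib.Helper31_TT_M1a

section aux

variable {K W : Type*} [Group K] [Group W] [Finite K] [Finite W]
  {rho : K →* MulAut W} {P : Subgroup K} {t : K}

theorem t_ne_one (h : Hyp rho P t) : t ≠ 1 := by
  intro h1
  exact h.notMem (h1 ▸ one_mem P)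

theorem orderOf_two {x : K} (hx : x * x = 1) (hx1 : x ≠ 1) : orderOf x = 2 := by
  have h2 : x ^ 2 = 1 := by rw [pow_two]; exact hx
  exact orderOf_eq_prime h2 hx1

theorem ta_sq (h : Hyp rho P t) {a : K} (ha : a ∈ Inv P t) : (t * a) * (t * a) = 1 := by
  have h1 : t * a * t = a⁻¹ := ha.2
  calc t * a * (t * a) = (t * a * t) * a := by group
    _ = 1 := by rw [h1, inv_mul_cancel]

theorem ta_ne_one (h : Hyp rho P t) {a : K} (ha : a ∈ Inv P t) : t * a ≠ 1 := by
  intro h1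
  apply h.notMem
  have : t = a⁻¹ := eq_inv_of_mul_eq_one_left h1
  rw [this]
  exact inv_mem ha.1

/-- the abstract theorem -/
theorem main (h : Hyp rho P t) :
    (Nat.card K = 6 ∧ ∃ a ∈ Inv P t, a ≠ 1 ∧ Subgroup.closure {t, t * a} = ⊤) ∨
    (Nat.card K = 54 ∧ ∃ i ∈ Inv P t, ∃ j ∈ Inv P t,
      Subgroup.closure {t, t * i, t * j} = ⊤) := by
  by_cases hc : ∀ x ∈ P, ∀ y ∈ P, x * y = y * x
  · exact Or.inl (Cfsg.Agent.Lib.Helper31_TT_M5.card_of_comm h hc)
  · refine Or.inr (Cfsg.Agent.Lib.Helper31_TT_M9.card_of_not_comm_of h hc ?_)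
    exact Cfsg.Agent.Lib.Helper51_TT_M8.gen_two_of h hc
      (Cfsg.Agent.Lib.Helper2_TT_M6.exists_second_center h hc)
      (fun hi hj hk hi1 hic => Cfsg.Agent.Lib.Helper77_TT_M7.image_cyclic h hc hi hj hk hi1 hic)

/-- the identification of the group of order 54 -/
theorem iso54 {K : Type*} [Group K] (h54 : Nat.card K = 54) (a b c : K) (ra : a ^ 2 = 1)
    (rb : b ^ 2 = 1) (rc : c ^ 2 = 1) (rab : (a * b) ^ 3 = 1) (rac : (a * c) ^ 3 = 1)
    (rbc : (b * c) ^ 3 = 1) (racbc : (a * c * b * c) ^ 3 = 1)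
    (hgen : Subgroup.closure {a, b, c} = ⊤) :
    ∃ (F : Type) (_ : Field F) (_ : Fintype F), Fintype.card F = 4 ∧
      Nonempty (K ≃* ↥(commutator ↥(Cfsg.SU 3 F 2))) := by
  refine ⟨Cfsg.Agent.Lib.Helper61_F4.F4, inferInstance, inferInstance,
    Cfsg.Agent.Lib.Helper61_F4.F4.card, ?_⟩
  obtain ⟨x, y, z, rx, ry, rz, rxy, rxz, ryz, rxzyz, hg⟩ :=
    Cfsg.Agent.Lib.Helper70_TT_ISO54A.exists_gens (F := Cfsg.Agent.Lib.Helper61_F4.F4)
      Cfsg.Agent.Lib.Helper61_F4.F4.card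
  exact Cfsg.Agent.Lib.Helper70_TT_ISO54B.iso_of_gens h54
    (Cfsg.Agent.Lib.Helper8_SU32Derived.card_commutator_SU32 Cfsg.Agent.Lib.Helper61_F4.F4.card)
    a b c ra rb rc rab rac rbc racbc hgen x y z rx ry rz rxy rxz ryz rxzyz hg

theorem s3_case (h : Hyp rho P t) {a : K} (ha : a ∈ Inv P t) (ha1 : a ≠ 1)
    (hgen : Subgroup.closure {t, t * a} = ⊤) : Nonempty (K ≃* Equiv.Perm (Fin 3)) := by
  have hcube := cube_of_mem h ha
  have hinvcube : (a⁻¹) ^ 3 = 1 := by rw [inv_pow, hcube, inv_one]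
  have hset : Cfsg.IsThreeTranspositionSet ({t, t * a} : Set K) := by
    refine ⟨?_, ?_⟩
    · intro x hx
      rcases hx with hx | hx
      · rw [hx]; exact orderOf_two h.sq (t_ne_one h)
      · rw [Set.mem_singleton_iff] at hx
        rw [hx]
        exact orderOf_two (ta_sq h ha) (ta_ne_one h ha)
    · intro x hx y hy
      rcases hx with hx | hx
      · rcases hy with hy | hy
        · left; rw [hx, hy, h.sq, one_pow]
        · rw [Set.mem_singleton_iff] at hy
          right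
          rw [hx, hy, ← mul_assoc, h.sq, one_mul]; exact hcube
      · rw [Set.mem_singleton_iff] at hx
        rcases hy with hy | hy
        · right
          have : t * a * t = a⁻¹ := ha.2
          rw [hx, hy, this]; exact hinvcube
        · rw [Set.mem_singleton_iff] at hy
          left; rw [hx, hy, ta_sq h ha, one_pow]
  have hnc : ¬ Commute t (t * a) := by
    intro hc
    have h1 : t * (t * a) = t * a * t := hc
    rw [← mul_assoc, h.sq, one_mul, ha.2] at h1
    -- a = a⁻¹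
    have h2 : a * a = 1 := by
      calc a * a = a * a⁻¹ := by rw [← h1]
        _ = 1 := mul_inv_cancel a
    apply ha1
    calc a = a ^ 3 * (a * a)⁻¹ := by rw [pow_succ, pow_two]; group
      _ = 1 := by rw [hcube, h2, inv_one, one_mul]
  obtain ⟨e⟩ := Cfsg.Agent.S0444.result hset (Set.mem_insert _ _)
    (Set.mem_insert_of_mem _ (Set.mem_singleton _)) hnc
  rw [hgen] at e
  exact ⟨(Subgroup.topEquiv (G := K)).symm.trans e⟩

theorem su_case (h : Hyp rho P t) (h54 : Nat.card K = 54) {i j : K} (hi : i ∈ Inv P t)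
    (hj : j ∈ Inv P t) (hgen : Subgroup.closure {t, t * i, t * j} = ⊤) :
    ∃ (F : Type) (_ : Field F) (_ : Fintype F), Fintype.card F = 4 ∧
      Nonempty (K ≃* ↥(commutator ↥(Cfsg.SU 3 F 2))) := by
  apply iso54 h54 t (t * i) (t * j)
  · rw [pow_two]; exact h.sq
  · rw [pow_two]; exact ta_sq h hi
  · rw [pow_two]; exact ta_sq h hj
  · rw [← mul_assoc, h.sq, one_mul]; exact cube_of_mem h hi
  · rw [← mul_assoc, h.sq, one_mul]; exact cube_of_mem h hj
  · have : t * i * (t * j) = i⁻¹ * j := by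
      calc t * i * (t * j) = (t * i * t) * j := by group
        _ = i⁻¹ * j := by rw [hi.2]
    rw [this]; exact cube_mul h hi hj
  · have : t * (t * j) * (t * i) * (t * j) = j * i⁻¹ * j := by
      calc t * (t * j) * (t * i) * (t * j) = (t * t) * j * (t * i * t) * j := by group
        _ = j * i⁻¹ * j := by rw [h.sq, hi.2, one_mul]
    rw [this]; exact cube_of_mem h (tri_mem_Inv h hj hi)
  · exact hgen

end aux

/-- Let H be a finite group generated by a conjugacy class E of 3-transpositions with at least two members, with F*(H) = O₂(H), and such that H/O₂(H) has a normal Sylow 3-subgroup of 2-power index (that is, H = O_{2,3,2}(H)). Then H/O₂(H) is isomorphic to the symmetric group of degree 3 or to the derived group of SU₃(2) (of order 54). -/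
theorem result {H : Type*} [Group H] [Finite H] {E : Set H} (hE : Cfsg.IsThreeTranspositionClass E)
    (hE2 : ∃ a ∈ E, ∃ b ∈ E, a ≠ b) (hF : Cfsg.generalizedFittingSubgroup H = Cfsg.pCore 2 H)
    (h232 : ∃ P : Sylow 3 (H ⧸ Cfsg.pCore 2 H), (P : Subgroup (H ⧸ Cfsg.pCore 2 H)).Normal ∧
      ∃ k : ℕ, (P : Subgroup (H ⧸ Cfsg.pCore 2 H)).index = 2 ^ k) :
    Nonempty (H ⧸ Cfsg.pCore 2 H ≃* Equiv.Perm (Fin 3)) ∨
      ∃ (F : Type) (_ : Field F) (_ : Fintype F), Fintype.card F = 4 ∧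
        Nonempty (H ⧸ Cfsg.pCore 2 H ≃* ↥(commutator ↥(Cfsg.SU 3 F 2))) := by
  have hE2' := hE2
  obtain ⟨d, hd, -⟩ := hE2
  have h2 : Fact (Nat.Prime 2) := ⟨Nat.prime_two⟩
  have hC : Subgroup.centralizer (Cfsg.pCore 2 H : Set H) ≤ Cfsg.pCore 2 H :=
    Cfsg.Agent.Lib.Helper23_CharP.isCharP_iff_generalizedFitting_eq.mpr hF
  obtain ⟨P, hPn, hP3, hPi, hPne, htP, htsq, hcube, hgen⟩ := Cfsg.Agent.Lib.Helper49_TT_STEP01.step01 hE hE2' h232 hd
  obtain ⟨W, _, _, rho, hcomm, hW2, hinj, hfix⟩ :=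
    Cfsg.Agent.Lib.Helper92_TTRed.red hE hC hd P hP3
  have hyp : Hyp rho P (QuotientGroup.mk d) :=
    ⟨hcomm, hW2, hinj, hPn, hP3, hPi, hPne, htsq, htP, hcube, hgen, hfix⟩
  rcases main hyp with ⟨-, a, ha, ha1, hg⟩ | ⟨h54, i, hi, j, hj, hg⟩
  · exact Or.inl (s3_case hyp ha ha1 hg)
  · exact Or.inr (su_case hyp h54 hi hj hg)

end Cfsg.Agent.S5559
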