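import Cfsg.Statements.S5562

set_option autoImplicit false
open Cfsg

namespace Cfsg.Agent.S5562

section aux
variable {G : Type*} [Group G]

/-- membership in conjugatesOf, unfolded. -/
theorem mem_conj_iff (d a : G) : a ∈ conjugatesOf d ↔ ∃ c : G, c * d * c⁻¹ = a := by
  show IsConj d a ↔ _
  exact isConj_iff

theorem conj_mem_conj (d a g : G) (ha : a ∈ conjugatesOf d) : g * a * g⁻¹ ∈ conjugatesOf d := by
  rw [mem_conj_iff] at ha ⊢
  obtain ⟨c, rfl⟩ := ha
  exact ⟨g * c, by group⟩

theorem sq_one_of_mem (d : G) (hd : d * d = 1) (a : G) (ha : a ∈ conjugatesOf d) : a * a = 1 := by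
  rw [mem_conj_iff] at ha
  obtain ⟨c, rfl⟩ := ha
  calc c * d * c⁻¹ * (c * d * c⁻¹) = c * (d * d) * c⁻¹ := by group
    _ = 1 := by rw [hd]; group

/-- the key dihedral identity: if `e*e = 1`, `x*x=1`, `u = e*x` then `u^j * e = e * (u⁻¹)^j`,
so `(u^j)⁻¹ * e * u^j = e * u^(2j)`. -/
theorem dihedral_conj (e x : G) (he : e * e = 1) (hx : x * x = 1) (j : ℕ) :
    ((e * x) ^ j)⁻¹ * e * ((e * x) ^ j)⁻¹⁻¹ = e * (e * x) ^ (2 * j) := by
  have hinv : e * (e * x) * e = (e * x)⁻¹ := by
    have : (e * x) * (e * (e * x) * e) = 1 := by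
      calc (e * x) * (e * (e * x) * e) = e * x * (e * e) * x * e := by group
        _ = e * (x * x) * e := by rw [he]; group
        _ = 1 := by rw [hx, mul_one, he]
    exact eq_inv_of_mul_eq_one_right this
  have einv : e⁻¹ = e := inv_eq_of_mul_eq_one_right he
  -- e * u^j * e = (u^j)⁻¹
  have hpow : ∀ k : ℕ, e * (e * x) ^ k * e = ((e * x) ^ k)⁻¹ := by
    intro k
    have h1 : e * (e * x) ^ k * e = (e * (e * x) * e) ^ k := by
      have := (conj_pow (i := k) (a := e) (b := e * x)).symm
      rw [einv] at this
      exact this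
    rw [h1, hinv, inv_pow]
  have h2 : ((e * x) ^ j)⁻¹ = e * (e * x) ^ j * e := (hpow j).symm
  rw [inv_inv]
  rw [h2]
  calc e * (e * x) ^ j * e * e * (e * x) ^ j = e * (e * x) ^ j * (e * e) * (e * x) ^ j := by group
    _ = e * ((e * x) ^ j * (e * x) ^ j) := by rw [he]; group
    _ = e * (e * x) ^ (2 * j) := by rw [← pow_add, two_mul]

end aux

theorem result {G : Type*} [Group G] [Finite G] (d : G) (hd : orderOf d = 2)
    (hodd : ∀ a ∈ conjugatesOf d, ∀ b ∈ conjugatesOf d, Odd (orderOf (a * b)))
    (x : G) (hx : orderOf x = 2) :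
    ∀ e ∈ conjugatesOf d,
      ∃! a : G, a ∈ conjugatesOf d ∧ Commute a x ∧ Commute e (a * x) := by
  intro e he
  have hdd : d * d = 1 := by
    have := pow_orderOf_eq_one d
    rw [hd, pow_two] at this
    exact this
  have hxx : x * x = 1 := by
    have := pow_orderOf_eq_one x
    rw [hx, pow_two] at this
    exact this
  have hee : e * e = 1 := sq_one_of_mem d hdd e he
  have xinv : x⁻¹ = x := inv_eq_of_mul_eq_one_right hxx
  have einv : e⁻¹ = e := inv_eq_of_mul_eq_one_right hee
  -- F1: commuting members of D are equal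
  have F1 : ∀ a ∈ conjugatesOf d, ∀ b ∈ conjugatesOf d, Commute a b → a = b := by
    intro a ha b hb hab
    have haa := sq_one_of_mem d hdd a ha
    have hbb := sq_one_of_mem d hdd b hb
    have h2 : (a * b) ^ 2 = 1 := by
      rw [hab.mul_pow, pow_two, pow_two, haa, hbb, one_mul]
    have hdvd : orderOf (a * b) ∣ 2 := orderOf_dvd_of_pow_eq_one h2
    have hoddab := hodd a ha b hb
    have h1 : orderOf (a * b) = 1 := by
      have hle : orderOf (a * b) ≤ 2 := Nat.le_of_dvd (by norm_num) hdvd
      have hpos : 0 < orderOf (a * b) := orderOf_pos _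
      rcases Nat.odd_iff.mp hoddab with h
      interval_cases (orderOf (a * b)) <;> simp_all
    have : a * b = 1 := orderOf_eq_one_iff.mp h1
    have hbinv : b⁻¹ = b := inv_eq_of_mul_eq_one_right hbb
    rw [← hbinv]
    exact eq_inv_of_mul_eq_one_left this
  -- F2: e * u^(2j) ∈ D
  set u := e * x with hu
  have F2 : ∀ j : ℕ, e * u ^ (2 * j) ∈ conjugatesOf d := by
    intro j
    rw [← dihedral_conj e x hee hxx j]
    exact conj_mem_conj d e _ he
  -- x = e * u
  have hxeu : x = e * u := by
    rw [hu, ← mul_assoc, hee, one_mul]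
  -- F3: u^2 has odd order
  have F3 : Odd (orderOf (u ^ 2)) := by
    have hxex : x * e * x⁻¹ ∈ conjugatesOf d := conj_mem_conj d e x he
    have := hodd e he _ hxex
    have heq : e * (x * e * x⁻¹) = u ^ 2 := by
      rw [xinv, pow_two, hu]; group
    rwa [heq] at this
  have hnpos : 0 < orderOf u := orderOf_pos u
  -- u commutes with anything commuting with e and x
  rcases Nat.even_or_odd (orderOf u) with hev | hod
  · -- even case
    obtain ⟨m, hm⟩ := hev
    have hm2 : orderOf u = 2 * m := by omega
    have hmpos : 0 < m := by omega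
    have hordu2 : orderOf (u ^ 2) = m := by
      rw [orderOf_pow' u (by norm_num : 2 ≠ 0), hm2]
      have : Nat.gcd (2 * m) 2 = 2 := by
        simp
      rw [this]
      omega
    have hmodd : Odd m := hordu2 ▸ F3
    set z := u ^ m with hz
    have hzz : z * z = 1 := by
      rw [hz, ← pow_add, ← two_mul, ← hm2, pow_orderOf_eq_one]
    -- x u x = u⁻¹ and e u e = u⁻¹
    have hxu : x * u * x⁻¹ = u⁻¹ := by
      rw [xinv]
      have : u * (x * u * x) = 1 := by
        calc u * (x * u * x) = e * (x * x) * e * (x * x) := by rw [hu]; group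
          _ = 1 := by simp [hxx, hee]
      exact eq_inv_of_mul_eq_one_right this
    have heu : e * u * e⁻¹ = u⁻¹ := by
      rw [einv]
      have : u * (e * u * e) = 1 := by
        calc u * (e * u * e) = e * x * (e * e) * x * e := by rw [hu]; group
          _ = e * (x * x) * e := by rw [hee]; group
          _ = 1 := by rw [hxx, mul_one, hee]
      exact eq_inv_of_mul_eq_one_right this
    have hzinv : z⁻¹ = z := inv_eq_of_mul_eq_one_right hzz
    have hxz : x * z * x⁻¹ = z := by
      rw [hz, ← conj_pow, hxu, inv_pow, ← hz, hzinv]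
    have hez : e * z * e⁻¹ = z := by
      rw [hz, ← conj_pow, heu, inv_pow, ← hz, hzinv]
    have hcxz : Commute x z := by
      have : x * z = z * x := by
        calc x * z = (x * z * x⁻¹) * x := by group
          _ = z * x := by rw [hxz]
      exact this
    have hcez : Commute e z := by
      have : e * z = z * e := by
        calc e * z = (e * z * e⁻¹) * e := by group
          _ = z * e := by rw [hez]
      exact this
    -- a = z * x
    obtain ⟨j, hj⟩ : ∃ j, m + 1 = 2 * j := by
      obtain ⟨k, hk⟩ := hmodd
      exact ⟨k + 1, by omega⟩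
    have hzx : z * x = e * u ^ (2 * j) := by
      rw [← hj, pow_succ, ← hz]
      -- z * x = e * (z * u)
      calc z * x = z * (e * u) := by rw [← hxeu]
        _ = (z * e) * u := by group
        _ = (e * z) * u := by rw [hcez.eq]
        _ = e * (z * u) := by group
    have haD : z * x ∈ conjugatesOf d := by
      rw [hzx]; exact F2 j
    refine ⟨z * x, ⟨haD, ?_, ?_⟩, ?_⟩
    · -- Commute (z*x) x
      exact (hcxz.symm.mul_left (Commute.refl x))
    · -- Commute e (z * x * x)
      have : z * x * x = z := by rw [mul_assoc, hxx, mul_one]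
      rw [this]; exact hcez
    · -- uniqueness
      rintro a ⟨haD', hax, heax⟩
      set t := a * x with ht
      have haa := sq_one_of_mem d hdd a haD'
      have htt : t * t = 1 := by
        calc t * t = a * (x * a) * x := by rw [ht]; group
          _ = a * (a * x) * x := by rw [hax.eq]
          _ = (a * a) * (x * x) := by group
          _ = 1 := by rw [haa, hxx, one_mul]
      have htx : Commute t x := hax.mul_left (Commute.refl x)
      have hte : Commute t e := heax.symm
      have htu : Commute t u := hte.mul_right htx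
      have hat : a = t * x := by
        rw [ht, mul_assoc, hxx, mul_one]
      -- e * a = t * u
      have hea : e * a = t * u := by
        rw [hat, hu]
        calc e * (t * x) = (e * t) * x := by group
          _ = (t * e) * x := by rw [hte.eq]
          _ = t * (e * x) := by group
      have hk := hodd e he a haD'
      rw [hea] at hk
      set k := orderOf (t * u) with hkdef
      have hpow : (t * u) ^ k = 1 := pow_orderOf_eq_one _
      rw [htu.mul_pow] at hpow
      obtain ⟨c, hc⟩ := hk
      have htk : t ^ k = t := by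
        rw [hc, pow_succ, pow_mul, pow_two, htt, one_pow, one_mul]
      rw [htk] at hpow
      have htinv : t⁻¹ = t := inv_eq_of_mul_eq_one_right htt
      have huk : u ^ k = t := by
        have := eq_inv_of_mul_eq_one_right hpow
        rw [this, htinv]
      -- u^(2k) = 1 so 2m ∣ 2k so m ∣ k
      have h2k : u ^ (2 * k) = 1 := by
        rw [two_mul, pow_add, huk, htt]
      have hdvd : orderOf u ∣ 2 * k := orderOf_dvd_of_pow_eq_one h2k
      rw [hm2] at hdvd
      have hmk : m ∣ k := (Nat.mul_dvd_mul_iff_left (by norm_num : 0 < 2)).mp hdvd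
      obtain ⟨q, hq⟩ := hmk
      have hqodd : Odd q := by
        have : Odd k := ⟨c, hc⟩
        rw [hq] at this
        exact (Nat.odd_mul.mp this).2
      obtain ⟨r, hr⟩ := hqodd
      have htz : t = z := by
        rw [← huk, hq, pow_mul, ← hz, hr, pow_succ, pow_mul, pow_two, hzz, one_pow, one_mul]
      rw [hat, htz]
  · -- odd case: x ∈ D
    obtain ⟨j, hj⟩ : ∃ j, orderOf u + 1 = 2 * j := by
      obtain ⟨k, hk⟩ := hod
      exact ⟨k + 1, by omega⟩
    have hxD : x ∈ conjugatesOf d := by
      have h1 : x = e * u ^ (2 * j) := by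
        rw [← hj, pow_succ, pow_orderOf_eq_one, one_mul]
        exact hxeu
      rw [h1]; exact F2 j
    refine ⟨x, ⟨hxD, Commute.refl x, ?_⟩, ?_⟩
    · rw [hxx]; exact Commute.one_right e
    · rintro a ⟨haD', hax, -⟩
      exact F1 a haD' x hxD hax

end Cfsg.Agent.S5562
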