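import Cfsg.Statements.S5594
import Cfsg.Agent.S0432
import Cfsg.Agent.S0433
import Cfsg.Agent.S0372
import Cfsg.Agent.Lib.Helper7_M24
import Cfsg.Agent.Lib.Helper7_Leech

set_option autoImplicit false
open Cfsg

namespace Cfsg.Agent.S5594

/-- the dodecad of squares -/
def Qd : Finset GolayPt := support₂ (qrWord 0)

theorem Qd_mem : Qd ∈ supports (golayCode : Set (GolayPt → ZMod 2)) :=
  ⟨qrWord 0, Cfsg.Agent.Lib.Helper7_M24.qrWord_mem 0, rfl⟩

/-- `projInv` swaps the dodecad of squares with its complement. -/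
theorem swap_Qd : ∀ i : GolayPt, (i ∈ Qd ↔ projInv i ∉ Qd) := by
  unfold Qd support₂
  decide

theorem projInv_sq : ∀ i : GolayPt, projInv (projInv i) = i := by decide


/-- The monomial map. -/
def gmap (x : GolayPt → ℤ) : GolayPt → ℤ := fun i => if i ∈ Qd then -x (projInv i) else x (projInv i)

theorem gmap_mem {x : GolayPt → ℤ} (hx : x ∈ leechLattice) : gmap x ∈ leechLattice := by
  have h1 : (fun i => x (projInv i)) ∈ leechLattice :=
    Cfsg.Agent.S0432.result projInv Cfsg.Agent.S0372.result x hx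
  exact Cfsg.Agent.S0433.result Qd Qd_mem _ h1

theorem gmap_gmap (x : GolayPt → ℤ) : gmap (gmap x) = -x := by
  funext i
  unfold gmap
  have h := swap_Qd i
  rw [projInv_sq]
  by_cases hi : i ∈ Qd
  · have h2 : projInv i ∉ Qd := h.1 hi
    rw [if_pos hi, if_neg h2]; rfl
  · have h2 : projInv i ∈ Qd := by
      by_contra h3
      exact hi (h.2 h3)
    rw [if_neg hi, if_pos h2]; rfl

theorem gmap_add (x y : GolayPt → ℤ) : gmap (x + y) = gmap x + gmap y := by
  funext i
  unfold gmap
  by_cases hi : i ∈ Qd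
  · simp only [if_pos hi, Pi.add_apply]; ring
  · simp only [if_neg hi, Pi.add_apply]

theorem gmap_neg (x : GolayPt → ℤ) : gmap (-x) = -gmap x := by
  funext i
  unfold gmap
  by_cases hi : i ∈ Qd
  · simp only [if_pos hi, Pi.neg_apply]
  · simp only [if_neg hi, Pi.neg_apply]

theorem sqNorm_gmap (x : GolayPt → ℤ) : sqNorm (gmap x) = sqNorm x := by
  unfold sqNorm
  have : ∀ i, gmap x i ^ 2 = (fun j => x j ^ 2) (projInv i) := by
    intro i
    unfold gmap
    by_cases hi : i ∈ Qd
    · simp only [if_pos hi]; ring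
    · simp only [if_neg hi]
  simp_rw [this]
  exact Equiv.sum_comp projInv (fun j => x j ^ 2)

/-- the monomial map on the lattice -/
def gL (v : leechLattice) : leechLattice := ⟨gmap v.1, gmap_mem v.2⟩

theorem gL_gL (v : leechLattice) : gL (gL v) = -v := by
  apply Subtype.ext
  show gmap (gmap v.1) = -v.1
  exact gmap_gmap v.1

theorem gL_neg (v : leechLattice) : gL (-v) = -gL v := by
  apply Subtype.ext
  show gmap (-v.1) = -gmap v.1
  exact gmap_neg v.1

/-- as a permutation of the lattice -/
def gPerm : Equiv.Perm leechLattice where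
  toFun := gL
  invFun := fun v => -gL v
  left_inv := by
    intro v
    show -gL (gL v) = v
    rw [gL_gL, neg_neg]
  right_inv := by
    intro v
    show gL (-gL v) = v
    rw [gL_neg, gL_gL, neg_neg]

theorem gPerm_mem : gPerm ∈ Co0 := by
  constructor
  · intro v w
    apply Subtype.ext
    show gmap (v.1 + w.1) = gmap v.1 + gmap w.1
    exact gmap_add _ _
  · intro v
    show sqNorm (gmap v.1) = sqNorm v.1
    exact sqNorm_gmap _

/-- negation as a permutation of the lattice -/
def nPerm : Equiv.Perm leechLattice := Equiv.neg _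

theorem nPerm_mem : nPerm ∈ Co0 := by
  constructor
  · intro v w
    show -(v + w) = -v + -w
    abel
  · intro v
    show sqNorm (-(v.1)) = sqNorm v.1
    unfold sqNorm
    apply Finset.sum_congr rfl
    intro i _
    simp

theorem gPerm_sq : gPerm * gPerm = nPerm := by
  apply Equiv.ext
  intro v
  rw [Equiv.Perm.mul_apply]
  show gL (gL v) = -v
  exact gL_gL v

/-- a nonzero lattice vector -/
theorem four_mem : (fun _ => (4 : ℤ)) ∈ leechLattice := by
  apply AddSubgroup.subset_closure
  rw [Cfsg.Agent.Lib.Helper7_Leech.mem_leechSet_iff]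
  refine ⟨0, fun i => by decide, by simp; decide, fun k => ?_⟩
  by_cases hk : (4 : ℤ) ≡ k [ZMOD 4]
  · have : Cfsg.Agent.Lib.Helper7_Leech.indWord (fun _ : GolayPt => (4 : ℤ) ≡ k [ZMOD 4]) = 1 := by
      funext i; simp [Cfsg.Agent.Lib.Helper7_Leech.indWord, hk]
    rw [this]; exact Cfsg.Agent.Lib.Helper7_M24.one_mem
  · have : Cfsg.Agent.Lib.Helper7_Leech.indWord (fun _ : GolayPt => (4 : ℤ) ≡ k [ZMOD 4]) = 0 := by
      funext i; simp [Cfsg.Agent.Lib.Helper7_Leech.indWord, hk]
    rw [this]; exact golayCode.zero_mem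

theorem nPerm_ne_one : nPerm ≠ 1 := by
  intro h
  have := congrArg (fun f : Equiv.Perm leechLattice => ((f ⟨_, four_mem⟩ : leechLattice) : GolayPt → ℤ) none) h
  simp only [nPerm, Equiv.neg_apply, Equiv.Perm.coe_one, id_eq] at this
  revert this
  show ¬ (-(4 : ℤ) = 4)
  decide


/-- The automorphism group of the Leech lattice contains the negation map, and the subgroup of order 2 it generates has no complement: the automorphism group is a non-split extension of its quotient by that subgroup (it is not the direct product of a group of order 2 with the first Conway group). -/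
theorem result :
    ∃ n : ↥Cfsg.Co0, (∀ v : ↥Cfsg.leechLattice, ((n • v : ↥Cfsg.leechLattice) : Cfsg.GolayPt → ℤ) = -(v : Cfsg.GolayPt → ℤ)) ∧
    ∀ K : Subgroup ↥Cfsg.Co0, ¬ (Subgroup.zpowers n).IsComplement' K := by
  refine ⟨⟨nPerm, nPerm_mem⟩, fun v => rfl, ?_⟩
  intro K hK
  set n : ↥Co0 := ⟨nPerm, nPerm_mem⟩ with hn
  set g : ↥Co0 := ⟨gPerm, gPerm_mem⟩ with hg
  have hgg : g * g = n := Subtype.ext gPerm_sq
  have hnn : n * n = 1 := by
    apply Subtype.ext
    apply Equiv.ext
    intro v
    show -(-v) = v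
    exact neg_neg v
  have hn1 : n ≠ 1 := by
    intro h
    exact nPerm_ne_one (congrArg Subtype.val h)
  -- n is central
  have hcen : ∀ k : ↥Co0, n * k = k * n := by
    intro k
    apply Subtype.ext
    apply Equiv.ext
    intro v
    show -(k.1 v) = k.1 (-v)
    have hadd := k.2.1 v (-v)
    have h0 := k.2.1 0 0
    rw [add_zero] at h0
    have h00 : k.1 0 = 0 := by
      have : k.1 0 + 0 = k.1 0 + k.1 0 := by rw [add_zero]; exact h0
      exact (add_left_cancel this).symm
    rw [add_neg_cancel, h00] at hadd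
    exact (neg_eq_of_add_eq_zero_right hadd.symm)
  obtain ⟨⟨⟨a, ha⟩, ⟨k, hk⟩⟩, hak⟩ := hK.2 g
  simp only at hak
  -- a is a power of n, so a * a = 1 and a commutes with k
  rw [SetLike.mem_coe] at ha hk
  rw [Subgroup.mem_zpowers_iff] at ha
  obtain ⟨j, rfl⟩ := ha
  have hcomm : Commute (n ^ j) k := by
    have : Commute n k := hcen k
    exact this.zpow_left j
  have haa : n ^ j * n ^ j = 1 := by
    rw [← zpow_add, ← two_mul, zpow_mul, zpow_two, hnn, one_zpow]
  have hkk : n = k * k := by
    rw [← hgg, ← hak]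
    calc n ^ j * k * (n ^ j * k) = n ^ j * (k * n ^ j) * k := by group
      _ = n ^ j * (n ^ j * k) * k := by rw [hcomm.eq]
      _ = (n ^ j * n ^ j) * (k * k) := by group
      _ = k * k := by rw [haa, one_mul]
  have hnK : n ∈ K := by rw [hkk]; exact K.mul_mem hk hk
  have hnZ : n ∈ Subgroup.zpowers n := Subgroup.mem_zpowers n
  exact hn1 (Subgroup.disjoint_def.1 hK.disjoint hnZ hnK)

end Cfsg.Agent.S5594
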