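import Cfsg.Statements.S5597
import Cfsg.Agent.Lib.Helper63_SingularGL

set_option autoImplicit false
open Cfsg
open Cfsg.Agent.Lib.Helper63_SingularGL
open Cfsg.Agent.Lib.Helper93_LES

namespace Cfsg.Agent.S5597

/-- the subgroup of elements normalizing `U` whose commutator with `x` lies in `U` -/
def commSub {G : Type*} [Group G] (U : Subgroup G) (x : G) : Subgroup G where
  carrier := {g | g ∈ Subgroup.normalizer (U : Set G) ∧ g * x * g⁻¹ * x⁻¹ ∈ U}
  one_mem' := by
    refine ⟨Subgroup.one_mem _, ?_⟩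
    have : (1 : G) * x * 1⁻¹ * x⁻¹ = 1 := by group
    rw [this]
    exact U.one_mem
  mul_mem' := by
    rintro g h ⟨hg, hgx⟩ ⟨hh, hhx⟩
    refine ⟨Subgroup.mul_mem _ hg hh, ?_⟩
    have e : g * h * x * (g * h)⁻¹ * x⁻¹ = (g * (h * x * h⁻¹ * x⁻¹) * g⁻¹) * (g * x * g⁻¹ * x⁻¹) := by
      group
    rw [e]
    refine U.mul_mem ?_ hgx
    rw [Subgroup.mem_normalizer_iff] at hg
    exact (hg _).1 hhx
  inv_mem' := by
    rintro g ⟨hg, hgx⟩
    have hg' : g⁻¹ ∈ Subgroup.normalizer (U : Set G) := Subgroup.inv_mem _ hg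
    refine ⟨hg', ?_⟩
    have e : g⁻¹ * x * g⁻¹⁻¹ * x⁻¹ = g⁻¹ * (g * x * g⁻¹ * x⁻¹)⁻¹ * g⁻¹⁻¹ := by group
    rw [e]
    rw [Subgroup.mem_normalizer_iff] at hg'
    exact (hg' _).1 (U.inv_mem hgx)


/-- Setting: `z` is an involution of the finite group `G`; for each element `x`, `Q x` is the largest normal 2-subgroup of the centralizer of `x`; `Q z` is extraspecial and contains its own centralizer in `G`. A subgroup `U` is singular when it is elementary abelian, every non-identity element of `U` is conjugate to `z`, and any two non-identity elements `u`, `v` of `U` are orthogonal (`v ∈ Q u`). Write `QU` for the intersection of the `Q u` and `LU` for the join of the `Q u` over the non-identity `u` in `U`. If `U` is a non-trivial singular subgroup, then `LU` acts trivially on `QU / U` (every commutator of an element of `LU` with an element of `QU` lies in `U`), and for every `x` in `QU` outside `U` the centralizer of `U` in `LU` permutes the coset `x U` transitively: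 each `x u` with `u ∈ U` is a conjugate of `x` by an element of `LU` centralizing `U`. -/
theorem result {G : Type*} [Group G] [Finite G]
    (Q : G → Subgroup G)
    (hQ : ∀ x : G, Q x = (Cfsg.pCore 2 ↥(Subgroup.centralizer ({x} : Set G))).map (Subgroup.centralizer ({x} : Set G)).subtype)
    (z : G) (hz : orderOf z = 2) (hE : Cfsg.IsExtraspecial 2 ↥(Q z))
    (hC : Subgroup.centralizer ((Q z : Subgroup G) : Set G) ≤ Q z)
    (U : Subgroup G) (hU2 : ∀ u ∈ U, u * u = 1)
    (hS : ∀ u ∈ U, u ≠ 1 → ∃ g : G, g * z * g⁻¹ = u)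
    (hO : ∀ u ∈ U, ∀ v ∈ U, u ≠ 1 → v ≠ 1 → v ∈ Q u)
    (QU LU : Subgroup G) (hQU : QU = ⨅ u ∈ ((U : Set G) \ {1}), Q u) (hLU : LU = ⨆ u ∈ ((U : Set G) \ {1}), Q u)
    (hU : U ≠ ⊥) :
    (∀ g ∈ LU, ∀ x ∈ QU, g * x * g⁻¹ * x⁻¹ ∈ U) ∧
      ∀ x ∈ QU, x ∉ U → ∀ u ∈ U, ∃ g ∈ LU ⊓ Subgroup.centralizer (U : Set G), g * x * g⁻¹ = x * u := by
  have hs : Sing Q U := sing_of_hyp hQ z hz hE hC hS hO
  subst hQU
  subst hLU
  constructor
  · intro g hg x hx
    have hle : (⨆ u ∈ ((U : Set G) \ {1}), Q u) ≤ commSub U x := by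
      refine iSup₂_le (fun u hu => ?_)
      have hu1 : u ≠ 1 := fun h => hu.2 (by rw [Set.mem_singleton_iff]; exact h)
      intro y hy
      refine ⟨hs.iSup_le_normalizer (Sing.Q_le_iSup hu.1 hu1 hy), ?_⟩
      have hxu : x ∈ Q u := Sing.iInf_le_Q hu.1 hu1 hx
      rcases comm_cases (hs.les u hu.1 hu1) hy hxu with h | h
      · rw [h]; exact U.one_mem
      · rw [h]; exact hu.1
    exact (hle hg).2
  · intro x hx hxU u hu
    by_cases hu1 : u = 1
    · refine ⟨1, Subgroup.one_mem _, ?_⟩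
      rw [hu1, one_mul, inv_one, mul_one]
    · have hl := hs.les u hu hu1
      have hxu : x ∈ Q u := Sing.iInf_le_Q hu hu1 hx
      obtain ⟨g, hg, hgU, hgx⟩ := exists_not_comm hl U hu (hs.orth u hu hu1) hxu hxU
      refine ⟨g, ?_, ?_⟩
      · rw [Subgroup.mem_inf]
        refine ⟨Sing.Q_le_iSup hu hu1 hg, ?_⟩
        rw [Subgroup.mem_centralizer_iff]
        intro v hv
        exact (hgU v hv).symm
      · rw [conj_eq_of_not_comm hl hg hxu hgx]
        exact (hl.central x hxu).symm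

end Cfsg.Agent.S5597
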