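import Cfsg.Statements.S5598
import Cfsg.Agent.Lib.Helper93_LES

set_option autoImplicit false
open Cfsg
open Cfsg.Agent.Lib.Helper93_LES

namespace Cfsg.Agent.S5598

/-- Setting: `z` is an involution of the finite group `G`; for each element `x`, `Q x` is the largest normal 2-subgroup of the centralizer of `x`; `Q z` is extraspecial and contains its own centralizer in `G`. A subgroup `U` is singular when it is elementary abelian, every non-identity element of `U` is conjugate to `z`, and any two non-identity elements `u`, `v` of `U` are orthogonal (`v ∈ Q u`). Write `QU` for the intersection of the `Q u` and `LU` for the join of the `Q u` over the non-identity `u` in `U`. If the singular subgroup `U` is generated by a set `T` of non-identity elements, then `QU` is already the intersection of the `Q t` over `t ∈ T`. -/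
theorem result {G : Type*} [Group G] [Finite G]
    (Q : G → Subgroup G)
    (hQ : ∀ x : G, Q x = (Cfsg.pCore 2 ↥(Subgroup.centralizer ({x} : Set G))).map (Subgroup.centralizer ({x} : Set G)).subtype)
    (z : G) (hz : orderOf z = 2) (hE : Cfsg.IsExtraspecial 2 ↥(Q z))
    (hC : Subgroup.centralizer ((Q z : Subgroup G) : Set G) ≤ Q z)
    (U : Subgroup G) (hU2 : ∀ u ∈ U, u * u = 1)
    (hS : ∀ u ∈ U, u ≠ 1 → ∃ g : G, g * z * g⁻¹ = u)
    (hO : ∀ u ∈ U, ∀ v ∈ U, u ≠ 1 → v ≠ 1 → v ∈ Q u)
    (QU LU : Subgroup G) (hQU : QU = ⨅ u ∈ ((U : Set G) \ {1}), Q u) (hLU : LU = ⨆ u ∈ ((U : Set G) \ {1}), Q u)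
    (T : Set G) (hT : Subgroup.closure T = U) (hT1 : (1 : G) ∉ T) :
    QU = ⨅ t ∈ T, Q t := by
  have hQt : ∀ x, Q x = tc x := hQ
  rw [hQt z] at hE hC
  have hles : LES (tc z) z := les_of_hyp hz hE hC
  have hlesU : ∀ u ∈ U, u ≠ 1 → LES (tc u) u := by
    intro u hu hu1
    obtain ⟨g, rfl⟩ := hS u hu hu1
    exact hles.conj g
  have hTU : T ⊆ U := by
    rw [← hT]; exact Subgroup.subset_closure
  rw [hQU]
  apply le_antisymm
  · -- ⊆ : T ⊆ U \ {1}
    refine le_iInf₂ (fun t ht => ?_)
    refine iInf₂_le t ⟨hTU ht, ?_⟩
    intro h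
    rw [Set.mem_singleton_iff] at h
    exact hT1 (h ▸ ht)
  · -- ⊇
    intro y hy
    simp only [Subgroup.mem_iInf] at hy ⊢
    -- the set of good u
    have key : ∀ u ∈ Subgroup.closure T, u = 1 ∨ y ∈ tc u := by
      intro u hu
      induction hu using Subgroup.closure_induction with
      | mem t ht => right; rw [← hQt]; exact hy t ht
      | one => left; rfl
      | mul a b ha hb iha ihb =>
        rw [hT] at ha hb
        by_cases ha1 : a = 1
        · subst ha1; rw [one_mul]; exact ihb
        by_cases hb1 : b = 1
        · subst hb1; rw [mul_one]; exact iha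
        by_cases hab : a * b = 1
        · left; exact hab
        right
        have iha' : y ∈ tc a := iha.resolve_left ha1
        have ihb' : y ∈ tc b := ihb.resolve_left hb1
        have hne : a ≠ b := by
          intro h; subst h; exact hab (hU2 a ha)
        have h1 : a ∈ tc b := by rw [← hQt]; exact hO b hb a ha hb1 ha1
        have h2 : b ∈ tc (a * b) := by
          rw [← hQt]; exact hO (a * b) (U.mul_mem ha hb) b hb hab hb1
        exact tc_inter_le_tc_mul (hlesU b hb hb1) h1 ha1 hne h2 iha' ihb'
      | inv a ha iha =>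
        rw [hT] at ha
        have : a⁻¹ = a := by
          have := hU2 a ha
          exact inv_eq_of_mul_eq_one_left this
        rw [this]; exact iha
    intro u hu
    rcases key u (by rw [hT]; exact hu.1) with h | h
    · exact absurd h hu.2
    · rw [hQt]; exact h

end Cfsg.Agent.S5598
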