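import Cfsg.Statements.S5599
import Cfsg.Agent.Lib.Helper7_Sets
import Cfsg.Agent.Lib.Helper7_Base

set_option autoImplicit false
open scoped Pointwise
open Cfsg

namespace Cfsg.Agent.S5599

open Cfsg.Agent.Lib.Helper7_M24 Cfsg.Agent.Lib.Helper7_Bits Cfsg.Agent.Lib.Helper7_Perm
  Cfsg.Agent.Lib.Helper7_Code Cfsg.Agent.Lib.Helper7_Base Cfsg.Agent.Lib.Helper7_Sets

/-- For each code `k` in `1..22`: an element of order 7 of `M24` whose fixed points are exactly
the points with codes `23` (the extra point), `0` and `k`. -/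
def table : List (List ℕ × List ℕ) :=
  [([],[]),
   ([0,1,19,17,11,13,12,5,9,2,6,22,8,4,15,21,3,18,14,10,7,16,20,23],[0,1,9,16,13,7,10,20,12,8,19,4,6,5,18,14,21,3,17,2,22,15,11,23]),
   ([0,16,2,22,9,1,15,18,7,12,20,10,8,19,4,3,17,13,14,21,6,5,11,23],[0,5,2,15,14,21,20,8,12,4,11,22,9,17,18,6,1,16,7,13,10,19,3,23]),
   ([0,9,6,3,12,15,18,13,16,20,7,10,21,1,5,8,17,19,22,14,11,2,4,23],[0,13,21,3,22,14,2,10,15,1,11,20,4,7,19,5,8,16,6,17,9,12,18,23]),
   ([0,6,11,14,4,15,18,21,13,8,9,22,19,2,1,20,5,16,12,3,7,17,10,23],[0,14,13,19,4,16,1,20,9,10,22,2,18,8,3,5,17,21,6,12,15,7,11,23]),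
   ([0,20,12,17,22,5,7,1,18,16,2,9,19,4,11,6,8,15,21,13,3,14,10,23],[0,7,10,20,13,5,15,6,16,11,22,14,2,19,21,17,9,3,8,12,1,18,4,23]),
   ([0,12,18,13,21,3,6,15,22,8,11,17,14,19,4,1,9,5,16,10,2,7,20,23],[0,15,20,5,14,17,6,21,9,16,19,10,1,3,12,7,18,11,2,13,22,4,8,23]),
   ([0,12,5,19,20,1,22,7,13,8,6,18,4,11,16,14,17,10,3,9,21,2,15,23],[0,5,21,18,12,2,10,7,9,19,17,13,1,8,15,22,14,16,11,3,4,20,6,23]),
   ([0,13,10,16,2,20,15,5,8,7,9,1,3,12,18,19,17,11,6,22,4,14,21,23],[0,11,4,12,20,7,18,9,8,10,2,17,13,1,21,6,3,16,14,15,5,22,19,23]),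
   ([0,8,16,7,1,10,19,6,3,9,12,5,22,17,2,13,20,14,11,4,15,18,21,23],[0,4,14,8,19,11,7,3,1,9,5,18,10,15,17,20,2,13,21,6,16,22,12,23]),
   ([0,9,8,12,2,16,14,19,11,18,10,7,6,3,15,17,21,13,20,22,5,1,4,23],[0,21,4,13,22,20,12,11,2,1,10,8,3,17,6,14,5,15,9,7,18,16,19,23]),
   ([0,13,20,1,5,12,15,4,18,22,17,11,10,19,7,3,2,14,16,21,9,6,8,23],[0,3,16,15,7,4,21,14,22,20,12,11,5,1,17,6,18,10,8,13,2,19,9,23]),
   ([0,7,9,20,10,8,18,16,2,15,17,5,12,4,11,14,19,6,22,3,21,1,13,23],[0,21,8,19,13,11,17,1,5,2,4,14,12,22,15,9,7,10,6,16,3,20,18,23]),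
   ([0,22,6,10,11,16,15,8,5,4,14,1,18,13,21,3,12,9,20,17,7,2,19,23],[0,11,21,15,9,8,2,20,7,17,3,4,16,13,10,6,5,19,12,22,18,14,1,23]),
   ([0,22,21,20,7,11,12,1,10,5,4,16,9,8,14,17,18,2,6,15,19,3,13,23],[0,7,17,21,10,9,18,4,13,12,8,5,6,22,14,19,11,15,16,20,3,2,1,23]),
   ([0,9,17,11,8,16,1,12,13,14,21,20,22,5,2,15,10,19,3,6,7,4,18,23],[0,6,14,18,21,13,19,20,4,1,16,3,7,8,9,15,5,2,22,17,11,10,12,23]),
   ([0,22,18,8,17,13,19,3,9,5,1,15,4,14,7,20,16,21,11,2,6,10,12,23],[0,10,19,7,12,9,20,14,3,8,21,18,22,5,13,11,16,4,2,6,15,17,1,23]),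
   ([0,20,7,18,21,2,1,14,22,8,6,19,16,5,4,11,3,17,15,12,9,13,10,23],[0,6,5,16,14,13,10,2,9,20,22,15,19,21,7,18,12,17,3,11,1,4,8,23]),
   ([0,13,4,1,9,16,20,15,12,17,14,5,3,7,2,8,19,22,18,21,11,6,10,23],[0,3,14,12,2,11,21,13,15,4,22,20,8,1,10,7,5,9,18,16,6,19,17,23]),
   ([0,4,1,2,14,16,11,20,5,17,6,15,8,10,22,9,18,13,7,19,12,3,21,23],[0,2,3,21,1,8,10,18,12,15,13,6,20,17,4,11,5,9,16,19,7,22,14,23]),
   ([0,6,5,7,8,17,10,2,15,1,18,9,3,12,16,22,21,13,19,11,20,4,14,23],[0,9,7,12,21,2,1,3,4,11,6,19,13,17,22,8,14,5,10,18,20,16,15,23]),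
   ([0,18,10,12,17,7,1,4,2,13,11,22,19,8,6,20,5,15,3,14,16,21,9,23],[0,6,8,18,7,16,14,5,13,22,2,10,3,9,19,17,20,4,1,12,15,21,11,23]),
   ([0,15,17,11,8,12,3,16,13,14,7,19,18,2,5,9,6,20,1,10,21,4,22,23],[0,18,13,6,21,14,16,10,4,15,19,3,5,8,9,1,7,2,12,11,17,20,22,23]),
   ([],[])]

/-- The test for one table entry. -/
def goodEntry (k : ℕ) (e : List ℕ × List ℕ) : Bool :=
  checkM24 e.1 e.2 && (List.range 24).all fun j =>
    (enc (dec (e.1.getD j 0)) == j) == (j == 23 || j == 0 || j == k)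

/-- The test for the whole table. -/
def checkTable : Bool :=
  (List.range 24).all fun k => k == 23 || k == 0 || goodEntry k (table.getD k ([], []))

theorem checkTable_true : checkTable = true := by decide +kernel

theorem mem_M22_iff (x : Equiv.Perm GolayPt) :
    x ∈ Spor.M22 ↔ x ∈ M24 ∧ x none = none ∧ x (some 0) = some 0 := by
  unfold Spor.M22 Spor.M23
  simp only [Subgroup.mem_inf, MulAction.mem_stabilizer_iff, Equiv.Perm.smul_def]
  tauto

theorem enc_eq_23 (p : GolayPt) : enc p = 23 ↔ p = none := by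
  revert p; decide

theorem enc_eq_0 (p : GolayPt) : enc p = 0 ↔ p = some 0 := by
  revert p; decide

/-- Elements of `M22` with exactly three fixed points, the third one prescribed. -/
theorem exists_fix (a : GolayPt) (ha : a ≠ none) (ha0 : a ≠ some 0) :
    ∃ x ∈ Spor.M22, ∀ p, x p = p ↔ (p = none ∨ p = some 0 ∨ p = a) := by
  have h := checkTable_true
  unfold checkTable at h
  rw [List.all_eq_true] at h
  have h2 := h (enc a) (List.mem_range.mpr (enc_lt a))
  rw [Bool.or_eq_true, Bool.or_eq_true, beq_iff_eq, beq_iff_eq] at h2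
  rcases h2 with (h2 | h2) | h2
  · exact absurd ((enc_eq_23 a).mp h2) ha
  · exact absurd ((enc_eq_0 a).mp h2) ha0
  · unfold goodEntry at h2
    rw [Bool.and_eq_true, List.all_eq_true] at h2
    obtain ⟨hc, hall⟩ := h2
    obtain ⟨x, hx, hxp, -⟩ := exists_smul_of_checkM24 hc
    have key : ∀ p, x p = p ↔ (p = none ∨ p = some 0 ∨ p = a) := by
      intro p
      have h3 := hall (enc p) (List.mem_range.mpr (enc_lt p))
      rw [beq_iff_eq] at h3
      have e1 : x p = p ↔ (enc (dec ((table.getD (enc a) ([], [])).1.getD (enc p) 0)) == enc p) = true := by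
        rw [beq_iff_eq, hxp]
        constructor
        · intro h4
          rw [h4]
        · intro h4
          exact enc_injective h4
      rw [e1, h3, Bool.or_eq_true, Bool.or_eq_true, beq_iff_eq, beq_iff_eq, beq_iff_eq, enc_eq_23,
        enc_eq_0]
      constructor
      · rintro ((h5 | h5) | h5)
        · exact Or.inl h5
        · exact Or.inr (Or.inl h5)
        · exact Or.inr (Or.inr (enc_injective h5))
      · rintro (h5 | h5 | h5)
        · exact Or.inl (Or.inl h5)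
        · exact Or.inl (Or.inr h5)
        · exact Or.inr (by rw [h5])
    refine ⟨x, (mem_M22_iff x).mpr ⟨hx, (key none).mpr (Or.inl rfl), (key (some 0)).mpr (Or.inr (Or.inl rfl))⟩, key⟩

/-- Certificate: an element of `M24` fixing the 22 points other than `none`, `some 0` is trivial. -/
def cert22 : List (ℕ × ℕ × ℕ) := [(0, 340831, 340831), (23, 16777215, 16777215)]

theorem cert22_ok : checkBase 8388606 cert22 = true := by decide +kernel

theorem mask22 : ∀ p : GolayPt, (8388606 : ℕ).testBit (enc p) = true → p ≠ none ∧ p ≠ some 0 := by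
  decide

theorem eq_one_of_fix22 (c : Equiv.Perm GolayPt) (hc : c ∈ M24)
    (h : ∀ p : GolayPt, p ≠ none → p ≠ some 0 → c p = p) : c = 1 := by
  apply checkBase_sound c hc cert22 8388606 _ cert22_ok
  intro p hp
  rw [mem_maskSet] at hp
  obtain ⟨h1, h2⟩ := mask22 p hp
  exact h p h1 h2

theorem mem_K_cases (b : Equiv.Perm GolayPt)
    (hb : b ∈ MulAction.stabilizer (Equiv.Perm GolayPt) ({none, some 0} : Finset GolayPt)) :
    (b none = none ∧ b (some 0) = some 0) ∨ (b none = some 0 ∧ b (some 0) = none) := by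
  rw [MulAction.mem_stabilizer_iff] at hb
  have hne : b none ≠ b (some 0) := fun h => by
    have := b.injective h
    exact absurd this (by decide)
  have h1 : b none ∈ ({none, some 0} : Finset GolayPt) := by
    have : b • (none : GolayPt) ∈ b • ({none, some 0} : Finset GolayPt) :=
      Finset.smul_mem_smul_finset (by simp)
    rw [hb] at this
    exact this
  have h2 : b (some 0) ∈ ({none, some 0} : Finset GolayPt) := by
    have : b • (some 0 : GolayPt) ∈ b • ({none, some 0} : Finset GolayPt) :=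
      Finset.smul_mem_smul_finset (by simp)
    rw [hb] at this
    exact this
  rw [Finset.mem_insert, Finset.mem_singleton] at h1 h2
  rcases h1 with h1 | h1 <;> rcases h2 with h2 | h2
  · exact absurd (h1.trans h2.symm) hne
  · exact Or.inl ⟨h1, h2⟩
  · exact Or.inr ⟨h1, h2⟩
  · exact absurd (h1.trans h2.symm) hne

theorem M22_le : Spor.M22 ≤ M24 ⊓ MulAction.stabilizer (Equiv.Perm GolayPt)
    ({none, some 0} : Finset GolayPt) := by
  intro x hx
  obtain ⟨h1, h2, h3⟩ := (mem_M22_iff x).mp hx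
  refine ⟨h1, ?_⟩
  show x ∈ MulAction.stabilizer (Equiv.Perm GolayPt) ({none, some 0} : Finset GolayPt)
  rw [MulAction.mem_stabilizer_iff]
  ext p
  rw [Finset.mem_smul_finset]
  simp only [Finset.mem_insert, Finset.mem_singleton]
  constructor
  · rintro ⟨y, hy | hy, rfl⟩
    · left; rw [hy]; exact h2
    · right; rw [hy]; exact h3
  · rintro (rfl | rfl)
    · exact ⟨none, Or.inl rfl, h2⟩
    · exact ⟨some 0, Or.inr rfl, h3⟩

/-- `M22` has index 2 in the setwise stabiliser of its two fixed points; an element exchanging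
them normalises `M22` but does not act on it as an inner automorphism. -/
theorem result (g : Equiv.Perm Cfsg.GolayPt) (hg : g ∈ Cfsg.M24) (h₁ : g none = some 0) (h₂ : g (some 0) = none) : Cfsg.Spor.M22.relIndex (Cfsg.M24 ⊓ MulAction.stabilizer (Equiv.Perm Cfsg.GolayPt) ({none, some 0} : Finset Cfsg.GolayPt)) = 2 ∧ (∀ x ∈ Cfsg.Spor.M22, g * x * g⁻¹ ∈ Cfsg.Spor.M22) ∧ ¬ ∃ h ∈ Cfsg.Spor.M22, ∀ x ∈ Cfsg.Spor.M22, g * x * g⁻¹ = h * x * h⁻¹ := by
  have hginv1 : g⁻¹ none = some 0 := by rw [Equiv.Perm.inv_eq_iff_eq, h₂]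
  have hginv2 : g⁻¹ (some 0) = none := by rw [Equiv.Perm.inv_eq_iff_eq, h₁]
  refine ⟨?_, ?_, ?_⟩
  · -- index 2
    have hgK : g ∈ M24 ⊓ MulAction.stabilizer (Equiv.Perm GolayPt)
        ({none, some 0} : Finset GolayPt) := by
      refine ⟨hg, ?_⟩
      show g ∈ MulAction.stabilizer (Equiv.Perm GolayPt) ({none, some 0} : Finset GolayPt)
      rw [MulAction.mem_stabilizer_iff]
      ext p
      rw [Finset.mem_smul_finset]
      simp only [Finset.mem_insert, Finset.mem_singleton]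
      constructor
      · rintro ⟨y, hy | hy, rfl⟩
        · right; rw [hy]; exact h₁
        · left; rw [hy]; exact h₂
      · rintro (rfl | rfl)
        · exact ⟨some 0, Or.inr rfl, h₂⟩
        · exact ⟨none, Or.inl rfl, h₁⟩
    rw [Subgroup.relIndex, Subgroup.index_eq_two_iff]
    refine ⟨⟨g, hgK⟩, fun b => ?_⟩
    rw [Subgroup.mem_subgroupOf, Subgroup.mem_subgroupOf, mem_M22_iff, mem_M22_iff]
    have hbM : (b : Equiv.Perm GolayPt) ∈ M24 := b.2.1
    rcases mem_K_cases b b.2.2 with ⟨hb1, hb2⟩ | ⟨hb1, hb2⟩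
    · right
      refine ⟨⟨hbM, hb1, hb2⟩, ?_⟩
      rintro ⟨-, h3, -⟩
      have : (b : Equiv.Perm GolayPt) (g none) = none := h3
      rw [h₁, hb2] at this
      exact absurd this (by decide)
    · left
      refine ⟨⟨M24.mul_mem hbM hg, ?_, ?_⟩, ?_⟩
      · show (b : Equiv.Perm GolayPt) (g none) = none
        rw [h₁, hb2]
      · show (b : Equiv.Perm GolayPt) (g (some 0)) = some 0
        rw [h₂, hb1]
      · rintro ⟨-, h3, -⟩
        rw [hb1] at h3
        exact absurd h3 (by decide)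
  · -- normalises
    intro x hx
    obtain ⟨hx1, hx2, hx3⟩ := (mem_M22_iff x).mp hx
    rw [mem_M22_iff]
    refine ⟨M24.mul_mem (M24.mul_mem hg hx1) (M24.inv_mem hg), ?_, ?_⟩
    · show g (x (g⁻¹ none)) = none
      rw [hginv1, hx3, h₂]
    · show g (x (g⁻¹ (some 0))) = some 0
      rw [hginv2, hx2, h₁]
  · -- not inner
    rintro ⟨h, hh, hconj⟩
    obtain ⟨hh1, hh2, hh3⟩ := (mem_M22_iff h).mp hh
    have hhinv2 : h⁻¹ none = none := by rw [Equiv.Perm.inv_eq_iff_eq, hh2]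
    have hhinv3 : h⁻¹ (some 0) = some 0 := by rw [Equiv.Perm.inv_eq_iff_eq, hh3]
    set c : Equiv.Perm GolayPt := h⁻¹ * g with hc
    have hcM : c ∈ M24 := M24.mul_mem (M24.inv_mem hh1) hg
    have hc1 : c none = some 0 := by
      show h⁻¹ (g none) = some 0
      rw [h₁, hhinv3]
    have hc2 : c (some 0) = none := by
      show h⁻¹ (g (some 0)) = none
      rw [h₂, hhinv2]
    have hcomm : ∀ x ∈ Spor.M22, c * x = x * c := by
      intro x hx
      have h3 := hconj x hx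
      -- g x g⁻¹ = h x h⁻¹  ⇒  h⁻¹ g x = x h⁻¹ g
      have h4 : g * x = h * x * h⁻¹ * g := by
        rw [← h3]; group
      show h⁻¹ * g * x = x * (h⁻¹ * g)
      rw [mul_assoc, h4]; group
    have hfix : ∀ p : GolayPt, p ≠ none → p ≠ some 0 → c p = p := by
      intro a ha ha0
      obtain ⟨x, hx, hxfix⟩ := exists_fix a ha ha0
      have h5 : x (c a) = c a := by
        have := congrArg (fun f : Equiv.Perm GolayPt => f a) (hcomm x hx)
        simp only [Equiv.Perm.mul_apply] at this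
        rw [← this, (hxfix a).mpr (Or.inr (Or.inr rfl))]
      rcases (hxfix (c a)).mp h5 with h6 | h6 | h6
      · exfalso
        rw [← hc2] at h6
        exact ha0 (c.injective h6)
      · exfalso
        rw [← hc1] at h6
        exact ha (c.injective h6)
      · exact h6
    have hc_one := eq_one_of_fix22 c hcM hfix
    rw [hc_one] at hc1
    exact absurd hc1 (by decide)

end Cfsg.Agent.S5599
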