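import Cfsg.Statements.S5600
import Cfsg.Agent.Lib.Helper7_Six

set_option autoImplicit false
open scoped Pointwise
open Cfsg

namespace Cfsg.Agent.S5600

open Cfsg.Agent.Lib.Helper7_Six

/-- An enumeration of a 6-set, as an embedding. -/
def enumEmb (E : Finset GolayPt) (e : Fin 6 ≃ ↥E) : Fin 6 ↪ GolayPt :=
  e.toEmbedding.trans (Function.Embedding.subtype _)

theorem enumEmb_apply (E : Finset GolayPt) (e : Fin 6 ≃ ↥E) (i : Fin 6) :
    enumEmb E e i = (e i : GolayPt) := rfl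

theorem special_enum (E : Finset GolayPt) (e : Fin 6 ≃ ↥E) :
    Special (enumEmb E e) ↔ ∃ o ∈ octads, E ⊆ o := by
  constructor
  · rintro ⟨o, ho, h⟩
    refine ⟨o, ho, fun p hp => ?_⟩
    have := h (e.symm ⟨p, hp⟩)
    rw [enumEmb_apply, Equiv.apply_symm_apply] at this
    exact this
  · rintro ⟨o, ho, h⟩
    exact ⟨o, ho, fun i => h (e i).2⟩

theorem forall_mem_iff (E : Finset GolayPt) (e : Fin 6 ≃ ↥E) (g : Equiv.Perm GolayPt) :
    (∀ p ∈ E, g p = p) ↔ ∀ i, g (enumEmb E e i) = enumEmb E e i := by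
  constructor
  · intro h i
    exact h _ (e i).2
  · intro h p hp
    have := h (e.symm ⟨p, hp⟩)
    rw [enumEmb_apply, Equiv.apply_symm_apply] at this
    exact this

/-- The pointwise stabiliser, in the form of the statement. -/
def fixEquiv (E : Finset GolayPt) (e : Fin 6 ≃ ↥E) :
    {g : Equiv.Perm GolayPt // g ∈ M24 ∧ ∀ p ∈ E, g p = p} ≃ Fix (enumEmb E e) :=
  Equiv.subtypeEquivRight fun g => and_congr Iff.rfl (forall_mem_iff E e g)

theorem part1 (E : Finset GolayPt) (e : Fin 6 ≃ ↥E) (σ : Equiv.Perm ↥E) :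
    ∃ g ∈ M24, ∀ p : ↥E, g p = σ p := by
  have hxy : Special (enumEmb E e) ↔ Special (enumEmb E (e.trans σ)) := by
    rw [special_enum, special_enum]
  obtain ⟨g, hg, hgx⟩ := six_transitive (enumEmb E e) (enumEmb E (e.trans σ)) hxy
  refine ⟨g, hg, fun p => ?_⟩
  have := hgx (e.symm p)
  rw [enumEmb_apply, enumEmb_apply, Equiv.apply_symm_apply] at this
  rw [this]
  show ((σ (e (e.symm p)) : ↥E) : GolayPt) = σ p
  rw [Equiv.apply_symm_apply]

theorem perm_mem_iff (E : Finset GolayPt) (g : Equiv.Perm GolayPt) (hg : g • E = E)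
    (p : GolayPt) : g p ∈ E ↔ p ∈ E := by
  constructor
  · intro h
    have h' : g p ∈ g • E := by rw [hg]; exact h
    rw [Finset.mem_smul_finset] at h'
    obtain ⟨q, hq, hqp⟩ := h'
    have : q = p := g.injective hqp
    rw [← this]
    exact hq
  · intro h
    have := Finset.smul_mem_smul_finset (a := g) h
    rw [hg] at this
    exact this

theorem stab_iff (E : Finset GolayPt) (g : MulAction.stabilizer M24 E) (p : GolayPt) :
    ((g : M24) : Equiv.Perm GolayPt) p ∈ E ↔ p ∈ E :=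
  perm_mem_iff E _ g.2 p

/-- The action of the setwise stabiliser on the set. -/
def rho (E : Finset GolayPt) : MulAction.stabilizer M24 E →* Equiv.Perm ↥E :=
  MonoidHom.mk' (fun g => Equiv.Perm.subtypePerm ((g : M24) : Equiv.Perm GolayPt) (stab_iff E g))
    (fun _ _ => rfl)

theorem rho_apply (E : Finset GolayPt) (g : MulAction.stabilizer M24 E) (p : ↥E) :
    ((rho E g p : ↥E) : GolayPt) = ((g : M24) : Equiv.Perm GolayPt) p := rfl

theorem rho_surjective (E : Finset GolayPt) (e : Fin 6 ≃ ↥E) : Function.Surjective (rho E) := by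
  intro σ
  obtain ⟨g, hg, hgσ⟩ := part1 E e σ
  have hstab : (⟨g, hg⟩ : M24) ∈ MulAction.stabilizer M24 E := by
    rw [MulAction.mem_stabilizer_iff]
    show g • E = E
    ext p
    rw [Finset.mem_smul_finset]
    constructor
    · rintro ⟨q, hq, rfl⟩
      have := hgσ ⟨q, hq⟩
      show g q ∈ E
      rw [this]
      exact (σ ⟨q, hq⟩).2
    · intro hp
      refine ⟨(σ.symm ⟨p, hp⟩ : ↥E), (σ.symm ⟨p, hp⟩).2, ?_⟩
      have := hgσ (σ.symm ⟨p, hp⟩)
      show g _ = p
      rw [this, Equiv.apply_symm_apply]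
  refine ⟨⟨⟨g, hg⟩, hstab⟩, ?_⟩
  apply Equiv.ext
  intro p
  apply Subtype.ext
  rw [rho_apply]
  exact hgσ p

/-- The kernel of the action is the pointwise stabiliser. -/
def kerEquiv (E : Finset GolayPt) :
    (rho E).ker ≃ {g : Equiv.Perm GolayPt // g ∈ M24 ∧ ∀ p ∈ E, g p = p} where
  toFun g := ⟨((g.1 : M24) : Equiv.Perm GolayPt), (g.1 : M24).2, fun p hp => by
    have h1 : rho E g.1 = 1 := g.2
    have h2 := congrArg (fun σ : Equiv.Perm ↥E => ((σ ⟨p, hp⟩ : ↥E) : GolayPt)) h1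
    exact h2⟩
  invFun g := ⟨⟨⟨g.1, g.2.1⟩, by
      rw [MulAction.mem_stabilizer_iff]
      show g.1 • E = E
      ext p
      rw [Finset.mem_smul_finset]
      constructor
      · rintro ⟨q, hq, rfl⟩
        show g.1 q ∈ E
        rw [g.2.2 q hq]
        exact hq
      · intro hp
        exact ⟨p, hp, g.2.2 p hp⟩⟩, by
      rw [MonoidHom.mem_ker]
      apply Equiv.ext
      intro p
      apply Subtype.ext
      rw [rho_apply]
      exact g.2.2 p p.2⟩
  left_inv g := rfl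
  right_inv g := rfl

theorem card_perm (E : Finset GolayPt) (hE : E.card = 6) : Nat.card (Equiv.Perm ↥E) = 720 := by
  rw [Nat.card_eq_fintype_card, Fintype.card_perm, Fintype.card_coe, hE]
  rfl

theorem card_stab (E : Finset GolayPt) (hE : E.card = 6) (e : Fin 6 ≃ ↥E)
    (hker : Nat.card {g : Equiv.Perm GolayPt // g ∈ M24 ∧ ∀ p ∈ E, g p = p} = 3) :
    Nat.card (MulAction.stabilizer M24 E) = 2160 := by
  have h1 := Subgroup.card_mul_index (rho E).ker
  rw [Subgroup.index_ker, MonoidHom.range_eq_top.mpr (rho_surjective E e), Subgroup.card_top,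
    card_perm E hE, Nat.card_congr (kerEquiv E), hker] at h1
  rw [← h1]

/-- The action of `M24` on 6-sets. -/
theorem result (E : Finset Cfsg.GolayPt) (hE : E.card = 6) : (∀ σ : Equiv.Perm ↥E, ∃ g ∈ Cfsg.M24, ∀ p : ↥E, g p = σ p) ∧ ((∃ o ∈ Cfsg.octads, E ⊆ o) → Nat.card {g : Equiv.Perm Cfsg.GolayPt // g ∈ Cfsg.M24 ∧ ∀ p ∈ E, g p = p} = 16) ∧ ((¬ ∃ o ∈ Cfsg.octads, E ⊆ o) → Nat.card {g : Equiv.Perm Cfsg.GolayPt // g ∈ Cfsg.M24 ∧ ∀ p ∈ E, g p = p} = 3 ∧ Nat.card ↥(MulAction.stabilizer Cfsg.M24 E) = 2160) := by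
  have e : Fin 6 ≃ ↥E := (Finset.equivFinOfCardEq hE).symm
  refine ⟨fun σ => part1 E e σ, fun hs => ?_, fun hs => ?_⟩
  · rw [Nat.card_congr (fixEquiv E e)]
    exact card_Fix_special _ ((special_enum E e).mpr hs)
  · have h3 : Nat.card {g : Equiv.Perm GolayPt // g ∈ M24 ∧ ∀ p ∈ E, g p = p} = 3 := by
      rw [Nat.card_congr (fixEquiv E e)]
      exact card_Fix_umbral _ (fun h => hs ((special_enum E e).mp h))
    exact ⟨h3, card_stab E hE e h3⟩

end Cfsg.Agent.S5600
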