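import Cfsg.Statements.S5601
import Cfsg.Agent.Lib.Helper93_M24Sub3

set_option autoImplicit false
open scoped Pointwise
open Cfsg

namespace Cfsg.Agent.S5601

open Cfsg.Agent.Lib.Helper26_Golay Cfsg.Agent.Lib.Helper93_M24Obj

theorem orderOf_eq_three_of_table {ε : Equiv.Perm GolayPt} {T : ℕ} (h : Represents ε T)
    (hc : cubeId (img T) = true) (hf : fixCount (img T) ≠ 24) : orderOf ε = 3 := by
  have : Fact (Nat.Prime 3) := ⟨Nat.prime_three⟩
  apply orderOf_eq_prime (pow_of_cubeId (repF_of_represents h) hc)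
  intro h1
  apply hf
  rw [← card_fixed_eq (repF_of_represents h), h1]
  simp only [Equiv.Perm.one_apply, Finset.filter_true_of_mem, implies_true]
  rw [Finset.card_univ]
  decide

theorem cube_A : cubeId (img (f5At 16)) = true := by decide +kernel
theorem fix_A : fixCount (img (f5At 16)) = 6 := by decide +kernel
theorem cube_B : cubeId (img Cfsg.Agent.Lib.Helper93_S5603a.E) = true := by decide +kernel
theorem fix_B : fixCount (img Cfsg.Agent.Lib.Helper93_S5603a.E) = 0 := by decide +kernel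

theorem exists_sub3 (T : ℕ) (hT : tblInM24 T = true) (hc : cubeId (img T) = true) (n : ℕ)
    (hf : fixCount (img T) = n) (hn : n ≠ 24) :
    ∃ X : Subgroup ↥Cfsg.M24, Nat.card X = 3 ∧ {p : Cfsg.GolayPt | ∀ x ∈ X,
      ((x : ↥Cfsg.M24) : Equiv.Perm Cfsg.GolayPt) p = p}.ncard = n := by
  obtain ⟨ε, hε, hεT⟩ := exists_of_tblInM24 hT
  refine ⟨Subgroup.zpowers ⟨ε, hε⟩, ?_, ?_⟩
  · rw [Nat.card_zpowers, Subgroup.orderOf_mk]
    exact orderOf_eq_three_of_table hεT hc (by rw [hf]; exact hn)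
  · rw [ncard_fixed_zpowers]
    show (Finset.univ.filter fun p => ε p = p).card = n
    rw [card_fixed_eq (repF_of_represents hεT), hf]

/-- The group of the length-24 code has exactly two conjugacy classes of subgroups of order 3: a subgroup of order 3 fixes either exactly 6 of the 24 points or none of them, both cases occur, and two subgroups of order 3 with the same number of fixed points are conjugate. -/
theorem result : (∀ X : Subgroup ↥Cfsg.M24, Nat.card X = 3 → {p : Cfsg.GolayPt | ∀ x ∈ X, ((x : ↥Cfsg.M24) : Equiv.Perm Cfsg.GolayPt) p = p}.ncard = 6 ∨ {p : Cfsg.GolayPt | ∀ x ∈ X, ((x : ↥Cfsg.M24) : Equiv.Perm Cfsg.GolayPt) p = p}.ncard = 0) ∧ (∃ X : Subgroup ↥Cfsg.M24, Nat.card X = 3 ∧ {p : Cfsg.GolayPt | ∀ x ∈ X, ((x : ↥Cfsg.M24) : Equiv.Perm Cfsg.GolayPt) p = p}.ncard = 6) ∧ (∃ X : Subgroup ↥Cfsg.M24, Nat.card X = 3 ∧ {p : Cfsg.GolayPt | ∀ x ∈ X, ((x : ↥Cfsg.M24) : Equiv.Perm Cfsg.GolayPt) p = p}.ncard = 0) ∧ ∀ X Y : Subgroup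 ↥Cfsg.M24, Nat.card X = 3 → Nat.card Y = 3 → {p : Cfsg.GolayPt | ∀ x ∈ X, ((x : ↥Cfsg.M24) : Equiv.Perm Cfsg.GolayPt) p = p}.ncard = {p : Cfsg.GolayPt | ∀ x ∈ Y, ((x : ↥Cfsg.M24) : Equiv.Perm Cfsg.GolayPt) p = p}.ncard → ∃ k : ↥Cfsg.M24, MulAut.conj k • X = Y := by
  refine ⟨?_, ?_, ?_, ?_⟩
  · intro X hX
    obtain ⟨g, hord, rfl⟩ := exists_gen_of_card_prime X Nat.prime_three hX
    rw [ncard_fixed_zpowers]
    exact fix_of_order3 g.2 (by rw [Subgroup.orderOf_coe]; exact hord)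
  · exact exists_sub3 _ Cfsg.Agent.Lib.Helper93_S5602a.rep_in cube_A 6 fix_A (by norm_num)
  · exact exists_sub3 _ Cfsg.Agent.Lib.Helper93_S5603a.rep_in cube_B 0 fix_B (by norm_num)
  · intro X Y hX hY hfix
    obtain ⟨g, hord, rfl⟩ := exists_gen_of_card_prime X Nat.prime_three hX
    obtain ⟨g', hord', rfl⟩ := exists_gen_of_card_prime Y Nat.prime_three hY
    rw [ncard_fixed_zpowers, ncard_fixed_zpowers] at hfix
    have ho : orderOf (g : Equiv.Perm GolayPt) = 3 := by rw [Subgroup.orderOf_coe]; exact hord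
    have ho' : orderOf (g' : Equiv.Perm GolayPt) = 3 := by rw [Subgroup.orderOf_coe]; exact hord'
    have key : ∀ (T : ℕ), (∃ ε ∈ M24, Represents ε T ∧ ∃ k ∈ M24,
        (k * (g : Equiv.Perm GolayPt) * k⁻¹ = ε ∨ k * (g : Equiv.Perm GolayPt) * k⁻¹ = ε⁻¹)) →
        (∃ ε ∈ M24, Represents ε T ∧ ∃ k ∈ M24,
        (k * (g' : Equiv.Perm GolayPt) * k⁻¹ = ε ∨ k * (g' : Equiv.Perm GolayPt) * k⁻¹ = ε⁻¹)) →
        ∃ c : ↥M24, MulAut.conj c • Subgroup.zpowers g = Subgroup.zpowers g' := by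
      intro T h1 h2
      obtain ⟨ε, hε, hεT, k, hk, hconj⟩ := h1
      obtain ⟨ε', hε', hεT', k', hk', hconj'⟩ := h2
      have hee : ε' = ε := (repF_of_represents hεT').unique (repF_of_represents hεT)
      subst hee
      exact conj_of_conj_same (conj_zpowers_of_conj g.2 hε hk hconj)
        (conj_zpowers_of_conj g'.2 hε hk' hconj')
    rcases fix_of_order3 g.2 ho with h6 | h0
    · exact key _ (reduce3A g.2 ho h6) (reduce3A g'.2 ho' (by rw [← hfix]; exact h6))
    · have hfpf : ∀ {γ : Equiv.Perm GolayPt}, (Finset.univ.filter fun p => γ p = p).card = 0 →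
          ∀ p, γ p ≠ p := by
        intro γ h p hp
        have : p ∈ (Finset.univ.filter fun p => γ p = p) :=
          Finset.mem_filter.mpr ⟨Finset.mem_univ _, hp⟩
        rw [Finset.card_eq_zero] at h
        rw [h] at this
        exact Finset.notMem_empty _ this
      exact key _ (Cfsg.Agent.S5603.reduce g g.2 ho (hfpf h0))
        (Cfsg.Agent.S5603.reduce g' g'.2 ho' (hfpf (by rw [← hfix]; exact h0)))

end Cfsg.Agent.S5601
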