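import Cfsg.Statements.S5604
import Cfsg.Agent.Lib.Helper93_S5604c
import Cfsg.Agent.Lib.Helper93_M24Sub3

set_option autoImplicit false
open scoped Pointwise
open Cfsg

namespace Cfsg.Agent.S5604

open Cfsg.Agent.Lib.Helper26_Golay Cfsg.Agent.Lib.Helper93_M24Obj Cfsg.Agent.Lib.Helper93_S5604a

/-- For a subgroup S of order 7 of the group of the length-24 code (a Sylow 7-subgroup): the normaliser of S has order 126, the centraliser of S has order 42 and is non-abelian, and the whole normaliser leaves some trio invariant. (These are the orders of a Frobenius group of order 21 times a symmetric group of degree 3; the isomorphism type itself is not asserted here.) -/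
theorem result (S : Subgroup ↥Cfsg.M24) (hS : Nat.card S = 7) : Nat.card ↥(Subgroup.normalizer (S : Set ↥Cfsg.M24)) = 126 ∧ Nat.card ↥(Subgroup.centralizer (S : Set ↥Cfsg.M24)) = 42 ∧ (∃ x ∈ Subgroup.centralizer (S : Set ↥Cfsg.M24), ∃ y ∈ Subgroup.centralizer (S : Set ↥Cfsg.M24), x * y ≠ y * x) ∧ ∃ T ∈ Cfsg.trios, ∀ n ∈ Subgroup.normalizer (S : Set ↥Cfsg.M24), ((n : ↥Cfsg.M24) : Equiv.Perm Cfsg.GolayPt) • T = T := by
  obtain ⟨g, hord, rfl⟩ := exists_gen_of_card_prime S (by norm_num : Nat.Prime 7) hS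
  have ho : orderOf (g : Equiv.Perm GolayPt) = 7 := by rw [Subgroup.orderOf_coe]; exact hord
  obtain ⟨k, hk, hconj⟩ := reduce7 g.2 ho
  have hN : Nset (k * (g : Equiv.Perm GolayPt) * k⁻¹) = Nset ε := by
    rcases hconj with h | h
    · rw [h]
    · rw [h, Nset_inv]
  have hC : Cset (k * (g : Equiv.Perm GolayPt) * k⁻¹) = Cset ε := by
    rcases hconj with h | h
    · rw [h]
    · rw [h, Cset_inv]
  have hNcard : (Nset (g : Equiv.Perm GolayPt)).ncard = 126 := by
    rw [← Nset_ncard, ← hN, Nset_conj hk, Set.ncard_image_of_injective _ (conj_injective k)]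
  have hCcard : (Cset (g : Equiv.Perm GolayPt)).ncard = 42 := by
    rw [← Cset_ncard, ← hC, Cset_conj hk, Set.ncard_image_of_injective _ (conj_injective k)]
  refine ⟨?_, ?_, ?_, ?_⟩
  · rw [card_normalizer_zpowers, hNcard]
  · rw [card_centralizer_zpowers, hCcard]
  · obtain ⟨x, hx, y, hy, hxy⟩ := exists_noncomm
    rw [← hC, Cset_conj hk] at hx hy
    obtain ⟨x', hx', rfl⟩ := hx
    obtain ⟨y', hy', rfl⟩ := hy
    refine ⟨⟨x', hx'.1⟩, ?_, ⟨y', hy'.1⟩, ?_, ?_⟩
    · rw [mem_centralizer_zpowers_iff]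
      apply Subtype.ext
      exact hx'.2
    · rw [mem_centralizer_zpowers_iff]
      apply Subtype.ext
      exact hy'.2
    · intro h
      apply hxy
      have h2 : x' * y' = y' * x' := congrArg Subtype.val h
      have e1 : k * x' * k⁻¹ * (k * y' * k⁻¹) = k * (x' * y') * k⁻¹ := by group
      have e2 : k * y' * k⁻¹ * (k * x' * k⁻¹) = k * (y' * x') * k⁻¹ := by group
      simp only
      rw [e1, e2, h2]
  · obtain ⟨T, hT, hfix⟩ := exists_trio
    refine ⟨k⁻¹ • T, smul_mem_trios (M24.inv_mem hk) hT, ?_⟩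
    intro n hn
    have hn' : (n : Equiv.Perm GolayPt) ∈ Nset (g : Equiv.Perm GolayPt) := by
      rw [← coe_normalizer_zpowers]
      exact ⟨n, hn, rfl⟩
    have hmem : k * (n : Equiv.Perm GolayPt) * k⁻¹ ∈ Nset ε := by
      rw [← hN, Nset_conj hk]
      exact ⟨_, hn', rfl⟩
    have h2 := hfix _ hmem
    rw [← mul_smul]
    have e1 : (n : Equiv.Perm GolayPt) * k⁻¹ = k⁻¹ * (k * (n : Equiv.Perm GolayPt) * k⁻¹) := by
      group
    rw [e1, mul_smul, h2]

end Cfsg.Agent.S5604
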