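import Cfsg.Statements.S5605
import Cfsg.Agent.Lib.Helper93_S5605a

set_option autoImplicit false
open scoped Pointwise
open Cfsg

namespace Cfsg.Agent.S5605

open Cfsg.Agent.Lib.Helper26_Golay Cfsg.Agent.Lib.Helper93_M24Obj Cfsg.Agent.Lib.Helper93_S5605a

theorem result (g : Equiv.Perm Cfsg.GolayPt) (hg : g ∈ Cfsg.M24) (h₂ : orderOf g = 2) (h₈ : (Finset.univ.filter fun p => g p = p).card = 8) : {o : Finset Cfsg.GolayPt | o ∈ Cfsg.octads ∧ g • o = o}.ncard = 71 ∧ {T : Finset (Finset Cfsg.GolayPt) | T ∈ Cfsg.trios ∧ g • T = T}.ncard = 99 ∧ {S : Finset (Finset Cfsg.GolayPt) | S ∈ Cfsg.sextets ∧ g • S = S}.ncard = 91 := by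
  obtain ⟨A, hAsub, hAcard⟩ := Finset.exists_subset_card_eq
    (s := Finset.univ.filter fun p => g p = p) (n := 5) (by omega)
  have hfix : ∀ p ∈ A, g p = p := fun p hp => (Finset.mem_filter.mp (hAsub hp)).2
  have hg2 : g ^ 2 = 1 := by rw [← h₂]; exact pow_orderOf_eq_one g
  obtain ⟨ε, hε, hεT, k, hk, hconj⟩ := class_reduce (f5At 1) (f5At 1) rep_in inv_ok ok
    K (fun _ => false) class_ok hg A hAcard hfix (by
      intro k _ j _ hrep
      unfold ok
      rw [Bool.and_eq_true, beq_iff_eq]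
      constructor
      · apply sqId_of_pow (repF_of_represents hrep)
        rw [conj_pow', hg2, mul_one, mul_inv_cancel]
      · rw [← card_fixed_eq (repF_of_represents hrep), card_fixed_conj, h₈])
  refine ⟨?_, ?_, ?_⟩
  · rw [ncard_fixed_of_conj octads (fun g hg X hX => smul_mem_octads hg hX) hk hconj,
      ncard_fixed_octads hεT, cnt_oct]
  · rw [ncard_fixed_of_conj trios (fun g hg X hX => smul_mem_trios hg hX) hk hconj,
      ncard_fixed_trios hεT, cnt_trio]
  · rw [ncard_fixed_of_conj sextets (fun g hg X hX => smul_mem_sextets hg hX) hk hconj,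
      ncard_fixed_sextets hεT, cnt_sext]

end Cfsg.Agent.S5605
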