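import Cfsg.Statements.S5607
import Cfsg.Agent.S5606
import Cfsg.Agent.Lib.Helper93_S5607b

set_option autoImplicit false
open scoped Pointwise
open Cfsg

namespace Cfsg.Agent.S5607

open Cfsg.Agent.Lib.Helper26_Golay Cfsg.Agent.Lib.Helper93_M24Obj Cfsg.Agent.Lib.Helper93_S5607a

/-- For a fixed-point-free involution t of the group of the length-24 code: its centraliser in that group has order 7680, is transitive on the 24 points, and is contained, together with t, in the stabiliser of some sextet. -/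
theorem result (t : Equiv.Perm Cfsg.GolayPt) (ht : t ∈ Cfsg.M24) (h₂ : orderOf t = 2) (h₀ : ∀ p, t p ≠ p) : Nat.card {c : Equiv.Perm Cfsg.GolayPt // c ∈ Cfsg.M24 ∧ c * t = t * c} = 7680 ∧ (∀ p q : Cfsg.GolayPt, ∃ c ∈ Cfsg.M24, c * t = t * c ∧ c p = q) ∧ ∃ S ∈ Cfsg.sextets, t • S = S ∧ ∀ c ∈ Cfsg.M24, c * t = t * c → c • S = S := by
  obtain ⟨ε', hε', hεT', k, hk, hconj⟩ := Cfsg.Agent.S5606.reduce t ht h₂ h₀
  have hee : ε' = ε := (repF_of_represents hεT').unique ε_rep
  subst hee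
  have hkt : k * t * k⁻¹ = ε := by
    rcases hconj with h | h
    · exact h
    · rw [h, ε_inv]
  have hC : Cset ε = (fun n => k * n * k⁻¹) '' Cset t := by
    rw [← hkt, Cset_conj hk]
  refine ⟨?_, ?_, ?_⟩
  · have h1 : Nat.card {c : Equiv.Perm GolayPt // c ∈ M24 ∧ c * t = t * c} = (Cset t).ncard := by
      rw [← Nat.card_coe_set_eq]
      rfl
    rw [h1, ← Cset_ncard, hC, Set.ncard_image_of_injective _ (conj_injective k)]
  · intro p q
    obtain ⟨c', hc', hc'pq⟩ := Cset_trans (k p) (k q)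
    rw [hC] at hc'
    obtain ⟨c, hc, rfl⟩ := hc'
    refine ⟨c, hc.1, hc.2, ?_⟩
    simp only [Equiv.Perm.mul_apply] at hc'pq
    have h0 : k⁻¹ (k p) = p := by simp
    rw [h0] at hc'pq
    exact k.injective hc'pq
  · obtain ⟨S₀, hS₀, hεS, hfix⟩ := exists_sextet
    refine ⟨k⁻¹ • S₀, smul_mem_sextets (M24.inv_mem hk) hS₀, ?_, ?_⟩
    · have e1 : t * k⁻¹ = k⁻¹ * (k * t * k⁻¹) := by group
      rw [← mul_smul, e1, hkt, mul_smul, hεS]
    · intro c hc hct
      have hmem : k * c * k⁻¹ ∈ Cset ε := by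
        rw [hC]
        exact ⟨c, ⟨hc, hct⟩, rfl⟩
      have h2 := hfix _ hmem
      have e1 : c * k⁻¹ = k⁻¹ * (k * c * k⁻¹) := by group
      rw [← mul_smul, e1, mul_smul, h2]

end Cfsg.Agent.S5607
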