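import Cfsg.Statements.S5608
import Cfsg.Agent.Lib.Helper93_M24Fix

set_option autoImplicit false
open scoped Pointwise
open Cfsg

namespace Cfsg.Agent.S5608

open Cfsg.Agent.Lib.Helper93_M24Obj

/-- If an element of order 3 and an involution of the group of the length-24 code commute, then either the element of order 3 has exactly 6 fixed points and the involution exactly 8, or both are fixed-point-free. -/
theorem result (x s : Equiv.Perm Cfsg.GolayPt) (hx : x ∈ Cfsg.M24) (hs : s ∈ Cfsg.M24) (h₃ : orderOf x = 3) (h₂ : orderOf s = 2) (hc : Commute x s) : ((Finset.univ.filter fun p => x p = p).card = 6 ∧ (Finset.univ.filter fun p => s p = p).card = 8) ∨ ((Finset.univ.filter fun p => x p = p).card = 0 ∧ (Finset.univ.filter fun p => s p = p).card = 0) := by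
  rcases fix_of_order3 hx h₃ with h6 | h0
  · rcases fix_of_order2 hs h₂ with h8 | h0'
    · left; exact ⟨h6, h8⟩
    · exact (not_commute_fpf_invol hx hs h₃ h₂ hc h6 h0').elim
  · rcases fix_of_order2 hs h₂ with h8 | h0'
    · exfalso
      have hx3 : x ^ 3 = 1 := by rw [← h₃]; exact pow_orderOf_eq_one x
      obtain ⟨p, hp⟩ := exists_fixed_of_commute hx3 hc h8
      have : p ∈ (Finset.univ.filter fun p => x p = p) :=
        Finset.mem_filter.mpr ⟨Finset.mem_univ _, hp⟩
      rw [Finset.card_eq_zero] at h0
      rw [h0] at this
      exact Finset.notMem_empty _ this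
    · right; exact ⟨h0, h0'⟩

end Cfsg.Agent.S5608
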