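import Cfsg.Statements.S5609
import Cfsg.Agent.Lib.Helper93_GolayConcrete

set_option autoImplicit false
open Cfsg
open Cfsg.Agent.Lib.Helper93_GolayConcrete

namespace Cfsg.Agent.S5609

theorem adj_iff (a b : ↥octads) : (blockGraph octads).Adj a b ↔ a ≠ b ∧ Disjoint (a : Finset GolayPt) b := by
  unfold blockGraph
  rw [SimpleGraph.fromRel_adj]
  constructor
  · rintro ⟨h1, h2 | h2⟩
    · exact ⟨h1, h2⟩
    · exact ⟨h1, h2.symm⟩
  · rintro ⟨h1, h2⟩
    exact ⟨h1, Or.inl h2⟩

theorem adj_of_disjoint {a b : ↥octads} (h : Disjoint (a : Finset GolayPt) b) : (blockGraph octads).Adj a b := by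
  rw [adj_iff]
  refine ⟨?_, h⟩
  intro hab
  rw [hab] at h
  have := octad_card b.2
  rw [Finset.disjoint_self_iff_empty] at h
  rw [h] at this
  simp at this

/-- distances between distinct octads -/
theorem dist_cases (a b : ↥octads) (hne : a ≠ b) :
    (blockGraph octads).Reachable a b ∧
    (((a : Finset GolayPt) ∩ b).card = 0 → (blockGraph octads).dist a b = 1) ∧
    (((a : Finset GolayPt) ∩ b).card = 4 → (blockGraph octads).dist a b = 2) ∧
    (((a : Finset GolayPt) ∩ b).card = 2 → (blockGraph octads).dist a b = 3) := by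
  have hne' : (a : Finset GolayPt) ≠ b := fun h => hne (Subtype.ext h)
  have hnadj : ((a : Finset GolayPt) ∩ b).card ≠ 0 → ¬ (blockGraph octads).Adj a b := by
    intro h hadj
    rw [adj_iff] at hadj
    apply h
    rw [Finset.card_eq_zero, ← Finset.disjoint_iff_inter_eq_empty]
    exact hadj.2
  have hreach : (blockGraph octads).Reachable a b := by
    rcases octads_inter a.2 b.2 hne' with h | h | h
    · have : Disjoint (a : Finset GolayPt) b := by
        rw [Finset.disjoint_iff_inter_eq_empty]; exact Finset.card_eq_zero.1 h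
      exact (adj_of_disjoint this).reachable
    · obtain ⟨x, hx, y, hy, h1, h2, h3⟩ := exists_path_of_inter_two a.2 b.2 h
      have e1 : (blockGraph octads).Adj a ⟨x, hx⟩ := adj_of_disjoint h1
      have e2 : (blockGraph octads).Adj ⟨x, hx⟩ ⟨y, hy⟩ := adj_of_disjoint h2
      have e3 : (blockGraph octads).Adj ⟨y, hy⟩ b := adj_of_disjoint h3
      exact e1.reachable.trans (e2.reachable.trans e3.reachable)
    · obtain ⟨x, hx, h1, h2⟩ := exists_disjoint_of_inter_four a.2 b.2 h
      have e1 : (blockGraph octads).Adj a ⟨x, hx⟩ := adj_of_disjoint h1.symm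
      have e2 : (blockGraph octads).Adj ⟨x, hx⟩ b := adj_of_disjoint h2
      exact e1.reachable.trans e2.reachable
  have hd0 : (blockGraph octads).dist a b ≠ 0 := by
    intro h
    rw [hreach.dist_eq_zero_iff] at h
    exact hne h
  refine ⟨hreach, ?_, ?_, ?_⟩
  · intro h
    have : Disjoint (a : Finset GolayPt) b := by
      rw [Finset.disjoint_iff_inter_eq_empty]; exact Finset.card_eq_zero.1 h
    rw [SimpleGraph.dist_eq_one_iff_adj]
    exact adj_of_disjoint this
  · intro h
    obtain ⟨x, hx, h1, h2⟩ := exists_disjoint_of_inter_four a.2 b.2 h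
    have e1 : (blockGraph octads).Adj a ⟨x, hx⟩ := adj_of_disjoint h1.symm
    have e2 : (blockGraph octads).Adj ⟨x, hx⟩ b := adj_of_disjoint h2
    have hle : (blockGraph octads).dist a b ≤ 2 :=
      SimpleGraph.dist_le (SimpleGraph.Walk.cons e1 (SimpleGraph.Walk.cons e2 SimpleGraph.Walk.nil))
    have hd1 : (blockGraph octads).dist a b ≠ 1 := by
      intro h1'
      rw [SimpleGraph.dist_eq_one_iff_adj] at h1'
      exact hnadj (by omega) h1'
    omega
  · intro h
    obtain ⟨x, hx, y, hy, h1, h2, h3⟩ := exists_path_of_inter_two a.2 b.2 h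
    have e1 : (blockGraph octads).Adj a ⟨x, hx⟩ := adj_of_disjoint h1
    have e2 : (blockGraph octads).Adj ⟨x, hx⟩ ⟨y, hy⟩ := adj_of_disjoint h2
    have e3 : (blockGraph octads).Adj ⟨y, hy⟩ b := adj_of_disjoint h3
    have hle : (blockGraph octads).dist a b ≤ 3 :=
      SimpleGraph.dist_le (SimpleGraph.Walk.cons e1 (SimpleGraph.Walk.cons e2
        (SimpleGraph.Walk.cons e3 SimpleGraph.Walk.nil)))
    have hd1 : (blockGraph octads).dist a b ≠ 1 := by
      intro h1'
      rw [SimpleGraph.dist_eq_one_iff_adj] at h1'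
      exact hnadj (by omega) h1'
    have hd2 : (blockGraph octads).dist a b ≠ 2 := by
      intro h2'
      obtain ⟨p, hp⟩ := hreach.exists_walk_length_eq_dist
      rw [h2'] at hp
      match p, hp with
      | SimpleGraph.Walk.cons (v := c) hac (SimpleGraph.Walk.cons hcb SimpleGraph.Walk.nil), _ =>
        rw [adj_iff] at hac hcb
        exact no_disjoint_of_inter_two a.2 b.2 c.2 h hac.2.symm hcb.2
    omega

/-- In the graph on the 759 octads of the length-24 code in which two octads are adjacent when they are disjoint, the graph is connected (of diameter 3) and two distinct octads are at distance 1, 2 or 3 exactly when they meet in 0, 4 or 2 points respectively. -/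
theorem result (o o' : Finset Cfsg.GolayPt) (ho : o ∈ Cfsg.octads) (ho' : o' ∈ Cfsg.octads) (hne : o ≠ o') : (Cfsg.blockGraph Cfsg.octads).Connected ∧ ((Cfsg.blockGraph Cfsg.octads).dist ⟨o, ho⟩ ⟨o', ho'⟩ = 1 ↔ (o ∩ o').card = 0) ∧ ((Cfsg.blockGraph Cfsg.octads).dist ⟨o, ho⟩ ⟨o', ho'⟩ = 2 ↔ (o ∩ o').card = 4) ∧ ((Cfsg.blockGraph Cfsg.octads).dist ⟨o, ho⟩ ⟨o', ho'⟩ = 3 ↔ (o ∩ o').card = 2) := by
  have hne' : (⟨o, ho⟩ : ↥octads) ≠ ⟨o', ho'⟩ := fun h => hne (congrArg Subtype.val h)
  obtain ⟨_, h0, h4, h2⟩ := dist_cases ⟨o, ho⟩ ⟨o', ho'⟩ hne'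
  have htri := octads_inter ho ho' hne
  refine ⟨?_, ?_, ?_, ?_⟩
  · have : Nonempty ↥octads := ⟨⟨o, ho⟩⟩
    refine ⟨fun a b => ?_⟩
    by_cases hab : a = b
    · rw [hab]
    · exact (dist_cases a b hab).1
  · constructor
    · intro hd
      rcases htri with h | h | h
      · exact h
      · have := h2 h; omega
      · have := h4 h; omega
    · exact h0
  · constructor
    · intro hd
      rcases htri with h | h | h
      · have := h0 h; omega
      · have := h2 h; omega
      · exact h
    · exact h4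
  · constructor
    · intro hd
      rcases htri with h | h | h
      · have := h0 h; omega
      · exact h
      · have := h4 h; omega
    · exact h2

end Cfsg.Agent.S5609
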