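import Cfsg.Statements.S5610
import Cfsg.Agent.Lib.Helper93_S5610a
import Cfsg.Agent.Lib.Helper93_S5610b

set_option autoImplicit false
open scoped Pointwise
open Cfsg

namespace Cfsg.Agent.S5610

open Cfsg.Agent.Lib.Helper26_Golay Cfsg.Agent.Lib.Helper93_M24Obj

theorem result (o : Finset Cfsg.GolayPt) (ho : o ∈ Cfsg.octads) : (∃ X₁ ∈ Cfsg.trios, ∃ X₂ ∈ Cfsg.trios, ∃ X₃ ∈ Cfsg.trios, (MulAction.orbit ↥(MulAction.stabilizer Cfsg.M24 o) X₁).ncard = 15 ∧ (MulAction.orbit ↥(MulAction.stabilizer Cfsg.M24 o) X₂).ncard = 420 ∧ (MulAction.orbit ↥(MulAction.stabilizer Cfsg.M24 o) X₃).ncard = 3360 ∧ Cfsg.trios = MulAction.orbit ↥(MulAction.stabilizer Cfsg.M24 o) X₁ ∪ MulAction.orbit ↥(MulAction.stabilizer Cfsg.M24 o) X₂ ∪ MulAction.orbit ↥(MulAction.stabilizer Cfsg.M24 o) X₃) ∧ (∃ Y₁ ∈ Cfsg.sextets, ∃ Y₂ ∈ Cfsg.sextets, ∃ Y₃ ∈ Cfsg.sextets, (MulAction.orbit ↥(MulAction.stabilizer Cfsg.M24 o) Y₁).ncard = 35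 ∧ (MulAction.orbit ↥(MulAction.stabilizer Cfsg.M24 o) Y₂).ncard = 840 ∧ (MulAction.orbit ↥(MulAction.stabilizer Cfsg.M24 o) Y₃).ncard = 896 ∧ Cfsg.sextets = MulAction.orbit ↥(MulAction.stabilizer Cfsg.M24 o) Y₁ ∪ MulAction.orbit ↥(MulAction.stabilizer Cfsg.M24 o) Y₂ ∪ MulAction.orbit ↥(MulAction.stabilizer Cfsg.M24 o) Y₃) := by
  have hR : ∃ g ∈ M24, g • (maskCoding.decode Cfsg.Agent.Lib.Helper93_S5610a.refCode) = o :=
    exists_smul_oct0_eq ho
  constructor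
  · exact orbits3 invPS invPS_smul trios (fun g hg X hX => smul_mem_trios hg hX) trios_finite _
      Cfsg.Agent.Lib.Helper93_S5610a.classifies 390627 1251 675 15 420 3360
      (by decide)
      (by rw [Cfsg.Agent.Lib.Helper93_S5610a.count, Cfsg.Agent.Lib.Helper93_S5610a.count_390627])
      (by rw [Cfsg.Agent.Lib.Helper93_S5610a.count, Cfsg.Agent.Lib.Helper93_S5610a.count_1251])
      (by rw [Cfsg.Agent.Lib.Helper93_S5610a.count, Cfsg.Agent.Lib.Helper93_S5610a.count_675])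
      (by decide) Cfsg.Agent.S1557.trios_ncard o hR
  · exact orbits3 invPS invPS_smul sextets (fun g hg X hX => smul_mem_sextets hg hX)
      sextets_finite _
      Cfsg.Agent.Lib.Helper93_S5610b.classifies 1254 102 150 35 840 896
      (by decide)
      (by rw [Cfsg.Agent.Lib.Helper93_S5610b.count, Cfsg.Agent.Lib.Helper93_S5610b.count_1254])
      (by rw [Cfsg.Agent.Lib.Helper93_S5610b.count, Cfsg.Agent.Lib.Helper93_S5610b.count_102])
      (by rw [Cfsg.Agent.Lib.Helper93_S5610b.count, Cfsg.Agent.Lib.Helper93_S5610b.count_150])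
      (by decide) Cfsg.Agent.S1550.sextets_ncard o hR

end Cfsg.Agent.S5610
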