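import Cfsg.Statements.S5611
import Cfsg.Agent.Lib.Helper93_S5611a
import Cfsg.Agent.Lib.Helper93_S5611b

set_option autoImplicit false
open scoped Pointwise
open Cfsg

namespace Cfsg.Agent.S5611

open Cfsg.Agent.Lib.Helper26_Golay Cfsg.Agent.Lib.Helper93_M24Obj

theorem result (S : Finset (Finset Cfsg.GolayPt)) (hS : S ∈ Cfsg.sextets) : (∃ X₁ ∈ Cfsg.octads, ∃ X₂ ∈ Cfsg.octads, ∃ X₃ ∈ Cfsg.octads, (MulAction.orbit ↥(MulAction.stabilizer Cfsg.M24 S) X₁).ncard = 15 ∧ (MulAction.orbit ↥(MulAction.stabilizer Cfsg.M24 S) X₂).ncard = 360 ∧ (MulAction.orbit ↥(MulAction.stabilizer Cfsg.M24 S) X₃).ncard = 384 ∧ Cfsg.octads = MulAction.orbit ↥(MulAction.stabilizer Cfsg.M24 S) X₁ ∪ MulAction.orbit ↥(MulAction.stabilizer Cfsg.M24 S) X₂ ∪ MulAction.orbit ↥(MulAction.stabilizer Cfsg.M24 S) X₃) ∧ (∃ Y₁ ∈ Cfsg.trios, ∃ Y₂ ∈ Cfsg.trios, ∃ Y₃ ∈ Cfsg.trios, ∃ Y₄ ∈ Cfsg.trios, (MulAction.orbit ↥(MulAction.stabilizer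 Cfsg.M24 S) Y₁).ncard = 15 ∧ (MulAction.orbit ↥(MulAction.stabilizer Cfsg.M24 S) Y₂).ncard = 180 ∧ (MulAction.orbit ↥(MulAction.stabilizer Cfsg.M24 S) Y₃).ncard = 720 ∧ (MulAction.orbit ↥(MulAction.stabilizer Cfsg.M24 S) Y₄).ncard = 2880 ∧ Cfsg.trios = MulAction.orbit ↥(MulAction.stabilizer Cfsg.M24 S) Y₁ ∪ MulAction.orbit ↥(MulAction.stabilizer Cfsg.M24 S) Y₂ ∪ MulAction.orbit ↥(MulAction.stabilizer Cfsg.M24 S) Y₃ ∪ MulAction.orbit ↥(MulAction.stabilizer Cfsg.M24 S) Y₄) := by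
  have hR : ∃ g ∈ M24, g • ((objCoding 6).decode Cfsg.Agent.Lib.Helper93_S5611a.refCode) = S :=
    exists_smul_sext0_eq hS
  have hR' : ∃ g ∈ M24, g • ((objCoding 6).decode Cfsg.Agent.Lib.Helper93_S5611b.refCode) = S :=
    exists_smul_sext0_eq hS
  constructor
  · exact orbits3 invSP invSP_smul octads (fun g hg X hX => smul_mem_octads hg hX) octads_finite _
      Cfsg.Agent.Lib.Helper93_S5611a.classifies 1254 102 150 15 360 384
      (by decide)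
      (by rw [Cfsg.Agent.Lib.Helper93_S5611a.count, Cfsg.Agent.Lib.Helper93_S5611a.count_1254])
      (by rw [Cfsg.Agent.Lib.Helper93_S5611a.count, Cfsg.Agent.Lib.Helper93_S5611a.count_102])
      (by rw [Cfsg.Agent.Lib.Helper93_S5611a.count, Cfsg.Agent.Lib.Helper93_S5611a.count_150])
      (by decide) octads_ncard S hR
  · exact orbits4 inv inv_smul trios (fun g hg X hX => smul_mem_trios hg hX) trios_finite _
      Cfsg.Agent.Lib.Helper93_S5611b.classifies 3762 1458 306 402 15 180 720 2880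
      (by decide)
      (by rw [Cfsg.Agent.Lib.Helper93_S5611b.count, Cfsg.Agent.Lib.Helper93_S5611b.count_3762])
      (by rw [Cfsg.Agent.Lib.Helper93_S5611b.count, Cfsg.Agent.Lib.Helper93_S5611b.count_1458])
      (by rw [Cfsg.Agent.Lib.Helper93_S5611b.count, Cfsg.Agent.Lib.Helper93_S5611b.count_306])
      (by rw [Cfsg.Agent.Lib.Helper93_S5611b.count, Cfsg.Agent.Lib.Helper93_S5611b.count_402])
      (by decide) Cfsg.Agent.S1557.trios_ncard S hR'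

end Cfsg.Agent.S5611
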