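import Cfsg.Statements.S5612
import Cfsg.Agent.Lib.Helper93_S5612a
import Cfsg.Agent.Lib.Helper93_S5612b

set_option autoImplicit false
open scoped Pointwise
open Cfsg

namespace Cfsg.Agent.S5612

open Cfsg.Agent.Lib.Helper26_Golay Cfsg.Agent.Lib.Helper93_M24Obj

theorem result (T : Finset (Finset Cfsg.GolayPt)) (hT : T ∈ Cfsg.trios) : (∃ X₁ ∈ Cfsg.octads, ∃ X₂ ∈ Cfsg.octads, ∃ X₃ ∈ Cfsg.octads, (MulAction.orbit ↥(MulAction.stabilizer Cfsg.M24 T) X₁).ncard = 3 ∧ (MulAction.orbit ↥(MulAction.stabilizer Cfsg.M24 T) X₂).ncard = 84 ∧ (MulAction.orbit ↥(MulAction.stabilizer Cfsg.M24 T) X₃).ncard = 672 ∧ Cfsg.octads = MulAction.orbit ↥(MulAction.stabilizer Cfsg.M24 T) X₁ ∪ MulAction.orbit ↥(MulAction.stabilizer Cfsg.M24 T) X₂ ∪ MulAction.orbit ↥(MulAction.stabilizer Cfsg.M24 T) X₃) ∧ (∃ Y₁ ∈ Cfsg.sextets, ∃ Y₂ ∈ Cfsg.sextets, ∃ Y₃ ∈ Cfsg.sextets, ∃ Y₄ ∈ Cfsg.sextets, (MulAction.orbit ↥(MulAction.stabilizer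 Cfsg.M24 T) Y₁).ncard = 7 ∧ (MulAction.orbit ↥(MulAction.stabilizer Cfsg.M24 T) Y₂).ncard = 84 ∧ (MulAction.orbit ↥(MulAction.stabilizer Cfsg.M24 T) Y₃).ncard = 336 ∧ (MulAction.orbit ↥(MulAction.stabilizer Cfsg.M24 T) Y₄).ncard = 1344 ∧ Cfsg.sextets = MulAction.orbit ↥(MulAction.stabilizer Cfsg.M24 T) Y₁ ∪ MulAction.orbit ↥(MulAction.stabilizer Cfsg.M24 T) Y₂ ∪ MulAction.orbit ↥(MulAction.stabilizer Cfsg.M24 T) Y₃ ∪ MulAction.orbit ↥(MulAction.stabilizer Cfsg.M24 T) Y₄) := by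
  have hR : ∃ g ∈ M24, g • ((objCoding 3).decode Cfsg.Agent.Lib.Helper93_S5612a.refCode) = T :=
    exists_smul_trio0_eq hT
  have hR' : ∃ g ∈ M24, g • ((objCoding 3).decode Cfsg.Agent.Lib.Helper93_S5612b.refCode) = T :=
    exists_smul_trio0_eq hT
  constructor
  · exact orbits3 invSP invSP_smul octads (fun g hg X hX => smul_mem_octads hg hX) octads_finite _
      Cfsg.Agent.Lib.Helper93_S5612a.classifies 390627 1251 675 3 84 672
      (by decide)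
      (by rw [Cfsg.Agent.Lib.Helper93_S5612a.count, Cfsg.Agent.Lib.Helper93_S5612a.count_390627])
      (by rw [Cfsg.Agent.Lib.Helper93_S5612a.count, Cfsg.Agent.Lib.Helper93_S5612a.count_1251])
      (by rw [Cfsg.Agent.Lib.Helper93_S5612a.count, Cfsg.Agent.Lib.Helper93_S5612a.count_675])
      (by decide) octads_ncard T hR
  · exact orbits4 inv inv_smul sextets (fun g hg X hX => smul_mem_sextets hg hX) sextets_finite _
      Cfsg.Agent.Lib.Helper93_S5612b.classifies 3762 1458 306 402 7 84 336 1344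
      (by decide)
      (by rw [Cfsg.Agent.Lib.Helper93_S5612b.count, Cfsg.Agent.Lib.Helper93_S5612b.count_3762])
      (by rw [Cfsg.Agent.Lib.Helper93_S5612b.count, Cfsg.Agent.Lib.Helper93_S5612b.count_1458])
      (by rw [Cfsg.Agent.Lib.Helper93_S5612b.count, Cfsg.Agent.Lib.Helper93_S5612b.count_306])
      (by rw [Cfsg.Agent.Lib.Helper93_S5612b.count, Cfsg.Agent.Lib.Helper93_S5612b.count_402])
      (by decide) Cfsg.Agent.S1550.sextets_ncard T hR'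

end Cfsg.Agent.S5612
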