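import Cfsg.Statements.S5613
import Cfsg.Agent.Lib.Helper93_M24Pairs

set_option autoImplicit false
open scoped Pointwise
open Cfsg

namespace Cfsg.Agent.S5613

open Cfsg.Agent.Lib.Helper93_M24Pairs Cfsg.Agent.Lib.Helper26_Golay

theorem result (o o' : Finset Cfsg.GolayPt) (ho : o ∈ Cfsg.octads) (ho' : o' ∈ Cfsg.octads) : ((o ∩ o').card = 0 → Nat.card ↥(MulAction.stabilizer Cfsg.M24 o ⊓ MulAction.stabilizer Cfsg.M24 o') = 10752) ∧ ((o ∩ o').card = 4 → Nat.card ↥(MulAction.stabilizer Cfsg.M24 o ⊓ MulAction.stabilizer Cfsg.M24 o') = 1152) ∧ ((o ∩ o').card = 2 → Nat.card ↥(MulAction.stabilizer Cfsg.M24 o ⊓ MulAction.stabilizer Cfsg.M24 o') = 720) := by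
  have key := card_stab_pair ho ho'
  refine ⟨fun h => ?_, fun h => ?_, fun h => ?_⟩
  · rw [h] at key
    have h30 : octNum 0 = 30 := count_oct0_0
    rw [h30] at key
    omega
  · rw [h] at key
    have h280 : octNum 4 = 280 := count_oct0_4
    rw [h280] at key
    omega
  · rw [h] at key
    have h448 : octNum 2 = 448 := count_oct0_2
    rw [h448] at key
    omega

end Cfsg.Agent.S5613
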