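import Cfsg.Statements.S5614
import Cfsg.Agent.Lib.Helper93_S5614a

set_option autoImplicit false
open scoped Pointwise
open Cfsg

namespace Cfsg.Agent.S5614

open Cfsg.Agent.Lib.Helper26_Golay Cfsg.Agent.Lib.Helper93_M24Obj Cfsg.Agent.Lib.Helper93_M24Pairs
  Cfsg.Agent.Lib.Helper93_S5614a

/-- In the group of the length-24 code, the joint stabiliser of two octads meeting in exactly two points is isomorphic to the symmetric group of degree 6. -/
theorem result (o o' : Finset Cfsg.GolayPt) (ho : o ∈ Cfsg.octads) (ho' : o' ∈ Cfsg.octads) (h₂ : (o ∩ o').card = 2) : Nonempty (↥(MulAction.stabilizer Cfsg.M24 o ⊓ MulAction.stabilizer Cfsg.M24 o') ≃* Equiv.Perm (Fin 6)) := by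
  have hD : (o \ o').card = 6 := by
    have := Finset.card_sdiff_add_card_inter o o'
    rw [h₂, octads_card ho] at this
    omega
  have hstab : ∀ h ∈ MulAction.stabilizer M24 o ⊓ MulAction.stabilizer M24 o',
      ((h : ↥M24) : Equiv.Perm GolayPt) • o = o ∧ ((h : ↥M24) : Equiv.Perm GolayPt) • o' = o' := by
    intro h hh
    rw [Subgroup.mem_inf, MulAction.mem_stabilizer_iff, MulAction.mem_stabilizer_iff] at hh
    exact hh
  apply nonempty_mulEquiv_perm (o \ o') 6 hD
  · intro h hh p
    obtain ⟨h1, h2⟩ := hstab h hh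
    have key : ∀ (s : Finset GolayPt), ((h : ↥M24) : Equiv.Perm GolayPt) • s = s →
        (((h : ↥M24) : Equiv.Perm GolayPt) p ∈ s ↔ p ∈ s) := by
      intro s hs
      conv_lhs => rw [← hs]
      rw [← Equiv.Perm.smul_def, Finset.smul_mem_smul_finset_iff]
    rw [Finset.mem_sdiff, Finset.mem_sdiff, key o h1, key o' h2]
  · intro h hh hfix
    obtain ⟨-, h2⟩ := hstab h hh
    have := faithful ho ho' h₂ h.2 h2 hfix
    exact Subtype.ext this
  · have h := card_stab_pair ho ho'
    rw [h₂] at h
    have h448 : octNum 2 = 448 := count_oct0_2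
    rw [h448] at h
    have : Nat.factorial 6 = 720 := by decide
    rw [this]
    omega

end Cfsg.Agent.S5614
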