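import Cfsg.Statements.S5615
import Cfsg.Agent.Lib.Helper93_S5615d

set_option autoImplicit false
open scoped Pointwise
open Cfsg

namespace Cfsg.Agent.S5615

open Cfsg.Agent.Lib.Helper26_Golay Cfsg.Agent.Lib.Helper93_M24Obj
open Cfsg.Agent.Lib.Helper93_S5615c Cfsg.Agent.Lib.Helper93_S5615d

/-- An octad of the length-24 code lies in exactly 15 trios; the stabiliser of the octad in the code's group acts doubly transitively on these 15 trios, and the kernel of this action is the pointwise stabiliser of the octad. -/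
theorem result (o : Finset Cfsg.GolayPt) (ho : o ∈ Cfsg.octads) : {T : Finset (Finset Cfsg.GolayPt) | T ∈ Cfsg.trios ∧ o ∈ T}.ncard = 15 ∧ (∀ T₁ T₂ T₁' T₂' : Finset (Finset Cfsg.GolayPt), T₁ ∈ Cfsg.trios → T₂ ∈ Cfsg.trios → T₁' ∈ Cfsg.trios → T₂' ∈ Cfsg.trios → o ∈ T₁ → o ∈ T₂ → o ∈ T₁' → o ∈ T₂' → T₁ ≠ T₂ → T₁' ≠ T₂' → ∃ g ∈ Cfsg.M24, g • o = o ∧ g • T₁ = T₁' ∧ g • T₂ = T₂') ∧ ∀ g ∈ Cfsg.M24, g • o = o → ((∀ T ∈ Cfsg.trios, o ∈ T → g • T = T) ↔ ∀ p ∈ o, g p = p) := by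
  obtain ⟨g₁, hg₁, h₁⟩ := exists_smul_oct0_eq ho
  obtain ⟨g₂, hg₂, h₂⟩ := exists_smul_oct0_eq oct8_mem
  obtain ⟨k, hk, hko⟩ : ∃ k ∈ M24, k • oct8 = o :=
    ⟨g₁ * g₂⁻¹, M24.mul_mem hg₁ (M24.inv_mem hg₂), by rw [mul_smul, ← h₂, inv_smul_smul, h₁]⟩
  subst hko
  have hki : k⁻¹ ∈ M24 := M24.inv_mem hk
  have hmem : ∀ {T : Finset (Finset GolayPt)}, k • oct8 ∈ T → oct8 ∈ k⁻¹ • T := by
    intro T h
    rw [← Finset.smul_mem_smul_finset_iff k, smul_inv_smul]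
    exact h
  refine ⟨?_, ?_, ?_⟩
  · have : {T | T ∈ trios ∧ k • oct8 ∈ T} = (fun T => k • T) '' {T | T ∈ trios ∧ oct8 ∈ T} := by
      ext T
      constructor
      · rintro ⟨hT, h8⟩
        exact ⟨k⁻¹ • T, ⟨smul_mem_trios hki hT, hmem h8⟩, smul_inv_smul k T⟩
      · rintro ⟨T, ⟨hT, h8⟩, rfl⟩
        exact ⟨smul_mem_trios hk hT, Finset.smul_mem_smul_finset h8⟩
    rw [this, Set.ncard_image_of_injective _ (MulAction.injective k), count8]
  · intro T₁ T₂ T₁' T₂' h1 h2 h1' h2' o1 o2 o1' o2' hne hne'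
    obtain ⟨g, hg, hg8, e1, e2⟩ := two_trans8 (smul_mem_trios hki h1) (smul_mem_trios hki h2)
      (smul_mem_trios hki h1') (smul_mem_trios hki h2') (hmem o1) (hmem o2) (hmem o1') (hmem o2')
      (fun h => hne (smul_left_cancel _ h)) (fun h => hne' (smul_left_cancel _ h))
    refine ⟨k * g * k⁻¹, M24.mul_mem (M24.mul_mem hk hg) hki, ?_, ?_, ?_⟩
    · rw [mul_smul, mul_smul, inv_smul_smul, hg8]
    · rw [mul_smul, mul_smul, e1, smul_inv_smul]
    · rw [mul_smul, mul_smul, e2, smul_inv_smul]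
  · intro g hg hgo
    have hg' : k⁻¹ * g * k⁻¹⁻¹ ∈ M24 := M24.mul_mem (M24.mul_mem hki hg) (M24.inv_mem hki)
    have hg'8 : (k⁻¹ * g * k⁻¹⁻¹) • oct8 = oct8 := by
      rw [inv_inv, mul_smul, mul_smul, hgo, inv_smul_smul]
    have e : k * (k⁻¹ * g * k⁻¹⁻¹) * k⁻¹ = g := by group
    constructor
    · intro h p hp
      have h' : ∀ T ∈ trios, oct8 ∈ T → (k⁻¹ * g * k⁻¹⁻¹) • T = T := by
        intro T hT h8
        exact fixTrios_conj hki h T hT (by rw [inv_smul_smul]; exact h8)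
      have hfix := fixPts_of_fixTrios hg' hg'8 h'
      have := fixPts_conj (k := k) hfix p hp
      rwa [e] at this
    · intro h T hT h8
      have hfix : ∀ p ∈ oct8, (k⁻¹ * g * k⁻¹⁻¹) p = p := by
        have := fixPts_conj (k := k⁻¹) h
        rwa [inv_smul_smul] at this
      have h' := fixTrios_of_fixPts hg' hfix
      have := fixTrios_conj hk h' T hT h8
      rwa [e] at this

end Cfsg.Agent.S5615
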