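import Cfsg.Statements.S5616
import Cfsg.Agent.Lib.Helper93_S5616a

set_option autoImplicit false
open scoped Pointwise
open Cfsg

namespace Cfsg.Agent.S5616

open Cfsg.Agent.Lib.Helper26_Golay Cfsg.Agent.Lib.Helper93_M24Obj

theorem card_ref : (maskCoding.decode Cfsg.Agent.Lib.Helper93_S5616a.refCode).card = 3 := by
  show (dec _).card = 3
  rw [card_eq_pop, enc_dec _ Cfsg.Agent.Lib.Helper93_S5616a.refLt]
  decide

theorem result (Y : Finset Cfsg.GolayPt) (hY : Y.card = 3) : {S : Finset (Finset Cfsg.GolayPt) | S ∈ Cfsg.sextets ∧ (S.filter fun t => (t ∩ Y).Nonempty).card = 1}.ncard = 21 ∧ {S : Finset (Finset Cfsg.GolayPt) | S ∈ Cfsg.sextets ∧ (S.filter fun t => (t ∩ Y).Nonempty).card = 2}.ncard = 630 ∧ {S : Finset (Finset Cfsg.GolayPt) | S ∈ Cfsg.sextets ∧ (S.filter fun t => (t ∩ Y).Nonempty).card = 3}.ncard = 1120 ∧ ∀ S S' : Finset (Finset Cfsg.GolayPt), S ∈ Cfsg.sextets → S' ∈ Cfsg.sextets → (S.filter fun t => (t ∩ Y).Nonempty).card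 = (S'.filter fun t => (t ∩ Y).Nonempty).card → ∃ g ∈ Cfsg.M24, g • Y = Y ∧ g • S = S' := by
  obtain ⟨g, hg, rfl⟩ := exists_smul_finset_eq (k := 3) (by norm_num) card_ref hY
  have hFam : ∀ g ∈ M24, ∀ X ∈ sextets, g • X ∈ sextets := fun g hg X hX => smul_mem_sextets hg hX
  have hcnt : ∀ v, {S : Finset (Finset GolayPt) | S ∈ sextets ∧
      meetCount (g • maskCoding.decode Cfsg.Agent.Lib.Helper93_S5616a.refCode) S = v}.ncard =
      Lib.Helper26_Golay.sumFold (fun j => if (Cfsg.Agent.Lib.Helper93_S5616a.invC (sextAt j) == v) = true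
        then 1 else 0) 1771 := by
    intro v
    rw [ncard_class_smul meetCount_smul hFam _ hg v, Cfsg.Agent.Lib.Helper93_S5616a.count]
  refine ⟨?_, ?_, ?_, ?_⟩
  · exact (hcnt 1).trans Cfsg.Agent.Lib.Helper93_S5616a.count_1
  · exact (hcnt 2).trans Cfsg.Agent.Lib.Helper93_S5616a.count_2
  · exact (hcnt 3).trans Cfsg.Agent.Lib.Helper93_S5616a.count_3
  · intro S S' hS hS' h
    exact (Cfsg.Agent.Lib.Helper93_S5616a.classifies.smul meetCount_smul hFam hg) S hS S' hS' h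

end Cfsg.Agent.S5616
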