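import Cfsg.Statements.S5617
import Cfsg.Agent.Lib.Helper93_S5617a

set_option autoImplicit false
open scoped Pointwise
open Cfsg

namespace Cfsg.Agent.S5617

open Cfsg.Agent.Lib.Helper26_Golay Cfsg.Agent.Lib.Helper93_M24Obj

theorem mems_ref : mems 2 Cfsg.Agent.Lib.Helper93_S5617a.refCode = [8245261, 8531954] := by
  decide +kernel

theorem dodAt_zero : dodAt 0 = 8245261 := by decide +kernel

theorem enc_compl (s : Finset GolayPt) : enc (Finset.univ \ s) = enc s ^^^ (2 ^ 24 - 1) := by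
  have : Finset.univ \ s = symmDiff s Finset.univ := by
    ext p
    simp [Finset.mem_symmDiff]
  rw [this, enc_symmDiff, enc_univ]

theorem ref_eq : (objCoding 2).decode Cfsg.Agent.Lib.Helper93_S5617a.refCode =
    ({dod0, Finset.univ \ dod0} : Finset (Finset GolayPt)) := by
  show Cfsg.Agent.Lib.Helper93_M24Obj.setOf 2 _ = _
  unfold Cfsg.Agent.Lib.Helper93_M24Obj.setOf
  rw [mems_ref]
  have h1 : dec 8245261 = dod0 := by
    unfold dod0
    rw [dodAt_zero]
  have h2 : dec 8531954 = Finset.univ \ dod0 := by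
    apply enc_injective
    rw [enc_dec _ (by norm_num), enc_compl, enc_dod0, dodAt_zero]
    decide
  simp only [List.map_cons, List.map_nil, List.toFinset_cons, List.toFinset_nil, h1, h2]
  rfl

theorem result (d : Finset Cfsg.GolayPt) (hd : d ∈ Cfsg.dodecads) : ∃ X₁ ∈ Cfsg.sextets, ∃ X₂ ∈ Cfsg.sextets, ∃ X₃ ∈ Cfsg.sextets, (MulAction.orbit ↥(MulAction.stabilizer Cfsg.M24 ({d, Finset.univ \ d} : Finset (Finset Cfsg.GolayPt))) X₁).ncard = 396 ∧ (MulAction.orbit ↥(MulAction.stabilizer Cfsg.M24 ({d, Finset.univ \ d} : Finset (Finset Cfsg.GolayPt))) X₂).ncard = 495 ∧ (MulAction.orbit ↥(MulAction.stabilizer Cfsg.M24 ({d, Finset.univ \ d} : Finset (Finset Cfsg.GolayPt))) X₃).ncard = 880 ∧ Cfsg.sextets = MulAction.orbit ↥(MulAction.stabilizer Cfsg.M24 ({d, Finset.univ \ d} : Finset (Finset Cfsg.GolayPt))) X₁ ∪ MulAction.orbit ↥(MulAction.stabilizer Cfsg.M24 ({d, Finset.univ \ d} : Finset (Finset Cfsg.GolayPt))) X₂ ∪ MulAction.orbit ↥(MulAction.stabilizer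 Cfsg.M24 ({d, Finset.univ \ d} : Finset (Finset Cfsg.GolayPt))) X₃ := by
  have hR : ∃ g ∈ M24, g • ((objCoding 2).decode Cfsg.Agent.Lib.Helper93_S5617a.refCode) =
      ({d, Finset.univ \ d} : Finset (Finset GolayPt)) := by
    obtain ⟨g, hg, hgd⟩ := exists_smul_dod0_eq hd
    refine ⟨g, hg, ?_⟩
    rw [ref_eq, Finset.smul_finset_insert, Finset.smul_finset_singleton,
      Finset.smul_finset_sdiff, Finset.smul_finset_univ, hgd]
  exact orbits3 inv inv_smul sextets (fun g hg X hX => smul_mem_sextets hg hX) sextets_finite _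
    Cfsg.Agent.Lib.Helper93_S5617a.classifies 300 1452 780 396 495 880
    (by decide)
    (by rw [Cfsg.Agent.Lib.Helper93_S5617a.count, Cfsg.Agent.Lib.Helper93_S5617a.count_300])
    (by rw [Cfsg.Agent.Lib.Helper93_S5617a.count, Cfsg.Agent.Lib.Helper93_S5617a.count_1452])
    (by rw [Cfsg.Agent.Lib.Helper93_S5617a.count, Cfsg.Agent.Lib.Helper93_S5617a.count_780])
    (by decide) Cfsg.Agent.S1550.sextets_ncard _ hR

end Cfsg.Agent.S5617
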