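import Cfsg.Statements.S5618
import Cfsg.Agent.S0384
import Cfsg.Agent.Lib.Helper93_M24Sym

set_option autoImplicit false
open scoped Pointwise
open Cfsg

namespace Cfsg.Agent.S5618

open Cfsg.Agent.Lib.Helper26_Golay Cfsg.Agent.Lib.Helper93_M24Obj

theorem apply_mem_iff_of_smul_eq {σ : Equiv.Perm GolayPt} {s : Finset GolayPt} (hs : σ • s = s)
    (p : GolayPt) : σ p ∈ s ↔ p ∈ s := by
  conv_lhs => rw [← hs]
  rw [← Equiv.Perm.smul_def, Finset.smul_mem_smul_finset_iff]

/-- An injective family of five points in a set with at least five points. -/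
theorem exists_emb5 (A : Finset GolayPt) (hA : 5 ≤ A.card) :
    ∃ x : Fin 5 ↪ GolayPt, ∀ i, x i ∈ A := by
  obtain ⟨B, hBA, hB⟩ := Finset.exists_subset_card_eq hA
  let e : Fin 5 ≃ {p // p ∈ B} := (Fintype.equivFinOfCardEq (by rw [Fintype.card_coe, hB])).symm
  refine ⟨e.toEmbedding.trans (Function.Embedding.subtype _), ?_⟩
  intro i
  exact hBA (e i).2

/-- An element of the stabiliser of a dodecad fixing five of its points is trivial. -/
theorem eq_one_of_fix5 {d : Finset GolayPt} (hd : d ∈ dodecads) (g : ↥M24)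
    (hg : g ∈ MulAction.stabilizer M24 d) (A : Finset GolayPt) (hAd : A ⊆ d) (hA : 5 ≤ A.card)
    (hfix : ∀ p ∈ A, ((g : ↥M24) : Equiv.Perm GolayPt) p = p) : g = 1 := by
  obtain ⟨x, hx⟩ := exists_emb5 A hA
  obtain ⟨u, -, huniq⟩ := Cfsg.Agent.S0384.result d hd x x (fun i => hAd (hx i))
    (fun i => hAd (hx i))
  have h1 := huniq ⟨g, hg⟩ (fun i => hfix _ (hx i))
  have h2 := huniq 1 (fun i => rfl)
  have := h1.trans h2.symm
  exact congrArg Subtype.val this

/-- For a dodecad d of the length-24 code and a hexad C on it (a 6-point intersection of d with an octad): the joint stabiliser of d and C in the code's group is isomorphic to the symmetric group of degree 6, and it acts faithfully both on the six points of C and on the six points of d outside C. -/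
theorem result (d : Finset Cfsg.GolayPt) (hd : d ∈ Cfsg.dodecads) (C : Finset Cfsg.GolayPt) (hC : C ∈ Cfsg.hexadsOn d) : Nonempty (↥(MulAction.stabilizer Cfsg.M24 d ⊓ MulAction.stabilizer Cfsg.M24 C) ≃* Equiv.Perm (Fin 6)) ∧ (∀ g ∈ MulAction.stabilizer Cfsg.M24 d ⊓ MulAction.stabilizer Cfsg.M24 C, (∀ p ∈ C, ((g : ↥Cfsg.M24) : Equiv.Perm Cfsg.GolayPt) p = p) → g = 1) ∧ ∀ g ∈ MulAction.stabilizer Cfsg.M24 d ⊓ MulAction.stabilizer Cfsg.M24 C, (∀ p ∈ d \ C, ((g : ↥Cfsg.M24) : Equiv.Perm Cfsg.GolayPt) p = p) → g = 1 := by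
  obtain ⟨hC6, o, ho, hoC⟩ := hC
  have hCd : C ⊆ d := by rw [← hoC]; exact Finset.inter_subset_right
  have hCo : C ⊆ o := by rw [← hoC]; exact Finset.inter_subset_left
  have hd12 : d.card = 12 := hd.2
  have hdC : (d \ C).card = 6 := by
    rw [Finset.card_sdiff_of_subset hCd, hd12, hC6]
  have hfaithC : ∀ g ∈ MulAction.stabilizer M24 d ⊓ MulAction.stabilizer M24 C,
      (∀ p ∈ C, ((g : ↥M24) : Equiv.Perm GolayPt) p = p) → g = 1 := by
    intro g hg hfix
    exact eq_one_of_fix5 hd g (Subgroup.mem_inf.mp hg).1 C hCd (by rw [hC6]; norm_num) hfix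
  refine ⟨?_, hfaithC, ?_⟩
  · apply nonempty_mulEquiv_perm C 6 hC6
    · intro h hh p
      have hs : ((h : ↥M24) : Equiv.Perm GolayPt) • C = C :=
        MulAction.mem_stabilizer_iff.mp (Subgroup.mem_inf.mp hh).2
      exact apply_mem_iff_of_smul_eq hs p
    · exact hfaithC
    · -- the order, by sharp 5-transitivity
      obtain ⟨x₀, hx₀⟩ := exists_emb5 C (by rw [hC6]; norm_num)
      have hmemC : ∀ (g : ↥(MulAction.stabilizer M24 d ⊓ MulAction.stabilizer M24 C)) (p : GolayPt),
          p ∈ C → (((g : ↥M24) : Equiv.Perm GolayPt) p) ∈ C := by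
        intro g p hp
        have hs : (((g : ↥M24) : Equiv.Perm GolayPt)) • C = C :=
          MulAction.mem_stabilizer_iff.mp (Subgroup.mem_inf.mp g.2).2
        exact (apply_mem_iff_of_smul_eq hs p).mpr hp
      let f : ↥(MulAction.stabilizer M24 d ⊓ MulAction.stabilizer M24 C) →
          (Fin 5 ↪ {p // p ∈ C}) := fun g =>
        ⟨fun i => ⟨((g : ↥M24) : Equiv.Perm GolayPt) (x₀ i), hmemC g _ (hx₀ i)⟩, by
          intro i j hij
          have := congrArg Subtype.val hij
          exact x₀.injective (((g : ↥M24) : Equiv.Perm GolayPt).injective this)⟩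
      have hinj : Function.Injective f := by
        intro g g' hgg'
        have hval : ∀ i, ((g : ↥M24) : Equiv.Perm GolayPt) (x₀ i) =
            ((g' : ↥M24) : Equiv.Perm GolayPt) (x₀ i) := by
          intro i
          have := congrArg (fun e : Fin 5 ↪ {p // p ∈ C} => (e i).1) hgg'
          exact this
        let y : Fin 5 ↪ GolayPt := x₀.trans ((g : ↥M24) : Equiv.Perm GolayPt).toEmbedding
        obtain ⟨u, -, huniq⟩ := Cfsg.Agent.S0384.result d hd x₀ y (fun i => hCd (hx₀ i))
          (fun i => hCd (hmemC g _ (hx₀ i)))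
        have h1 := huniq ⟨g.1, (Subgroup.mem_inf.mp g.2).1⟩ (fun i => rfl)
        have h2 := huniq ⟨g'.1, (Subgroup.mem_inf.mp g'.2).1⟩ (fun i => (hval i).symm)
        have := congrArg Subtype.val (h1.trans h2.symm)
        exact Subtype.ext this
      have hsurj : Function.Surjective f := by
        intro y
        let y' : Fin 5 ↪ GolayPt := y.trans (Function.Embedding.subtype _)
        have hy' : ∀ i, y' i ∈ C := fun i => (y i).2
        obtain ⟨u, hu, -⟩ := Cfsg.Agent.S0384.result d hd x₀ y' (fun i => hCd (hx₀ i))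
          (fun i => hCd (hy' i))
        have hud : ((u : ↥M24) : Equiv.Perm GolayPt) • d = d := MulAction.mem_stabilizer_iff.mp u.2
        have huo : ((u : ↥M24) : Equiv.Perm GolayPt) • o = o := by
          apply octad_eq_of_five_le (smul_mem_octads (u : ↥M24).2 ho) ho
          have hsub : Finset.univ.map y' ⊆ ((u : ↥M24) : Equiv.Perm GolayPt) • o ∩ o := by
            intro p hp
            rw [Finset.mem_map] at hp
            obtain ⟨i, -, rfl⟩ := hp
            rw [Finset.mem_inter]
            refine ⟨?_, hCo (hy' i)⟩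
            rw [← hu i, ← Equiv.Perm.smul_def, Finset.smul_mem_smul_finset_iff]
            exact hCo (hx₀ i)
          have := Finset.card_le_card hsub
          rw [Finset.card_map, Finset.card_univ, Fintype.card_fin] at this
          exact this
        have huC : ((u : ↥M24) : Equiv.Perm GolayPt) • C = C := by
          rw [← hoC, Finset.smul_finset_inter, huo, hud]
        refine ⟨⟨u.1, Subgroup.mem_inf.mpr ⟨u.2, MulAction.mem_stabilizer_iff.mpr huC⟩⟩, ?_⟩
        apply Function.Embedding.ext
        intro i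
        apply Subtype.ext
        exact hu i
      have hcard := Nat.card_congr (Equiv.ofBijective f ⟨hinj, hsurj⟩)
      rw [hcard, Nat.card_eq_fintype_card, Fintype.card_embedding_eq, Fintype.card_fin,
        Fintype.card_coe, hC6]
      decide
  · intro g hg hfix
    exact eq_one_of_fix5 hd g (Subgroup.mem_inf.mp hg).1 (d \ C) Finset.sdiff_subset
      (by rw [hdC]; norm_num) hfix

end Cfsg.Agent.S5618
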