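import Cfsg.Statements.S5625
import Cfsg.Agent.Lib.Helper6_Steiner

set_option autoImplicit false
open Cfsg

namespace Cfsg.Agent.S5625

open Cfsg.Agent.Lib.Helper6_Steiner
open scoped Classical

theorem sum_choose_inter_set {α : Type*} [Fintype α] [DecidableEq α] {t k : ℕ} {B : Set (Finset α)}
    (Y : Finset α) (j lam : ℕ)
    (hlam : ∀ J : Finset α, J ⊆ Y → J.card = j → (blocksThrough B J).card = lam) :
    ∑ c ∈ blocks B, Nat.choose (c ∩ Y).card j = Nat.choose Y.card j * lam := by
  have h1 : ∀ c ∈ blocks B, Nat.choose (c ∩ Y).card j =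
      ∑ J ∈ Finset.powersetCard j Y, if J ⊆ c then 1 else 0 := by
    intro c _
    rw [Finset.sum_boole, ← Finset.card_powersetCard]
    simp only [Nat.cast_id]
    congr 1
    ext J
    simp only [Finset.mem_powersetCard, Finset.mem_filter, Finset.subset_inter_iff]
    tauto
  rw [Finset.sum_congr rfl h1, Finset.sum_comm]
  have h2 : ∀ J ∈ Finset.powersetCard j Y,
      (∑ c ∈ blocks B, if J ⊆ c then 1 else 0) = lam := by
    intro J hJ
    rw [Finset.mem_powersetCard] at hJ
    rw [Finset.sum_boole]
    simp only [Nat.cast_id]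
    have h3 : (blocks B).filter (fun c => J ⊆ c) = blocksThrough B J := rfl
    rw [h3, hlam J hJ.1 hJ.2]
  rw [Finset.sum_congr rfl h2, Finset.sum_const, smul_eq_mul, Finset.card_powersetCard]


/-- In any Steiner system S(5, 8, 24) and for any set Y of three points, the blocks meeting Y in exactly 3, 2, 1 and 0 points number 21, 168, 360 and 210 respectively (so there are 759 blocks in all). -/
theorem result (α : Type*) [Fintype α] [DecidableEq α] (hα : Fintype.card α = 24) (B : Set (Finset α)) (hB : Cfsg.IsSteinerSystem 5 8 B) (Y : Finset α) (hY : Y.card = 3) : {b : Finset α | b ∈ B ∧ (b ∩ Y).card = 3}.ncard = 21 ∧ {b : Finset α | b ∈ B ∧ (b ∩ Y).card = 2}.ncard = 168 ∧ {b : Finset α | b ∈ B ∧ (b ∩ Y).card = 1}.ncard = 360 ∧ {b : Finset α | b ∈ B ∧ (b ∩ Y).card = 0}.ncard = 210 := by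
  -- the numbers lambda_j
  have lam : ∀ j lamj : ℕ, j ≤ 5 → lamj * Nat.choose (8 - j) (5 - j) = Nat.choose (24 - j) (5 - j) →
      0 < Nat.choose (8 - j) (5 - j) →
      ∀ J : Finset α, J ⊆ Y → J.card = j → (blocksThrough B J).card = lamj := by
    intro j lamj hj h1 h2 J _ hJ
    exact card_blocksThrough_eq hB hj (by rw [hα]; exact h1) h2 J hJ
  have e0 := sum_choose_inter_set (t := 5) (k := 8) (B := B) Y 0 759 (lam 0 759 (by norm_num) (by decide) (by decide))
  have e1 := sum_choose_inter_set (t := 5) (k := 8) (B := B) Y 1 253 (lam 1 253 (by norm_num) (by decide) (by decide))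
  have e2 := sum_choose_inter_set (t := 5) (k := 8) (B := B) Y 2 77 (lam 2 77 (by norm_num) (by decide) (by decide))
  have e3 := sum_choose_inter_set (t := 5) (k := 8) (B := B) Y 3 21 (lam 3 21 (by norm_num) (by decide) (by decide))
  rw [hY] at e0 e1 e2 e3
  -- split by the value of the intersection
  set n : ℕ → ℕ := fun i => ((blocks B).filter (fun b => (b ∩ Y).card = i)).card with hn
  have hle : ∀ c : Finset α, (c ∩ Y).card ≤ 3 := fun c =>
    (Finset.card_le_card Finset.inter_subset_right).trans hY.le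
  have split : ∀ j : ℕ, ∑ c ∈ blocks B, Nat.choose (c ∩ Y).card j =
      Nat.choose 0 j * n 0 + Nat.choose 1 j * n 1 + Nat.choose 2 j * n 2 + Nat.choose 3 j * n 3 := by
    intro j
    have h1 : ∀ c ∈ blocks B, Nat.choose (c ∩ Y).card j =
        ∑ i ∈ Finset.range 4, if (c ∩ Y).card = i then Nat.choose i j else 0 := by
      intro c _
      rw [Finset.sum_ite_eq]
      have : (c ∩ Y).card ∈ Finset.range 4 := Finset.mem_range.2 (Nat.lt_succ_of_le (hle c))
      rw [if_pos this]
    rw [Finset.sum_congr rfl h1, Finset.sum_comm]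
    have h2 : ∀ i : ℕ, (∑ c ∈ blocks B, if (c ∩ Y).card = i then Nat.choose i j else 0) =
        Nat.choose i j * n i := by
      intro i
      rw [← Finset.sum_filter, Finset.sum_const, smul_eq_mul, mul_comm]
    simp only [h2]
    simp [Finset.sum_range_succ]
  rw [split 0] at e0
  rw [split 1] at e1
  rw [split 2] at e2
  rw [split 3] at e3
  norm_num [Nat.choose] at e0 e1 e2 e3
  have hset : ∀ i : ℕ, {b : Finset α | b ∈ B ∧ (b ∩ Y).card = i}.ncard = n i := by
    intro i
    have : {b : Finset α | b ∈ B ∧ (b ∩ Y).card = i} =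
        (((blocks B).filter (fun b => (b ∩ Y).card = i) : Finset (Finset α)) : Set (Finset α)) := by
      ext b
      simp [mem_blocks]
    rw [this, Set.ncard_coe_finset]
  rw [hset 3, hset 2, hset 1, hset 0]
  omega

end Cfsg.Agent.S5625
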