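import Cfsg.Statements.S5626
import Mathlib
import Cfsg.Agent.Lib.Helper41_Plane4b
import Cfsg.Agent.Lib.Helper41_Plane4e
import Cfsg.Agent.Lib.Helper41_Plane4g
import Cfsg.Agent.Lib.Helper41_Plane4i

set_option autoImplicit false
open Cfsg

namespace Cfsg.Agent.S5626

/-- Uniqueness of the projective plane of order 4: any two Steiner systems S(2, 5, 21) (21 points, lines of 5 points, two points on exactly one line) are isomorphic. -/
theorem result {α β : Type*} [Fintype α] [DecidableEq α] [Fintype β] [DecidableEq β] (hα : Fintype.card α = 21) (hβ : Fintype.card β = 21) {L : Set (Finset α)} {L' : Set (Finset β)} (hL : Cfsg.IsSteinerSystem 2 5 L) (hL' : Cfsg.IsSteinerSystem 2 5 L') : Cfsg.SetSystemIso L L' := by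
  classical
  have h1 := Cfsg.Agent.Lib.Helper41_Plane4e.card_arcs_six hα hL
  have h2 := Cfsg.Agent.Lib.Helper41_Plane4e.card_arcs_six hβ hL'
  obtain ⟨H, hHm⟩ : (Cfsg.Agent.Lib.Helper41_Plane4e.arcs L 6).Nonempty := by
    rw [← Finset.card_pos, h1]
    norm_num
  obtain ⟨H', hHm'⟩ : (Cfsg.Agent.Lib.Helper41_Plane4e.arcs L' 6).Nonempty := by
    rw [← Finset.card_pos, h2]
    norm_num
  rw [Cfsg.Agent.Lib.Helper41_Plane4e.mem_arcs] at hHm hHm'
  obtain ⟨b₀, hb₀⟩ : H'.Nonempty := by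
    rw [← Finset.card_pos, hHm'.1]
    norm_num
  let eqv : ↥H ≃ ↥H' := Finset.equivOfCardEq (hHm.1.trans hHm'.1.symm)
  let σ : α → β := fun x => if h : x ∈ H then ((eqv ⟨x, h⟩ : ↥H') : β) else b₀
  have hσ : ∀ (x : α) (h : x ∈ H), σ x = ((eqv ⟨x, h⟩ : ↥H') : β) := fun x h => dif_pos h
  have S : Cfsg.Agent.Lib.Helper41_Plane4g.Setup L L' H H' σ :=
    { hα := hα, hL := hL, h6 := hHm.1, hH := hHm.2, hβ := hβ, hL' := hL', h6' := hHm'.1,
      hH' := hHm'.2,
      maps := by
        intro a ha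
        rw [hσ a ha]
        exact (eqv ⟨a, ha⟩).2
      inj := by
        intro a ha b hb hab
        rw [hσ a ha, hσ b hb] at hab
        have := eqv.injective (Subtype.ext hab)
        exact congrArg Subtype.val this }
  obtain ⟨e, -, he⟩ := Cfsg.Agent.Lib.Helper41_Plane4i.exists_iso S
  exact ⟨e, he⟩

end Cfsg.Agent.S5626
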