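import Cfsg.Statements.S5628
import Mathlib
import Cfsg.Agent.Lib.Helper41_Plane4b
import Cfsg.Agent.Lib.Helper41_Plane4g
import Cfsg.Agent.Lib.Helper41_Plane4i

set_option autoImplicit false
open Cfsg

namespace Cfsg.Agent.S5628

open scoped Pointwise

theorem mem_setSystemAut_iff {α : Type*} [DecidableEq α] (L : Set (Finset α)) (g : Equiv.Perm α) :
    g ∈ Cfsg.setSystemAut L ↔ (fun b : Finset α => b.image g) '' L = L := by
  rw [Cfsg.setSystemAut, MulAction.mem_stabilizer_iff]
  have : g • L = (fun b : Finset α => b.image g) '' L := by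
    rw [← Set.image_smul]
    rfl
  rw [this]

/-- In a projective plane of order 4 (a Steiner system S(2, 5, 21)), every permutation of the six points of a hyperoval (a 6-set met by no line in more than two points) is the restriction of exactly one automorphism of the plane. In particular the stabiliser of a hyperoval in the automorphism group is isomorphic to the symmetric group of degree 6 acting faithfully on the hyperoval. -/
theorem result {α : Type*} [Fintype α] [DecidableEq α] (hα : Fintype.card α = 21) (L : Set (Finset α)) (hL : Cfsg.IsSteinerSystem 2 5 L) (H : Finset α) (hH : (H.card = 6 ∧ ∀ l ∈ L, (l ∩ H).card ≤ 2)) (σ : Equiv.Perm ↥H) : ∃! g : Equiv.Perm α, g ∈ Cfsg.setSystemAut L ∧ ∀ p : ↥H, g p = σ p := by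
  classical
  let σ₀ : α → α := fun x => if h : x ∈ H then ((σ ⟨x, h⟩ : ↥H) : α) else x
  have hσ : ∀ (x : α) (h : x ∈ H), σ₀ x = ((σ ⟨x, h⟩ : ↥H) : α) := fun x h => dif_pos h
  have S : Cfsg.Agent.Lib.Helper41_Plane4g.Setup L L H H σ₀ :=
    { hα := hα, hL := hL, h6 := hH.1, hH := hH.2, hβ := hα, hL' := hL, h6' := hH.1,
      hH' := hH.2,
      maps := by
        intro a ha
        rw [hσ a ha]
        exact (σ ⟨a, ha⟩).2
      inj := by
        intro a ha b hb hab
        rw [hσ a ha, hσ b hb] at hab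
        have := σ.injective (Subtype.ext hab)
        exact congrArg Subtype.val this }
  obtain ⟨e, he1, he2⟩ := Cfsg.Agent.Lib.Helper41_Plane4i.exists_iso S
  have hemem : e ∈ Cfsg.setSystemAut L := (mem_setSystemAut_iff L e).mpr he2
  refine ⟨e, ⟨hemem, ?_⟩, ?_⟩
  · intro p
    rw [he1 p.1 p.2, hσ p.1 p.2]
  · rintro g ⟨hg1, hg2⟩
    have hmem : e⁻¹ * g ∈ Cfsg.setSystemAut L :=
      (Cfsg.setSystemAut L).mul_mem ((Cfsg.setSystemAut L).inv_mem hemem) hg1
    have hfix : ∀ a ∈ H, (e⁻¹ * g) a = a := by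
      intro a ha
      rw [Equiv.Perm.mul_apply, Equiv.Perm.inv_eq_iff_eq]
      have h1 := hg2 ⟨a, ha⟩
      have h2 := he1 a ha
      rw [hσ a ha] at h2
      rw [h2]
      exact h1
    have h1 := Cfsg.Agent.Lib.Helper41_Plane4i.eq_one_of_fix hα hL hH.1 hH.2 (e⁻¹ * g)
      ((mem_setSystemAut_iff L _).mp hmem) hfix
    have : g = e * (e⁻¹ * g) := by group
    rw [this, h1, mul_one]

end Cfsg.Agent.S5628
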