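import Cfsg.Statements.S5632
import Mathlib

set_option autoImplicit false
open Cfsg

namespace Cfsg.Agent.S5632

open Matrix

variable {F : Type*} [Field F] {n : ℕ}

/-- existence of a transvection fixing `P` pointwise and moving `a` to `a + v` -/
theorem exists_transvection (P : Submodule F (Fin n → F)) (a v : Fin n → F)
    (ha : a ∉ P ⊔ Submodule.span F {v}) :
    ∃ g : Matrix.GeneralLinearGroup (Fin n) F, g ∈ Cfsg.Geo.specialLinear (Fin n) F ∧
      (∀ x ∈ P, (g : Matrix (Fin n) (Fin n) F) *ᵥ x = x) ∧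
      (g : Matrix (Fin n) (Fin n) F) *ᵥ a = a + v ∧
      (∀ x ∈ P, ((g⁻¹ : Matrix.GeneralLinearGroup (Fin n) F) : Matrix (Fin n) (Fin n) F) *ᵥ x = x) := by
  classical
  obtain ⟨φ, hφa, hφ⟩ := Submodule.exists_dual_map_eq_bot_of_notMem ha inferInstance
  have hφ0 : ∀ x ∈ P ⊔ Submodule.span F {v}, φ x = 0 := by
    intro x hx
    have : φ x ∈ (P ⊔ Submodule.span F {v}).map φ := Submodule.mem_map_of_mem hx
    rw [hφ, Submodule.mem_bot] at this
    exact this
  set ψ : (Fin n → F) →ₗ[F] F := (φ a)⁻¹ • φ with hψ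
  have hψa : ψ a = 1 := by
    simp [hψ, inv_mul_cancel₀ hφa]
  have hψ0 : ∀ x ∈ P ⊔ Submodule.span F {v}, ψ x = 0 := by
    intro x hx
    simp [hψ, hφ0 x hx]
  set c : Fin n → F := fun i => ψ (fun j => if i = j then 1 else 0) with hc
  have hcψ : ∀ x : Fin n → F, c ⬝ᵥ x = ψ x := by
    intro x
    rw [LinearMap.pi_apply_eq_sum_univ ψ x]
    simp only [dotProduct, hc, smul_eq_mul]
    apply Finset.sum_congr rfl
    intro i _
    ring
  set A : Matrix (Fin n) (Fin n) F := 1 + replicateCol Unit v * replicateRow Unit c with hA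
  have hAx : ∀ x : Fin n → F, A *ᵥ x = x + (ψ x) • v := by
    intro x
    rw [hA, Matrix.add_mulVec, Matrix.one_mulVec, ← Matrix.mulVec_mulVec]
    congr 1
    funext i
    simp only [Matrix.mulVec, dotProduct, replicateCol_apply, replicateRow_apply,
      Finset.univ_unique, Finset.sum_singleton, Pi.smul_apply, smul_eq_mul]
    rw [← hcψ x]
    simp only [dotProduct]
    ring
  have hv : ψ v = 0 := hψ0 v (Submodule.mem_sup_right (Submodule.mem_span_singleton_self v))
  have hdet : A.det = 1 := by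
    rw [hA, det_one_add_replicateCol_mul_replicateRow, hcψ, hv, add_zero]
  set g : Matrix.GeneralLinearGroup (Fin n) F :=
    Matrix.GeneralLinearGroup.mkOfDetNeZero A (by rw [hdet]; exact one_ne_zero) with hg
  have hgA : (g : Matrix (Fin n) (Fin n) F) = A := rfl
  have hfix : ∀ x ∈ P, (g : Matrix (Fin n) (Fin n) F) *ᵥ x = x := by
    intro x hx
    rw [hgA, hAx, hψ0 x (Submodule.mem_sup_left hx), zero_smul, add_zero]
  refine ⟨g, ?_, hfix, ?_, ?_⟩
  · change g ∈ (Matrix.GeneralLinearGroup.det : _ →* Fˣ).ker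
    rw [MonoidHom.mem_ker]
    apply Units.ext
    rw [Matrix.GeneralLinearGroup.val_det_apply, hgA, hdet]
    rfl
  · rw [hgA, hAx, hψa, one_smul]
  · intro x hx
    have h1 := hfix x hx
    have h2 : ((g⁻¹ * g : Matrix.GeneralLinearGroup (Fin n) F) : Matrix (Fin n) (Fin n) F) *ᵥ x = x := by
      rw [inv_mul_cancel]; simp
    rw [Matrix.GeneralLinearGroup.coe_mul, ← Matrix.mulVec_mulVec, h1] at h2
    exact h2

/-- For a finite field F and subspaces 0 < W < U of F^n with dim W + dim U = n, the elements of SL_n(F) stabilising both W and U form a subgroup that is not maximal in SL_n(F): some subgroup lies strictly between it and SL_n(F). -/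
theorem result {F : Type*} [Field F] [Fintype F] (n : ℕ) (W U : Submodule F (Fin n → F)) (hW0 : W ≠ ⊥) (hWU : W < U) (hdim : Module.finrank F W + Module.finrank F U = n) : ∃ K : Subgroup (Matrix.GeneralLinearGroup (Fin n) F), Cfsg.Geo.subspaceStabilizer W ⊓ Cfsg.Geo.subspaceStabilizer U ⊓ Cfsg.Geo.specialLinear (Fin n) F < K ∧ K < Cfsg.Geo.specialLinear (Fin n) F := by
  classical
  -- U is proper
  have hWpos : 0 < Module.finrank F W := by
    rw [Module.finrank_pos_iff]
    exact (Submodule.nontrivial_iff_ne_bot).2 hW0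
  have hUtop : U ≠ ⊤ := by
    intro h
    rw [h, finrank_top, Module.finrank_fin_fun] at hdim
    omega
  obtain ⟨u, huU, huW⟩ := Set.exists_of_ssubset hWU
  obtain ⟨v, hvU⟩ : ∃ v, v ∉ U := by
    by_contra h
    push Not at h
    exact hUtop (eq_top_iff.2 (fun x _ => h x))
  obtain ⟨w, hwW, hw0⟩ := (Submodule.ne_bot_iff W).1 hW0
  have hvW : v ∉ W := fun h => hvU (hWU.le h)
  refine ⟨Cfsg.Geo.subspaceStabilizer W ⊓ Cfsg.Geo.specialLinear (Fin n) F, ?_, ?_⟩
  · -- first strict inclusion
    rw [lt_iff_le_and_ne]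
    refine ⟨fun g hg => ⟨hg.1.1, hg.2⟩, ?_⟩
    intro heq
    have hu : u ∉ W ⊔ Submodule.span F {v} := by
      intro h
      obtain ⟨y, hy, z, hz, hyz⟩ := Submodule.mem_sup.1 h
      obtain ⟨k, rfl⟩ := Submodule.mem_span_singleton.1 hz
      by_cases hk : k = 0
      · rw [hk, zero_smul, add_zero] at hyz
        exact huW (hyz ▸ hy)
      · apply hvU
        have : k • v ∈ U := by
          have : k • v = u - y := by rw [← hyz]; abel
          rw [this]
          exact U.sub_mem huU (hWU.le hy)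
        have h2 := U.smul_mem k⁻¹ this
        rwa [smul_smul, inv_mul_cancel₀ hk, one_smul] at h2
    obtain ⟨g, hgSL, hgfix, hga, hginv⟩ := exists_transvection W u v hu
    have hgW : g ∈ Cfsg.Geo.subspaceStabilizer W := by
      intro x
      constructor
      · intro hx
        change (g : Matrix (Fin n) (Fin n) F) *ᵥ x ∈ W
        rw [hgfix x hx]; exact hx
      · intro hx
        have hx' : (g : Matrix (Fin n) (Fin n) F) *ᵥ x ∈ W := hx
        have h1 := hginv _ hx'
        rw [Matrix.mulVec_mulVec, ← Matrix.GeneralLinearGroup.coe_mul, inv_mul_cancel] at h1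
        simp only [Matrix.GeneralLinearGroup.coe_one, Matrix.one_mulVec] at h1
        rw [h1]; exact hx'
    have hmem : g ∈ Cfsg.Geo.subspaceStabilizer W ⊓ Cfsg.Geo.specialLinear (Fin n) F :=
      ⟨hgW, hgSL⟩
    rw [← heq] at hmem
    have hgU : g ∈ Cfsg.Geo.subspaceStabilizer U := hmem.1.2
    have := (hgU u).1 huU
    have h3 : (g : Matrix (Fin n) (Fin n) F) *ᵥ u ∈ U := this
    rw [hga] at h3
    exact hvU ((U.add_mem_iff_right huU).1 h3)
  · rw [lt_iff_le_and_ne]
    refine ⟨inf_le_right, ?_⟩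
    intro heq
    have hw : w ∉ (⊥ : Submodule F (Fin n → F)) ⊔ Submodule.span F {v} := by
      rw [bot_sup_eq]
      intro h
      obtain ⟨k, rfl⟩ := Submodule.mem_span_singleton.1 h
      have hk : k ≠ 0 := by
        rintro rfl
        exact hw0 (zero_smul _ _)
      apply hvW
      have h2 := W.smul_mem k⁻¹ hwW
      rwa [smul_smul, inv_mul_cancel₀ hk, one_smul] at h2
    obtain ⟨g, hgSL, _, hga, _⟩ := exists_transvection ⊥ w v hw
    rw [← heq] at hgSL
    have hgW : g ∈ Cfsg.Geo.subspaceStabilizer W := hgSL.1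
    have h3 : (g : Matrix (Fin n) (Fin n) F) *ᵥ w ∈ W := (hgW w).1 hwW
    rw [hga] at h3
    exact hvW ((W.add_mem_iff_right hwW).1 h3)

end Cfsg.Agent.S5632
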