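import Cfsg.Statements.S5633

set_option autoImplicit false
open Cfsg

namespace Cfsg.Agent.S5633

open Matrix

variable {F : Type*} [Field F]

/-- A transvection `v ↦ v + φ(v) a` with `φ(a) = 0`, as an element of `SL_n(F) ≤ GL_n(F)`. -/
theorem exists_transvection {n : ℕ} (a : Fin n → F) (φ : Module.Dual F (Fin n → F))
    (h : φ a = 0) : ∃ g : Matrix.GeneralLinearGroup (Fin n) F,
      g ∈ Cfsg.Geo.specialLinear (Fin n) F ∧
      ∀ v : Fin n → F, (g : Matrix (Fin n) (Fin n) F) *ᵥ v = v + φ v • a := by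
  set r : Fin n → F := fun i => φ (Pi.single i 1) with hr
  have hφ : ∀ v : Fin n → F, φ v = r ⬝ᵥ v := by
    intro v
    rw [LinearMap.pi_apply_eq_sum_univ φ v]
    simp only [dotProduct, hr, smul_eq_mul]
    apply Finset.sum_congr rfl
    intro i _
    rw [mul_comm]
    congr 2
    ext j
    simp [Pi.single_apply, eq_comm]
  set M : Matrix (Fin n) (Fin n) F := 1 + Matrix.vecMulVec a r with hM
  have hMv : ∀ v : Fin n → F, M *ᵥ v = v + φ v • a := by
    intro v
    rw [hM, Matrix.add_mulVec, Matrix.one_mulVec, hφ]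
    congr 1
    ext i
    simp only [Matrix.mulVec, dotProduct, Matrix.vecMulVec_apply, Pi.smul_apply, smul_eq_mul]
    rw [Finset.sum_mul]
    apply Finset.sum_congr rfl
    intro j _
    ring
  have hdet : M.det = 1 := by
    rw [hM, Matrix.vecMulVec_eq Unit, Matrix.det_one_add_replicateCol_mul_replicateRow, ← hφ, h,
      add_zero]
  refine ⟨Matrix.GeneralLinearGroup.mkOfDetNeZero M (by rw [hdet]; exact one_ne_zero), ?_, ?_⟩
  · change Matrix.GeneralLinearGroup.det _ = 1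
    apply Units.ext
    simpa using hdet
  · intro v
    exact hMv v

theorem mem_stab {n : ℕ} (W : Submodule F (Fin n → F)) (g : Matrix.GeneralLinearGroup (Fin n) F) :
    g ∈ Cfsg.Geo.subspaceStabilizer W ↔
      ∀ v : Fin n → F, v ∈ W ↔ (g : Matrix (Fin n) (Fin n) F) *ᵥ v ∈ W := Iff.rfl

/-- Given complementary `A`, `B` with nonzero `a ∈ A` and nonzero `b ∈ B` there is an element of
`SL` fixing `A` pointwise and moving `b` outside `B`. -/
theorem exists_special {n : ℕ} (A B : Submodule F (Fin n → F)) (hAB : A ⊓ B = ⊥)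
    (hAB' : A ⊔ B = ⊤) (a b : Fin n → F) (ha : a ∈ A) (ha0 : a ≠ 0) (hb : b ∈ B) (hb0 : b ≠ 0) :
    ∃ g : Matrix.GeneralLinearGroup (Fin n) F, g ∈ Cfsg.Geo.specialLinear (Fin n) F ∧
      g ∈ Cfsg.Geo.subspaceStabilizer A ∧ g ∉ Cfsg.Geo.subspaceStabilizer B := by
  have hc : IsCompl B A := ⟨disjoint_iff.mpr (inf_comm A B ▸ hAB), codisjoint_iff.mpr (sup_comm A B ▸ hAB')⟩
  -- functional on B nonzero at b
  have hb' : (⟨b, hb⟩ : B) ≠ 0 := fun h => hb0 (congrArg Subtype.val h)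
  obtain ⟨ψ, hψ⟩ : ∃ ψ : Module.Dual F B, ψ ⟨b, hb⟩ ≠ 0 := by
    by_contra hcon
    push Not at hcon
    exact hb' ((Module.forall_dual_apply_eq_zero_iff F _).mp hcon)
  set φ : Module.Dual F (Fin n → F) := ψ ∘ₗ (Submodule.projectionOnto B A hc) with hφ
  have hφA : ∀ v ∈ A, φ v = 0 := by
    intro v hv
    rw [hφ, LinearMap.comp_apply]
    have : Submodule.projectionOnto B A hc v = 0 :=
      (Submodule.projectionOnto_apply_eq_zero_iff hc).mpr hv
    rw [this, map_zero]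
  have hφb : φ b ≠ 0 := by
    rw [hφ, LinearMap.comp_apply]
    have : Submodule.projectionOnto B A hc b = ⟨b, hb⟩ :=
      Submodule.projectionOnto_apply_left hc ⟨b, hb⟩
    rw [this]
    exact hψ
  obtain ⟨g, hgSL, hg⟩ := exists_transvection a φ (hφA a ha)
  refine ⟨g, hgSL, ?_, ?_⟩
  · rw [mem_stab]
    intro v
    rw [hg]
    constructor
    · intro hv
      exact A.add_mem hv (A.smul_mem _ ha)
    · intro hv
      have := A.sub_mem hv (A.smul_mem (φ v) ha)
      simpa using this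
  · rw [mem_stab]
    intro hstab
    have h1 := (hstab b).mp hb
    rw [hg] at h1
    have h2 : φ b • a ∈ B := by
      have := B.sub_mem h1 hb
      simpa using this
    have h3 : a ∈ B := by
      have := B.smul_mem (φ b)⁻¹ h2
      rwa [smul_smul, inv_mul_cancel₀ hφb, one_smul] at this
    have h4 : a ∈ A ⊓ B := ⟨ha, h3⟩
    rw [hAB, Submodule.mem_bot] at h4
    exact ha0 h4

theorem result {F : Type*} [Field F] [Fintype F] (n : ℕ) (W U : Submodule F (Fin n → F)) (hW0 : W ≠ ⊥) (hWU : W ⊓ U = ⊥) (hWU' : W ⊔ U = ⊤) (hdim : Module.finrank F W < Module.finrank F U) : ∃ K : Subgroup (Matrix.GeneralLinearGroup (Fin n) F), Cfsg.Geo.subspaceStabilizer W ⊓ Cfsg.Geo.subspaceStabilizer U ⊓ Cfsg.Geo.specialLinear (Fin n) F < K ∧ K < Cfsg.Geo.specialLinear (Fin n) F := by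
  obtain ⟨w, hw, hw0⟩ := (Submodule.ne_bot_iff W).mp hW0
  have hU0 : U ≠ ⊥ := by
    rintro rfl
    rw [finrank_bot] at hdim
    exact Nat.not_lt_zero _ hdim
  obtain ⟨u, hu, hu0⟩ := (Submodule.ne_bot_iff U).mp hU0
  obtain ⟨g₁, hg₁SL, hg₁W, hg₁U⟩ := exists_special W U hWU hWU' w u hw hw0 hu hu0
  obtain ⟨g₂, hg₂SL, -, hg₂W⟩ := exists_special U W (inf_comm W U ▸ hWU) (sup_comm W U ▸ hWU')
    u w hu hu0 hw hw0
  refine ⟨Cfsg.Geo.subspaceStabilizer W ⊓ Cfsg.Geo.specialLinear (Fin n) F, ?_, ?_⟩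
  · refine lt_of_le_of_ne ?_ ?_
    · exact le_inf (inf_le_left.trans inf_le_left) inf_le_right
    · intro heq
      have : g₁ ∈ Cfsg.Geo.subspaceStabilizer W ⊓ Cfsg.Geo.subspaceStabilizer U ⊓
          Cfsg.Geo.specialLinear (Fin n) F := by
        rw [heq]; exact ⟨hg₁W, hg₁SL⟩
      exact hg₁U this.1.2
  · refine lt_of_le_of_ne inf_le_right ?_
    intro heq
    have : g₂ ∈ Cfsg.Geo.subspaceStabilizer W ⊓ Cfsg.Geo.specialLinear (Fin n) F := by
      rw [heq]; exact hg₂SL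
    exact hg₂W this.1

end Cfsg.Agent.S5633
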