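-- Statement S5634: stabiliser of an m-decomposition is maximal in SL_n(F).
import Cfsg.Statements.S5634
import Cfsg.Agent.Lib.Helper98_BlockG
import Cfsg.Agent.Lib.Helper98_MonoTop
import Cfsg.Agent.Lib.Helper98_DecompStd
import Cfsg.Agent.Lib.Helper94_Bridge

set_option autoImplicit false
open Cfsg

namespace Cfsg.Agent.S5634

open Cfsg.Agent.Lib.Helper98_DecompStd Cfsg.Agent.Lib.Helper98_MonoBase

/-- for blocks of size one, block-monomial means monomial -/
lemma bm_iff_mono {F : Type*} [Field F] [Fintype F] {t m : ℕ} (hm1 : m = 1)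
    (h : GL (Fin t × Fin m) F) :
    BM (h : Matrix (Fin t × Fin m) (Fin t × Fin m) F) ↔
      IsMono (h : Matrix (Fin t × Fin m) (Fin t × Fin m) F) := by
  subst hm1
  constructor
  · rintro ⟨σ, hσ⟩ j i i' hi hi'
    apply Prod.ext
    · rw [hσ i j hi, hσ i' j hi']
    · exact Subsingleton.elim _ _
  · intro hmono
    obtain ⟨σ, c, hc, hval⟩ := exists_eq_mono ((mem_monoGL h).mpr hmono)
    refine ⟨(Equiv.prodUnique (Fin t) (Fin 1)).permCongr σ, fun r a hra => ?_⟩
    rw [hval, mono_apply] at hra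
    have hr : r = σ a := by
      by_contra hne
      exact hra (if_neg hne)
    rw [Equiv.permCongr_apply, hr]
    have ha : (Equiv.prodUnique (Fin t) (Fin 1)).symm a.1 = a :=
      Prod.ext rfl (Subsingleton.elim _ _)
    rw [ha]
    rfl

/-- For a finite field F with q elements and n ≥ 13, let D be a decomposition of F^n into t ≥ 2 independent subspaces of equal dimension m ≥ 1 spanning F^n. Unless m = 1 and q ≤ 4, or m = 2 and q = 2, the elements of SL_n(F) permuting the members of D form a maximal subgroup of SL_n(F). -/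
theorem result {F : Type*} [Field F] [Fintype F] (n : ℕ) (hn : 13 ≤ n) {t : ℕ} (m : ℕ) (D : Fin t → Submodule F (Fin n → F)) (hD : Cfsg.Geo.IsMDecomposition m D) (h1 : ¬ (m = 1 ∧ Fintype.card F ≤ 4)) (h2 : ¬ (m = 2 ∧ Fintype.card F = 2)) : Cfsg.Geo.IsMaximalIn (Cfsg.Geo.specialLinear (Fin n) F) (Cfsg.Geo.decompositionStabilizer D ⊓ Cfsg.Geo.specialLinear (Fin n) F) := by
  have hB : ∀ h : GL (Fin t × Fin m) F,
      h ∈ (Cfsg.Geo.decompositionStabilizer D).map (Phi hD).toMonoidHom ↔
        BM (h : Matrix (Fin t × Fin m) (Fin t × Fin m) F) := by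
    intro h
    constructor
    · rintro ⟨g, hg, rfl⟩
      exact (mem_stab_iff hD g).mp hg
    · intro hbm
      refine ⟨(Phi hD).symm h, (mem_stab_iff hD _).mpr ?_, ?_⟩
      · rw [MulEquiv.apply_symm_apply]; exact hbm
      · exact (Phi hD).apply_symm_apply h
  have hcard : t * m = n := Cfsg.Agent.Lib.Helper98_Decomp.card_eq hD
  have hq2 : 2 ≤ Fintype.card F := Fintype.one_lt_card
  have key : Cfsg.Geo.IsMaximalIn (Cfsg.Geo.specialLinear (Fin t × Fin m) F)
      ((Cfsg.Geo.decompositionStabilizer D).map (Phi hD).toMonoidHom ⊓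
        Cfsg.Geo.specialLinear (Fin t × Fin m) F) := by
    by_cases hm1 : m = 1
    · have hq : 5 ≤ Fintype.card F := by
        by_contra hlt
        exact h1 ⟨hm1, by omega⟩
      have hBmono : (Cfsg.Geo.decompositionStabilizer D).map (Phi hD).toMonoidHom =
          monoGL (Fin t × Fin m) F := by
        ext h
        rw [hB, mem_monoGL, bm_iff_mono hm1]
      rw [hBmono]
      apply Cfsg.Agent.Lib.Helper98_MonoTop.mono_maximal hq
      rw [Fintype.card_prod, Fintype.card_fin, Fintype.card_fin, hcard]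
      exact hn
    · have hm : 2 ≤ m := by
        have := hD.pos
        omega
      apply Cfsg.Agent.Lib.Helper98_BlockG.block_maximal _ hB hD.two_le hm
      intro hm2
      constructor
      · by_contra hlt
        exact h2 ⟨hm2, by omega⟩
      · subst hm2
        omega
  have := Cfsg.Agent.Lib.Helper94_Bridge.isMaximalIn_comap (Phi hD) _ _ key
  convert this using 1
  · ext g
    rw [Subgroup.mem_comap, Cfsg.Agent.Lib.Helper98_MonoTop.mem_SL_iff,
      Cfsg.Agent.Lib.Helper98_MonoTop.mem_SL_iff]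
    exact (congrArg (· = 1) (det_Phi hD g)).to_iff.symm
  · ext g
    rw [Subgroup.mem_comap, Subgroup.mem_inf, Subgroup.mem_inf, hB,
      Cfsg.Agent.Lib.Helper98_MonoTop.mem_SL_iff, Cfsg.Agent.Lib.Helper98_MonoTop.mem_SL_iff]
    have e1 := mem_stab_iff hD g
    have e2 := det_Phi hD g
    constructor
    · rintro ⟨ha, hb⟩
      exact ⟨e1.mp ha, by rw [← hb]; exact e2⟩
    · rintro ⟨ha, hb⟩
      exact ⟨e1.mpr ha, by rw [← hb]; exact e2.symm⟩

end Cfsg.Agent.S5634
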