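-- Statement S5637 (row 5637): the stabiliser in SL_n(F) of a tensor decomposition is maximal.
-- Assembly of the TP packages (see pending/helper97/S5637_proof.md): helper97 (architect, TP4 + main),
-- helper73 (TP1, TP2), helper59 (TP3a, TP3c, TP3d), helper52 (TP3, TP6), helper69 (TP6a),
-- helper82 (TP6b), helper77 (TP7, TP8), helper43 (TP9, TP10a), helper70 (TP10b).
import Cfsg.Statements.S5637
import Cfsg.Agent.Lib.Helper97_TensMain
import Cfsg.Agent.Lib.Helper43_Tens_TP10a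
import Cfsg.Agent.Lib.Helper70_Tens_TP10b

set_option autoImplicit false
open Cfsg

namespace Cfsg.Agent.S5637

/-- For a finite field F with q elements and n = n₁ n₂ ≥ 13 with 2 ≤ n₁ < n₂, excluding n₁ = q = 2, the stabiliser in SL_n(F) of a tensor decomposition F^n ≅ F^(n₁) ⊗ F^(n₂) (the conjugate by any P of the Kronecker-product subgroup transported along any bijection Fin n ≃ Fin n₁ × Fin n₂, intersected with SL_n(F)) is a maximal subgroup of SL_n(F). -/
theorem result {F : Type*} [Field F] [Fintype F] (n : ℕ) (hn : 13 ≤ n) (n₁ n₂ : ℕ) (h1 : 2 ≤ n₁) (h12 : n₁ < n₂) (hex : ¬ (n₁ = 2 ∧ Fintype.card F = 2)) (e : Fin n ≃ Fin n₁ × Fin n₂) (P : Matrix.GeneralLinearGroup (Fin n) F) : Cfsg.Geo.IsMaximalIn (Cfsg.Geo.specialLinear (Fin n) F) (Cfsg.Geo.tensorProductSubgroup n₁ n₂ e P ⊓ Cfsg.Geo.specialLinear (Fin n) F) := by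
  have ha : 2 ≤ Fintype.card (Fin n₁) := by rw [Fintype.card_fin]; exact h1
  have hab : Fintype.card (Fin n₁) < Fintype.card (Fin n₂) := by
    rw [Fintype.card_fin, Fintype.card_fin]; exact h12
  have hb : 3 ≤ Fintype.card (Fin n₂) := by rw [Fintype.card_fin]; omega
  have hex' : ¬ (Fintype.card (Fin n₁) = 2 ∧ Nat.card F = 2) := by
    rw [Fintype.card_fin, Nat.card_eq_fintype_card]; exact hex
  refine Cfsg.Agent.Lib.Helper70_Tens_TP10b.bridge n n₁ n₂ e P ?_
    (Cfsg.Agent.Lib.Helper43_Tens_TP10a.exists_not_isKron ha hab)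
  rintro M hdet hK ⟨g₀, hg₀, hns⟩
  exact Cfsg.Agent.Lib.Helper97_TensMain.main_abstract ha hab hb hex' M hdet hK g₀ hg₀ hns

end Cfsg.Agent.S5637
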