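import Cfsg.Statements.S5642
import Cfsg.Agent.Lib.Helper94_Bridge
import Cfsg.Agent.Lib.Helper94_SLBridge
import Cfsg.Agent.Lib.Helper94_SympSim

set_option autoImplicit false
open Cfsg

namespace Cfsg.Agent.S5642

open Cfsg.Agent.Lib.Helper94_Symp Cfsg.Agent.Lib.Helper94_Bridge Cfsg.Agent.Lib.Helper94_SLBridge
  Cfsg.Agent.Lib.Helper94_SympSim

/-- For a finite field F and n ≥ 13, let f be a non-degenerate symplectic form on F^n (so n is even). Then the elements of SL_n(F) that are similarities of f (f(gu, gv) = c f(u, v) for a non-zero scalar c depending on g) form a maximal subgroup of SL_n(F). -/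
theorem result {F : Type*} [Field F] [Fintype F] (n : ℕ) (hn : 13 ≤ n) (f : (Fin n → F) → (Fin n → F) → F) (hf : Cfsg.Geo.IsSymplecticForm f) : Cfsg.Geo.IsMaximalIn (Cfsg.Geo.specialLinear (Fin n) F) (Cfsg.Geo.similarityGroup f ⊓ Cfsg.Geo.specialLinear (Fin n) F) := by
  -- the bilinear form
  let B : LinearMap.BilinForm F (Fin n → F) :=
    LinearMap.mk₂ F f hf.bilinear.add_left (fun c x v => by rw [hf.bilinear.smul_left]; rfl)
      hf.bilinear.add_right (fun c x v => by rw [hf.bilinear.smul_right]; rfl)
  have hBf : ∀ u v, B u v = f u v := fun u v => rfl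
  have hBalt : B.IsAlt := fun v => hf.alternating v
  have hBN : B.Nondegenerate := by
    constructor
    · intro x hx
      by_contra hx0
      obtain ⟨y, hy⟩ := (hf.nondegenerate x hx0).2
      exact hy (hx y)
    · intro y hy
      by_contra hy0
      obtain ⟨x, hx⟩ := (hf.nondegenerate y hy0).1
      exact hx (hy x)
  have hnt : Nontrivial (Fin n) := Fin.nontrivial_iff_two_le.mpr (by omega)
  let S : Subgroup ((Fin n → F) ≃ₗ[F] (Fin n → F)) :=
    (Cfsg.Geo.similarityGroup f).comap (glEquiv (Fin n) F).symm.toMonoidHom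
  have hSeq : Cfsg.Geo.similarityGroup f = S.comap (glEquiv (Fin n) F).toMonoidHom :=
    (comap_symm_comap (glEquiv (Fin n) F) _).symm
  rw [hSeq, specialLinear_eq, ← Subgroup.comap_inf]
  apply isMaximalIn_comap
  have hdim : 3 ≤ Module.finrank F (Fin n → F) := by
    rw [Module.finrank_fintype_fun_eq_card, Fintype.card_fin]; omega
  apply maximal_sim B hBalt hBN hdim S (slK (Fin n) F)
  · intro g
    have key : ∀ u, (((glEquiv (Fin n) F).symm g : Matrix.GeneralLinearGroup (Fin n) F) :
        Matrix (Fin n) (Fin n) F).mulVec u = g u := by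
      intro u
      rw [← glEquiv_apply, MulEquiv.apply_symm_apply]
    constructor
    · rintro ⟨c, hc⟩
      refine ⟨c, fun u v => ?_⟩
      have := hc u v
      simp only [MulEquiv.toMonoidHom_eq_coe, MonoidHom.coe_coe] at this
      rw [key, key] at this
      exact this
    · rintro ⟨c, hc⟩
      refine ⟨c, fun u v => ?_⟩
      simp only [MulEquiv.toMonoidHom_eq_coe, MonoidHom.coe_coe]
      rw [key, key]
      exact hc u v
  · exact transvection_mem_slK
  · exact slK_le_of_transvections

end Cfsg.Agent.S5642
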