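import Cfsg.Statements.S5643
import Cfsg.Agent.Lib.Helper94_Bridge
import Cfsg.Agent.Lib.Helper94_SLBridge
import Cfsg.Agent.Lib.Helper94_HermSim

set_option autoImplicit false
open Cfsg

namespace Cfsg.Agent.S5643

open Cfsg.Agent.Lib.Helper94_Symp Cfsg.Agent.Lib.Helper94_Bridge Cfsg.Agent.Lib.Helper94_SLBridge
  Cfsg.Agent.Lib.Helper94_Herm Cfsg.Agent.Lib.Helper94_HermSim

/-- For a finite field F and n ≥ 13, let σ be a field automorphism of F of order two and f a non-degenerate unitary form on F^n with respect to σ. Then the elements of SL_n(F) that are similarities of f form a maximal subgroup of SL_n(F). -/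
theorem result {F : Type*} [Field F] [Fintype F] (n : ℕ) (hn : 13 ≤ n) (σ : F ≃+* F) (f : (Fin n → F) → (Fin n → F) → F) (hf : Cfsg.Geo.IsUnitaryForm σ f) : Cfsg.Geo.IsMaximalIn (Cfsg.Geo.specialLinear (Fin n) F) (Cfsg.Geo.similarityGroup f ⊓ Cfsg.Geo.specialLinear (Fin n) F) := by
  have hfr : ∀ v x y, f v (x + y) = f v x + f v y := by
    intro v x y
    rw [hf.herm v (x + y), hf.add_left, map_add, ← hf.herm, ← hf.herm]
  have hsr : ∀ (c : F) (v x : Fin n → F), f v (c • x) = σ c * f v x := by
    intro c v x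
    rw [hf.herm v (c • x), hf.smul_left, map_mul, ← hf.herm]
  let B : (Fin n → F) →ₗ[F] (Fin n → F) →ₛₗ[(σ : F →+* F)] F :=
    LinearMap.mk₂'ₛₗ (RingHom.id F) (σ : F →+* F) f hf.add_left
      (fun c x v => by rw [hf.smul_left]; rfl) hfr (fun c v x => by rw [hsr]; rfl)
  have hBf : ∀ u v, B u v = f u v := fun u v => rfl
  have hσ : Invol (σ : F →+* F) := by
    refine ⟨fun a => hf.involutive a, ?_⟩
    by_contra hcon
    push Not at hcon
    exact hf.ne_refl (RingEquiv.ext hcon)
  have hBh : IsHerm B := fun x y => hf.herm y x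
  have hBN : NondegOn B ⊤ := by
    intro x _ hx0
    obtain ⟨y, hy⟩ := (hf.nondegenerate x hx0).2
    exact ⟨y, trivial, hy⟩
  have hnt : Nontrivial (Fin n) := Fin.nontrivial_iff_two_le.mpr (by omega)
  let S : Subgroup ((Fin n → F) ≃ₗ[F] (Fin n → F)) :=
    (Cfsg.Geo.similarityGroup f).comap (glEquiv (Fin n) F).symm.toMonoidHom
  have hSeq : Cfsg.Geo.similarityGroup f = S.comap (glEquiv (Fin n) F).toMonoidHom :=
    (comap_symm_comap (glEquiv (Fin n) F) _).symm
  rw [hSeq, specialLinear_eq, ← Subgroup.comap_inf]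
  apply isMaximalIn_comap
  have hdim : 5 ≤ Module.finrank F (Fin n → F) := by
    rw [Module.finrank_fintype_fun_eq_card, Fintype.card_fin]; omega
  apply maximal_usim hσ hBh hBN hdim S (slK (Fin n) F)
  · intro g
    have key : ∀ u, (((glEquiv (Fin n) F).symm g : Matrix.GeneralLinearGroup (Fin n) F) :
        Matrix (Fin n) (Fin n) F).mulVec u = g u := by
      intro u
      rw [← glEquiv_apply, MulEquiv.apply_symm_apply]
    constructor
    · rintro ⟨c, hc⟩
      refine ⟨c, fun u v => ?_⟩
      have := hc u v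
      simp only [MulEquiv.toMonoidHom_eq_coe, MonoidHom.coe_coe] at this
      rw [key, key] at this
      exact this
    · rintro ⟨c, hc⟩
      refine ⟨c, fun u v => ?_⟩
      simp only [MulEquiv.toMonoidHom_eq_coe, MonoidHom.coe_coe]
      rw [key, key]
      exact hc u v
  · exact transvection_mem_slK
  · exact slK_le_of_transvections

end Cfsg.Agent.S5643
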