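import Cfsg.Statements.S5644
import Cfsg.Agent.Lib.Helper94_Bridge
import Cfsg.Agent.Lib.Helper94_SLBridge
import Cfsg.Agent.Lib.Helper94_OrthBridge
import Cfsg.Agent.Lib.Helper94_OrthGenBridge
import Cfsg.Agent.Lib.Helper94_OrthC2Bridge
import Cfsg.Agent.Lib.Helper94_OrthSim

set_option autoImplicit false
open Cfsg

namespace Cfsg.Agent.S5644

/-- For a finite field F of odd order and n ≥ 13, let Q be a non-degenerate quadratic form on F^n (its polar form is non-degenerate). Then the elements of SL_n(F) that are similarities of Q (Q(gv) = c Q(v) for a non-zero scalar c depending on g) form a maximal subgroup of SL_n(F). -/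
theorem result {F : Type*} [Field F] [Fintype F] (n : ℕ) (hn : 13 ≤ n) (hodd : Odd (Fintype.card F)) (Q : (Fin n → F) → F) (hQ : Cfsg.Geo.IsNondegenerateQuadraticForm Q) : Cfsg.Geo.IsMaximalIn (Cfsg.Geo.specialLinear (Fin n) F) (Cfsg.Geo.quadSimilarityGroup Q ⊓ Cfsg.Geo.specialLinear (Fin n) F) := by
  open Cfsg.Agent.Lib.Helper94_Symp Cfsg.Agent.Lib.Helper94_Bridge
    Cfsg.Agent.Lib.Helper94_SLBridge Cfsg.Agent.Lib.Helper94_OrthBridge
    Cfsg.Agent.Lib.Helper94_OrthGenBridge Cfsg.Agent.Lib.Helper94_OrthC2Bridge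
    Cfsg.Agent.Lib.Helper94_OrthSim in
  have h2 : (2 : F) ≠ 0 := two_ne_zero_of_odd_card (Nat.odd_iff.mp hodd)
  have hnt : Nontrivial (Fin n) := Fin.nontrivial_iff_two_le.mpr (by omega)
  let S : Subgroup ((Fin n → F) ≃ₗ[F] (Fin n → F)) :=
    (Cfsg.Geo.quadSimilarityGroup Q).comap (glEquiv (Fin n) F).symm.toMonoidHom
  have hSeq : Cfsg.Geo.quadSimilarityGroup Q = S.comap (glEquiv (Fin n) F).toMonoidHom :=
    (comap_symm_comap (glEquiv (Fin n) F) _).symm
  rw [hSeq, specialLinear_eq, ← Subgroup.comap_inf]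
  apply isMaximalIn_comap
  have hdim : 13 ≤ Module.finrank F (Fin n → F) := by
    rw [Module.finrank_fintype_fun_eq_card, Fintype.card_fin]; exact hn
  apply maximal_osim (gen_hQs Q hQ) (gen_hQp Q hQ) h2 (gen_hN Q hQ) hdim S (slK (Fin n) F)
  · intro g
    have key : ∀ u, (((glEquiv (Fin n) F).symm g : Matrix.GeneralLinearGroup (Fin n) F) :
        Matrix (Fin n) (Fin n) F).mulVec u = g u := by
      intro u
      rw [← glEquiv_apply, MulEquiv.apply_symm_apply]
    constructor
    · rintro ⟨c, hc⟩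
      refine ⟨c, fun v => ?_⟩
      have := hc v
      simp only [MulEquiv.toMonoidHom_eq_coe, MonoidHom.coe_coe] at this
      rw [key] at this
      exact this
    · rintro ⟨c, hc⟩
      refine ⟨c, fun v => ?_⟩
      simp only [MulEquiv.toMonoidHom_eq_coe, MonoidHom.coe_coe]
      rw [key]
      exact hc v
  · exact transvection_mem_slK
  · exact slK_le_of_transvections

end Cfsg.Agent.S5644
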