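import Cfsg.Statements.S5646
import Cfsg.Agent.Lib.Helper94_Bridge
import Cfsg.Agent.Lib.Helper94_SympNondeg

set_option autoImplicit false
open Cfsg

namespace Cfsg.Agent.S5646

open Cfsg.Agent.Lib.Helper94_Symp Cfsg.Agent.Lib.Helper94_Bridge Cfsg.Agent.Lib.Helper94_SympNondeg

/-- For a finite field F and m ≥ 7, in the symplectic group Sp_2m(F) of the standard alternating form on F^(2m), the stabiliser of any non-zero subspace W on which the form is non-degenerate and with dim W < m is a maximal subgroup. -/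
theorem result {F : Type*} [Field F] [Fintype F] (m : ℕ) (hm : 7 ≤ m) (W : Submodule F (Fin m ⊕ Fin m → F)) (hW0 : W ≠ ⊥) (hW : Cfsg.Geo.IsNondegenerateOn (Cfsg.sympForm m F) W) (hdim : Module.finrank F W < m) : Cfsg.Geo.IsMaximalIn (Cfsg.spGL m F) (Cfsg.Geo.subspaceStabilizer W ⊓ Cfsg.spGL m F) := by
  rw [spGL_eq, subspaceStabilizer_eq, ← Subgroup.comap_inf]
  apply isMaximalIn_comap
  apply maximal_stab_nondegenerate (Bsymp m F) (Bsymp_isAlt m) (Bsymp_nondegenerate m) W hW0
  · intro w hw hw0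
    obtain ⟨x, hx, hxw⟩ := (hW w hw hw0).1
    exact ⟨x, hx, by rw [Bsymp_apply]; exact hxw⟩
  · have : Module.finrank F (Fin m ⊕ Fin m → F) = m + m := by
      rw [Module.finrank_fintype_fun_eq_card, Fintype.card_sum, Fintype.card_fin]
    rw [this]
    omega

end Cfsg.Agent.S5646
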