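import Cfsg.Statements.S5647
import Cfsg.Agent.Lib.Helper94_Bridge
import Cfsg.Agent.Lib.Helper94_SLBridge
import Cfsg.Agent.Lib.Helper94_SympDecomp

set_option autoImplicit false
open Cfsg

namespace Cfsg.Agent.S5647

open Cfsg.Agent.Lib.Helper94_Symp Cfsg.Agent.Lib.Helper94_Bridge Cfsg.Agent.Lib.Helper94_SLBridge
  Cfsg.Agent.Lib.Helper94_SympDecomp

/-- For a finite field F with q elements and m ≥ 7, let D be a decomposition of F^(2m) into t ≥ 2 pairwise orthogonal subspaces of equal dimension k on each of which the standard alternating form is non-degenerate, spanning F^(2m). Unless k = 2 and q = 2, the elements of Sp_2m(F) permuting the members of D form a maximal subgroup of Sp_2m(F). -/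
theorem result {F : Type*} [Field F] [Fintype F] (m : ℕ) (hm : 7 ≤ m) {t : ℕ} (k : ℕ) (D : Fin t → Submodule F (Fin m ⊕ Fin m → F)) (hD : Cfsg.Geo.IsNondegenerateMDecomposition (Cfsg.sympForm m F) k D) (hex : ¬ (k = 2 ∧ Fintype.card F = 2)) : Cfsg.Geo.IsMaximalIn (Cfsg.spGL m F) (Cfsg.Geo.decompositionStabilizer D ⊓ Cfsg.spGL m F) := by
  classical
  let S : Subgroup ((Fin m ⊕ Fin m → F) ≃ₗ[F] (Fin m ⊕ Fin m → F)) :=
    (Cfsg.Geo.decompositionStabilizer D).comap (glEquiv (Fin m ⊕ Fin m) F).symm.toMonoidHom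
  have hSeq : Cfsg.Geo.decompositionStabilizer D = S.comap (glEquiv (Fin m ⊕ Fin m) F).toMonoidHom :=
    (comap_symm_comap (glEquiv (Fin m ⊕ Fin m) F) _).symm
  rw [hSeq, spGL_eq, ← Subgroup.comap_inf]
  apply isMaximalIn_comap
  apply maximal_dstab (Bsymp m F) (Bsymp_isAlt m) (Bsymp_nondegenerate m) k D hD.decomp.two_le
    hD.decomp.pos hD.decomp.finrank_eq hD.decomp.iSup_eq_top
  · intro i w hw hw0
    obtain ⟨x, hx, hxw⟩ := (hD.nondegenerate i w hw hw0).1
    exact ⟨x, hx, by rw [Bsymp_apply]; exact hxw⟩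
  · intro i j hij u hu v hv
    rw [Bsymp_apply]
    exact hD.orthogonal i j hij u hu v hv
  · intro hk2
    by_contra hcon
    push Not at hcon
    apply hex
    refine ⟨hk2, le_antisymm ?_ Fintype.one_lt_card⟩
    have hsub : (Finset.univ : Finset F) ⊆ {0, 1} := by
      intro c _
      by_cases hc : c = 0
      · simp [hc]
      · simp [hcon c hc]
    calc Fintype.card F = (Finset.univ : Finset F).card := rfl
      _ ≤ ({0, 1} : Finset F).card := Finset.card_le_card hsub
      _ ≤ 2 := Finset.card_le_two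
  · intro g
    have key : Matrix.toLin' (((glEquiv (Fin m ⊕ Fin m) F).symm g :
        Matrix.GeneralLinearGroup (Fin m ⊕ Fin m) F) : Matrix (Fin m ⊕ Fin m) (Fin m ⊕ Fin m) F) =
        (g : (Fin m ⊕ Fin m → F) →ₗ[F] (Fin m ⊕ Fin m → F)) := by
      refine LinearMap.ext fun x => ?_
      rw [Matrix.toLin'_apply, ← glEquiv_apply, MulEquiv.apply_symm_apply]
      rfl
    constructor
    · rintro ⟨σ, hσ⟩
      refine ⟨σ, fun i => ?_⟩
      have := hσ i
      simp only [MulEquiv.toMonoidHom_eq_coe, MonoidHom.coe_coe] at this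
      rw [key] at this
      exact this
    · rintro ⟨σ, hσ⟩
      refine ⟨σ, fun i => ?_⟩
      simp only [MulEquiv.toMonoidHom_eq_coe, MonoidHom.coe_coe]
      rw [key]
      exact hσ i

end Cfsg.Agent.S5647
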