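import Cfsg.Statements.S5648
import Cfsg.Agent.Lib.Helper94_Bridge
import Cfsg.Agent.Lib.Helper94_SLBridge
import Cfsg.Agent.Lib.Helper94_SympQuad

set_option autoImplicit false
open Cfsg

namespace Cfsg.Agent.S5648

open Module Cfsg.Agent.Lib.Helper94_Symp Cfsg.Agent.Lib.Helper94_Bridge Cfsg.Agent.Lib.Helper94_SLBridge
  Cfsg.Agent.Lib.Helper94_SympQuad

section Abstract

variable {F V : Type*} [Field F] [AddCommGroup V] [Module F V]

lemma finrank_biSup_le [FiniteDimensional F V] {t k : ℕ} (D : Fin t → Submodule F V)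
    (hfr : ∀ i, finrank F (D i) = k) (s : Finset (Fin t)) :
    finrank F (⨆ i ∈ s, D i : Submodule F V) ≤ k * s.card := by
  classical
  induction s using Finset.induction_on with
  | empty => simp
  | insert a s ha ih =>
    rw [Finset.iSup_insert, Finset.card_insert_of_notMem ha]
    calc finrank F (D a ⊔ ⨆ i ∈ s, D i : Submodule F V)
        ≤ finrank F (D a) + finrank F (⨆ i ∈ s, D i : Submodule F V) :=
          Submodule.finrank_add_le_finrank_add_finrank _ _
      _ ≤ k + k * s.card := by rw [hfr]; omega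
      _ = k * (s.card + 1) := by ring

/-- In a nondegenerate plane over the field with two elements, two distinct nonzero vectors
pair nontrivially. -/
lemma pair_ne_zero [FiniteDimensional F V] (B : LinearMap.BilinForm F V) (hB : B.IsAlt)
    (hF : ∀ c : F, c = 0 ∨ c = 1) {W : Submodule F V} (hW : NondegOn B W)
    (h2 : finrank F W = 2) {a b : V} (ha : a ∈ W) (hb : b ∈ W) (ha0 : a ≠ 0) (hb0 : b ≠ 0)
    (hab : a ≠ b) : B a b ≠ 0 := by
  intro h
  set X : Submodule F V := W ⊓ LinearMap.ker (B a) with hX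
  have haX : a ∈ X := ⟨ha, by rw [SetLike.mem_coe, LinearMap.mem_ker]; exact hB a⟩
  have hbX : b ∈ X := ⟨hb, by rw [SetLike.mem_coe, LinearMap.mem_ker]; exact h⟩
  obtain ⟨x, hx, hxa⟩ := hW a ha ha0
  have hlt : X < W := by
    refine lt_of_le_of_ne inf_le_left ?_
    intro heq
    have hxX : x ∈ X := by rw [heq]; exact hx
    have := hxX.2
    rw [SetLike.mem_coe, LinearMap.mem_ker] at this
    exact alt_ne_zero_comm B hB hxa this
  have hfin : finrank F X ≤ 1 := by
    have := Submodule.finrank_lt_finrank_of_lt hlt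
    omega
  obtain ⟨v, hv⟩ := finrank_le_one_iff.mp hfin
  obtain ⟨c1, hc1⟩ := hv ⟨a, haX⟩
  obtain ⟨c2, hc2⟩ := hv ⟨b, hbX⟩
  have e1 : c1 • (v : V) = a := congrArg Subtype.val hc1
  have e2 : c2 • (v : V) = b := congrArg Subtype.val hc2
  rcases hF c1 with rfl | rfl
  · rw [zero_smul] at e1; exact ha0 e1.symm
  rcases hF c2 with rfl | rfl
  · rw [zero_smul] at e2; exact hb0 e2.symm
  rw [one_smul] at e1 e2
  exact hab (e1.symm.trans e2)

theorem not_maximal_dstab [FiniteDimensional F V] (B : LinearMap.BilinForm F V) (hB : B.IsAlt)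
    (hN : B.Nondegenerate) (hF : ∀ c : F, c = 0 ∨ c = 1) (hdim : 8 ≤ finrank F V)
    {t : ℕ} (D : Fin t → Submodule F V) (hfr : ∀ i, finrank F (D i) = 2) (hsup : iSup D = ⊤)
    (hnd : ∀ i, NondegOn B (D i)) (horth : ∀ i j, i ≠ j → ∀ u ∈ D i, ∀ v ∈ D j, B u v = 0)
    (S : Subgroup (V ≃ₗ[F] V))
    (hS : ∀ g, g ∈ S ↔ ∃ σ : Equiv.Perm (Fin t), ∀ i, (D i).map (g : V →ₗ[F] V) = D (σ i)) :
    ∃ K : Subgroup (V ≃ₗ[F] V), S ⊓ isoGroup B < K ∧ K < isoGroup B := by
  classical
  have hR : B.IsRefl := hB.isRefl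
  have h2 : (2 : F) = 0 := by
    rcases hF 2 with h | h
    · exact h
    · exfalso
      have : (1 : F) = 0 := by linear_combination h
      exact one_ne_zero this
  have hchar : CharP F 2 := CharTwo.of_one_ne_zero_of_two_eq_zero one_ne_zero h2
  have ht : 4 ≤ t := by
    have h1 := finrank_biSup_le D hfr Finset.univ
    have h3 : (⨆ i ∈ (Finset.univ : Finset (Fin t)), D i) = ⊤ := by simpa using hsup
    rw [h3, finrank_top, Finset.card_univ, Fintype.card_fin] at h1
    omega
  have hcompl : ∀ i, IsCompl (D i) (B.orthogonal (D i)) := by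
    intro i
    have hdisj : D i ⊓ B.orthogonal (D i) = ⊥ := by
      rw [eq_bot_iff]
      intro z hz
      obtain ⟨hz1, hz2⟩ := Submodule.mem_inf.mp hz
      by_contra hz0
      obtain ⟨y, hy, hyz⟩ := hnd i z hz1 hz0
      exact hyz ((mem_orth B).mp hz2 y hy)
    exact (LinearMap.BilinForm.isCompl_orthogonal_iff_disjoint hR).mpr (disjoint_iff.mpr hdisj)
  have hDorth : ∀ i j, i ≠ j → D j ≤ B.orthogonal (D i) := fun i j hij v hv =>
    (mem_orth B).mpr (fun n hn => horth i j hij n hn v hv)
  have hall : ∀ x : V, (∀ i, x ∈ B.orthogonal (D i)) → x = 0 := by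
    intro x hx
    apply hN.2
    intro y
    have hle : iSup D ≤ LinearMap.ker (B.flip x) := by
      apply iSup_le
      intro i v hv
      rw [LinearMap.mem_ker]
      change B v x = 0
      exact (mem_orth B).mp (hx i) v hv
    have hy : y ∈ iSup D := by rw [hsup]; trivial
    have := hle hy
    rw [LinearMap.mem_ker] at this
    exact this
  -- the component projections
  let P : Fin t → V →ₗ[F] V := fun i => Submodule.projection (D i) (B.orthogonal (D i)) (hcompl i)
  have hP_mem : ∀ i x, P i x ∈ D i := fun i x => Submodule.projection_apply_mem (hcompl i) x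
  have hP_left : ∀ i, ∀ a ∈ D i, P i a = a := fun i a ha =>
    Submodule.projection_apply_of_mem_left (hcompl i) ha
  have hP_zero : ∀ i x, P i x = 0 ↔ x ∈ B.orthogonal (D i) := fun i x =>
    Submodule.projection_apply_eq_zero_iff (hcompl i)
  have hP_sub : ∀ i x, x - P i x ∈ B.orthogonal (D i) := by
    intro i x
    rw [← hP_zero, map_sub, hP_left i _ (hP_mem i x), sub_self]
  have hP_other : ∀ i j, i ≠ j → ∀ a ∈ D j, P i a = 0 := fun i j hij a ha =>
    (hP_zero i a).mpr (hDorth i j hij ha)
  have hP_sum : ∀ x, ∑ i, P i x = x := by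
    intro x
    have : x - ∑ i, P i x = 0 := by
      apply hall
      intro j
      rw [← hP_zero, map_sub, map_sum, Finset.sum_eq_single j, hP_left j _ (hP_mem j x), sub_self]
      · intro i _ hij
        exact hP_other j i (Ne.symm hij) _ (hP_mem i x)
      · intro h; exact absurd (Finset.mem_univ j) h
    exact (sub_eq_zero.mp this).symm
  have hB_P : ∀ i, ∀ d ∈ D i, ∀ y, B d y = B d (P i y) := by
    intro i d hd y
    have := (mem_orth B).mp (hP_sub i y) d hd
    rw [map_sub, sub_eq_zero] at this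
    exact this
  have hB_sum : ∀ x y, B x y = ∑ i, B (P i x) (P i y) := by
    intro x y
    conv_lhs => rw [← hP_sum x]
    rw [map_sum, LinearMap.sum_apply]
    exact Finset.sum_congr rfl (fun i _ => hB_P i _ (hP_mem i x) y)
  -- the quadratic map
  let q : V → F := fun a => if a = 0 then 0 else 1
  have hq_polar : ∀ i, ∀ a ∈ D i, ∀ b ∈ D i, q (a + b) = q a + q b + B a b := by
    intro i a ha b hb
    by_cases ha0 : a = 0
    · subst ha0; simp [q]
    by_cases hb0 : b = 0
    · subst hb0; simp [q]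
    by_cases hab : a = b
    · subst hab
      have haa : a + a = 0 := by rw [← two_smul F a, h2, zero_smul]
      simp only [q, haa, ha0, if_true, if_false, hB a, add_zero]
      rw [CharTwo.add_self_eq_zero]
    · have hne := pair_ne_zero B hB hF (hnd i) (hfr i) ha hb ha0 hb0 hab
      have h1 : B a b = 1 := (hF _).resolve_left hne
      have hsum : a + b ≠ 0 := by
        intro h
        apply hab
        have haa : b + b = 0 := by rw [← two_smul F b, h2, zero_smul]
        calc a = a + (b + b) := by rw [haa, add_zero]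
          _ = (a + b) + b := by rw [add_assoc]
          _ = b := by rw [h, zero_add]
      simp only [q, hsum, ha0, hb0, if_false, h1]
      rw [CharTwo.add_self_eq_zero, zero_add]
  let Q : V → F := fun x => ∑ i, q (P i x)
  have hQp : ∀ u v : V, Q (u + v) = Q u + Q v + B u v := by
    intro u v
    simp only [Q]
    rw [hB_sum u v, ← Finset.sum_add_distrib, ← Finset.sum_add_distrib]
    refine Finset.sum_congr rfl (fun i _ => ?_)
    rw [map_add]
    exact hq_polar i _ (hP_mem i u) _ (hP_mem i v)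
  have hQs : ∀ (c : F) (v : V), Q (c • v) = c * c * Q v := by
    intro c v
    rcases hF c with rfl | rfl
    · simp [Q, q]
    · rw [one_smul, one_mul, one_mul]
  have hsq : ∀ a : F, ∃ b : F, b * b = a := by
    intro a
    rcases hF a with rfl | rfl
    · exact ⟨0, by simp⟩
    · exact ⟨1, by simp⟩
  have hQ_mem : ∀ k, ∀ d ∈ D k, d ≠ 0 → Q d = 1 := by
    intro k d hd hd0
    simp only [Q]
    rw [Finset.sum_eq_single k]
    · rw [hP_left k d hd]; simp [q, hd0]
    · intro i _ hik
      rw [hP_other i k hik d hd]; simp [q]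
    · intro h; exact absurd (Finset.mem_univ k) h
  have hDne : ∀ i, ∃ d ∈ D i, d ≠ 0 := by
    intro i
    apply Submodule.exists_mem_ne_zero_of_ne_bot
    intro h
    have := hfr i
    rw [h, finrank_bot] at this
    omega
  refine ⟨oGroup B Q, ?_, (maximal_oGroup B hB Q hsq hQs hQp hN hdim).1⟩
  -- the stabiliser is contained in the isometry group of Q
  have hle : S ⊓ isoGroup B ≤ oGroup B Q := by
    rintro g ⟨hgS, hgI⟩
    refine ⟨hgI, fun x => ?_⟩
    obtain ⟨σ, hσ⟩ := (hS g).mp hgS
    have hgD : ∀ i, ∀ a ∈ D i, g a ∈ D (σ i) := by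
      intro i a ha
      rw [← hσ i]
      exact Submodule.mem_map_of_mem ha
    have hcomp : ∀ i, P (σ i) (g x) = g (P i x) := by
      intro i
      conv_lhs => rw [← hP_sum x]
      rw [map_sum, map_sum, Finset.sum_eq_single i]
      · exact hP_left (σ i) _ (hgD i _ (hP_mem i x))
      · intro j _ hji
        apply hP_other (σ i) (σ j) (fun h => hji (σ.injective h).symm)
        exact hgD j _ (hP_mem j x)
      · intro h; exact absurd (Finset.mem_univ i) h
    simp only [Q]
    rw [← Equiv.sum_comp σ (fun k => q (P k (g x)))]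
    refine Finset.sum_congr rfl (fun i _ => ?_)
    rw [hcomp i]
    simp only [q]
    by_cases h0 : P i x = 0
    · rw [h0, map_zero]
    · have : g (P i x) ≠ 0 := fun h => h0 (by simpa using h)
      rw [if_neg h0, if_neg this]
  refine lt_of_le_of_ne hle ?_
  intro heq
  -- three distinct blocks
  set i0 : Fin t := ⟨0, by omega⟩ with hi0
  set i1 : Fin t := ⟨1, by omega⟩ with hi1
  set i2 : Fin t := ⟨2, by omega⟩ with hi2
  have h01 : i0 ≠ i1 := by
    intro h; have := congrArg Fin.val h; simp [hi0, hi1] at this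
  have h02 : i0 ≠ i2 := by
    intro h; have := congrArg Fin.val h; simp [hi0, hi2] at this
  have h12 : i1 ≠ i2 := by
    intro h; have := congrArg Fin.val h; simp [hi1, hi2] at this
  obtain ⟨d0, hd0, hd00⟩ := hDne i0
  obtain ⟨d1, hd1, hd10⟩ := hDne i1
  obtain ⟨d2, hd2, hd20⟩ := hDne i2
  have hQz : Q (d0 + d1 + d2) = 1 := by
    rw [hQp, hQp, hQ_mem i0 d0 hd0 hd00, hQ_mem i1 d1 hd1 hd10, hQ_mem i2 d2 hd2 hd20,
      horth i0 i1 h01 d0 hd0 d1 hd1, map_add, LinearMap.add_apply, horth i0 i2 h02 d0 hd0 d2 hd2,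
      horth i1 i2 h12 d1 hd1 d2 hd2]
    rw [add_zero, add_zero, add_zero, CharTwo.add_self_eq_zero, zero_add]
  have hz0 : Q (d0 + d1 + d2) ≠ 0 := by rw [hQz]; exact one_ne_zero
  have hr : stv B hB (d0 + d1 + d2) (Q (d0 + d1 + d2))⁻¹ ∈ S ⊓ isoGroup B := by
    rw [heq]
    exact refl_mem B hB Q hQs hQp hz0
  obtain ⟨σ, hσ⟩ := (hS _).mp hr.1
  obtain ⟨x, hx, hxd⟩ := hnd i0 d0 hd0 hd00
  have hx1 : B x d0 = 1 := (hF _).resolve_left hxd
  have himg : x + (d0 + d1 + d2) ∈ D (σ i0) := by
    have : stv B hB (d0 + d1 + d2) (Q (d0 + d1 + d2))⁻¹ x ∈ D (σ i0) := by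
      rw [← hσ i0]
      exact Submodule.mem_map_of_mem hx
    rw [stv_apply, hQz, inv_one, one_mul, map_add, map_add, hx1, horth i0 i1 h01 x hx d1 hd1,
      horth i0 i2 h02 x hx d2 hd2, add_zero, add_zero, one_smul] at this
    exact this
  -- the image has nonzero components in two further blocks
  have hcontra : ∀ j (d : V), d ∈ D j → d ≠ 0 → σ i0 ≠ j → P j (x + (d0 + d1 + d2)) = d → False := by
    intro j d hd hd0' hne hPj
    have := hP_other j (σ i0) (Ne.symm hne) _ himg
    rw [hPj] at this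
    exact hd0' this
  by_cases hj : σ i0 = i1
  · apply hcontra i2 d2 hd2 hd20 (by rw [hj]; exact h12)
    rw [map_add, map_add, map_add, hP_other i2 i0 h02.symm x hx, hP_other i2 i0 h02.symm d0 hd0,
      hP_other i2 i1 h12.symm d1 hd1, hP_left i2 d2 hd2]
    simp
  · apply hcontra i1 d1 hd1 hd10 hj
    rw [map_add, map_add, map_add, hP_other i1 i0 h01.symm x hx, hP_other i1 i0 h01.symm d0 hd0,
      hP_other i1 i2 h12 d2 hd2, hP_left i1 d1 hd1]
    simp

end Abstract

/-- Over the field with 2 elements and for m ≥ 7, let D be a decomposition of F^(2m) into t pairwise orthogonal non-degenerate 2-dimensional subspaces for the standard alternating form (t = m ≥ 2). Then the elements of Sp_2m(2) permuting the members of D form a subgroup that is not maximal: some subgroup lies strictly between it and Sp_2m(2). -/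
theorem result {F : Type*} [Field F] [Fintype F] (m : ℕ) (hm : 7 ≤ m) (hq : Fintype.card F = 2) {t : ℕ} (D : Fin t → Submodule F (Fin m ⊕ Fin m → F)) (hD : Cfsg.Geo.IsNondegenerateMDecomposition (Cfsg.sympForm m F) 2 D) : ∃ K : Subgroup (Matrix.GeneralLinearGroup (Fin m ⊕ Fin m) F), Cfsg.Geo.decompositionStabilizer D ⊓ Cfsg.spGL m F < K ∧ K < Cfsg.spGL m F := by
  classical
  have hF : ∀ c : F, c = 0 ∨ c = 1 := by
    intro c
    by_contra hcon
    push Not at hcon
    have hsub : ({0, 1, c} : Finset F) ⊆ Finset.univ := Finset.subset_univ _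
    have hcard : ({0, 1, c} : Finset F).card = 3 := by
      rw [Finset.card_insert_of_notMem, Finset.card_insert_of_notMem, Finset.card_singleton]
      · simp only [Finset.mem_singleton]; exact fun h => hcon.2 h.symm
      · simp only [Finset.mem_insert, Finset.mem_singleton, not_or]
        exact ⟨zero_ne_one, fun h => hcon.1 h.symm⟩
    have := Finset.card_le_card hsub
    rw [hcard, Finset.card_univ, hq] at this
    omega
  let S : Subgroup ((Fin m ⊕ Fin m → F) ≃ₗ[F] (Fin m ⊕ Fin m → F)) :=
    (Cfsg.Geo.decompositionStabilizer D).comap (glEquiv (Fin m ⊕ Fin m) F).symm.toMonoidHom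
  have hSeq : Cfsg.Geo.decompositionStabilizer D = S.comap (glEquiv (Fin m ⊕ Fin m) F).toMonoidHom :=
    (comap_symm_comap (glEquiv (Fin m ⊕ Fin m) F) _).symm
  have hdim : 8 ≤ Module.finrank F (Fin m ⊕ Fin m → F) := by
    rw [Module.finrank_fintype_fun_eq_card, Fintype.card_sum, Fintype.card_fin]
    omega
  obtain ⟨K, hHK, hKI⟩ := not_maximal_dstab (Bsymp m F) (Bsymp_isAlt m) (Bsymp_nondegenerate m) hF hdim
    D hD.decomp.finrank_eq hD.decomp.iSup_eq_top
    (by
      intro i w hw hw0
      obtain ⟨x, hx, hxw⟩ := (hD.nondegenerate i w hw hw0).1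
      exact ⟨x, hx, by rw [Bsymp_apply]; exact hxw⟩)
    (by
      intro i j hij u hu v hv
      rw [Bsymp_apply]
      exact hD.orthogonal i j hij u hu v hv)
    S
    (by
      intro g
      have key : Matrix.toLin' (((glEquiv (Fin m ⊕ Fin m) F).symm g :
          Matrix.GeneralLinearGroup (Fin m ⊕ Fin m) F) : Matrix (Fin m ⊕ Fin m) (Fin m ⊕ Fin m) F) =
          (g : (Fin m ⊕ Fin m → F) →ₗ[F] (Fin m ⊕ Fin m → F)) := by
        refine LinearMap.ext fun x => ?_
        rw [Matrix.toLin'_apply, ← glEquiv_apply, MulEquiv.apply_symm_apply]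
        rfl
      constructor
      · rintro ⟨σ, hσ⟩
        refine ⟨σ, fun i => ?_⟩
        have := hσ i
        simp only [MulEquiv.toMonoidHom_eq_coe, MonoidHom.coe_coe] at this
        rw [key] at this
        exact this
      · rintro ⟨σ, hσ⟩
        refine ⟨σ, fun i => ?_⟩
        simp only [MulEquiv.toMonoidHom_eq_coe, MonoidHom.coe_coe]
        rw [key]
        exact hσ i)
  have hsurj : Function.Surjective (glEquiv (Fin m ⊕ Fin m) F).toMonoidHom :=
    (glEquiv (Fin m ⊕ Fin m) F).surjective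
  refine ⟨K.comap (glEquiv (Fin m ⊕ Fin m) F).toMonoidHom, ?_, ?_⟩
  · rw [hSeq, spGL_eq, ← Subgroup.comap_inf]
    exact (Subgroup.comap_lt_comap_of_surjective hsurj).mpr hHK
  · rw [spGL_eq]
    exact (Subgroup.comap_lt_comap_of_surjective hsurj).mpr hKI

end Cfsg.Agent.S5648
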