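import Cfsg.Statements.S5652
import Cfsg.Agent.Lib.Helper94_Bridge
import Cfsg.Agent.Lib.Helper94_SympQuad

set_option autoImplicit false
open Cfsg

namespace Cfsg.Agent.S5652

open Cfsg.Agent.Lib.Helper94_Symp Cfsg.Agent.Lib.Helper94_Bridge Cfsg.Agent.Lib.Helper94_SympQuad

/-- For a finite field F of characteristic two and m ≥ 7, let Q be a non-degenerate quadratic form on F^(2m) whose polar form is the standard alternating form. Then the elements of Sp_2m(F) that are similarities of Q (they are exactly the isometries of Q) form a maximal subgroup of Sp_2m(F). -/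
theorem result {F : Type*} [Field F] [Fintype F] (m : ℕ) (hm : 7 ≤ m) (heven : ¬ Odd (Fintype.card F)) (Q : (Fin m ⊕ Fin m → F) → F) (hQ : Cfsg.Geo.IsNondegenerateQuadraticForm Q) (hpol : ∀ u v, QuadraticMap.polar Q u v = Cfsg.sympForm m F u v) : Cfsg.Geo.IsMaximalIn (Cfsg.spGL m F) (Cfsg.Geo.quadSimilarityGroup Q ⊓ Cfsg.spGL m F) := by
  have hchar : ringChar F = 2 := by
    rw [FiniteField.even_card_iff_char_two]
    rcases Nat.even_or_odd (Fintype.card F) with h | h
    · exact Nat.even_iff.mp h
    · exact absurd h heven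
  have : CharP F 2 := ringChar.of_eq hchar
  have hsq : ∀ a : F, ∃ b : F, b * b = a := by
    intro a
    obtain ⟨r, hr⟩ := FiniteField.isSquare_of_char_two hchar a
    exact ⟨r, hr.symm⟩
  have hQs : ∀ (c : F) (v : Fin m ⊕ Fin m → F), Q (c • v) = c * c * Q v := by
    intro c v
    rw [hQ.smul, sq]
  have hQp : ∀ u v : Fin m ⊕ Fin m → F, Q (u + v) = Q u + Q v + Bsymp m F u v := by
    intro u v
    have := hpol u v
    simp only [QuadraticMap.polar] at this
    rw [Bsymp_apply]
    linear_combination this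
  have hdim : 8 ≤ Module.finrank F (Fin m ⊕ Fin m → F) := by
    rw [Module.finrank_fintype_fun_eq_card, Fintype.card_sum, Fintype.card_fin]
    omega
  have hHeq : Cfsg.Geo.quadSimilarityGroup Q ⊓ Cfsg.spGL m F =
      (oGroup (Bsymp m F) Q).comap (glEquiv (Fin m ⊕ Fin m) F).toMonoidHom := by
    ext g
    rw [Subgroup.mem_inf, spGL_eq, Subgroup.mem_comap, Subgroup.mem_comap, mem_oGroup]
    simp only [MulEquiv.toMonoidHom_eq_coe, MonoidHom.coe_coe]
    constructor
    · rintro ⟨⟨c, hc⟩, hsp⟩
      refine ⟨hsp, fun v => ?_⟩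
      rw [glEquiv_apply, hc]
      -- the multiplier is one
      obtain ⟨u, w, huw⟩ : ∃ u w : Fin m ⊕ Fin m → F, Bsymp m F u w ≠ 0 := by
        have hpos : 0 < Module.finrank F (Fin m ⊕ Fin m → F) := by omega
        obtain ⟨w, hw⟩ := Module.finrank_pos_iff_exists_ne_zero.mp hpos
        by_contra hcon
        push Not at hcon
        exact hw ((Bsymp_nondegenerate m).2 w (fun u => hcon u w))
      have h1 := hQp (glEquiv (Fin m ⊕ Fin m) F g u) (glEquiv (Fin m ⊕ Fin m) F g w)
      rw [← map_add, hsp u w] at h1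
      simp only [glEquiv_apply] at h1
      rw [hc, hc, hc, hQp u w] at h1
      have h2 : ((c : F) - 1) * Bsymp m F u w = 0 := by linear_combination h1
      rcases mul_eq_zero.mp h2 with h3 | h3
      · rw [sub_eq_zero.mp h3, one_mul]
      · exact absurd h3 huw
    · rintro ⟨hsp, hq⟩
      refine ⟨⟨1, fun v => ?_⟩, hsp⟩
      rw [Units.val_one, one_mul, ← glEquiv_apply]
      exact hq v
  rw [hHeq, spGL_eq]
  apply isMaximalIn_comap
  exact maximal_oGroup (Bsymp m F) (Bsymp_isAlt m) Q hsq hQs hQp (Bsymp_nondegenerate m) hdim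

end Cfsg.Agent.S5652
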