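import Cfsg.Statements.S5654
import Cfsg.Agent.Lib.Helper94_Bridge
import Cfsg.Agent.Lib.Helper94_SLBridge
import Cfsg.Agent.Lib.Helper94_HermBridge
import Cfsg.Agent.Lib.Helper94_HermNondeg

set_option autoImplicit false
open Cfsg

namespace Cfsg.Agent.S5654

open Cfsg.Agent.Lib.Helper94_Symp Cfsg.Agent.Lib.Helper94_Bridge Cfsg.Agent.Lib.Helper94_SLBridge
  Cfsg.Agent.Lib.Helper94_Herm Cfsg.Agent.Lib.Helper94_HermBridge
  Cfsg.Agent.Lib.Helper94_HermNondeg

/-- Let F be the field with q² elements and n ≥ 13. In SU_n(q) (determinant-one isometries of the standard unitary form on F^n) the stabiliser of a non-zero subspace W on which the form is non-degenerate and with 2 dim W < n is a maximal subgroup. -/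
theorem result {F : Type*} [Field F] [Fintype F] (n q : ℕ) (hF : Fintype.card F = q ^ 2) (hn : 13 ≤ n) (W : Submodule F (Fin n → F)) (hW0 : W ≠ ⊥) (hW : Cfsg.Geo.IsNondegenerateOn (Cfsg.hermForm n F q) W) (hdim : 2 * Module.finrank F W < n) : Cfsg.Geo.IsMaximalIn (Cfsg.GU n F q ⊓ Cfsg.Geo.specialLinear (Fin n) F) (Cfsg.Geo.subspaceStabilizer W ⊓ (Cfsg.GU n F q ⊓ Cfsg.Geo.specialLinear (Fin n) F)) := by
  obtain ⟨σ, hσq, hσ⟩ := exists_frob hF
  have hnt : Nontrivial (Fin n) := Fin.nontrivial_iff_two_le.mpr (by omega)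
  rw [subspaceStabilizer_eq, GU_eq σ hσq, specialLinear_eq, ← Subgroup.comap_inf,
    ← Subgroup.comap_inf]
  apply isMaximalIn_comap
  have hfr : Module.finrank F (Fin n → F) = n := by simp
  exact maximal_stab_nondeg hσ (hermB_isHerm σ hσq hσ) (hermB_nondeg σ hσq) (slK (Fin n) F)
    transvection_mem_slK W hW0
    (fun x hx hx0 => by
      obtain ⟨y, hy, hxy⟩ := (hW x hx hx0).2
      exact ⟨y, hy, by rw [hermB_apply]; exact hxy⟩)
    (by rw [hfr]; exact hdim) (by rw [hfr]; omega)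

end Cfsg.Agent.S5654
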