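import Cfsg.Statements.S5656
import Cfsg.Agent.Lib.Helper94_Bridge
import Cfsg.Agent.Lib.Helper94_SLBridge
import Cfsg.Agent.Lib.Helper94_HermBridge
import Cfsg.Agent.Lib.Helper94_HermDecomp

set_option autoImplicit false
open Cfsg

namespace Cfsg.Agent.S5656

open Cfsg.Agent.Lib.Helper94_Symp Cfsg.Agent.Lib.Helper94_Bridge Cfsg.Agent.Lib.Helper94_SLBridge
  Cfsg.Agent.Lib.Helper94_Herm Cfsg.Agent.Lib.Helper94_HermBridge Cfsg.Agent.Lib.Helper94_HermDecomp

/-- Let F be the field with 4 elements (q = 2) and n ≥ 13. Let D be a decomposition of F^n into t pairwise orthogonal 2-dimensional subspaces, each non-degenerate for the standard unitary form Σ u_i v_i². Then the elements of SU_n(2) permuting the members of D form a subgroup that is not maximal: some subgroup lies strictly between it and SU_n(2). -/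
theorem result {F : Type*} [Field F] [Fintype F] (n : ℕ) (hF : Fintype.card F = 4) (hn : 13 ≤ n) {t : ℕ} (D : Fin t → Submodule F (Fin n → F)) (hD : Cfsg.Geo.IsNondegenerateMDecomposition (Cfsg.hermForm n F 2) 2 D) : ∃ K : Subgroup (Matrix.GeneralLinearGroup (Fin n) F), Cfsg.Geo.decompositionStabilizer D ⊓ (Cfsg.GU n F 2 ⊓ Cfsg.Geo.specialLinear (Fin n) F) < K ∧ K < (Cfsg.GU n F 2 ⊓ Cfsg.Geo.specialLinear (Fin n) F) := by
  have hF' : Fintype.card F = 2 ^ 2 := by rw [hF]; norm_num
  obtain ⟨σ, hσq, hσ⟩ := exists_frob hF'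
  have h2 : (2 : F) = 0 := by
    have h4 : ((Fintype.card F : ℕ) : F) = 0 := Nat.cast_card_eq_zero F
    rw [hF] at h4
    have h4' : (2 : F) * 2 = 0 := by
      have : ((4 : ℕ) : F) = 2 * 2 := by norm_num
      rw [← this]; exact h4
    exact mul_self_eq_zero.mp h4'
  have hnorm : ∀ c : F, c ≠ 0 → c * σ c = 1 := by
    intro c hc
    have := FiniteField.pow_card_sub_one_eq_one c hc
    rw [hF] at this
    rw [hσq]
    calc c * c ^ 2 = c ^ (4 - 1) := by ring
      _ = 1 := this
  have hnt : Nontrivial (Fin n) := Fin.nontrivial_iff_two_le.mpr (by omega)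
  let S : Subgroup ((Fin n → F) ≃ₗ[F] (Fin n → F)) :=
    (Cfsg.Geo.decompositionStabilizer D).comap (glEquiv (Fin n) F).symm.toMonoidHom
  have hSeq : Cfsg.Geo.decompositionStabilizer D = S.comap (glEquiv (Fin n) F).toMonoidHom :=
    (comap_symm_comap (glEquiv (Fin n) F) _).symm
  obtain ⟨K, hHK, hKI⟩ := not_maximal_udstab (B := hermB n σ hσq) hσ (hermB_isHerm σ hσq hσ) h2 hnorm
    hD.decomp.two_le D hD.decomp.finrank_eq
    (by
      intro i w hw hw0
      obtain ⟨x, hx, hxw⟩ := (hD.nondegenerate i w hw hw0).2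
      exact ⟨x, hx, by rw [hermB_apply]; exact hxw⟩)
    (by
      intro i j hij u hu v hv
      rw [hermB_apply]
      exact hD.orthogonal i j hij u hu v hv)
    S (slK (Fin n) F)
    (by
      intro g
      have key : Matrix.toLin' (((glEquiv (Fin n) F).symm g :
          Matrix.GeneralLinearGroup (Fin n) F) : Matrix (Fin n) (Fin n) F) =
          (g : (Fin n → F) →ₗ[F] (Fin n → F)) := by
        refine LinearMap.ext fun x => ?_
        rw [Matrix.toLin'_apply, ← glEquiv_apply, MulEquiv.apply_symm_apply]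
        rfl
      constructor
      · rintro ⟨π, hπ⟩
        refine ⟨π, fun i => ?_⟩
        have := hπ i
        simp only [MulEquiv.toMonoidHom_eq_coe, MonoidHom.coe_coe] at this
        rw [key] at this
        exact this
      · rintro ⟨π, hπ⟩
        refine ⟨π, fun i => ?_⟩
        simp only [MulEquiv.toMonoidHom_eq_coe, MonoidHom.coe_coe]
        rw [key]
        exact hπ i)
    transvection_mem_slK
  have hsurj : Function.Surjective (glEquiv (Fin n) F).toMonoidHom :=
    (glEquiv (Fin n) F).surjective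
  refine ⟨K.comap (glEquiv (Fin n) F).toMonoidHom, ?_, ?_⟩
  · rw [hSeq, GU_eq σ hσq, specialLinear_eq, ← Subgroup.comap_inf, ← Subgroup.comap_inf]
    exact (Subgroup.comap_lt_comap_of_surjective hsurj).mpr hHK
  · rw [GU_eq σ hσq, specialLinear_eq, ← Subgroup.comap_inf]
    exact (Subgroup.comap_lt_comap_of_surjective hsurj).mpr hKI

end Cfsg.Agent.S5656
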