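-- Statement S5658: the unitary subfield group of odd prime degree is maximal in SU_n(q), n ≥ 13.
import Cfsg.Statements.S5658
import Cfsg.Agent.Lib.Helper94_Bridge
import Cfsg.Agent.Lib.Helper94_SLBridge
import Cfsg.Agent.Lib.Helper94_HermBridge
import Cfsg.Agent.Lib.Helper94_SubfieldBridge
import Cfsg.Agent.Lib.Helper13_SUGen
import Cfsg.Agent.Lib.Helper98_UFMax

set_option autoImplicit false
set_option linter.style.haveILetI false
open Cfsg

namespace Cfsg.Agent.S5658

open Cfsg.Agent.Lib.Helper94_Symp Cfsg.Agent.Lib.Helper94_Bridge Cfsg.Agent.Lib.Helper94_SLBridge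
  Cfsg.Agent.Lib.Helper94_Herm Cfsg.Agent.Lib.Helper94_HermBridge
  Cfsg.Agent.Lib.Helper94_SubfieldBridge Cfsg.Agent.Lib.Helper98_UFBase
  Cfsg.Agent.Lib.Helper98_UFMax

/-- An involution is not the identity on a subfield of odd prime degree. -/
lemma exists_moved_of_odd {F : Type*} [Field F] {σ : F →+* F} (hσ : Invol σ) (F₀ : Subfield F)
    (hp : (Module.finrank F₀ F).Prime) (h2 : Module.finrank F₀ F ≠ 2) :
    ∃ θ ∈ F₀, σ θ ≠ θ := by
  classical
  by_contra hcon
  push Not at hcon
  haveI := Subalgebra.isSimpleOrder_of_finrank_prime F₀ F hp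
  obtain ⟨θ, hθ⟩ := hσ.ne_id
  let S : Subalgebra F₀ F :=
    { carrier := {x | σ x = x}
      mul_mem' := by
        intro x y hx hy
        show σ (x * y) = x * y
        rw [map_mul, hx, hy]
      add_mem' := by
        intro x y hx hy
        show σ (x + y) = x + y
        rw [map_add, hx, hy]
      algebraMap_mem' := fun r => hcon r r.2 }
  have hS : ∀ x, x ∈ S ↔ σ x = x := fun x => Iff.rfl
  rcases eq_bot_or_eq_top S with hb | ht
  · have hfix : ∀ x, σ x = x → x ∈ F₀ := by
      intro x hx
      have hxS : x ∈ S := (hS x).mpr hx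
      rw [hb, Algebra.mem_bot] at hxS
      obtain ⟨r, hr⟩ := hxS
      rw [← hr]
      exact r.2
    have hspan : Submodule.span F₀ (({1, θ} : Finset F) : Set F) = ⊤ := by
      rw [Submodule.eq_top_iff']
      intro x
      obtain ⟨a, b, ha, hb', rfl⟩ := decomp hσ hθ x
      apply Submodule.add_mem
      · have : a = (⟨a, hfix a ha⟩ : F₀) • (1 : F) := by
          rw [Subfield.smul_def, smul_eq_mul, mul_one]
        rw [this]
        exact Submodule.smul_mem _ _ (Submodule.subset_span (by simp))
      · have : b * θ = (⟨b, hfix b hb'⟩ : F₀) • θ := by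
          rw [Subfield.smul_def, smul_eq_mul]
        rw [this]
        exact Submodule.smul_mem _ _ (Submodule.subset_span (by simp))
    have h3 := finrank_span_finset_le_card (R := F₀) ({1, θ} : Finset F)
    unfold Set.finrank at h3
    rw [hspan, finrank_top] at h3
    have h4 : ({1, θ} : Finset F).card ≤ 2 := Finset.card_le_two
    have h5 := hp.two_le
    omega
  · apply hθ
    have : θ ∈ S := by rw [ht]; exact Algebra.mem_top
    exact this

/-- The unitary rational structure given by an invertible matrix. -/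
lemma uform_of {F : Type*} [Field F] [Fintype F] {n q : ℕ} {σ : F →+* F}
    (hσq : ∀ x, σ x = x ^ q) (hσ : Invol σ) (F₀ : Subfield F)
    (hp : (Module.finrank F₀ F).Prime) (h2 : Module.finrank F₀ F ≠ 2)
    (P : Matrix.GeneralLinearGroup (Fin n) F)
    (hP : Cfsg.Geo.IsFormRationalStructure (Cfsg.hermForm n F q) F₀ 1 P) :
    UForm (hermB n σ hσq) (ratV F₀ (P : Matrix (Fin n) (Fin n) F)) F₀ n := by
  classical
  refine ⟨?_, exists_moved_of_odd hσ F₀ hp h2, ?_, ?_⟩
  · intro c hc
    rw [hσq]
    exact F₀.pow_mem hc q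
  · refine ⟨(Pi.basisFun F (Fin n)).map (glEquiv (Fin n) F P), ?_⟩
    intro v
    have hrepr : ∀ i, ((Pi.basisFun F (Fin n)).map (glEquiv (Fin n) F P)).repr v i =
        ((glEquiv (Fin n) F P).symm v) i := by
      intro i
      simp
    simp only [hrepr]
    rw [mem_ratV]
    constructor
    · rintro ⟨u, hu, rfl⟩ i
      have : (glEquiv (Fin n) F P).symm ((P : Matrix (Fin n) (Fin n) F).mulVec u) = u := by
        rw [← glEquiv_apply, LinearEquiv.symm_apply_apply]
      rw [this]
      exact hu i
    · intro h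
      refine ⟨(glEquiv (Fin n) F P).symm v, h, ?_⟩
      rw [← glEquiv_apply, LinearEquiv.apply_symm_apply]
  · rintro _ ⟨u, hu, rfl⟩ _ ⟨v, hv, rfl⟩
    rw [hermB_apply]
    have := hP u v hu hv
    rwa [one_mul] at this

/-- Let F be the field with q² elements, n ≥ 13, and F₀ a subfield with |F| = |F₀| ^ r for an odd prime r. Let P be an invertible matrix such that the standard unitary form takes values in F₀ on the F₀-span of the columns of P. Then the elements of SU_n(q) lying in the subfield group of P (the conjugate by P of the product of GL_n(F₀) with the scalars) form a maximal subgroup of SU_n(q). -/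
theorem result {F : Type*} [Field F] [Fintype F] (n q : ℕ) (hF : Fintype.card F = q ^ 2) (hn : 13 ≤ n) (F₀ : Subfield F) (r : ℕ) (hr : r.Prime) (hro : Odd r) (hcard : Fintype.card F = Nat.card F₀ ^ r) (P : Matrix.GeneralLinearGroup (Fin n) F) (hP : Cfsg.Geo.IsFormRationalStructure (Cfsg.hermForm n F q) F₀ 1 P) : Cfsg.Geo.IsMaximalIn (Cfsg.GU n F q ⊓ Cfsg.Geo.specialLinear (Fin n) F) (Cfsg.Geo.subfieldSubgroup F₀ P ⊓ (Cfsg.GU n F q ⊓ Cfsg.Geo.specialLinear (Fin n) F)) := by
  classical
  obtain ⟨σ, hσq, hσ⟩ := exists_frob hF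
  have hfr : Module.finrank F (Fin n → F) = n := by simp
  have hfin : Module.finrank F₀ F = r := finrank_eq F₀ r hcard
  have hp : (Module.finrank F₀ F).Prime := by rw [hfin]; exact hr
  have h2 : Module.finrank F₀ F ≠ 2 := by
    rw [hfin]
    rintro rfl
    exact absurd hro (by decide)
  have R := uform_of hσq hσ F₀ hp h2 P hP
  let S : Subgroup ((Fin n → F) ≃ₗ[F] (Fin n → F)) :=
    (Cfsg.Geo.subfieldSubgroup F₀ P).comap (glEquiv (Fin n) F).symm.toMonoidHom
  have hSeq : Cfsg.Geo.subfieldSubgroup F₀ P = S.comap (glEquiv (Fin n) F).toMonoidHom :=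
    (comap_symm_comap (glEquiv (Fin n) F) _).symm
  rw [hSeq, GU_eq σ hσq, specialLinear_eq, ← Subgroup.comap_inf, ← Subgroup.comap_inf]
  apply isMaximalIn_comap
  apply maximal_usub R hσ (hermB_isHerm σ hσq hσ) (hermB_nondeg σ hσq) (by omega)
    (slK (Fin n) F) mem_slK ?_ hp h2 S ?_
  · intro g hg
    exact Cfsg.Agent.Lib.Helper13_SUGen.mem_tvGroup_of_four_le hσ (hermB_isHerm σ hσq hσ)
      (hermB_nondeg σ hσq) (by rw [hfr]; omega) hg.1 ((mem_slK g).mp hg.2)
  · intro g
    have key : ∀ x, (((glEquiv (Fin n) F).symm g : Matrix.GeneralLinearGroup (Fin n) F) :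
        Matrix (Fin n) (Fin n) F).mulVec x = g x := by
      intro x
      rw [← glEquiv_apply, MulEquiv.apply_symm_apply]
    show (glEquiv (Fin n) F).symm g ∈ Cfsg.Geo.subfieldSubgroup F₀ P ↔ _
    rw [mem_subfieldSubgroup_iff]
    simp only [key]

end Cfsg.Agent.S5658
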