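import Cfsg.Statements.S5659
import Cfsg.Agent.Lib.Helper94_Bridge
import Cfsg.Agent.Lib.Helper94_SLBridge
import Cfsg.Agent.Lib.Helper94_HermBridge
import Cfsg.Agent.Lib.Helper94_HermSub
import Cfsg.Agent.Lib.Helper94_SubfieldBridge
import Cfsg.Agent.Lib.Helper94_HermSubBridge
import Cfsg.Agent.Lib.Helper94_HermOSub6
import Cfsg.Agent.Lib.Helper94_HermOSubBridge
import Cfsg.Agent.Lib.Helper13_SUGen

set_option autoImplicit false
open Cfsg

namespace Cfsg.Agent.S5659

open Cfsg.Agent.Lib.Helper94_Symp Cfsg.Agent.Lib.Helper94_Bridge Cfsg.Agent.Lib.Helper94_SLBridge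
  Cfsg.Agent.Lib.Helper94_Herm Cfsg.Agent.Lib.Helper94_HermBridge
  Cfsg.Agent.Lib.Helper94_HermOSub Cfsg.Agent.Lib.Helper94_SubfieldBridge
  Cfsg.Agent.Lib.Helper94_HermSubBridge Cfsg.Agent.Lib.Helper94_HermOSubBridge

/-- Let F be the field with q² elements, q odd, n ≥ 13, and F₀ the subfield with q elements. Let P be an invertible matrix such that the standard unitary form takes values in F₀ on the F₀-span of the columns of P (so it restricts to a non-degenerate symmetric bilinear form there). Then the elements of SU_n(q) lying in the subfield group of P form a maximal subgroup of SU_n(q). -/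
theorem result {F : Type*} [Field F] [Fintype F] (n q : ℕ) (hF : Fintype.card F = q ^ 2) (hn : 13 ≤ n) (hodd : Odd q) (F₀ : Subfield F) (hcard : Fintype.card F = Nat.card F₀ ^ 2) (P : Matrix.GeneralLinearGroup (Fin n) F) (hP : Cfsg.Geo.IsFormRationalStructure (Cfsg.hermForm n F q) F₀ 1 P) : Cfsg.Geo.IsMaximalIn (Cfsg.GU n F q ⊓ Cfsg.Geo.specialLinear (Fin n) F) (Cfsg.Geo.subfieldSubgroup F₀ P ⊓ (Cfsg.GU n F q ⊓ Cfsg.Geo.specialLinear (Fin n) F)) := by
  classical
  have h2 : (2 : F) ≠ 0 := by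
    intro h
    have hc : ringChar F = 2 := by
      have hdvd : ringChar F ∣ 2 := by
        apply ringChar.dvd
        exact_mod_cast h
      have hp : (ringChar F).Prime := CharP.char_is_prime F (ringChar F)
      exact (Nat.prime_dvd_prime_iff_eq hp Nat.prime_two).mp hdvd
    have hev := FiniteField.even_card_of_char_two hc
    have hoddF : Odd (Fintype.card F) := by
      rw [hF]
      exact hodd.pow
    rcases hoddF with ⟨r, hr⟩
    omega
  obtain ⟨σ, hσq, hσ⟩ := exists_frob hF
  have hfr : Module.finrank F (Fin n → F) = n := by simp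
  have hfix : ∀ x : F, x ∈ F₀ ↔ σ x = x := by
    intro x
    rw [hσq]
    exact mem_iff_frob hF F₀ hcard x
  have R := oForm_of hσq hσ F₀ hfix P hP
  let S : Subgroup ((Fin n → F) ≃ₗ[F] (Fin n → F)) :=
    (Cfsg.Geo.subfieldSubgroup F₀ P).comap (glEquiv (Fin n) F).symm.toMonoidHom
  have hSeq : Cfsg.Geo.subfieldSubgroup F₀ P = S.comap (glEquiv (Fin n) F).toMonoidHom :=
    (comap_symm_comap (glEquiv (Fin n) F) _).symm
  rw [hSeq, GU_eq σ hσq, specialLinear_eq, ← Subgroup.comap_inf, ← Subgroup.comap_inf]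
  apply isMaximalIn_comap
  apply maximal_osub R (slK (Fin n) F) hσ (hermB_isHerm σ hσq hσ) (hermB_nondeg σ hσq) h2
    transvection_mem_slK ?_ (by rw [hfr]; omega) S ?_
  · intro g hg
    exact Cfsg.Agent.Lib.Helper13_SUGen.mem_tvGroup_of_four_le hσ (hermB_isHerm σ hσq hσ)
      (hermB_nondeg σ hσq) (by rw [hfr]; omega) hg.1 ((mem_slK g).mp hg.2)
  · intro g
    have key : ∀ x, (((glEquiv (Fin n) F).symm g : Matrix.GeneralLinearGroup (Fin n) F) :
        Matrix (Fin n) (Fin n) F).mulVec x = g x := by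
      intro x
      rw [← glEquiv_apply, MulEquiv.apply_symm_apply]
    show (glEquiv (Fin n) F).symm g ∈ Cfsg.Geo.subfieldSubgroup F₀ P ↔ _
    rw [mem_subfieldSubgroup_iff]
    simp only [key]

end Cfsg.Agent.S5659
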