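import Cfsg.Statements.S5676
import Cfsg.Agent.Lib.Helper94_OrthBridge
import Cfsg.Agent.Lib.Helper44_StdForms

set_option autoImplicit false
open Cfsg

namespace Cfsg.Agent.S5676

open Cfsg.Agent.Lib.Helper44_StdForms in
/-- The standard odd-dimensional form is non-degenerate when `2 ≠ 0`. -/
theorem quadFormOdd_nondeg {F : Type*} [Field F] (m : ℕ) (h2 : (2 : F) ≠ 0) :
    Cfsg.Geo.IsNondegenerateQuadraticForm (Cfsg.quadFormOdd m F) := by
  have hsymm : ∀ x y : Unit ⊕ (Fin m ⊕ Fin m) → F,
      QuadraticMap.polar (Cfsg.quadFormOdd m F) x y = QuadraticMap.polar (Cfsg.quadFormOdd m F) y x :=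
    fun x y => QuadraticMap.polar_comm _ x y
  have hne : ∀ v : Unit ⊕ (Fin m ⊕ Fin m) → F, v ≠ 0 →
      ∃ x, QuadraticMap.polar (Cfsg.quadFormOdd m F) v x ≠ 0 := by
    intro v hv
    obtain ⟨j, hj⟩ := Function.ne_iff.mp hv
    rcases j with j | j | j
    · refine ⟨Pi.single (Sum.inl ()) 1, ?_⟩
      rw [polar_quadFormOdd]
      simp
      exact ⟨h2, hj⟩
    · refine ⟨Pi.single (Sum.inr (Sum.inr j)) 1, ?_⟩
      rw [polar_quadFormOdd]
      simp [Pi.single_apply]
      exact hj
    · refine ⟨Pi.single (Sum.inr (Sum.inl j)) 1, ?_⟩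
      rw [polar_quadFormOdd]
      simp [Pi.single_apply]
      exact hj
  refine ⟨?_, ⟨?_, ?_, ?_, ?_⟩, ?_⟩
  · intro c v
    rw [← coe_qfOdd, QuadraticMap.map_smul, smul_eq_mul, sq]
  · intro x y v
    rw [← coe_qfOdd]
    exact QuadraticMap.polar_add_left _ x y v
  · intro c x v
    rw [← coe_qfOdd]
    exact QuadraticMap.polar_smul_left _ c x v
  · intro v x y
    rw [← coe_qfOdd]
    exact QuadraticMap.polar_add_right _ v x y
  · intro c v x
    rw [← coe_qfOdd]
    exact QuadraticMap.polar_smul_right _ c v x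
  · intro v hv
    obtain ⟨x, hx⟩ := hne v hv
    exact ⟨⟨x, by rw [hsymm]; exact hx⟩, ⟨x, hx⟩⟩


/-- Let F be the field with 3 elements, m ≥ 6, Q the standard quadratic form on F^(2m+1) and Ω the commutator subgroup of its isometry group. Let W be a 2-dimensional subspace on which the polar form is non-degenerate and which contains a line on which Q vanishes. Then the elements of Ω stabilising W form a subgroup that is not maximal: some subgroup lies strictly between it and Ω. -/
theorem result {F : Type*} [Field F] [Fintype F] (hq : Fintype.card F = 3) (m : ℕ) (hm : 6 ≤ m) (W : Submodule F (Unit ⊕ (Fin m ⊕ Fin m) → F)) (hdim : Module.finrank F W = 2) (hW : Cfsg.Geo.IsNondegenerateOn (QuadraticMap.polar (Cfsg.quadFormOdd m F)) W) (hplus : Cfsg.Geo.IsPlusTypeOn (Cfsg.quadFormOdd m F) W) : ∃ K : Subgroup (Matrix.GeneralLinearGroup (Unit ⊕ (Fin m ⊕ Fin m)) F), Cfsg.Geo.subspaceStabilizer W ⊓ Cfsg.Geo.omegaGL (Cfsg.quadFormOdd m F) < K ∧ K < Cfsg.Geo.omegaGL (Cfsg.quadFormOdd m F)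 := by
  have h2 : (2 : F) ≠ 0 := by
    intro h
    have h3 : (3 : F) = 0 := by
      have := Nat.cast_card_eq_zero F
      rw [hq] at this
      exact_mod_cast this
    exact one_ne_zero (by linear_combination h3 - h : (1 : F) = 0)
  exact Cfsg.Agent.Lib.Helper94_OrthBridge.plane_not_maximal _ (quadFormOdd_nondeg m h2)
    (by omega) (by simp; omega) W hdim hW hplus

end Cfsg.Agent.S5676
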