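import Cfsg.Statements.S5677
import Cfsg.Agent.S5675
import Cfsg.Agent.Lib.Helper94_Bridge
import Cfsg.Agent.Lib.Helper94_SLBridge
import Cfsg.Agent.Lib.Helper94_OrthFinal
import Cfsg.Agent.Lib.Helper29_OmegaMaxMain
import Cfsg.Agent.Lib.Helper29_OD_Main

set_option autoImplicit false
open Cfsg

namespace Cfsg.Agent.S5677

open Cfsg.Agent.Lib.Helper94_Symp Cfsg.Agent.Lib.Helper94_Bridge Cfsg.Agent.Lib.Helper94_SLBridge
  Cfsg.Agent.Lib.Helper94_OrthSmall Cfsg.Agent.Lib.Helper94_OrthBridge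
  Cfsg.Agent.Lib.Helper94_OrthSiegel Cfsg.Agent.Lib.Helper94_OrthSiegel2
  Cfsg.Agent.Lib.Helper94_OrthGenBridge Cfsg.Agent.Lib.Helper94_OrthFinal
  Cfsg.Agent.Lib.Helper29_ODDefs Cfsg.Agent.Lib.Helper29_OD_Main

/-- Let F be a finite field of odd order q, m ≥ 6, Q the standard quadratic form on F^(2m+1) and Ω the commutator subgroup of its isometry group. Let D be a decomposition of F^(2m+1) into t ≥ 2 pairwise orthogonal, pairwise Q-isometric subspaces of equal dimension k > 1 on which the polar form is non-degenerate. Unless q = 3 and k = 3, the elements of Ω permuting the members of D form a maximal subgroup of Ω. -/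
theorem result {F : Type*} [Field F] [Fintype F] (hodd : Odd (Fintype.card F)) (m : ℕ) (hm : 6 ≤ m) {t : ℕ} (k : ℕ) (hk : 1 < k) (D : Fin t → Submodule F (Unit ⊕ (Fin m ⊕ Fin m) → F)) (hD : Cfsg.Geo.IsOrthogonalMDecomposition (Cfsg.quadFormOdd m F) k D) (hex : ¬ (Fintype.card F = 3 ∧ k = 3)) : Cfsg.Geo.IsMaximalIn (Cfsg.Geo.omegaGL (Cfsg.quadFormOdd m F)) (Cfsg.Geo.decompositionStabilizer D ⊓ Cfsg.Geo.omegaGL (Cfsg.quadFormOdd m F)) := by
  classical
  have h2 : (2 : F) ≠ 0 := Cfsg.Agent.Lib.Helper44_FinSq.two_ne_zero_of_odd_card hodd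
  have hQ := Cfsg.Agent.S5675.quadFormOdd_nondeg h2 m
  have hcard : Fintype.card (Unit ⊕ (Fin m ⊕ Fin m)) = 2 * m + 1 := by
    simp [Fintype.card_sum]; ring
  have hfrV : Module.finrank F (Unit ⊕ (Fin m ⊕ Fin m) → F) = 2 * m + 1 := by
    rw [Module.finrank_pi, hcard]
  -- numerology
  have htk : t * k = 2 * m + 1 := by
    rw [← hcard]
    exact Cfsg.Agent.Lib.Helper29_OmegaMaxMain.decomp_card hD.decomp.decomp
  have ht2 : 2 ≤ t := hD.decomp.decomp.two_le
  have htodd : Odd t := by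
    rcases Nat.even_or_odd t with he | ho
    · exfalso
      have : Even (t * k) := he.mul_right k
      rw [htk] at this
      exact (Nat.not_even_iff_odd.mpr ⟨m, rfl⟩) this
    · exact ho
  have hkodd : Odd k := by
    rcases Nat.even_or_odd k with he | ho
    · exfalso
      have : Even (t * k) := he.mul_left t
      rw [htk] at this
      exact (Nat.not_even_iff_odd.mpr ⟨m, rfl⟩) this
    · exact ho
  have ht3 : 3 ≤ t := by
    obtain ⟨r, hr⟩ := htodd
    omega
  have hk3 : k = 3 ∨ 5 ≤ k := by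
    obtain ⟨r, hr⟩ := hkodd
    omega
  have hq5 : k = 3 → 5 ≤ Nat.card F := by
    intro hk3'
    rw [Nat.card_eq_fintype_card]
    have h1 : 1 < Fintype.card F := Fintype.one_lt_card
    obtain ⟨r, hr⟩ := hodd
    have : Fintype.card F ≠ 3 := fun h => hex ⟨h, hk3'⟩
    omega
  -- transport
  let S : Subgroup ((Unit ⊕ (Fin m ⊕ Fin m) → F) ≃ₗ[F] (Unit ⊕ (Fin m ⊕ Fin m) → F)) :=
    (Cfsg.Geo.decompositionStabilizer D).comap
      (glEquiv (Unit ⊕ (Fin m ⊕ Fin m)) F).symm.toMonoidHom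
  have hSeq : Cfsg.Geo.decompositionStabilizer D =
      S.comap (glEquiv (Unit ⊕ (Fin m ⊕ Fin m)) F).toMonoidHom :=
    (comap_symm_comap (glEquiv (Unit ⊕ (Fin m ⊕ Fin m)) F) _).symm
  rw [hSeq, omegaGL_eq, ← Subgroup.comap_inf]
  apply isMaximalIn_comap
  have hQs := gen_hQs (Cfsg.quadFormOdd m F) hQ
  have hQp := gen_hQp (Cfsg.quadFormOdd m F) hQ
  have hN := gen_hN (Cfsg.quadFormOdd m F) hQ
  apply maximal_dstab_orth hQs hQp h2 hN
    (fun u z hu huz => sieg_mem_commutator' (Cfsg.quadFormOdd m F) _ hQs hQp hN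
      (by rw [hfrV]; omega) hu huz)
    (gen_hG3 (Cfsg.quadFormOdd m F) hQ (fun h => absurd h h2) (by rw [hcard]; omega))
    k D ?_ ht3 hk3 hq5 S ?_
  · -- ODec
    refine ⟨hD.decomp.decomp.finrank_eq, hD.decomp.decomp.iSup_eq_top, ?_, ?_, hD.isometric⟩
    · intro i a ha ha0
      obtain ⟨x, hx, hxa⟩ := (hD.decomp.nondegenerate i a ha ha0).1
      exact ⟨x, hx, by rw [polarForm_apply]; exact hxa⟩
    · intro i j hij u hu v hv
      rw [polarForm_apply]
      exact hD.decomp.orthogonal i j hij u hu v hv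
  · -- IsDStab
    intro g
    have key : Matrix.toLin' (((glEquiv (Unit ⊕ (Fin m ⊕ Fin m)) F).symm g :
        Matrix.GeneralLinearGroup (Unit ⊕ (Fin m ⊕ Fin m)) F) :
        Matrix (Unit ⊕ (Fin m ⊕ Fin m)) (Unit ⊕ (Fin m ⊕ Fin m)) F) =
        (g : (Unit ⊕ (Fin m ⊕ Fin m) → F) →ₗ[F] (Unit ⊕ (Fin m ⊕ Fin m) → F)) := by
      refine LinearMap.ext fun x => ?_
      rw [Matrix.toLin'_apply, ← glEquiv_apply, MulEquiv.apply_symm_apply]
      rfl
    constructor
    · rintro ⟨σ, hσ⟩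
      refine ⟨σ, fun i => ?_⟩
      have := hσ i
      simp only [MulEquiv.toMonoidHom_eq_coe, MonoidHom.coe_coe] at this
      rw [key] at this
      exact this
    · rintro ⟨σ, hσ⟩
      refine ⟨σ, fun i => ?_⟩
      simp only [MulEquiv.toMonoidHom_eq_coe, MonoidHom.coe_coe]
      rw [key]
      exact hσ i

end Cfsg.Agent.S5677
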