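import Cfsg.Statements.S5686
import Cfsg.Agent.Lib.Helper14_Classes

set_option autoImplicit false
open Cfsg

namespace Cfsg.Agent.S5686

open Matrix Module Cfsg.Agent.Lib.Helper44_Orth Cfsg.Agent.Lib.Helper44_Refl
  Cfsg.Agent.Lib.Helper14_Siegel Cfsg.Agent.Helper14_MaxTS Cfsg.Agent.Lib.Helper14_Classes
  Cfsg.Agent.Lib.Helper14_SiegelAll Cfsg.Agent.Lib.Helper44_Flip

/-- Let F be a finite field with q elements, n ≥ 13 even, Q a non-degenerate quadratic form on F^n of plus type (some subspace of dimension n/2 is totally singular), and Ω the commutator subgroup of the isometry group of Q, viewed inside GL_n(F). The elements of Ω stabilising a subspace of dimension n/2 − 1 on which Q vanishes form a subgroup that is not maximal: some subgroup lies strictly between it and Ω. -/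
theorem result {F : Type*} [Field F] [Fintype F] {n : ℕ} (hn : 13 ≤ n) (heven : Even n) (Q : (Fin n → F) → F) (hQ : Cfsg.Geo.IsNondegenerateQuadraticForm Q) (hplus : Cfsg.Geo.IsPlusTypeOn Q ⊤) (W : Submodule F (Fin n → F)) (hW : Cfsg.Geo.IsTotallySingularQuad Q W) (hdim : 2 * (Module.finrank F W + 1) = n) : ∃ K : Subgroup (Matrix.GeneralLinearGroup (Fin n) F), Cfsg.Geo.subspaceStabilizer W ⊓ Cfsg.Geo.omegaGL Q < K ∧ K < Cfsg.Geo.omegaGL Q := by
  classical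
  obtain ⟨Qf, hQfdef⟩ : ∃ Qf, Qf = toQF Q hQ := ⟨_, rfl⟩
  have hcoe : ⇑Qf = Q := by rw [hQfdef]; rfl
  have hQf : (QuadraticMap.polarBilin Qf).Nondegenerate := by
    rw [hQfdef]; exact nondegenerate_toQF Q hQ
  obtain ⟨m, hm⟩ : ∃ m, m = finrank F W + 1 := ⟨_, rfl⟩
  have hWm : finrank F W + 1 = m := hm.symm
  have hcard : Fintype.card (Fin n) = 2 * m := by rw [Fintype.card_fin, hm]; exact hdim.symm
  have hV : finrank F (Fin n → F) = 2 * m := by
    rw [Module.finrank_fintype_fun_eq_card]; exact hcard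
  have hn5 : 5 ≤ Fintype.card (Fin n) := by rw [Fintype.card_fin]; omega
  have hdim5 : 5 ≤ finrank F (Fin n → F) := by
    rw [Module.finrank_fintype_fun_eq_card]; exact hn5
  have hW' : ∀ u ∈ W, Qf u = 0 := by
    intro u hu
    rw [hcoe]
    exact hW u hu
  have hOmega : Cfsg.Geo.omegaGL Q = (Cfsg.Omega F (⇑Qf)).map (Cfsg.isometryGroup F (⇑Qf)).subtype := by
    rw [hcoe]; rfl
  -- a maximal totally singular subspace
  obtain ⟨X, -, hX, hXdim⟩ := hplus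
  have hX' : ∀ u ∈ X, Qf u = 0 := by
    intro u hu
    rw [hcoe]
    exact hX u hu
  have hXm : finrank F X = m := by
    rw [finrank_top, hV] at hXdim
    omega
  -- the two maximal totally singular subspaces through `W`
  obtain ⟨x, hxX, hxo, hxW⟩ := exists_ext Qf hQf hV hX' hXm hW' hWm
  have hx : Qf x = 0 := hX' x hxX
  obtain ⟨z, hz, hzo, hxz⟩ := exists_pair Qf hQf hV hW' hWm hx hxo hxW
  have hxz' : QuadraticMap.polar (⇑Qf) x z ≠ 0 := hxz
  have hzx' : QuadraticMap.polar (⇑Qf) z x ≠ 0 := by rw [QuadraticMap.polar_comm]; exact hxz'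
  have hzW : z ∉ W := fun h => hzx' (hxo z h)
  obtain ⟨hU₁, hU₁m⟩ := mts_sup_span Qf hQf hV hW' hWm hx hxo hxW
  obtain ⟨hU₂, hU₂m⟩ := mts_sup_span Qf hQf hV hW' hWm hz hzo hzW
  have hne := pair_distinct Qf hQf hV hx hxo hxz
  obtain ⟨U₁, hU₁def⟩ : ∃ U₁, U₁ = W ⊔ Submodule.span F {x} := ⟨_, rfl⟩
  obtain ⟨U₂, hU₂def⟩ : ∃ U₂, U₂ = W ⊔ Submodule.span F {z} := ⟨_, rfl⟩
  rw [← hU₁def] at hU₁ hU₁m hne
  rw [← hU₂def] at hU₂ hU₂m hne
  have hWU₁ : W ≤ U₁ := by rw [hU₁def]; exact le_sup_left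
  have hWU₂ : W ≤ U₂ := by rw [hU₂def]; exact le_sup_left
  have hxU₁ : x ∈ U₁ := by
    rw [hU₁def]; exact Submodule.mem_sup_right (Submodule.mem_span_singleton_self x)
  have hinf : finrank F ↥(U₁ ⊓ U₂) + 1 = m := by
    have h1 : finrank F W ≤ finrank F ↥(U₁ ⊓ U₂) :=
      Submodule.finrank_mono (le_inf hWU₁ hWU₂)
    have h2 : finrank F ↥(U₁ ⊓ U₂) < finrank F U₁ := by
      apply Submodule.finrank_lt_finrank_of_lt
      refine lt_of_le_of_ne inf_le_left ?_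
      intro h
      have hle : U₁ ≤ U₂ := by rw [← h]; exact inf_le_right
      exact hne (Submodule.eq_of_le_of_finrank_eq hle (by rw [hU₁m, hU₂m]))
    omega
  -- a non-zero vector of `W`
  have hWpos : 0 < finrank F W := by omega
  obtain ⟨⟨w₀, hw₀W⟩, hw₀⟩ := Module.finrank_pos_iff_exists_ne_zero.mp hWpos
  have hw₀0 : w₀ ≠ 0 := fun h => hw₀ (Subtype.ext h)
  have hx0 : x ≠ 0 := fun h => hxW (h ▸ W.zero_mem)
  have hz0 : z ≠ 0 := fun h => hzW (h ▸ W.zero_mem)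
  have hxw₀ : QuadraticMap.polar (⇑Qf) x w₀ = 0 := by
    rw [QuadraticMap.polar_comm]; exact hxo w₀ hw₀W
  have hzw₀ : QuadraticMap.polar (⇑Qf) z w₀ = 0 := by
    rw [QuadraticMap.polar_comm]; exact hzo w₀ hw₀W
  have hspan : ∀ y : Fin n → F, y ∉ W → w₀ ∉ Submodule.span F {y} := by
    intro y hy h
    obtain ⟨c, hc⟩ := Submodule.mem_span_singleton.mp h
    have hc0 : c ≠ 0 := by
      intro h0
      rw [h0, zero_smul] at hc
      exact hw₀0 hc.symm
    apply hy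
    have : y = c⁻¹ • w₀ := by rw [← hc, smul_smul, inv_mul_cancel₀ hc0, one_smul]
    rw [this]
    exact W.smul_mem _ hw₀W
  -- the two Siegel elements
  obtain ⟨s, hs, hxs, hsw₀⟩ := exists_singular_orth_polar Qf hQf hdim5 hx0 hx hxw₀ (hspan x hxW) 1
  have hsx : QuadraticMap.polar (⇑Qf) s x = 0 := by rw [QuadraticMap.polar_comm]; exact hxs
  obtain ⟨v, hv, hzv, hvw₀⟩ := exists_singular_orth_polar Qf hQf hdim5 hz0 hz hzw₀ (hspan z hzW) 1
  obtain ⟨ρ, hρ⟩ : ∃ ρ, ρ = siegel Qf s x 1 hs hx hsx := ⟨_, rfl⟩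
  obtain ⟨ρ', hρ'⟩ : ∃ ρ', ρ' = siegel Qf z v 1 hz hv hzv := ⟨_, rfl⟩
  have hρΩ : (ρ : Matrix.GeneralLinearGroup (Fin n) F) ∈ Cfsg.Geo.omegaGL Q := by
    rw [hOmega, hρ]
    exact Subgroup.mem_map_of_mem _ (siegel_mem_omega Qf hQf hn5 s x 1 hs hx hsx)
  have hρ'Ω : (ρ' : Matrix.GeneralLinearGroup (Fin n) F) ∈ Cfsg.Geo.omegaGL Q := by
    rw [hOmega, hρ']
    exact Subgroup.mem_map_of_mem _ (siegel_mem_omega Qf hQf hn5 z v 1 hz hv hzv)
  have hρmat : ((ρ : Matrix.GeneralLinearGroup (Fin n) F) : Matrix (Fin n) (Fin n) F)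
      = Cfsg.siegelMatrix (⇑Qf) s x 1 := by rw [hρ]; rfl
  have hρ'mat : ((ρ' : Matrix.GeneralLinearGroup (Fin n) F) : Matrix (Fin n) (Fin n) F)
      = Cfsg.siegelMatrix (⇑Qf) z v 1 := by rw [hρ']; rfl
  -- `ρ` stabilises `U₁` but not `W`
  have hρU₁ : (ρ : Matrix.GeneralLinearGroup (Fin n) F) ∈ Cfsg.Geo.subspaceStabilizer U₁ := by
    rw [mem_subspaceStabilizer_iff]
    apply Submodule.eq_of_le_of_finrank_eq
    · intro y hy
      obtain ⟨t, ht, rfl⟩ := mem_gmap.mp hy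
      rw [hρmat, siegelMatrix_mulVec, polar_eq_zero_of_ts Qf hU₁ hxU₁ ht]
      simp only [mul_zero, zero_smul, sub_zero]
      exact U₁.add_mem ht (U₁.smul_mem _ hxU₁)
    · rw [finrank_gmap]
  have hρW : (ρ : Matrix.GeneralLinearGroup (Fin n) F) ∉ Cfsg.Geo.subspaceStabilizer W := by
    intro h
    have h' : ∀ t, t ∈ W ↔ ((ρ : Matrix.GeneralLinearGroup (Fin n) F) : Matrix (Fin n) (Fin n) F) *ᵥ t ∈ W := h
    have h1 := (h' w₀).mp hw₀W
    rw [hρmat, siegelMatrix_mulVec, hsw₀, hxw₀] at h1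
    simp only [mul_one, one_smul, mul_zero, zero_smul, sub_zero] at h1
    apply hxW
    have := W.sub_mem h1 hw₀W
    simpa using this
  -- `ρ'` does not stabilise `U₁`
  have hρ'U₁ : (ρ' : Matrix.GeneralLinearGroup (Fin n) F) ∉ Cfsg.Geo.subspaceStabilizer U₁ := by
    intro h
    have h' : ∀ t, t ∈ U₁ ↔ ((ρ' : Matrix.GeneralLinearGroup (Fin n) F) : Matrix (Fin n) (Fin n) F) *ᵥ t ∈ U₁ := h
    have h1 := (h' x).mp hxU₁
    rw [hρ'mat, siegelMatrix_mulVec] at h1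
    have h2 := polar_eq_zero_of_ts Qf hU₁ h1 (hWU₁ hw₀W)
    rw [QuadraticMap.polar_sub_left, QuadraticMap.polar_add_left, QuadraticMap.polar_smul_left,
      QuadraticMap.polar_smul_left, hxw₀, hvw₀, hzw₀] at h2
    simp only [mul_one, one_mul, smul_eq_mul, mul_zero, sub_zero, zero_add] at h2
    exact hzx' h2
  refine ⟨Cfsg.Geo.subspaceStabilizer U₁ ⊓ Cfsg.Geo.omegaGL Q, ?_, ?_⟩
  · rw [SetLike.lt_iff_le_and_exists]
    refine ⟨?_, _, ⟨hρU₁, hρΩ⟩, fun h => hρW h.1⟩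
    rintro g ⟨hgW, hgO⟩
    refine ⟨?_, hgO⟩
    rw [hOmega] at hgO
    obtain ⟨g', hg', rfl⟩ := Subgroup.mem_map.mp hgO
    show (g' : Matrix.GeneralLinearGroup (Fin n) F) ∈ Cfsg.Geo.subspaceStabilizer U₁
    have hgW' : (g' : Matrix.GeneralLinearGroup (Fin n) F) ∈ Cfsg.Geo.subspaceStabilizer W := hgW
    rw [mem_subspaceStabilizer_iff] at hgW' ⊢
    have hT := ts_gmap Qf g' hU₁
    have hTm : finrank F ↥(gmap ((g' : Matrix.GeneralLinearGroup (Fin n) F) :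
        Matrix (Fin n) (Fin n) F) U₁) = m := by rw [finrank_gmap, hU₁m]
    have hWT : W ≤ gmap ((g' : Matrix.GeneralLinearGroup (Fin n) F) :
        Matrix (Fin n) (Fin n) F) U₁ := by
      nth_rewrite 1 [← hgW']
      exact Submodule.map_mono hWU₁
    rcases pair_unique Qf hQf hV hW' hWm hx hz hxo hzo hxz hT hTm hWT with h | h
    · rw [h, hU₁def]
    · exfalso
      have hev := even_codim_of_mem_omega Qf hQf hcard hU₁ hU₁m hg'
      rw [h, ← hU₂def] at hev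
      have : m - finrank F ↥(U₁ ⊓ U₂) = 1 := by omega
      rw [this] at hev
      exact absurd hev (by decide)
  · rw [SetLike.lt_iff_le_and_exists]
    exact ⟨inf_le_right, _, hρ'Ω, fun h => hρ'U₁ h.1⟩

end Cfsg.Agent.S5686
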