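import Cfsg.Statements.S5689
import Cfsg.Agent.Lib.Helper94_OrthReflBridge
import Cfsg.Agent.Lib.Helper94_OrthDoubleBridge
import Cfsg.Agent.Lib.Helper14_SiegelOmega2

set_option autoImplicit false
open Cfsg

namespace Cfsg.Agent.S5689

/-- Let F be a finite field with q elements, n ≥ 13 even, Q a non-degenerate quadratic form on F^n of minus type (no subspace of dimension n/2 is totally singular), and Ω the commutator subgroup of the isometry group of Q, viewed inside GL_n(F). Let W be a non-zero proper subspace on which the polar form of Q is non-degenerate, not of odd dimension n/2. Exclude the case q ≤ 3 in which W, or its orthogonal complement, is a plane containing a line on which Q vanishes. Then the elements of Ω stabilising W form a maximal subgroup of Ω. -/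
theorem result {F : Type*} [Field F] [Fintype F] {n : ℕ} (hn : 13 ≤ n) (heven : Even n) (Q : (Fin n → F) → F) (hQ : Cfsg.Geo.IsNondegenerateQuadraticForm Q) (hminus : ¬ Cfsg.Geo.IsPlusTypeOn Q ⊤) (W : Submodule F (Fin n → F)) (hW0 : W ≠ ⊥) (hW1 : W ≠ ⊤) (hdim : ¬ (2 * Module.finrank F W = n ∧ Odd (Module.finrank F W))) (hW : Cfsg.Geo.IsNondegenerateOn (QuadraticMap.polar Q) W) (hex : ¬ (Fintype.card F ≤ 3 ∧ (∃ U : Submodule F (Fin n → F), Module.finrank F U = 2 ∧ Cfsg.Geo.IsNondegenerateOn (QuadraticMap.polar Q) U ∧ Cfsg.Geo.IsPlusTypeOn Q U ∧ (U = W ∨ (Cfsg.Geo.AreOrthogonalFor (QuadraticMap.polar Q) U W ∧ Module.finrank F U + Module.finrank F W = n))))) : Cfsg.Geo.IsMaximalIn (Cfsg.Geo.omegaGL Q) (Cfsg.Geo.subspaceStabilizer W ⊓ Cfsg.Geo.omegaGL Q) := by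
  have hc2 : (2 : F) = 0 →
      commutator ↥(Cfsg.isometryGroup F (⇑(Cfsg.Agent.Lib.Helper94_OrthGenBridge.qfOf Q hQ))) ≤
        Cfsg.Agent.Lib.Helper14_Siegel.siegelGroup (Cfsg.Agent.Lib.Helper94_OrthGenBridge.qfOf Q hQ) :=
    fun h2 => Cfsg.Agent.Lib.Helper14_SiegelOmega2.commutator_le_siegelGroup_two h2 _
      (Cfsg.Agent.Lib.Helper94_OrthGenBridge.polarBilin_qfOf_nondeg Q hQ)
      (by rw [Fintype.card_fin]; omega)
  by_cases hd : 2 * Module.finrank F W = n
  · have hevW : Even (Module.finrank F W) := by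
      by_contra h
      exact hdim ⟨hd, Nat.not_even_iff_odd.mp h⟩
    exact Cfsg.Agent.Lib.Helper94_OrthDoubleBridge.nondeg_maximal_equal Q hQ hc2
      (by rw [Fintype.card_fin]; exact hn) hminus W (by rw [Fintype.card_fin]; exact hd) hevW hW
  · exact Cfsg.Agent.Lib.Helper94_OrthReflBridge.nondeg_maximal Q hQ hc2
      (by rw [Fintype.card_fin]; exact hn) W hW0 hW1 (by rw [Fintype.card_fin]; exact hd) hW
      (by rw [Fintype.card_fin]; exact hex)

end Cfsg.Agent.S5689
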