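import Cfsg.Statements.S5691
import Cfsg.Agent.Lib.Helper94_OrthFinal
import Cfsg.Agent.Lib.Helper14_SiegelOmega2

set_option autoImplicit false
open Cfsg

namespace Cfsg.Agent.S5691

/-- Let F be a finite field with q elements, n ≥ 13 even, Q a non-degenerate quadratic form on F^n (of either type), and Ω the commutator subgroup of the isometry group of Q, viewed inside GL_n(F). Suppose q is even and v is a vector with Q(v) ≠ 0. Then the elements of Ω stabilising the line spanned by v form a maximal subgroup of Ω. -/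
theorem result {F : Type*} [Field F] [Fintype F] {n : ℕ} (hn : 13 ≤ n) (heven : Even n) (Q : (Fin n → F) → F) (hQ : Cfsg.Geo.IsNondegenerateQuadraticForm Q) (hchar : ¬ Odd (Fintype.card F)) (v : (Fin n → F)) (hv : Q v ≠ 0) : Cfsg.Geo.IsMaximalIn (Cfsg.Geo.omegaGL Q) (Cfsg.Geo.subspaceStabilizer (Submodule.span F {v}) ⊓ Cfsg.Geo.omegaGL Q) := by
  have hc2 : (2 : F) = 0 →
      commutator ↥(Cfsg.isometryGroup F (⇑(Cfsg.Agent.Lib.Helper94_OrthGenBridge.qfOf Q hQ))) ≤
        Cfsg.Agent.Lib.Helper14_Siegel.siegelGroup (Cfsg.Agent.Lib.Helper94_OrthGenBridge.qfOf Q hQ) :=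
    fun h2 => Cfsg.Agent.Lib.Helper14_SiegelOmega2.commutator_le_siegelGroup_two h2 _
      (Cfsg.Agent.Lib.Helper94_OrthGenBridge.polarBilin_qfOf_nondeg Q hQ)
      (by rw [Fintype.card_fin]; omega)
  have h2 : (2 : F) = 0 := by
    have hev : Even (Fintype.card F) := Nat.not_odd_iff_even.mp hchar
    have hc : ringChar F = 2 :=
      (FiniteField.even_card_iff_char_two).mpr (Nat.even_iff.mp hev)
    have h := ringChar.Nat.cast_ringChar (R := F)
    rw [hc] at h
    exact_mod_cast h
  exact Cfsg.Agent.Lib.Helper94_OrthFinal.nonsing_maximal Q hQ hc2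
    (by rw [Fintype.card_fin]; omega) h2 v hv

end Cfsg.Agent.S5691
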