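import Cfsg.Statements.S5692
import Cfsg.Agent.Lib.Helper38_OD2Bridge
import Cfsg.Agent.Lib.Helper94_Q2Main
import Cfsg.Agent.Lib.Helper44_FinSq
import Cfsg.Agent.Lib.Helper83_HP2Main

set_option autoImplicit false
open Cfsg

namespace Cfsg.Agent.S5692

open Module

/-- plus type is invariant under isometries of subspaces -/
theorem isPlusTypeOn_of_isometric {ι : Type} [Fintype ι] [DecidableEq ι] {F : Type*} [Field F]
    (Q : (ι → F) → F) {W W' : Submodule F (ι → F)} (h : Cfsg.Geo.AreIsometricFor Q W W')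
    (hp : Cfsg.Geo.IsPlusTypeOn Q W') : Cfsg.Geo.IsPlusTypeOn Q W := by
  obtain ⟨e, he⟩ := h
  obtain ⟨U, hUW, hU, hfr⟩ := hp
  let f : W' →ₗ[F] (ι → F) := W.subtype ∘ₗ e.symm.toLinearMap
  have hf : Function.Injective f := by
    intro a b hab
    apply e.symm.injective
    exact Subtype.ext hab
  refine ⟨(U.comap W'.subtype).map f, ?_, ?_, ?_⟩
  · rintro _ ⟨x, -, rfl⟩
    exact (e.symm x).2
  · rintro _ ⟨x, hx, rfl⟩
    have h1 := he (e.symm x)
    rw [LinearEquiv.apply_symm_apply] at h1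
    change Q ((e.symm x : W) : ι → F) = 0
    rw [← h1]
    exact hU _ hx
  · rw [← (Submodule.equivMapOfInjective f hf _).finrank_eq,
      (Submodule.comapSubtypeEquivOfLe hUW).finrank_eq, hfr, e.finrank_eq]


/-- Let F be a finite field with q elements, n ≥ 13 even, Q a non-degenerate quadratic form on F^n of plus type (some subspace of dimension n/2 is totally singular), and Ω the commutator subgroup of the isometry group of Q, viewed inside GL_n(F). Let D be a decomposition of F^n into t ≥ 2 pairwise orthogonal, pairwise Q-isometric subspaces of equal dimension k ≥ 2 on which the polar form is non-degenerate, such that: if k is even, either every member is of plus type or t is even; if k is odd, q is odd and the discriminant of Q is a square. Exclude the cases k = 2 with q = 3, k = 2 with plus-type members and q ∈ {2, 4, 5}, k = 3 with q = 3, and k = 4 with plus-type members and q = 2. Then the elements of Ω permuting the members of D form a maximal subgroup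 of Ω. -/
theorem result {F : Type*} [Field F] [Fintype F] {n : ℕ} (hn : 13 ≤ n) (heven : Even n) (Q : (Fin n → F) → F) (hQ : Cfsg.Geo.IsNondegenerateQuadraticForm Q) (hplus : Cfsg.Geo.IsPlusTypeOn Q ⊤) {t : ℕ} (k : ℕ) (hk : 2 ≤ k) (D : Fin t → Submodule F (Fin n → F)) (hD : Cfsg.Geo.IsOrthogonalMDecomposition Q k D) (hke : Even k → ((∀ i, Cfsg.Geo.IsPlusTypeOn Q (D i)) ∨ Even t)) (hko : Odd k → (Odd (Fintype.card F) ∧ Cfsg.Geo.HasSquareDiscriminant Q)) (hex : ¬ ((k = 2 ∧ (Fintype.card F = 3 ∨ ((∀ i, Cfsg.Geo.IsPlusTypeOn Q (D i)) ∧ (Fintype.card F = 2 ∨ Fintype.card F = 4 ∨ Fintype.card F = 5)))) ∨ (k = 3 ∧ Fintype.card F = 3) ∨ (k = 4 ∧ Fintype.card F = 2 ∧ ∀ i, Cfsg.Geo.IsPlusTypeOn Q (D i)))) : Cfsg.Geo.IsMaximalIn (Cfsg.Geo.omegaGL Q) (Cfsg.Geo.decompositionStabilizer D ⊓ Cfsg.Geo.omegaGL Q) := by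
  classical
  have hcard : Fintype.card (Fin n) = n := Fintype.card_fin n
  have hn' : 13 ≤ Fintype.card (Fin n) := by rw [hcard]; exact hn
  have htk : t * k = n := by
    rw [← hcard]
    exact Cfsg.Agent.Lib.Helper29_OmegaMaxMain.decomp_card hD.decomp.decomp
  -- either all blocks are of plus type or none is
  have hall : (∀ i, Cfsg.Geo.IsPlusTypeOn Q (D i)) ∨ ∀ i, ¬ Cfsg.Geo.IsPlusTypeOn Q (D i) := by
    by_cases h : ∀ i, Cfsg.Geo.IsPlusTypeOn Q (D i)
    · exact Or.inl h
    · right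
      push Not at h
      obtain ⟨i₀, hi₀⟩ := h
      intro i hi
      exact hi₀ (isPlusTypeOn_of_isometric Q (hD.isometric i₀ i) hi)
  by_cases hk2 : k = 2
  · subst hk2
    have ht7 : 7 ≤ t := by omega
    have hq3 : Fintype.card F ≠ 3 := fun h => hex (Or.inl ⟨rfl, Or.inl h⟩)
    rcases hall with hp | hnp
    · -- hyperbolic planes: q ∉ {2, 3, 4, 5}
      have hq2 : Fintype.card F ≠ 2 := fun h => hex (Or.inl ⟨rfl, Or.inr ⟨hp, Or.inl h⟩⟩)
      have hq4 : Fintype.card F ≠ 4 := fun h => hex (Or.inl ⟨rfl, Or.inr ⟨hp, Or.inr (Or.inl h)⟩⟩)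
      have hq5 : Fintype.card F ≠ 5 := fun h => hex (Or.inl ⟨rfl, Or.inr ⟨hp, Or.inr (Or.inr h)⟩⟩)
      have hq7 : 7 ≤ Nat.card F := by
        rw [Nat.card_eq_fintype_card]
        have h1 : 1 < Fintype.card F := Fintype.one_lt_card
        have h6 : Fintype.card F ≠ 6 := by
          intro h6
          have hpp : IsPrimePow (Fintype.card F) := FiniteField.isPrimePow_card F
          rw [h6] at hpp
          exact absurd hpp (by decide)
        omega
      have hhyp : ∀ i, ∃ x ∈ D i, x ≠ 0 ∧ Q x = 0 := by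
        intro i
        obtain ⟨U, hUW, hU, hfr⟩ := hp i
        rw [hD.decomp.decomp.finrank_eq i] at hfr
        have hpos : 0 < finrank F U := by omega
        obtain ⟨x, hx, hx0⟩ := Submodule.exists_mem_ne_zero_of_ne_bot
          (fun hbot => by rw [hbot, finrank_bot] at hpos; omega : U ≠ ⊥)
        exact ⟨x, hUW hx, hx0, hU x hx⟩
      apply Cfsg.Agent.Lib.Helper38_OD2Bridge.dstab_bridge
      exact Cfsg.Agent.Lib.Helper83_HP2Main.maximal_dstab_planes_plus
        (Cfsg.Agent.Lib.Helper94_OrthGenBridge.gen_hQs Q hQ)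
        (Cfsg.Agent.Lib.Helper94_OrthGenBridge.gen_hQp Q hQ)
        (Cfsg.Agent.Lib.Helper38_OD2Bridge.hG2_of_geo Q hQ hn')
        (Cfsg.Agent.Lib.Helper38_OD2Bridge.hG3_of_geo Q hQ hn') D
        (Cfsg.Agent.Lib.Helper38_OD2Bridge.odec_of_geo Q hQ hD) hhyp ht7 hq7
        (Cfsg.Agent.Lib.Helper38_OD2Bridge.stabL D)
        (Cfsg.Agent.Lib.Helper38_OD2Bridge.isDStab_stabL D)
    · have hq3' : Nat.card F ≠ 3 := by rw [Nat.card_eq_fintype_card]; exact hq3
      have hani : ∀ i, ∀ x ∈ D i, Q x = 0 → x = 0 := by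
        intro i x hx hQx
        by_contra hx0
        apply hnp i
        refine ⟨Submodule.span F {x}, ?_, ?_, ?_⟩
        · exact Submodule.span_le.mpr (by rintro y rfl; exact hx)
        · intro w hw
          obtain ⟨c, rfl⟩ := Submodule.mem_span_singleton.mp hw
          rw [Cfsg.Agent.Lib.Helper94_OrthGenBridge.gen_hQs Q hQ, hQx, mul_zero]
        · rw [finrank_span_singleton hx0, hD.decomp.decomp.finrank_eq i]
      apply Cfsg.Agent.Lib.Helper38_OD2Bridge.dstab_bridge
      exact Cfsg.Agent.Lib.Helper94_Q2Main.maximal_dstab_planes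
        (Cfsg.Agent.Lib.Helper94_OrthGenBridge.gen_hQs Q hQ)
        (Cfsg.Agent.Lib.Helper94_OrthGenBridge.gen_hQp Q hQ)
        (Cfsg.Agent.Lib.Helper38_OD2Bridge.hG2_of_geo Q hQ hn')
        (Cfsg.Agent.Lib.Helper38_OD2Bridge.hG3_of_geo Q hQ hn') D
        (Cfsg.Agent.Lib.Helper38_OD2Bridge.odec_of_geo Q hQ hD) hani (by omega) hq3'
        (Cfsg.Agent.Lib.Helper38_OD2Bridge.stabL D)
        (Cfsg.Agent.Lib.Helper38_OD2Bridge.isDStab_stabL D)
  by_cases hk3 : k = 3
  · subst hk3
    obtain ⟨hodd, -⟩ := hko (by decide)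
    have h2 : (2 : F) ≠ 0 := Cfsg.Agent.Lib.Helper44_FinSq.two_ne_zero_of_odd_card hodd
    have hq5 : 5 ≤ Fintype.card F := by
      have h1 : 1 < Fintype.card F := Fintype.one_lt_card
      obtain ⟨r, hr⟩ := hodd
      have : Fintype.card F ≠ 3 := fun h => hex (Or.inr (Or.inl ⟨rfl, h⟩))
      omega
    exact Cfsg.Agent.Lib.Helper38_OD2Bridge.dstab_maximal_3 Q hQ hn' D hD h2 hq5
  · have hk4 : 4 ≤ k := by omega
    apply Cfsg.Agent.Lib.Helper38_OD2Bridge.dstab_maximal_ge4 Q hQ hn' k D hD hk4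
    by_cases hk5 : 5 ≤ k
    · exact Or.inr (Or.inl hk5)
    · have hk4' : k = 4 := by omega
      by_cases hq2 : 2 < Fintype.card F
      · exact Or.inl hq2
      · have h1 : 1 < Fintype.card F := Fintype.one_lt_card
        have hq2' : Fintype.card F = 2 := by omega
        rcases hall with hp | hnp
        · exact absurd (Or.inr (Or.inr ⟨hk4', hq2', hp⟩)) hex
        · exact Or.inr (Or.inr hnp)

end Cfsg.Agent.S5692
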