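import Cfsg.Statements.S5693
import Cfsg.Agent.Lib.Helper94_OrthFrameBridge
import Cfsg.Agent.Lib.Helper94_OrthC2Bridge

set_option autoImplicit false
open Cfsg

namespace Cfsg.Agent.S5693

/-- Let F be a finite field with q elements, n ≥ 13 even, Q a non-degenerate quadratic form on F^n of plus type (some subspace of dimension n/2 is totally singular), and Ω the commutator subgroup of the isometry group of Q, viewed inside GL_n(F). Let D be a decomposition of F^n into t ≥ 2 pairwise orthogonal, pairwise Q-isometric subspaces of equal dimension k on which the polar form is non-degenerate (with, for even k, all members of plus type or t even; for odd k, q odd and square discriminant), in one of the cases: k = 2 with q = 3; k = 2 with plus-type members and q ∈ {2, 4, 5}; k = 3 with q = 3; k = 4 with plus-type members and q = 2. Then the elements of Ω permuting the members of D form a subgroup that is not maximal: some subgroup lies strictly between it and Ω. -/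
theorem result {F : Type*} [Field F] [Fintype F] {n : ℕ} (hn : 13 ≤ n) (heven : Even n) (Q : (Fin n → F) → F) (hQ : Cfsg.Geo.IsNondegenerateQuadraticForm Q) (hplus : Cfsg.Geo.IsPlusTypeOn Q ⊤) {t : ℕ} (k : ℕ) (D : Fin t → Submodule F (Fin n → F)) (hD : Cfsg.Geo.IsOrthogonalMDecomposition Q k D) (hke : Even k → ((∀ i, Cfsg.Geo.IsPlusTypeOn Q (D i)) ∨ Even t)) (hko : Odd k → (Odd (Fintype.card F) ∧ Cfsg.Geo.HasSquareDiscriminant Q)) (hcase : ((k = 2 ∧ (Fintype.card F = 3 ∨ ((∀ i, Cfsg.Geo.IsPlusTypeOn Q (D i)) ∧ (Fintype.card F = 2 ∨ Fintype.card F = 4 ∨ Fintype.card F = 5)))) ∨ (k = 3 ∧ Fintype.card F = 3) ∨ (k = 4 ∧ Fintype.card F = 2 ∧ ∀ i, Cfsg.Geo.IsPlusTypeOn Q (D i)))) : ∃ K : Subgroup (Matrix.GeneralLinearGroup (Fin n) F), Cfsg.Geo.decompositionStabilizer D ⊓ Cfsg.Geo.omegaGL Q < K ∧ K < Cfsg.Geo.omegaGL Q := by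
  classical
  open Cfsg.Agent.Lib.Helper94_Symp Cfsg.Agent.Lib.Helper94_OrthSmall
    Cfsg.Agent.Lib.Helper94_OrthBridge Cfsg.Agent.Lib.Helper94_OrthSiegel
    Cfsg.Agent.Lib.Helper94_OrthSiegel2 Cfsg.Agent.Lib.Helper94_OrthGenBridge
    Cfsg.Agent.Lib.Helper94_OrthFrame3 Cfsg.Agent.Lib.Helper94_OrthFrameBridge
    Cfsg.Agent.Lib.Helper94_OrthC2Small Cfsg.Agent.Lib.Helper94_OrthC2Bridge in
  have hfrV : Module.finrank F (Fin n → F) = n := by simp
  have hcardn : 7 ≤ Fintype.card (Fin n) := by rw [Fintype.card_fin]; omega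
  have horth : ∀ i j, i ≠ j → ∀ x ∈ D i, ∀ y ∈ D j, polarForm Q hQ x y = 0 := by
    intro i j hij x hx y hy
    rw [polarForm_apply]
    exact hD.decomp.orthogonal i j hij x hx y hy
  have hnd : ∀ i, ∀ a ∈ D i, a ≠ 0 → ∃ x ∈ D i, polarForm Q hQ x a ≠ 0 := by
    intro i a ha ha0
    obtain ⟨x, hx, hxa⟩ := (hD.decomp.nondegenerate i a ha ha0).1
    exact ⟨x, hx, by rw [polarForm_apply]; exact hxa⟩
  have hG1 : ⁅oG Q, oG Q⁆ ≤ oG Q := Subgroup.commutator_le_self _
  have hG2 : ∀ u z, Q u = 0 → polarForm Q hQ u z = 0 →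
      sieg Q (polarForm Q hQ) u z ∈ ⁅oG Q, oG Q⁆ := fun u z hu huz =>
    sieg_mem_commutator' Q _ (gen_hQs Q hQ) (gen_hQp Q hQ) (gen_hN Q hQ)
      (by rw [hfrV]; omega) hu huz
  have htk : n ≤ t * k := by
    have := finrank_le_mul D k (fun i => by rw [hD.decomp.decomp.finrank_eq])
      hD.decomp.decomp.iSup_eq_top
    rw [hfrV] at this
    exact this
  -- singular vectors of plus type planes
  have hsing : k = 2 → (∀ i, Cfsg.Geo.IsPlusTypeOn Q (D i)) →
      ∀ i, ∃ e ∈ D i, e ≠ 0 ∧ Q e = 0 := by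
    intro hk2 hpl i
    obtain ⟨U, hUW, hUs, hU2⟩ := hpl i
    rw [hD.decomp.decomp.finrank_eq, hk2] at hU2
    have hU0 : U ≠ ⊥ := by
      intro h
      rw [h, finrank_bot] at hU2
      omega
    obtain ⟨e, heU, he0⟩ := Submodule.exists_mem_ne_zero_of_ne_bot hU0
    exact ⟨e, hUW heU, he0, hUs e heU⟩
  rcases hcase with ⟨hk2, hc⟩ | ⟨hk3, hq3⟩ | ⟨hk4, hq2, hpl⟩
  · have ht : 7 ≤ t := by rw [hk2] at htk; omega
    have hfin : ∀ i, Module.finrank F (D i) = 2 := fun i => by
      rw [hD.decomp.decomp.finrank_eq, hk2]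
    rcases hc with hq3 | ⟨hpl, hq2 | hq4 | hq5⟩
    · -- the field of order three
      have h2 : (2 : F) ≠ 0 := two_ne_zero_of_card hq3
      have hsm : ∀ x : F, x = 0 ∨ x = 1 ∨ x = -1 := small_field (by rw [hq3])
      obtain ⟨c, hc0, e, he⟩ := exists_frameVec2_any (gen_hQs Q hQ) (gen_hQp Q hQ) h2 hsm
        (D ⟨0, by omega⟩) (hnd _) (hfin _)
      exact frame_not_maximal Q hQ hq3 hcardn k D hD (by omega) (by omega) ⟨0, by omega⟩ c hc0 e he
    · -- the field of order two
      apply c2_transfer Q hQ D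
      intro S hS
      exact not_maximal_hyp2_two (gen_hQs Q hQ) (gen_hQp Q hQ) (field_two hq2) _ hG1 hG2 D horth
        hnd S hS hfin (hsing hk2 hpl) (by omega)
    · -- the field of order four
      apply c2_transfer Q hQ D
      intro S hS
      obtain ⟨w, hw⟩ := field_four_omega hq4
      exact not_maximal_hyp2_four (gen_hQs Q hQ) (gen_hQp Q hQ)
        (two_eq_zero_of_even_card (by rw [hq4])) (field_four_cube hq4) w hw _ hG1 hG2 D horth
        hnd S hS hfin (hsing hk2 hpl) (by omega)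
    · -- the field of order five
      apply c2_transfer Q hQ D
      intro S hS
      have h2 : (2 : F) ≠ 0 := two_ne_zero_of_odd_card (by rw [hq5])
      obtain ⟨e, he, he0, hQe⟩ := hsing hk2 hpl ⟨0, by omega⟩
      obtain ⟨e₀, hfr⟩ := frameVec_hyp_five (gen_hQs Q hQ) (gen_hQp Q hQ) (field_five_fourth hq5)
        (D ⟨0, by omega⟩) (hnd _) (hfin _) he he0 hQe
      exact not_maximal_frame_iso (gen_hQs Q hQ) (gen_hQp Q hQ) h2 _ hG1 hG2
        (fun a b ha hb => Subgroup.commutator_mem_commutator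
          (refl_mem Q _ (gen_hQs Q hQ) (gen_hQp Q hQ) ha)
          (refl_mem Q _ (gen_hQs Q hQ) (gen_hQp Q hQ) hb))
        D horth hnd S hS hD.isometric (by omega) (fun i => by rw [hfin]) ⟨0, by omega⟩ 1
        one_ne_zero e₀ hfr
  · subst hk3
    exact frame_not_maximal_three Q hQ hq3 hcardn D hD
  · have ht : 4 ≤ t := by rw [hk4] at htk; omega
    have hfin : ∀ i, Module.finrank F (D i) = 4 := fun i => by
      rw [hD.decomp.decomp.finrank_eq, hk4]
    apply c2_transfer Q hQ D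
    intro S hS
    refine not_maximal_hyp4_two (gen_hQs Q hQ) (gen_hQp Q hQ) (field_two hq2) _ hG1 hG2 D horth
      hnd S hS hfin (fun i => ?_) (by omega)
    obtain ⟨U, hUW, hUs, hU2⟩ := hpl i
    rw [hfin] at hU2
    exact ⟨U, hUW, hUs, by omega⟩

end Cfsg.Agent.S5693
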