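import Cfsg.Statements.S5694
import Cfsg.Agent.Lib.Helper38_OD2Bridge
import Cfsg.Agent.Lib.Helper94_Q2Main
import Cfsg.Agent.Lib.Helper44_FinSq

set_option autoImplicit false
open Cfsg

namespace Cfsg.Agent.S5694

/-- Let F be a finite field with q elements, n ≥ 13 even, Q a non-degenerate quadratic form on F^n of minus type (no subspace of dimension n/2 is totally singular), and Ω the commutator subgroup of the isometry group of Q, viewed inside GL_n(F). Let D be a decomposition of F^n into t ≥ 2 pairwise orthogonal, pairwise Q-isometric subspaces of equal dimension k ≥ 2 on which the polar form is non-degenerate, such that: if k is odd, q is odd and the discriminant of Q is a square; if k is even, t is odd and no member is of plus type. Unless q = 3 and k ∈ {2, 3}, the elements of Ω permuting the members of D form a maximal subgroup of Ω. -/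
theorem result {F : Type*} [Field F] [Fintype F] {n : ℕ} (hn : 13 ≤ n) (heven : Even n) (Q : (Fin n → F) → F) (hQ : Cfsg.Geo.IsNondegenerateQuadraticForm Q) (hminus : ¬ Cfsg.Geo.IsPlusTypeOn Q ⊤) {t : ℕ} (k : ℕ) (hk : 2 ≤ k) (D : Fin t → Submodule F (Fin n → F)) (hD : Cfsg.Geo.IsOrthogonalMDecomposition Q k D) (hko : Odd k → (Odd (Fintype.card F) ∧ Cfsg.Geo.HasSquareDiscriminant Q)) (hke : Even k → (Odd t ∧ ∀ i, ¬ Cfsg.Geo.IsPlusTypeOn Q (D i))) (hex : ¬ (Fintype.card F = 3 ∧ (k = 2 ∨ k = 3))) : Cfsg.Geo.IsMaximalIn (Cfsg.Geo.omegaGL Q) (Cfsg.Geo.decompositionStabilizer D ⊓ Cfsg.Geo.omegaGL Q) := by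
  classical
  have hcard : Fintype.card (Fin n) = n := Fintype.card_fin n
  have hn' : 13 ≤ Fintype.card (Fin n) := by rw [hcard]; exact hn
  have htk : t * k = n := by
    rw [← hcard]
    exact Cfsg.Agent.Lib.Helper29_OmegaMaxMain.decomp_card hD.decomp.decomp
  by_cases hk2 : k = 2
  · -- anisotropic planes: helper94's Q2 theorem
    subst hk2
    obtain ⟨htodd, hnp⟩ := hke (by decide)
    have ht5 : 5 ≤ t := by omega
    have hq3 : Nat.card F ≠ 3 := by
      rw [Nat.card_eq_fintype_card]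
      exact fun h => hex ⟨h, Or.inl rfl⟩
    have hani : ∀ i, ∀ x ∈ D i, Q x = 0 → x = 0 := by
      intro i x hx hQx
      by_contra hx0
      apply hnp i
      refine ⟨Submodule.span F {x}, ?_, ?_, ?_⟩
      · exact Submodule.span_le.mpr (by rintro y rfl; exact hx)
      · intro w hw
        obtain ⟨c, rfl⟩ := Submodule.mem_span_singleton.mp hw
        rw [Cfsg.Agent.Lib.Helper94_OrthGenBridge.gen_hQs Q hQ, hQx, mul_zero]
      · rw [finrank_span_singleton hx0, hD.decomp.decomp.finrank_eq i]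
    apply Cfsg.Agent.Lib.Helper38_OD2Bridge.dstab_bridge
    exact Cfsg.Agent.Lib.Helper94_Q2Main.maximal_dstab_planes
      (Cfsg.Agent.Lib.Helper94_OrthGenBridge.gen_hQs Q hQ)
      (Cfsg.Agent.Lib.Helper94_OrthGenBridge.gen_hQp Q hQ)
      (Cfsg.Agent.Lib.Helper38_OD2Bridge.hG2_of_geo Q hQ hn')
      (Cfsg.Agent.Lib.Helper38_OD2Bridge.hG3_of_geo Q hQ hn') D
      (Cfsg.Agent.Lib.Helper38_OD2Bridge.odec_of_geo Q hQ hD) hani ht5 hq3
      (Cfsg.Agent.Lib.Helper38_OD2Bridge.stabL D) (Cfsg.Agent.Lib.Helper38_OD2Bridge.isDStab_stabL D)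
  by_cases hk3 : k = 3
  · subst hk3
    obtain ⟨hodd, -⟩ := hko (by decide)
    have h2 : (2 : F) ≠ 0 := Cfsg.Agent.Lib.Helper44_FinSq.two_ne_zero_of_odd_card hodd
    have hq5 : 5 ≤ Fintype.card F := by
      have h1 : 1 < Fintype.card F := Fintype.one_lt_card
      obtain ⟨r, hr⟩ := hodd
      have : Fintype.card F ≠ 3 := fun h => hex ⟨h, Or.inr rfl⟩
      omega
    exact Cfsg.Agent.Lib.Helper38_OD2Bridge.dstab_maximal_3 Q hQ hn' D hD h2 hq5
  · have hk4 : 4 ≤ k := by omega
    apply Cfsg.Agent.Lib.Helper38_OD2Bridge.dstab_maximal_ge4 Q hQ hn' k D hD hk4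
    by_cases hk5 : 5 ≤ k
    · exact Or.inr (Or.inl hk5)
    · have hk4' : k = 4 := by omega
      exact Or.inr (Or.inr (hke (by rw [hk4']; decide)).2)

end Cfsg.Agent.S5694
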