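import Cfsg.Statements.S5698
import Cfsg.Agent.Lib.Helper14_Classes

set_option autoImplicit false
open Cfsg

namespace Cfsg.Agent.S5698

open Matrix Module Cfsg.Agent.Lib.Helper44_Orth Cfsg.Agent.Lib.Helper44_Refl
  Cfsg.Agent.Lib.Helper14_Siegel Cfsg.Agent.Helper14_MaxTS Cfsg.Agent.Lib.Helper14_Classes
  Cfsg.Agent.Lib.Helper14_SiegelAll Cfsg.Agent.Lib.Helper44_Flip

variable {ι : Type} [Fintype ι] [DecidableEq ι] {F : Type*} [Field F]

/-- A Siegel transformation attached to two independent vectors of a maximal totally singular subspace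
`A` stabilises `A` and moves every maximal totally singular subspace complementary to `A`. -/
theorem siegel_moves (Q : QuadraticForm F (ι → F)) (hQ : (QuadraticMap.polarBilin Q).Nondegenerate)
    {m : ℕ} (hcard : Fintype.card ι = 2 * m) {A B' : Submodule F (ι → F)}
    (hA : ∀ u ∈ A, Q u = 0) (hB : ∀ u ∈ B', Q u = 0) (hBm : finrank F B' = m)
    (hAB : A ⊓ B' = ⊥) {u v : ι → F} (hu : u ∈ A) (hv : v ∈ A) (hu0 : u ≠ 0)
    (hvu : v ∉ Submodule.span F {u}) :
    ∃ (hu' : Q u = 0) (hv' : Q v = 0) (huv : QuadraticMap.polar (⇑Q) u v = 0),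
      gmap (Cfsg.siegelMatrix (⇑Q) u v 1) A = gmap (Cfsg.siegelMatrix (⇑Q) u v 1) A ∧
      ((siegel Q u v 1 hu' hv' huv : Matrix.GeneralLinearGroup ι F)
        ∈ Cfsg.Geo.subspaceStabilizer A) ∧
      ((siegel Q u v 1 hu' hv' huv : Matrix.GeneralLinearGroup ι F)
        ∉ Cfsg.Geo.subspaceStabilizer B') := by
  have hV : finrank F (ι → F) = 2 * m := by rw [Module.finrank_fintype_fun_eq_card]; exact hcard
  refine ⟨hA u hu, hA v hv, polar_eq_zero_of_ts Q hA hu hv, rfl, ?_, ?_⟩
  · intro x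
    show x ∈ A ↔ Cfsg.siegelMatrix (⇑Q) u v 1 *ᵥ x ∈ A
    rw [siegelMatrix_mulVec]
    have hd : (1 * QuadraticMap.polar (⇑Q) u x) • v - (1 * QuadraticMap.polar (⇑Q) v x) • u ∈ A :=
      A.sub_mem (A.smul_mem _ hv) (A.smul_mem _ hu)
    constructor
    · intro hx
      rw [add_sub_assoc]
      exact A.add_mem hx hd
    · intro hx
      rw [add_sub_assoc] at hx
      have := A.sub_mem hx hd
      simpa using this
  · intro hstab
    have hstab' : ∀ x, x ∈ B' ↔ Cfsg.siegelMatrix (⇑Q) u v 1 *ᵥ x ∈ B' := hstab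
    have hBo := orthogonal_eq_self Q hQ hV hB hBm
    have hmem : u ∈ LinearMap.BilinForm.orthogonal (QuadraticMap.polarBilin Q) B' := by
      intro x hx
      show QuadraticMap.polar (⇑Q) x u = 0
      rw [QuadraticMap.polar_comm]
      by_contra hne
      have hgx := (hstab' x).mp hx
      rw [siegelMatrix_mulVec, add_sub_assoc] at hgx
      have hd : (1 * QuadraticMap.polar (⇑Q) u x) • v - (1 * QuadraticMap.polar (⇑Q) v x) • u ∈ B' := by
        have := B'.sub_mem hgx hx
        simpa using this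
      have hdA : (1 * QuadraticMap.polar (⇑Q) u x) • v - (1 * QuadraticMap.polar (⇑Q) v x) • u ∈ A :=
        A.sub_mem (A.smul_mem _ hv) (A.smul_mem _ hu)
      have hz : (1 * QuadraticMap.polar (⇑Q) u x) • v - (1 * QuadraticMap.polar (⇑Q) v x) • u = 0 := by
        have : (1 * QuadraticMap.polar (⇑Q) u x) • v - (1 * QuadraticMap.polar (⇑Q) v x) • u
            ∈ A ⊓ B' := ⟨hdA, hd⟩
        rw [hAB] at this
        exact (Submodule.mem_bot F).mp this
      apply hvu
      rw [Submodule.mem_span_singleton]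
      refine ⟨(QuadraticMap.polar (⇑Q) u x)⁻¹ * QuadraticMap.polar (⇑Q) v x, ?_⟩
      have h1 : (QuadraticMap.polar (⇑Q) u x) • v = (QuadraticMap.polar (⇑Q) v x) • u := by
        rw [one_mul, one_mul] at hz
        exact sub_eq_zero.mp hz
      rw [mul_smul, ← h1, smul_smul, inv_mul_cancel₀ hne, one_smul]
    rw [hBo] at hmem
    have : u ∈ A ⊓ B' := ⟨hu, hmem⟩
    rw [hAB] at this
    exact hu0 ((Submodule.mem_bot F).mp this)

/-- Two independent vectors in a subspace of dimension at least two. -/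
theorem exists_pair_of_two_le {A : Submodule F (ι → F)} (hA : 2 ≤ finrank F A) :
    ∃ u ∈ A, ∃ v ∈ A, u ≠ 0 ∧ v ∉ Submodule.span F {u} := by
  have hpos : 0 < finrank F A := by omega
  obtain ⟨⟨u, huA⟩, hu0⟩ := Module.finrank_pos_iff_exists_ne_zero.mp hpos
  have hu0' : u ≠ 0 := fun h => hu0 (Subtype.ext h)
  have hle : Submodule.span F {u} ≤ A := by
    rw [Submodule.span_singleton_le_iff_mem]; exact huA
  have hlt : Submodule.span F {u} < A := by
    refine lt_of_le_of_ne hle ?_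
    intro h
    have h1 : finrank F (Submodule.span F {u}) ≤ 1 := by
      have := finrank_span_singleton (K := F) hu0'
      omega
    rw [h] at h1
    omega
  obtain ⟨v, hvA, hv⟩ := SetLike.exists_of_lt hlt
  exact ⟨u, huA, v, hvA, hu0', hv⟩

/-- Let F be a finite field with q elements, n ≥ 13 even, Q a non-degenerate quadratic form on F^n of plus type (some subspace of dimension n/2 is totally singular), and Ω the commutator subgroup of the isometry group of Q, viewed inside GL_n(F). Suppose n/2 is odd and let D be a decomposition of F^n into two complementary subspaces of dimension n/2 on each of which Q vanishes. Then the elements of Ω preserving or interchanging the two subspaces form a subgroup that is not maximal: some subgroup lies strictly between it and Ω. -/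
theorem result {F : Type*} [Field F] [Fintype F] {n : ℕ} (hn : 13 ≤ n) (heven : Even n) (Q : (Fin n → F) → F) (hQ : Cfsg.Geo.IsNondegenerateQuadraticForm Q) (hplus : Cfsg.Geo.IsPlusTypeOn Q ⊤) (k : ℕ) (hk : 2 * k = n) (hko : Odd k) (D : Fin 2 → Submodule F (Fin n → F)) (hD : Cfsg.Geo.IsMDecomposition k D) (hts : ∀ i, Cfsg.Geo.IsTotallySingularQuad Q (D i)) : ∃ K : Subgroup (Matrix.GeneralLinearGroup (Fin n) F), Cfsg.Geo.decompositionStabilizer D ⊓ Cfsg.Geo.omegaGL Q < K ∧ K < Cfsg.Geo.omegaGL Q := by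
  classical
  obtain ⟨Qf, hQfdef⟩ : ∃ Qf, Qf = toQF Q hQ := ⟨_, rfl⟩
  have hcoe : ⇑Qf = Q := by rw [hQfdef]; rfl
  have hQf : (QuadraticMap.polarBilin Qf).Nondegenerate := by
    rw [hQfdef]; exact nondegenerate_toQF Q hQ
  have hcard : Fintype.card (Fin n) = 2 * k := by rw [Fintype.card_fin]; exact hk.symm
  have hn5 : 5 ≤ Fintype.card (Fin n) := by rw [Fintype.card_fin]; omega
  have hts' : ∀ i, ∀ u ∈ D i, Qf u = 0 := by
    intro i u hu
    rw [hcoe]
    exact hts i u hu
  have hdim : ∀ i, finrank F (D i) = k := hD.finrank_eq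
  have h01 : D 0 ⊓ D 1 = ⊥ :=
    disjoint_iff.mp (hD.indep.pairwiseDisjoint (by decide : (0 : Fin 2) ≠ 1))
  have h10 : D 1 ⊓ D 0 = ⊥ := by rw [inf_comm]; exact h01
  have hk2 : 2 ≤ k := by omega
  have hOmega : Cfsg.Geo.omegaGL Q = (Cfsg.Omega F (⇑Qf)).map (Cfsg.isometryGroup F (⇑Qf)).subtype := by
    rw [hcoe]; rfl
  -- the two Siegel elements
  obtain ⟨u, hu, v, hv, hu0, hvu⟩ := exists_pair_of_two_le (A := D 0) (by rw [hdim]; exact hk2)
  obtain ⟨hu', hv', huv, -, hg0, hg1⟩ := siegel_moves Qf hQf hcard (hts' 0) (hts' 1) (hdim 1) h01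
    hu hv hu0 hvu
  obtain ⟨u₁, hu₁, v₁, hv₁, hu₁0, hvu₁⟩ := exists_pair_of_two_le (A := D 1) (by rw [hdim]; exact hk2)
  obtain ⟨hu₁', hv₁', huv₁, -, hg₁1, hg₁0⟩ := siegel_moves Qf hQf hcard (hts' 1) (hts' 0) (hdim 0) h10
    hu₁ hv₁ hu₁0 hvu₁
  have hgΩ : ((siegel Qf u v 1 hu' hv' huv : Matrix.GeneralLinearGroup (Fin n) F))
      ∈ Cfsg.Geo.omegaGL Q := by
    rw [hOmega]
    exact Subgroup.mem_map_of_mem _ (siegel_mem_omega Qf hQf hn5 u v 1 hu' hv' huv)
  have hg₁Ω : ((siegel Qf u₁ v₁ 1 hu₁' hv₁' huv₁ : Matrix.GeneralLinearGroup (Fin n) F))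
      ∈ Cfsg.Geo.omegaGL Q := by
    rw [hOmega]
    exact Subgroup.mem_map_of_mem _ (siegel_mem_omega Qf hQf hn5 u₁ v₁ 1 hu₁' hv₁' huv₁)
  have hD01 : D 0 ≠ D 1 := by
    intro h
    have : D 0 ⊓ D 0 = ⊥ := by nth_rewrite 2 [h]; exact h01
    rw [inf_idem] at this
    have h2 := hdim 0
    rw [this, finrank_bot] at h2
    omega
  have fin2 : ∀ i : Fin 2, i = 0 ∨ i = 1 := by decide
  refine ⟨Cfsg.Geo.subspaceStabilizer (D 0) ⊓ Cfsg.Geo.omegaGL Q, ?_, ?_⟩
  · rw [SetLike.lt_iff_le_and_exists]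
    refine ⟨?_, ?_⟩
    · rintro g ⟨hgD, hgO⟩
      refine ⟨?_, hgO⟩
      rw [hOmega] at hgO
      obtain ⟨g', hg', rfl⟩ := Subgroup.mem_map.mp hgO
      obtain ⟨σ, hσ⟩ := hgD
      show (g' : Matrix.GeneralLinearGroup (Fin n) F) ∈ Cfsg.Geo.subspaceStabilizer (D 0)
      rw [mem_subspaceStabilizer_iff]
      have h0 := hσ 0
      rcases fin2 (σ 0) with h | h
      · rw [h] at h0
        exact h0
      · exfalso
        rw [h] at h0
        have hev := even_codim_of_mem_omega Qf hQf hcard (hts' 0) (hdim 0) hg'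
        have : gmap ((g' : Matrix.GeneralLinearGroup (Fin n) F) : Matrix (Fin n) (Fin n) F) (D 0)
            = D 1 := h0
        rw [this, h01, finrank_bot, Nat.sub_zero] at hev
        exact (Nat.not_even_iff_odd.mpr hko) hev
    · refine ⟨_, ⟨hg0, hgΩ⟩, ?_⟩
      rintro ⟨⟨σ, hσ⟩, -⟩
      have hst0 := (mem_subspaceStabilizer_iff _ _).mp hg0
      have h0 := hσ 0
      have hσ0 : σ 0 = 0 := by
        rcases fin2 (σ 0) with h | h
        · exact h
        · exfalso
          rw [h] at h0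
          exact hD01 (hst0.symm.trans h0)
      have hσ1 : σ 1 = 1 := by
        rcases fin2 (σ 1) with h | h
        · exfalso
          have : σ 1 = σ 0 := by rw [h, hσ0]
          exact absurd (σ.injective this) (by decide)
        · exact h
      have h1 := hσ 1
      rw [hσ1] at h1
      exact hg1 ((mem_subspaceStabilizer_iff _ _).mpr h1)
  · rw [SetLike.lt_iff_le_and_exists]
    refine ⟨inf_le_right, _, hg₁Ω, ?_⟩
    rintro ⟨h, -⟩
    exact hg₁0 h

end Cfsg.Agent.S5698
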