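import Cfsg.Statements.S5699
import Cfsg.Agent.Lib.Helper94_Bridge
import Cfsg.Agent.Lib.Helper94_SLBridge
import Cfsg.Agent.Lib.Helper94_OrthFinal
import Cfsg.Agent.Lib.Helper94_OrthNondeg
import Cfsg.Agent.Lib.Helper14_SiegelOmega2

set_option autoImplicit false
open Cfsg

namespace Cfsg.Agent.S5699

open Matrix Module Cfsg.Agent.Lib.Helper94_Symp Cfsg.Agent.Lib.Helper94_Bridge
  Cfsg.Agent.Lib.Helper94_SLBridge
  Cfsg.Agent.Lib.Helper94_OrthSmall Cfsg.Agent.Lib.Helper94_OrthBridge
  Cfsg.Agent.Lib.Helper94_OrthSiegel Cfsg.Agent.Lib.Helper94_OrthSiegel2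
  Cfsg.Agent.Lib.Helper94_OrthGenBridge Cfsg.Agent.Lib.Helper94_OrthFinal
  Cfsg.Agent.Lib.Helper94_OrthNondeg

/-- Let F be a finite field with q elements, n ≥ 13 even, Q a non-degenerate quadratic form on F^n (of either type), and Ω the commutator subgroup of the isometry group of Q, viewed inside GL_n(F). Let D be a decomposition of F^n into two orthogonal subspaces of odd dimension n/2 on which the polar form is non-degenerate and which are not Q-isometric to each other. Then the elements of Ω permuting (necessarily fixing) the two subspaces form a maximal subgroup of Ω. -/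
theorem result {F : Type*} [Field F] [Fintype F] {n : ℕ} (hn : 13 ≤ n) (heven : Even n) (Q : (Fin n → F) → F) (hQ : Cfsg.Geo.IsNondegenerateQuadraticForm Q) (k : ℕ) (hk : 2 * k = n) (hko : Odd k) (D : Fin 2 → Submodule F (Fin n → F)) (hD : Cfsg.Geo.IsNondegenerateMDecomposition (QuadraticMap.polar Q) k D) (hni : ¬ Cfsg.Geo.AreIsometricFor Q (D 0) (D 1)) : Cfsg.Geo.IsMaximalIn (Cfsg.Geo.omegaGL Q) (Cfsg.Geo.decompositionStabilizer D ⊓ Cfsg.Geo.omegaGL Q) := by
  classical
  have hc2 : (2 : F) = 0 →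
      commutator ↥(Cfsg.isometryGroup F (⇑(qfOf Q hQ))) ≤
        Cfsg.Agent.Lib.Helper14_Siegel.siegelGroup (qfOf Q hQ) :=
    fun h2 => Cfsg.Agent.Lib.Helper14_SiegelOmega2.commutator_le_siegelGroup_two h2 _
      (polarBilin_qfOf_nondeg Q hQ) (by rw [Fintype.card_fin]; omega)
  have hfrV : finrank F (Fin n → F) = n := by simp
  have hfr : ∀ i, finrank F (D i) = k := hD.decomp.finrank_eq
  have hk7 : 7 ≤ k := by omega
  let S : Subgroup ((Fin n → F) ≃ₗ[F] (Fin n → F)) :=
    (Cfsg.Geo.decompositionStabilizer D).comap (glEquiv (Fin n) F).symm.toMonoidHom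
  have hSeq : Cfsg.Geo.decompositionStabilizer D = S.comap (glEquiv (Fin n) F).toMonoidHom :=
    (comap_symm_comap (glEquiv (Fin n) F) _).symm
  have hSchar : ∀ g, g ∈ S ↔ ∃ π : Equiv.Perm (Fin 2),
      ∀ i, (D i).map (g : (Fin n → F) →ₗ[F] (Fin n → F)) = D (π i) := by
    intro g
    have key : Matrix.toLin' (((glEquiv (Fin n) F).symm g :
        Matrix.GeneralLinearGroup (Fin n) F) : Matrix (Fin n) (Fin n) F) =
        (g : (Fin n → F) →ₗ[F] (Fin n → F)) := by
      refine LinearMap.ext fun x => ?_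
      rw [Matrix.toLin'_apply, ← glEquiv_apply, MulEquiv.apply_symm_apply]
      rfl
    constructor
    · rintro ⟨π, hπ⟩
      refine ⟨π, fun i => ?_⟩
      have := hπ i
      simp only [MulEquiv.toMonoidHom_eq_coe, MonoidHom.coe_coe] at this
      rw [key] at this
      exact this
    · rintro ⟨π, hπ⟩
      refine ⟨π, fun i => ?_⟩
      simp only [MulEquiv.toMonoidHom_eq_coe, MonoidHom.coe_coe]
      rw [key]
      exact hπ i
  have hsymm := B_symm Q (polarForm Q hQ) (gen_hQp Q hQ)
  have hAA' : ∀ a ∈ D 0, ∀ a' ∈ D 1, polarForm Q hQ a a' = 0 := by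
    intro a ha a' ha'
    rw [polarForm_apply]
    exact hD.orthogonal 0 1 (by decide) a ha a' ha'
  have hsup : D 0 ⊔ D 1 = ⊤ := by
    rw [eq_top_iff, ← hD.decomp.iSup_eq_top]
    apply iSup_le
    intro i
    fin_cases i
    · exact le_sup_left
    · exact le_sup_right
  have hdec : ∀ x : Fin n → F, ∃ a ∈ D 0, ∃ a' ∈ D 1, a + a' = x := fun x =>
    Submodule.mem_sup.mp (hsup ▸ Submodule.mem_top)
  have hmapeq : ∀ (g : (Fin n → F) ≃ₗ[F] (Fin n → F)) (W W' : Submodule F (Fin n → F)),
      finrank F W = finrank F W' →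
      (∀ v ∈ W, g v ∈ W') → W.map (g : (Fin n → F) →ₗ[F] (Fin n → F)) = W' := by
    intro g W W' hf h
    apply Submodule.eq_of_le_of_finrank_eq
    · rintro _ ⟨v, hv, rfl⟩
      exact h v hv
    · rw [LinearEquiv.finrank_map_eq g W]
      exact hf
  have hni' : ∀ g ∈ oG Q, ¬ ∀ y ∈ D 1, g y ∈ D 0 := by
    intro g hg hcon
    apply hni
    have hmap := hmapeq g (D 1) (D 0) (by rw [hfr, hfr]) hcon
    let e' : D 1 ≃ₗ[F] D 0 := (g.submoduleMap (D 1)).trans (LinearEquiv.ofEq _ _ hmap)
    refine ⟨e'.symm, fun w => ?_⟩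
    have h1 : e' (e'.symm w) = w := e'.apply_symm_apply w
    have h2 : ((e' (e'.symm w) : D 0) : Fin n → F) = g ((e'.symm w : D 1) : Fin n → F) := rfl
    rw [← hg ((e'.symm w : D 1) : Fin n → F), ← h2, h1]
  rw [hSeq, omegaGL_eq, ← Subgroup.comap_inf]
  apply isMaximalIn_comap
  have key := maximal_stab_nondeg (gen_hQs Q hQ) (gen_hQp Q hQ) (gen_hN Q hQ) ⁅oG Q, oG Q⁆
    (Subgroup.commutator_le_self _)
    (fun u z hu huz => sieg_mem_commutator' Q _ (gen_hQs Q hQ) (gen_hQp Q hQ) (gen_hN Q hQ)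
      (by rw [hfrV]; omega) hu huz)
    (gen_hG3 Q hQ hc2 (by rw [Fintype.card_fin]; omega)) (D 0) (D 1) hAA' hsup
    (by rw [hfr]; omega) (by rw [hfr]; omega) hni'
  have hSG : S ⊓ ⁅oG Q, oG Q⁆ = stab (D 1) ⊓ ⁅oG Q, oG Q⁆ := by
    ext g
    constructor
    · rintro ⟨hgS, hgG⟩
      refine ⟨?_, hgG⟩
      obtain ⟨π, hπ⟩ := (hSchar g).mp hgS
      have h01 : ∀ j : Fin 2, j = 0 ∨ j = 1 := by decide
      rcases h01 (π 1) with h | h
      · exfalso
        apply hni' g (Subgroup.commutator_le_self _ hgG)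
        intro y hy
        have := hπ 1
        rw [h] at this
        rw [← this]
        exact ⟨y, hy, rfl⟩
      · apply mem_stab_of_forall_mem
        intro y hy
        have := hπ 1
        rw [h] at this
        rw [← this]
        exact ⟨y, hy, rfl⟩
    · rintro ⟨hgs, hgG⟩
      refine ⟨?_, hgG⟩
      have hgO : g ∈ oG Q := Subgroup.commutator_le_self _ hgG
      apply (hSchar g).mpr
      refine ⟨1, ?_⟩
      have h1 : ∀ y ∈ D 1, g y ∈ D 1 := fun y hy => (mem_stab.mp hgs y).mp hy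
      have h1' : ∀ y ∈ D 1, g⁻¹ y ∈ D 1 := fun y hy => by
        apply (mem_stab.mp hgs _).mpr
        rw [apply_inv_apply']
        exact hy
      have h0 : ∀ a ∈ D 0, g a ∈ D 0 := by
        intro a ha
        obtain ⟨x0, hx0, x1, hx1, hx⟩ := hdec (g a)
        have horth : ∀ y ∈ D 1, polarForm Q hQ (g a) y = 0 := by
          intro y hy
          have := oG_B Q (polarForm Q hQ) (gen_hQp Q hQ) hgO a (g⁻¹ y)
          rw [apply_inv_apply'] at this
          rw [this]
          exact hAA' a ha _ (h1' y hy)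
        have hx10 : x1 = 0 := by
          by_contra hne
          obtain ⟨y, hy, hyx⟩ := (hD.nondegenerate 1 x1 hx1 hne).1
          apply hyx
          have h3 := horth y hy
          rw [← hx, map_add, LinearMap.add_apply, hAA' x0 hx0 y hy, zero_add, hsymm,
            polarForm_apply] at h3
          exact h3
        rw [← hx, hx10, add_zero]
        exact hx0
      intro i
      fin_cases i
      · exact hmapeq g _ _ rfl h0
      · exact hmapeq g _ _ rfl h1
  rw [hSG]
  exact key

end Cfsg.Agent.S5699
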