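import Cfsg.Statements.S5713
import Cfsg.Agent.Lib.Helper33_MinDegA3
import Cfsg.Agent.Lib.Helper33_MinDegB5

set_option autoImplicit false
open Cfsg

namespace Cfsg.Agent.S5713

open Cfsg.Agent.Lib.Helper33_MinDegB1 Cfsg.Agent.Lib.Helper33_MinDegB4
  Cfsg.Agent.Lib.Helper33_MinDegB5 Cfsg.Agent.Lib.Helper33_MinDegA2
  Cfsg.Agent.Lib.Helper33_MinDegA3

/-- fixed points plus moved points -/
theorem card_fixedBy_add {G Ω : Type*} [Group G] [MulAction G Ω] [Fintype Ω] [DecidableEq Ω]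
    (g : G) :
    Nat.card (MulAction.fixedBy Ω g) + (Finset.univ.filter (fun ω : Ω => g • ω ≠ ω)).card
      = Fintype.card Ω := by
  have h1 : Nat.card (MulAction.fixedBy Ω g)
      = (Finset.univ.filter (fun ω : Ω => g • ω = ω)).card := by
    rw [Nat.card_eq_fintype_card]
    rw [Fintype.card_subtype]
    congr 1
  rw [h1]
  have := Finset.card_filter_add_card_filter_not (s := (Finset.univ : Finset Ω))
    (fun ω : Ω => g • ω = ω)
  rw [Finset.card_univ] at this
  exact this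

/-- if every point other than `α` is adjacent to `α` in the orbital graph then the group is
2-homogeneous -/
theorem twoHom_of_all_adj {G Ω : Type*} [Group G] [MulAction G Ω] [Fintype Ω]
    [MulAction.IsPretransitive G Ω] {α β : Ω}
    (h : ∀ δ : Ω, δ ≠ α → (X G α β).Adj α δ) : TwoHom G Ω := by
  have key : ∀ a b : Ω, a ≠ b → (X G α β).Adj a b := by
    intro a b hab
    obtain ⟨k, hk⟩ := MulAction.exists_smul_eq G α a
    have h1 : k⁻¹ • b ≠ α := by
      intro e
      apply hab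
      rw [← hk, ← e, smul_inv_smul]
    have h2 := adj_smul k (h _ h1)
    rwa [hk, smul_inv_smul] at h2
  intro a b c d hab hcd
  have h1 := (adj_iff.1 (key a b hab)).2
  have h2 := (adj_iff.1 (key c d hcd)).2
  rcases h1 with ⟨g1, e1, e2⟩ | ⟨g1, e1, e2⟩ <;> rcases h2 with ⟨g2, f1, f2⟩ | ⟨g2, f1, f2⟩
  · exact ⟨g2 * g1⁻¹, Or.inl ⟨by rw [← e1, mul_smul, inv_smul_smul, f1],
      by rw [← e2, mul_smul, inv_smul_smul, f2]⟩⟩
  · exact ⟨g2 * g1⁻¹, Or.inr ⟨by rw [← e1, mul_smul, inv_smul_smul, f1],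
      by rw [← e2, mul_smul, inv_smul_smul, f2]⟩⟩
  · exact ⟨g2 * g1⁻¹, Or.inr ⟨by rw [← e2, mul_smul, inv_smul_smul, f2],
      by rw [← e1, mul_smul, inv_smul_smul, f1]⟩⟩
  · exact ⟨g2 * g1⁻¹, Or.inl ⟨by rw [← e2, mul_smul, inv_smul_smul, f2],
      by rw [← e1, mul_smul, inv_smul_smul, f1]⟩⟩

theorem arithA (n m : ℕ) (hm : 1 ≤ m) (h : n - 1 ≤ (m - 1) * (m - 1)) :
    (Real.sqrt n - 1) / 2 ≤ (m : ℝ) := by
  obtain ⟨k, rfl⟩ : ∃ k, m = k + 1 := ⟨m - 1, by omega⟩
  simp only [Nat.add_sub_cancel] at h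
  have h0 : n ≤ k * k + 1 := by omega
  have h1 : n ≤ (k + 1) * (k + 1) := by nlinarith
  have h2 : Real.sqrt n ≤ ((k + 1 : ℕ) : ℝ) := by
    rw [Real.sqrt_le_left (by positivity)]
    have : ((n : ℕ) : ℝ) ≤ (((k + 1) * (k + 1) : ℕ) : ℝ) := by exact_mod_cast h1
    calc (n : ℝ) ≤ (((k + 1) * (k + 1) : ℕ) : ℝ) := this
      _ = ((k + 1 : ℕ) : ℝ) ^ 2 := by push_cast; ring
  have h3 : (0 : ℝ) ≤ ((k + 1 : ℕ) : ℝ) := by positivity
  linarith

/-- A classification-free minimal-degree bound. -/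
theorem result {G Ω : Type*} [Group G] [Finite G] [MulAction G Ω] [FaithfulSMul G Ω] [Fintype Ω] [DecidableEq Ω]
    (hprim : MulAction.IsPreprimitive G Ω)
    (hA : ¬ alternatingGroup Ω ≤ (MulAction.toPermHom G Ω).range)
    (g : G) (hg : g ≠ 1) :
    (Real.sqrt (Fintype.card Ω) - 1) / 2 ≤ (Fintype.card Ω : ℝ) - Nat.card (MulAction.fixedBy Ω g) := by
  have hα : ∃ α : Ω, g • α ≠ α := by
    by_contra hcon
    push Not at hcon
    apply hg
    apply FaithfulSMul.eq_of_smul_eq_smul (α := Ω)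
    intro a
    rw [hcon a, one_smul]
  obtain ⟨α, hα⟩ := hα
  have hsum := card_fixedBy_add (Ω := Ω) g
  have hm1 : 1 ≤ (Finset.univ.filter (fun ω : Ω => g • ω ≠ ω)).card := by
    apply Finset.card_pos.2
    exact ⟨α, by simp [hα]⟩
  have hgoal : (Fintype.card Ω : ℝ) - Nat.card (MulAction.fixedBy Ω g)
      = ((Finset.univ.filter (fun ω : Ω => g • ω ≠ ω)).card : ℝ) := by
    have : ((Nat.card (MulAction.fixedBy Ω g) + (Finset.univ.filter (fun ω : Ω => g • ω ≠ ω)).card : ℕ) : ℝ)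
        = (Fintype.card Ω : ℝ) := by rw [hsum]
    push_cast at this
    linarith
  rw [hgoal]
  by_cases h2 : TwoHom G Ω
  · exact arithA _ _ hm1 (caseA hprim h2 hA g α hα)
  · have hδ : ∃ δ : Ω, Y G α (g • α) α δ := by
      by_contra hcon
      push Not at hcon
      apply h2
      have := hprim.toIsPretransitive
      apply twoHom_of_all_adj (α := α) (β := g • α)
      intro δ hδ
      by_contra hadj
      exact hcon δ ⟨hδ.symm, hadj⟩
    obtain ⟨δ, hδ⟩ := hδ
    have hB := caseB hprim (Ne.symm hα) hδ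
    have hsub := Finset.card_le_card (dset_subset_moved (G := G) (x := α) (y := g • α) g rfl)
    have hconv : (Finset.univ.filter (fun γ : Ω => g • γ ≠ γ)).card
        = (Finset.univ.filter (fun ω : Ω => g • ω ≠ ω)).card := by
      congr 1
    have : ((dset G α (g • α)).card : ℝ) ≤ ((Finset.univ.filter (fun ω : Ω => g • ω ≠ ω)).card : ℝ) := by
      exact_mod_cast hsub.trans (le_of_eq (by convert rfl))
    linarith

end Cfsg.Agent.S5713
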