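import Cfsg.Statements.S5726
import Cfsg.Agent.Lib.Helper95_Perm
-- import your own Cfsg.Agent.* helpers here

set_option autoImplicit false
open Cfsg

namespace Cfsg.Agent.S5726

open MulAction in
/-- If a finite group acts faithfully and transitively on a set with p^k elements, p a prime and k ≥ 1, then some element of order p fixes no point. -/
theorem result {G Ω : Type*} [Group G] [Finite G] [MulAction G Ω] [FaithfulSMul G Ω] [Fintype Ω] (htr : MulAction.IsPretransitive G Ω)
    (p k : ℕ) (hp : p.Prime) (hk : 1 ≤ k) (hΩ : Fintype.card Ω = p ^ k) :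
    ∃ g : G, orderOf g = p ∧ ∀ ω : Ω, g • ω ≠ ω := by
  classical
  have : Fact p.Prime := ⟨hp⟩
  have hΩ' : Nat.card Ω = p ^ k := by rw [Nat.card_eq_fintype_card, hΩ]
  have hne : Nonempty Ω := by
    have : 0 < Nat.card Ω := by rw [hΩ']; exact pow_pos hp.pos k
    exact (Nat.card_pos_iff.mp this).1
  obtain ⟨ω₀⟩ := hne
  -- take a Sylow p-subgroup
  obtain ⟨P⟩ : Nonempty (Sylow p G) := inferInstance
  -- P is transitive
  have hfac : (Nat.card Ω).factorization p = k := by
    rw [hΩ', hp.factorization_pow]; simp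
  have horb : ∀ ω : Ω, orbit (↥(P : Subgroup G)) ω = Set.univ := by
    intro ω
    have h := Cfsg.Agent.Lib.Helper95_Perm.pow_factorization_dvd_ncard_orbit_sylow P ω
    rw [hfac, ← hΩ'] at h
    have hpos : 0 < (orbit (↥(P : Subgroup G)) ω).ncard := by
      rw [Set.ncard_pos]
      exact nonempty_orbit ω
    have hle : Nat.card Ω ≤ (orbit (↥(P : Subgroup G)) ω).ncard := Nat.le_of_dvd hpos h
    have hle2 : (orbit (↥(P : Subgroup G)) ω).ncard ≤ (Set.univ : Set Ω).ncard :=
      Set.ncard_le_ncard (Set.subset_univ _)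
    rw [Set.ncard_univ] at hle2
    apply Set.eq_of_subset_of_ncard_le (Set.subset_univ _)
    rw [Set.ncard_univ]
    exact hle
  -- P is nontrivial
  have hpG : p ∣ Nat.card G := by
    have h1 : Nat.card (stabilizer G ω₀) * Nat.card Ω = Nat.card G := by
      rw [← index_stabilizer_of_transitive (G := G) (x := ω₀)]
      exact Subgroup.card_mul_index _
    rw [← h1, hΩ']
    exact Dvd.dvd.mul_left (dvd_pow_self p (by omega)) _
  have hPne : (P : Subgroup G) ≠ ⊥ := P.ne_bot_of_dvd_card hpG
  have : Nontrivial (↥(P : Subgroup G)) := by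
    rw [Subgroup.nontrivial_iff_ne_bot]; exact hPne
  have := P.isPGroup'.center_nontrivial
  -- element of order p in the center
  have hZp : IsPGroup p (Subgroup.center (↥(P : Subgroup G))) := P.isPGroup'.to_subgroup _
  have hpZ : p ∣ Nat.card (Subgroup.center (↥(P : Subgroup G))) := by
    rcases hZp.card_eq_or_dvd with h | h
    · exfalso
      have := Finite.one_lt_card (α := Subgroup.center (↥(P : Subgroup G)))
      omega
    · exact h
  obtain ⟨z, hz⟩ := exists_prime_orderOf_dvd_card' p hpZ
  refine ⟨((z : ↥(P : Subgroup G)) : G), ?_, ?_⟩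
  · rw [Subgroup.orderOf_coe, Subgroup.orderOf_coe, hz]
  · intro ω hω
    -- z fixes everything
    have hall : ∀ ω' : Ω, ((z : ↥(P : Subgroup G)) : G) • ω' = ω' := by
      intro ω'
      have : ω' ∈ orbit (↥(P : Subgroup G)) ω := by rw [horb ω]; trivial
      obtain ⟨x, rfl⟩ := this
      have hcomm : (z : ↥(P : Subgroup G)) * x = x * (z : ↥(P : Subgroup G)) :=
        ((Subgroup.mem_center_iff.mp z.2) x).symm
      change ((z : ↥(P : Subgroup G)) : G) • ((x : G) • ω) = (x : G) • ω
      rw [smul_smul]
      have hcomm' : ((z : ↥(P : Subgroup G)) : G) * (x : G) = (x : G) * ((z : ↥(P : Subgroup G)) : G) := by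
        exact_mod_cast congrArg (fun y : ↥(P : Subgroup G) => (y : G)) hcomm
      rw [hcomm', ← smul_smul, hω]
    have hz1 : ((z : ↥(P : Subgroup G)) : G) = 1 := by
      apply FaithfulSMul.eq_of_smul_eq_smul (α := Ω)
      intro a
      rw [hall a, one_smul]
    have : orderOf ((z : ↥(P : Subgroup G)) : G) = p := by
      rw [Subgroup.orderOf_coe, Subgroup.orderOf_coe, hz]
    rw [hz1, orderOf_one] at this
    exact hp.one_lt.ne this

end Cfsg.Agent.S5726
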