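import Cfsg.Statements.S5727
import Cfsg.Agent.S5726
import Cfsg.Agent.Lib.Helper95_Perm
import Cfsg.Agent.Lib.Helper95_PGroupOrbits

set_option autoImplicit false
open Cfsg

namespace Cfsg.Agent.S5727

/-- If a finite group acts faithfully and transitively on a set with m·p elements, where p is a prime and 1 ≤ m ≤ p, then some element of order p fixes no point. -/
theorem result {G Ω : Type*} [Group G] [Finite G] [MulAction G Ω] [FaithfulSMul G Ω] [Fintype Ω] (htr : MulAction.IsPretransitive G Ω)
    (p m : ℕ) (hp : p.Prime) (hm : 1 ≤ m) (hmp : m ≤ p) (hΩ : Fintype.card Ω = m * p) :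
    ∃ g : G, orderOf g = p ∧ ∀ ω : Ω, g • ω ≠ ω := by
  classical
  rcases Nat.lt_or_ge m p with hlt | hge
  swap
  · -- m = p : prime power degree
    have hmp' : m = p := le_antisymm hmp hge
    exact Cfsg.Agent.S5726.result htr p 2 hp (by norm_num) (by rw [hΩ, hmp']; ring)
  · have : Fact p.Prime := ⟨hp⟩
    have hΩ' : Nat.card Ω = m * p := by rw [Nat.card_eq_fintype_card, hΩ]
    obtain ⟨P⟩ : Nonempty (Sylow p G) := inferInstance
    have hfac : (Nat.card Ω).factorization p = 1 := by
      rw [hΩ', Nat.factorization_mul (by omega) hp.ne_zero]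
      simp only [Finsupp.coe_add, Pi.add_apply]
      rw [hp.factorization_self, Nat.factorization_eq_zero_of_lt hlt]
    have horb : ∀ ω : Ω, (MulAction.orbit (↥(P : Subgroup G)) ω).ncard = p := by
      intro ω
      have h1 := Cfsg.Agent.Lib.Helper95_Perm.pow_factorization_dvd_ncard_orbit_sylow P ω
      rw [hfac, pow_one] at h1
      have h2 : (MulAction.orbit (↥(P : Subgroup G)) ω).ncard ∣ Nat.card (↥(P : Subgroup G)) := by
        rw [← MulAction.index_stabilizer]
        exact Subgroup.index_dvd_card _
      obtain ⟨a, ha⟩ := P.isPGroup'.exists_card_eq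
      rw [ha] at h2
      obtain ⟨j, -, hj⟩ := (Nat.dvd_prime_pow hp).mp h2
      have hle : (MulAction.orbit (↥(P : Subgroup G)) ω).ncard ≤ Nat.card Ω := by
        rw [← Set.ncard_univ]
        exact Set.ncard_le_ncard (Set.subset_univ _)
      rw [hj] at h1 hle ⊢
      rw [hΩ'] at hle
      have hj1 : j ≠ 0 := by
        rintro rfl
        rw [pow_zero] at h1
        exact hp.one_lt.ne' (Nat.dvd_one.mp h1)
      have hj2 : j < 2 := by
        by_contra hcon
        rw [not_lt] at hcon
        have h3 : p ^ 2 ≤ p ^ j := Nat.pow_le_pow_right hp.pos hcon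
        have h4 : m * p < p * p := Nat.mul_lt_mul_of_pos_right hlt hp.pos
        rw [sq] at h3
        omega
      have : j = 1 := by omega
      rw [this, pow_one]
    obtain ⟨hpow, g, hg⟩ :=
      Cfsg.Agent.Lib.Helper95_PGroupOrbits.exists_derangement_of_orbits_card_prime
        (Q := ↥(P : Subgroup G)) (X := Ω) p m hp P.isPGroup' horb hΩ' hm hlt
    refine ⟨(g : G), ?_, fun ω => hg ω⟩
    have hne : Nonempty Ω := by
      have : 0 < Nat.card Ω := by rw [hΩ']; exact Nat.mul_pos (by omega) hp.pos
      exact (Nat.card_pos_iff.mp this).1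
    obtain ⟨ω₀⟩ := hne
    apply orderOf_eq_prime
    · apply FaithfulSMul.eq_of_smul_eq_smul (α := Ω)
      intro ω
      rw [one_smul]
      exact hpow g ω
    · intro h1
      apply hg ω₀
      change (g : G) • ω₀ = ω₀
      rw [h1, one_smul]

end Cfsg.Agent.S5727
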