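import Cfsg.Statements.S5728
-- import your own Cfsg.Agent.* helpers here

set_option autoImplicit false
open Cfsg

namespace Cfsg.Agent.S5728

section helpers

/-- An element `a` of a field of characteristic `p` with `a ^ p = a` is the image of an element of `ZMod p`. -/
theorem exists_zmod_of_pow_eq {K : Type*} [Field K] (p : ℕ) [Fact p.Prime] [CharP K p] (a : K)
    (ha : a ^ p = a) : ∃ z : ZMod p, ZMod.castHom (dvd_refl p) K z = a := by
  have h1 : a ∈ (⊥ : Subfield K) := (Subfield.mem_bot_iff_pow_eq_self K p).mpr ha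
  rw [← ZMod.fieldRange_castHom_eq_bot p] at h1
  exact h1

theorem key {K : Type*} [Field K] [Finite K] (p s : ℕ) [Fact p.Prime] [CharP K p] (hs : p = 2 ^ s - 1)
    (hK : Nat.card K = p ^ 2)
    (g : Equiv.Perm K) (hg : g ∈ Cfsg.affineGroup K) (hord : (orderOf g).Prime) :
    ∃ x ∈ Cfsg.affineGroup K, ∃ a b : ZMod p, a ≠ 0 ∧
      ∀ y : K, (x * g * x⁻¹) y = ZMod.castHom (dvd_refl p) K a * y + ZMod.castHom (dvd_refl p) K b := by
  classical
  have hp : p.Prime := Fact.out
  obtain ⟨a₀, b₀, hg⟩ := hg
  by_cases ha1 : (a₀ : K) = 1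
  · -- translation
    have hb : b₀ ≠ 0 := by
      intro hb
      have : g = 1 := by
        ext y; rw [hg, ha1, hb]; simp
      rw [this, orderOf_one] at hord
      exact Nat.not_prime_one hord
    have hb' : b₀⁻¹ ≠ 0 := inv_ne_zero hb
    refine ⟨Equiv.mulLeft₀ b₀⁻¹ hb', ⟨Units.mk0 b₀⁻¹ hb', 0, fun y => by simp⟩, 1, 1, one_ne_zero, fun y => ?_⟩
    have hinv : (Equiv.mulLeft₀ b₀⁻¹ hb')⁻¹ y = b₀ * y := by
      rw [Equiv.Perm.inv_def, Equiv.symm_apply_eq]
      simp [hb]
    rw [Equiv.Perm.mul_apply, Equiv.Perm.mul_apply, hinv, hg, ha1]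
    simp only [Equiv.mulLeft₀_apply, map_one, one_mul]
    field_simp
  · -- a₀ ≠ 1: conjugate by a translation to a multiplication
    have h1a : (1 : K) - a₀ ≠ 0 := sub_ne_zero.mpr (Ne.symm ha1)
    set y₀ : K := b₀ / (1 - a₀) with hy₀
    have hx_mem : Equiv.subRight y₀ ∈ Cfsg.affineGroup K :=
      ⟨1, -y₀, fun y => by simp [sub_eq_add_neg]⟩
    have hconj : ∀ y : K, (Equiv.subRight y₀ * g * (Equiv.subRight y₀)⁻¹) y = (a₀ : K) * y := by
      intro y
      have hinv : (Equiv.subRight y₀)⁻¹ y = y + y₀ := by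
        rw [Equiv.Perm.inv_def, Equiv.symm_apply_eq]
        simp
      rw [Equiv.Perm.mul_apply, Equiv.Perm.mul_apply, hinv, hg]
      simp only [Equiv.subRight_apply]
      rw [hy₀]
      field_simp
      ring
    set h := Equiv.subRight y₀ * g * (Equiv.subRight y₀)⁻¹ with hh
    have hpow : ∀ k : ℕ, ∀ y : K, (h ^ k) y = (a₀ : K) ^ k * y := by
      intro k
      induction k with
      | zero => intro y; simp
      | succ k ih =>
        intro y
        rw [pow_succ, Equiv.Perm.mul_apply, ih, hconj, pow_succ, mul_assoc]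
    set r := orderOf g with hr
    have hhr : h ^ r = 1 := by
      rw [hh, conj_pow, hr, pow_orderOf_eq_one]; simp
    have har : (a₀ : K) ^ r = 1 := by
      have := hpow r 1
      rw [hhr] at this
      simpa using this.symm
    have har' : a₀ ^ r = 1 := Units.ext (by simpa using har)
    have ha1' : a₀ ≠ 1 := fun h => ha1 (by rw [h]; rfl)
    have : Fact r.Prime := ⟨hord⟩
    have hordA : orderOf a₀ = r := orderOf_eq_prime har' ha1'
    have hdvd : r ∣ p ^ 2 - 1 := by
      have h1 : orderOf a₀ ∣ Nat.card Kˣ := orderOf_dvd_natCard a₀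
      rw [Nat.card_units, hK, hordA] at h1
      exact h1
    -- p^2 - 1 = (p - 1) * 2^s
    have hp2 : 2 ≤ p := hp.two_le
    have hs' : p + 1 = 2 ^ s := by omega
    have hfac : p ^ 2 - 1 = (p - 1) * 2 ^ s := by
      rw [← hs']
      obtain ⟨m, rfl⟩ : ∃ m, p = m + 1 := ⟨p - 1, by omega⟩
      simp only [Nat.add_sub_cancel]
      have : (m + 1) ^ 2 = m * (m + 1 + 1) + 1 := by ring
      rw [this, Nat.add_sub_cancel]
    rw [hfac] at hdvd
    have hcase : r ∣ p - 1 ∨ r = 2 := by
      rcases (Nat.Prime.dvd_mul hord).mp hdvd with h | h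
      · exact Or.inl h
      · right
        have := hord.dvd_of_dvd_pow h
        exact (Nat.prime_dvd_prime_iff_eq hord Nat.prime_two).mp this
    have ha0 : (a₀ : K) ≠ 0 := a₀.ne_zero
    rcases hcase with h | h
    · -- a₀ ^ (p-1) = 1
      have h2 : a₀ ^ (p - 1) = 1 := by
        rw [← orderOf_dvd_iff_pow_eq_one, hordA]; exact h
      have h3 : (a₀ : K) ^ p = a₀ := by
        have : (a₀ : K) ^ (p - 1) = 1 := by
          have := congrArg (fun u : Kˣ => (u : K)) h2
          simpa using this
        calc (a₀ : K) ^ p = (a₀ : K) ^ (p - 1 + 1) := by congr 1; omega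
          _ = (a₀ : K) ^ (p - 1) * a₀ := pow_succ _ _
          _ = a₀ := by rw [this, one_mul]
      obtain ⟨z, hz⟩ := exists_zmod_of_pow_eq p (a₀ : K) h3
      refine ⟨Equiv.subRight y₀, hx_mem, z, 0, ?_, fun y => ?_⟩
      · rintro rfl
        rw [map_zero] at hz
        exact ha0 hz.symm
      · rw [hconj, hz, map_zero, add_zero]
    · -- r = 2, a₀ = -1
      rw [h] at har
      have h4 : (a₀ : K) = -1 := by
        rcases sq_eq_one_iff.mp har with h5 | h5
        · exact absurd h5 ha1
        · exact h5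
      refine ⟨Equiv.subRight y₀, hx_mem, -1, 0, ?_, fun y => ?_⟩
      · exact neg_ne_zero.mpr one_ne_zero
      · rw [hconj, h4, map_neg, map_one, map_zero, add_zero]

end helpers

/-- An elusive transitive action. Let p = 2^s − 1 be a prime and let F be the field with p² elements. Inside the group of affine maps x ↦ a·x + b of F (a ≠ 0), consider the subgroup of maps with both coefficients in the prime field. Then every element of prime order of the affine group is conjugate, within the affine group, to an element of that subgroup; equivalently, in the transitive action of the affine group on the cosets of that subgroup (of degree p(p + 1)) every element of prime order fixes a point. -/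
theorem result (p s : ℕ) [Fact p.Prime] (hs : p = 2 ^ s - 1)
    (g : Equiv.Perm (GaloisField p 2)) (hg : g ∈ Cfsg.affineGroup (GaloisField p 2)) (hord : (orderOf g).Prime) :
    ∃ x ∈ Cfsg.affineGroup (GaloisField p 2), ∃ a b : ZMod p, a ≠ 0 ∧
      ∀ y : GaloisField p 2, (x * g * x⁻¹) y = algebraMap (ZMod p) (GaloisField p 2) a * y + algebraMap (ZMod p) (GaloisField p 2) b := by
  have hK : Nat.card (GaloisField p 2) = p ^ 2 := GaloisField.card p 2 (by norm_num)
  obtain ⟨x, hx, a, b, ha, h⟩ := key p s hs hK g hg hord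
  refine ⟨x, hx, a, b, ha, fun y => ?_⟩
  have e : algebraMap (ZMod p) (GaloisField p 2) = ZMod.castHom (dvd_refl p) (GaloisField p 2) :=
    RingHom.ext_zmod _ _
  rw [e]
  exact h y

end Cfsg.Agent.S5728
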