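import Cfsg.Statements.S5729
import Cfsg.Agent.Lib.Helper95_Burnside

set_option autoImplicit false
open Cfsg

namespace Cfsg.Agent.S5729

/-- Let a finite group G act faithfully and transitively on a set with n ≥ 3 points. Then either G is a Frobenius permutation group (Frobenius as a permutation group: transitive, some non-identity element fixes a point, and no non-identity element fixes two points) of order n(n − 1) and exactly |G|/n of its elements are derangements (fix no point), or the number of derangements is greater than |G|/n. -/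
theorem result {G Ω : Type*} [Group G] [Finite G] [MulAction G Ω] [FaithfulSMul G Ω] [Fintype Ω] (htr : MulAction.IsPretransitive G Ω) (hn : 3 ≤ Fintype.card Ω) :
    ((MulAction.IsPretransitive G Ω ∧ (∃ g : G, g ≠ 1 ∧ ∃ ω : Ω, g • ω = ω) ∧ ∀ g : G, g ≠ 1 → Nat.card (MulAction.fixedBy Ω g) ≤ 1) ∧ Nat.card G = Fintype.card Ω * (Fintype.card Ω - 1) ∧ Fintype.card Ω * Nat.card {g : G // ∀ ω : Ω, g • ω ≠ ω} = Nat.card G) ∨
    Nat.card G < Fintype.card Ω * Nat.card {g : G // ∀ ω : Ω, g • ω ≠ ω} := by
  classical
  have : Fintype G := Fintype.ofFinite G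
  set n := Fintype.card Ω with hn_def
  have hnΩ : Nat.card Ω = n := Nat.card_eq_fintype_card
  have hne : Nonempty Ω := by
    have : 0 < Fintype.card Ω := by omega
    exact Fintype.card_pos_iff.mp this
  -- fixed point numbers
  set f : G → ℕ := fun g => Nat.card (MulAction.fixedBy Ω g) with hf
  have hfle : ∀ g, f g ≤ n := by
    intro g
    rw [← hnΩ]
    exact Nat.card_le_card_of_injective (fun x => (x : Ω)) Subtype.val_injective
  have hS1 : ∑ g : G, f g = Nat.card G :=
    Cfsg.Agent.Lib.Helper95_Burnside.sum_natCard_fixedBy_of_transitive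
  have hS2 : 2 * Nat.card G ≤ ∑ g : G, f g ^ 2 :=
    Cfsg.Agent.Lib.Helper95_Burnside.two_mul_card_le_sum_sq (by rw [hnΩ]; omega)
  have hcardG : Nat.card G = (Finset.univ : Finset G).card := by
    rw [Nat.card_eq_fintype_card, Finset.card_univ]
  -- derangements
  have hD : Nat.card {g : G // ∀ ω : Ω, g • ω ≠ ω} = (Finset.univ.filter (fun g : G => f g = 0)).card := by
    rw [Nat.card_eq_fintype_card, Fintype.card_subtype]
    congr 1
    ext g
    simp only [Finset.mem_filter, Finset.mem_univ, true_and]
    rw [hf]
    simp only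
    rw [Nat.card_eq_zero]
    constructor
    · intro h
      left
      exact ⟨fun x => h x.1 x.2⟩
    · rintro (h | h)
      · intro ω hω
        exact h.elim ⟨ω, hω⟩
      · exact absurd h (not_infinite_iff_finite.mpr inferInstance)
  set d := (Finset.univ.filter (fun g : G => f g = 0)).card with hd
  rw [hD]
  -- the key integer inequality
  set T : G → ℤ := fun g => ((f g : ℤ) - 1) * ((f g : ℤ) - n) with hT
  set I : G → ℤ := fun g => if f g = 0 then (n : ℤ) else 0 with hI
  have hTI : ∀ g, T g ≤ I g := by
    intro g
    simp only [hT, hI]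
    by_cases h0 : f g = 0
    · rw [if_pos h0, h0]; push_cast; ring_nf; exact le_refl _
    · rw [if_neg h0]
      have h1 : (1 : ℤ) ≤ f g := by exact_mod_cast Nat.one_le_iff_ne_zero.mpr h0
      have h2 : (f g : ℤ) ≤ n := by exact_mod_cast hfle g
      exact mul_nonpos_of_nonneg_of_nonpos (by linarith) (by linarith)
  have hsumT : ∑ g : G, T g = ∑ g : G, (f g : ℤ) ^ 2 - ((n : ℤ) + 1) * ∑ g : G, (f g : ℤ) + n * (Nat.card G : ℤ) := by
    have e : (Nat.card G : ℤ) = ∑ _g : G, (1 : ℤ) := by rw [hcardG]; simp
    rw [e, Finset.mul_sum, Finset.mul_sum, ← Finset.sum_sub_distrib, ← Finset.sum_add_distrib]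
    apply Finset.sum_congr rfl
    intro g _
    simp only [hT]
    ring
  have hS1' : ∑ g : G, (f g : ℤ) = (Nat.card G : ℤ) := by exact_mod_cast hS1
  have hS2' : 2 * (Nat.card G : ℤ) ≤ ∑ g : G, (f g : ℤ) ^ 2 := by exact_mod_cast hS2
  have hsumT_ge : (Nat.card G : ℤ) ≤ ∑ g : G, T g := by
    rw [hsumT, hS1']; linarith
  have hsumI : ∑ g : G, I g = (n : ℤ) * d := by
    simp only [hI]
    rw [← Finset.sum_filter, Finset.sum_const, hd]
    simp [mul_comm]
  have hmain : (Nat.card G : ℤ) ≤ (n : ℤ) * d := by
    calc (Nat.card G : ℤ) ≤ ∑ g : G, T g := hsumT_ge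
      _ ≤ ∑ g : G, I g := Finset.sum_le_sum (fun g _ => hTI g)
      _ = (n : ℤ) * d := hsumI
  by_cases hstrict : Nat.card G < n * d
  · right; exact hstrict
  · left
    have heq : n * d = Nat.card G := by
      have : Nat.card G ≤ n * d := by exact_mod_cast hmain
      omega
    have heq' : (n : ℤ) * d = Nat.card G := by exact_mod_cast heq
    -- termwise equality
    have hterm : ∀ g, I g - T g = 0 := by
      have hnonneg : ∀ g ∈ (Finset.univ : Finset G), 0 ≤ I g - T g := fun g _ => sub_nonneg.mpr (hTI g)
      have hTle : ∑ g : G, T g ≤ (n : ℤ) * d :=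
        (Finset.sum_le_sum (fun g _ => hTI g)).trans_eq hsumI
      have hsum0 : ∑ g : G, (I g - T g) = 0 := by
        rw [Finset.sum_sub_distrib, hsumI]
        linarith
      intro g
      exact (Finset.sum_eq_zero_iff_of_nonneg hnonneg).mp hsum0 g (Finset.mem_univ g)
    -- for g ≠ 1, f g ≤ 1
    have hfix : ∀ g : G, g ≠ 1 → f g ≤ 1 := by
      intro g hg
      by_contra hcon
      rw [not_le] at hcon
      have h0 : f g ≠ 0 := by omega
      have ht := hterm g
      simp only [hI, hT, if_neg h0] at ht
      have h1 : ((f g : ℤ) - 1) ≠ 0 := by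
        have : (2 : ℤ) ≤ f g := by exact_mod_cast hcon
        linarith
      have h2 : ((f g : ℤ) - 1) * ((f g : ℤ) - n) = 0 := by linarith
      have h3 : (f g : ℤ) - n = 0 := (mul_eq_zero.mp h2).resolve_left h1
      have h4 : f g = n := by exact_mod_cast sub_eq_zero.mp h3
      -- then g fixes everything
      apply hg
      apply FaithfulSMul.eq_of_smul_eq_smul (α := Ω)
      intro ω
      rw [one_smul]
      have hsub : (MulAction.fixedBy Ω g) = Set.univ := by
        apply Set.eq_of_subset_of_ncard_le (Set.subset_univ _)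
        rw [Set.ncard_univ, hnΩ, ← h4]
        simp only [hf]
        rw [Nat.card_coe_set_eq]
      have : ω ∈ MulAction.fixedBy Ω g := by rw [hsub]; trivial
      exact this
    have hf1 : f 1 = n := by
      rw [hf]
      simp only
      rw [MulAction.fixedBy_one_eq_univ, Nat.card_coe_set_eq, Set.ncard_univ, hnΩ]
    -- counting
    set A := (Finset.univ.filter (fun g : G => g ≠ 1 ∧ f g = 1)).card with hA
    have hcount1 : Nat.card G = n + A := by
      rw [← hS1]
      rw [← Finset.sum_erase_add _ _ (Finset.mem_univ (1 : G)), hf1, add_comm]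
      congr 1
      rw [hA, Finset.card_eq_sum_ones, Finset.sum_filter]
      rw [← Finset.sum_erase (s := Finset.univ) (a := (1 : G)) (by simp)]
      apply Finset.sum_congr rfl
      intro g hg
      have hg1 : g ≠ 1 := Finset.ne_of_mem_erase hg
      have := hfix g hg1
      by_cases h : f g = 1
      · rw [if_pos ⟨hg1, h⟩, h]
      · rw [if_neg (fun hh => h hh.2)]; omega
    have hcount2 : Nat.card G = 1 + A + d := by
      rw [hcardG]
      have hdisj : (Finset.univ : Finset G) = {1} ∪ (Finset.univ.filter (fun g : G => g ≠ 1 ∧ f g = 1)) ∪ (Finset.univ.filter (fun g : G => f g = 0)) := by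
        ext g
        simp only [Finset.mem_univ, Finset.mem_union, Finset.mem_singleton, Finset.mem_filter, true_and, true_iff]
        by_cases hg1 : g = 1
        · left; left; exact hg1
        · have := hfix g hg1
          by_cases h : f g = 1
          · left; right; exact ⟨hg1, h⟩
          · right; omega
      rw [hdisj, Finset.card_union_of_disjoint, Finset.card_union_of_disjoint, Finset.card_singleton]
      · rw [Finset.disjoint_left]
        intro g hg1 hg2
        simp only [Finset.mem_singleton] at hg1
        simp only [Finset.mem_filter] at hg2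
        exact hg2.2.1 hg1
      · rw [Finset.disjoint_left]
        intro g hg1 hg2
        simp only [Finset.mem_union, Finset.mem_singleton, Finset.mem_filter, Finset.mem_univ, true_and] at hg1 hg2
        rcases hg1 with h | h
        · rw [h, hf1] at hg2; omega
        · omega
    have hd1 : d = n - 1 := by
      have h3 : n * d = 1 + A + d := by rw [heq]; exact hcount2
      have h4 : n + A = 1 + A + d := by rw [← hcount1]; exact hcount2
      omega
    have hGcard : Nat.card G = n * (n - 1) := by rw [← heq, hd1]
    have hApos : 0 < A := by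
      have h5 : n + A = n * (n - 1) := by rw [← hcount1]; exact hGcard
      have h6 : n * 2 ≤ n * (n - 1) := Nat.mul_le_mul_left n (by omega)
      omega
    refine ⟨⟨htr, ?_, ?_⟩, hGcard, heq⟩
    · obtain ⟨g, hg⟩ := Finset.card_pos.mp hApos
      simp only [Finset.mem_filter, Finset.mem_univ, true_and] at hg
      refine ⟨g, hg.1, ?_⟩
      have hpos : 0 < Nat.card (MulAction.fixedBy Ω g) := by
        have := hg.2; simp only [hf] at this; omega
      obtain ⟨⟨ω, hω⟩⟩ := (Nat.card_pos_iff.mp hpos).1
      exact ⟨ω, hω⟩
    · intro g hg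
      exact hfix g hg

end Cfsg.Agent.S5729
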