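import Cfsg.Statements.S5738
import Cfsg.Agent.Lib.Helper95_Singer

set_option autoImplicit false
open Cfsg

namespace Cfsg.Agent.S5738

section helpers

open Cfsg.Agent.Lib.Helper95_Singer

variable {F K : Type*} [Field F] [Field K] [Algebra F K]

/-- The map `(u, σ) ↦ (x ↦ u * σ x)` into `GL_F(K)`. -/
noncomputable def semi (p : Kˣ × (K ≃ₐ[F] K)) : (Module.End F K)ˣ :=
  Units.map ((Algebra.lmul F K : K →ₐ[F] Module.End F K) : K →* Module.End F K) p.1 *
    LinearMap.GeneralLinearGroup.ofLinearEquiv p.2.toLinearEquiv

theorem semi_apply (p : Kˣ × (K ≃ₐ[F] K)) (x : K) :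
    ((semi p : (Module.End F K)ˣ) : Module.End F K) x = (p.1 : K) * p.2 x := rfl

theorem semi_injective : Function.Injective (semi : Kˣ × (K ≃ₐ[F] K) → (Module.End F K)ˣ) := by
  rintro ⟨u, σ⟩ ⟨v, τ⟩ h
  have h' : ∀ x : K, (u : K) * σ x = (v : K) * τ x := by
    intro x
    have := congrArg (fun s : (Module.End F K)ˣ => (s : Module.End F K) x) h
    simpa [semi_apply] using this
  have huv : u = v := by
    apply Units.ext
    have := h' 1
    simpa using this
  subst huv
  have hστ : σ = τ := by
    ext x
    exact mul_left_cancel₀ u.ne_zero (h' x)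
  rw [hστ]

theorem semi_mem_normalizer [Finite K] (p : Kˣ × (K ≃ₐ[F] K)) :
    semi p ∈ Subgroup.normalizer ((singer F K : Subgroup (Module.End F K)ˣ) : Set (Module.End F K)ˣ) := by
  have hfinEnd : Finite (Module.End F K) :=
    Finite.of_injective (fun f : Module.End F K => (f : K → K)) DFunLike.coe_injective
  apply Subgroup.mem_normalizer_fintype
  rintro s ⟨v, rfl⟩
  have key : semi p * Units.map ((Algebra.lmul F K : K →ₐ[F] Module.End F K) : K →* Module.End F K) v =
      Units.map ((Algebra.lmul F K : K →ₐ[F] Module.End F K) : K →* Module.End F K)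
        (Units.map (p.2 : K →* K) v) * semi p := by
    apply Units.ext
    apply LinearMap.ext
    intro x
    change (p.1 : K) * p.2 ((v : K) * x) = p.2 (v : K) * ((p.1 : K) * p.2 x)
    rw [map_mul]; ring
  rw [key, mul_inv_cancel_right]
  exact ⟨_, rfl⟩

theorem exists_semi_of_mem_normalizer (g : (Module.End F K)ˣ)
    (hg : g ∈ Subgroup.normalizer ((singer F K : Subgroup (Module.End F K)ˣ) : Set (Module.End F K)ˣ)) :
    ∃ p : Kˣ × (K ≃ₐ[F] K), semi p = g := by
  -- c = g 1 ≠ 0
  have hginj : Function.Injective (g : Module.End F K) := by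
    intro x y hxy
    have := congrArg (((g⁻¹ : (Module.End F K)ˣ) : Module.End F K)) hxy
    simp only [← Module.End.mul_apply, ← Units.val_mul, inv_mul_cancel, Units.val_one,
      Module.End.one_apply] at this
    exact this
  set c : K := (g : Module.End F K) 1 with hc
  have hc0 : c ≠ 0 := by
    intro h
    have : (g : Module.End F K) 1 = (g : Module.End F K) 0 := by rw [map_zero]; exact h
    exact one_ne_zero (hginj this)
  set u : Kˣ := Units.mk0 c hc0 with hu
  set U : (Module.End F K)ˣ :=
    Units.map ((Algebra.lmul F K : K →ₐ[F] Module.End F K) : K →* Module.End F K) u with hU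
  have hUmem : U ∈ singer F K := ⟨u, rfl⟩
  set h : (Module.End F K)ˣ := U⁻¹ * g with hh
  have hhN : h ∈ Subgroup.normalizer ((singer F K : Subgroup (Module.End F K)ˣ) : Set (Module.End F K)ˣ) :=
    Subgroup.mul_mem _ (Subgroup.inv_mem _ (Subgroup.le_normalizer hUmem)) hg
  have hUinv_apply : ∀ x : K, ((U⁻¹ : (Module.End F K)ˣ) : Module.End F K) x = c⁻¹ * x := by
    intro x
    have h1 : ((U⁻¹ : (Module.End F K)ˣ) : Module.End F K) =
        Algebra.lmul F K ((u⁻¹ : Kˣ) : K) := by
      rw [hU, ← map_inv]; rfl
    rw [h1, lmul_apply, hu, Units.val_inv_eq_inv_val, Units.val_mk0]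
  have hh_apply : ∀ x : K, (h : Module.End F K) x = c⁻¹ * (g : Module.End F K) x := by
    intro x
    rw [hh, Units.val_mul, Module.End.mul_apply, hUinv_apply]
  have hh1 : (h : Module.End F K) 1 = 1 := by
    rw [hh_apply, ← hc, inv_mul_cancel₀ hc0]
  -- h is multiplicative
  have hmul : ∀ x y : K, (h : Module.End F K) (x * y) = (h : Module.End F K) x * (h : Module.End F K) y := by
    intro x y
    by_cases hx : x = 0
    · subst hx; simp
    · have hmemx : Units.map ((Algebra.lmul F K : K →ₐ[F] Module.End F K) : K →* Module.End F K)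
          (Units.mk0 x hx) ∈ singer F K := ⟨_, rfl⟩
      have := (Subgroup.mem_normalizer_iff.mp hhN _).mp hmemx
      obtain ⟨w, hw⟩ := this
      have hw' : (h : Module.End F K) * Algebra.lmul F K x = Algebra.lmul F K (w : K) * (h : Module.End F K) := by
        have := congrArg (fun s : (Module.End F K)ˣ => (s : Module.End F K) * (h : Module.End F K)) hw
        simp only [Units.val_mul, coe_unitsMap_lmul, Units.val_mk0] at this
        rw [this, mul_assoc, ← Units.val_mul, inv_mul_cancel, Units.val_one, mul_one]
      have e1 := congrArg (fun f : Module.End F K => f 1) hw'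
      simp only [Module.End.mul_apply, lmul_apply, mul_one, hh1] at e1
      have e2 := congrArg (fun f : Module.End F K => f y) hw'
      simp only [Module.End.mul_apply, lmul_apply] at e2
      rw [e2, e1]
  let σ : K ≃ₐ[F] K := AlgEquiv.ofLinearEquiv (LinearMap.GeneralLinearGroup.toLinearEquiv h) hh1 hmul
  refine ⟨(u, σ), ?_⟩
  apply Units.ext
  apply LinearMap.ext
  intro x
  rw [semi_apply]
  change c * (h : Module.End F K) x = (g : Module.End F K) x
  rw [hh_apply, ← mul_assoc, mul_inv_cancel₀ hc0, one_mul]

end helpers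

/-- Let F ⊆ K be finite fields with |F| = q and [K : F] = n ≥ 2, so |K| = q^n. Regard K as an n-dimensional F-vector space; the multiplications by non-zero elements of K form a cyclic subgroup of GL_F(K) of order q^n − 1 acting regularly on the non-zero vectors (a Singer group). Its normaliser in GL_F(K) has order n·(q^n − 1). -/
theorem result {F K : Type*} [Field F] [Fintype F] [Field K] [Fintype K] [Algebra F K] (n : ℕ) (hn : 2 ≤ n) (hdim : Module.finrank F K = n) :
    Nat.card (Subgroup.normalizer (((Units.map ((Algebra.lmul F K : K →ₐ[F] Module.End F K) : K →* Module.End F K)).range : Subgroup (Module.End F K)ˣ) : Set (Module.End F K)ˣ)) = n * (Fintype.card K - 1) := by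
  classical
  have hfd : FiniteDimensional F K := Module.Finite.of_finite
  have hset : ((Subgroup.normalizer (((Units.map ((Algebra.lmul F K : K →ₐ[F] Module.End F K) : K →* Module.End F K)).range : Subgroup (Module.End F K)ˣ) : Set (Module.End F K)ˣ)) : Set (Module.End F K)ˣ)
      = Set.range (semi : Kˣ × (K ≃ₐ[F] K) → (Module.End F K)ˣ) := by
    ext g
    constructor
    · intro hg
      obtain ⟨p, hp⟩ := exists_semi_of_mem_normalizer g hg
      exact ⟨p, hp⟩
    · rintro ⟨p, rfl⟩
      exact semi_mem_normalizer p
  have h1 : Nat.card (Subgroup.normalizer (((Units.map ((Algebra.lmul F K : K →ₐ[F] Module.End F K) : K →* Module.End F K)).range : Subgroup (Module.End F K)ˣ) : Set (Module.End F K)ˣ))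
      = Nat.card (Set.range (semi : Kˣ × (K ≃ₐ[F] K) → (Module.End F K)ˣ)) := by
    exact Nat.card_congr (Equiv.setCongr hset)
  rw [h1, Nat.card_range_of_injective semi_injective, Nat.card_prod, Nat.card_units,
    IsGalois.card_aut_eq_finrank, hdim, Nat.card_eq_fintype_card, mul_comm]

end Cfsg.Agent.S5738
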