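import Cfsg.Statements.S5739
import Cfsg.Agent.Lib.Helper95_Singer

set_option autoImplicit false
open Cfsg

namespace Cfsg.Agent.S5739

/-- Let F ⊆ K be finite fields with |F| = q and [K : F] = n ≥ 2, and let M ≤ GL_F(K) be the Singer group of multiplications by non-zero elements of K. If g ∈ GL_F(K) does not normalise M, then the order of M ∩ gMg⁻¹ divides q^r − 1 for some proper divisor r of n. In particular, when n is prime, that order divides q − 1. -/
theorem result {F K : Type*} [Field F] [Fintype F] [Field K] [Fintype K] [Algebra F K] (n : ℕ) (hn : 2 ≤ n) (hdim : Module.finrank F K = n)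
    (g : (Module.End F K)ˣ) (hg : ((Units.map ((Algebra.lmul F K : K →ₐ[F] Module.End F K) : K →* Module.End F K)).range).map (MulAut.conj g).toMonoidHom ≠ (Units.map ((Algebra.lmul F K : K →ₐ[F] Module.End F K) : K →* Module.End F K)).range) :
    ∃ r : ℕ, 1 ≤ r ∧ r ∣ n ∧ r < n ∧ Nat.card ↥(((Units.map ((Algebra.lmul F K : K →ₐ[F] Module.End F K) : K →* Module.End F K)).range).map (MulAut.conj g).toMonoidHom ⊓ (Units.map ((Algebra.lmul F K : K →ₐ[F] Module.End F K) : K →* Module.End F K)).range) ∣ Fintype.card F ^ r - 1 := by
  classical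
  have hfinEnd : Finite (Module.End F K) :=
    Finite.of_injective (fun f : Module.End F K => (f : K → K)) DFunLike.coe_injective
  have hfd : FiniteDimensional F K := Module.Finite.of_finite
  set E := Cfsg.Agent.Lib.Helper95_Singer.conjField g with hE
  set r := Module.finrank F E with hr
  have hmul : r * Module.finrank E K = n := by
    rw [hr, Module.finrank_mul_finrank F E K, hdim]
  have hrpos : 0 < r := Module.finrank_pos
  have hrdvd : r ∣ n := ⟨_, hmul.symm⟩
  have hrle : r ≤ n := Nat.le_of_dvd (by omega) hrdvd
  have hrne : r ≠ n := by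
    intro hrn
    -- E = ⊤
    have hEtop : E = ⊤ := by
      apply IntermediateField.eq_of_le_of_finrank_eq le_top
      rw [IntermediateField.finrank_top', ← hr, hrn, hdim]
    apply hg
    symm
    apply Subgroup.eq_of_le_of_card_ge
    · rintro s ⟨u, rfl⟩
      have hu : (u : K) ∈ E := by rw [hEtop]; trivial
      obtain ⟨y, hy⟩ := hu
      have hy0 : y ≠ 0 := Cfsg.Agent.Lib.Helper95_Singer.ne_zero_of_conj g u.ne_zero hy
      refine ⟨Units.map ((Algebra.lmul F K : K →ₐ[F] Module.End F K) : K →* Module.End F K) (Units.mk0 y hy0),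
        ⟨_, rfl⟩, ?_⟩
      apply Units.ext
      simp only [MulEquiv.coe_toMonoidHom, MulAut.conj_apply, Units.val_mul]
      change (g : Module.End F K) * Algebra.lmul F K y * ((g⁻¹ : (Module.End F K)ˣ) : Module.End F K)
        = Algebra.lmul F K (u : K)
      rw [← hy, mul_assoc, ← Units.val_mul, mul_inv_cancel, Units.val_one, mul_one]
    · rw [Subgroup.card_map_of_injective (MulAut.conj g).injective]
  refine ⟨r, hrpos, hrdvd, lt_of_le_of_ne hrle hrne, ?_⟩
  have h1 := Subgroup.card_dvd_of_le (Cfsg.Agent.Lib.Helper95_Singer.inf_le_range g)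
  have hinj : Function.Injective
      ((Units.map ((Algebra.lmul F K : K →ₐ[F] Module.End F K) : K →* Module.End F K)).comp
        (Units.map (E.val : E →* K))) := by
    apply Function.Injective.comp Cfsg.Agent.Lib.Helper95_Singer.unitsMap_lmul_injective
    apply Units.map_injective
    exact Subtype.val_injective
  have h2 : Nat.card (((Units.map ((Algebra.lmul F K : K →ₐ[F] Module.End F K) : K →* Module.End F K)).comp
        (Units.map (E.val : E →* K))).range) = Fintype.card F ^ r - 1 := by
    rw [← Nat.card_congr (MonoidHom.ofInjective hinj).toEquiv, Nat.card_units,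
      Module.natCard_eq_pow_finrank (K := F) (V := E), Nat.card_eq_fintype_card]
  rw [h2] at h1
  exact h1

end Cfsg.Agent.S5739
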