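import Cfsg.Statements.S5747
-- import your own Cfsg.Agent.* helpers here

set_option autoImplicit false
open Cfsg

namespace Cfsg.Agent.S5747

section helpers

open Finset

variable {G Ω : Type*} [Group G] [MulAction G Ω] [Fintype Ω] [DecidableEq Ω]

/-- The closure of a finite set of points: the points fixed by every element fixing the set pointwise. -/
noncomputable def cl (G : Type*) {Ω : Type*} [Group G] [MulAction G Ω] [Fintype Ω] [DecidableEq Ω]
    (S : Finset Ω) : Finset Ω := by
  classical
  exact univ.filter (fun x => ∀ g : G, (∀ y ∈ S, g • y = y) → g • x = x)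

theorem mem_cl {S : Finset Ω} {x : Ω} :
    x ∈ cl G S ↔ ∀ g : G, (∀ y ∈ S, g • y = y) → g • x = x := by
  classical
  simp [cl]

theorem subset_cl (S : Finset Ω) : S ⊆ cl G S := by
  intro x hx
  rw [mem_cl]
  intro g hg
  exact hg x hx

theorem cl_mono {S T : Finset Ω} (h : S ⊆ T) : cl G S ⊆ cl G T := by
  intro x hx
  rw [mem_cl] at hx ⊢
  intro g hg
  exact hx g (fun y hy => hg y (h hy))

theorem fixes_cl {S : Finset Ω} {g : G} (hg : ∀ y ∈ S, g • y = y) : ∀ y ∈ cl G S, g • y = y := by
  intro y hy
  exact (mem_cl.mp hy) g hg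

theorem cl_subset_of_subset_cl {S T : Finset Ω} (h : S ⊆ cl G T) : cl G S ⊆ cl G T := by
  intro x hx
  rw [mem_cl] at hx ⊢
  intro g hg
  exact hx g (fun y hy => fixes_cl hg y (h hy))

theorem fixes_iff_of_cl_eq {S S' : Finset Ω} (h : cl G S = cl G S') (g : G) :
    (∀ y ∈ S, g • y = y) ↔ (∀ y ∈ S', g • y = y) := by
  constructor
  · intro hg y hy
    have : y ∈ cl G S := by rw [h]; exact subset_cl S' hy
    exact fixes_cl hg y this
  · intro hg y hy
    have : y ∈ cl G S' := by rw [← h]; exact subset_cl S hy
    exact fixes_cl hg y this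

theorem cl_insert_congr {S S' : Finset Ω} (h : cl G S = cl G S') (x : Ω) :
    cl G (insert x S) = cl G (insert x S') := by
  ext z
  rw [mem_cl, mem_cl]
  constructor
  · intro hz g hg
    apply hz g
    intro y hy
    rcases Finset.mem_insert.mp hy with rfl | hy
    · exact hg _ (Finset.mem_insert_self _ _)
    · exact (fixes_iff_of_cl_eq h g).mpr (fun y hy => hg y (Finset.mem_insert_of_mem hy)) y hy
  · intro hz g hg
    apply hz g
    intro y hy
    rcases Finset.mem_insert.mp hy with rfl | hy
    · exact hg _ (Finset.mem_insert_self _ _)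
    · exact (fixes_iff_of_cl_eq h g).mp (fun y hy => hg y (Finset.mem_insert_of_mem hy)) y hy

theorem cl_insert_of_mem_cl {S : Finset Ω} {x : Ω} (hx : x ∈ cl G S) : cl G (insert x S) = cl G S := by
  apply Finset.Subset.antisymm
  · apply cl_subset_of_subset_cl
    intro y hy
    rcases Finset.mem_insert.mp hy with rfl | hy
    · exact hx
    · exact subset_cl S hy
  · exact cl_mono (Finset.subset_insert _ _)

/-- Irredundant sequences. -/
def IrrSeq (G : Type*) {Ω : Type*} [Group G] [MulAction G Ω] {t : ℕ} (f : Fin t → Ω) : Prop :=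
  ∀ i : Fin t, ∃ g : G, (∀ j : Fin t, j < i → g • f j = f j) ∧ g • f i ≠ f i

omit [Fintype Ω] [DecidableEq Ω] in
theorem irrSeq_injective {t : ℕ} {f : Fin t → Ω} (hf : IrrSeq G f) : Function.Injective f := by
  intro a b hab
  by_contra hne
  rcases lt_or_gt_of_ne hne with h | h
  · obtain ⟨g, hg1, hg2⟩ := hf b
    apply hg2
    rw [← hab]
    exact hg1 a h
  · obtain ⟨g, hg1, hg2⟩ := hf a
    apply hg2
    rw [hab]
    exact hg1 b h

/-- Sets of points that can be enumerated as an irredundant sequence. -/
def IrrSet (G : Type*) {Ω : Type*} [Group G] [MulAction G Ω] [Fintype Ω] [DecidableEq Ω]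
    (I : Finset Ω) : Prop :=
  ∃ (t : ℕ) (f : Fin t → Ω), IrrSeq G f ∧ univ.image f = I

theorem irrSet_empty : IrrSet G (∅ : Finset Ω) := by
  refine ⟨0, Fin.elim0, fun i => i.elim0, ?_⟩
  ext x
  simp

theorem irrSet_insert {I : Finset Ω} (hI : IrrSet G I) {x : Ω} (hx : x ∉ cl G I) :
    IrrSet G (insert x I) := by
  obtain ⟨t, f, hf, rfl⟩ := hI
  refine ⟨t + 1, Fin.snoc f x, ?_, ?_⟩
  · intro i
    refine Fin.lastCases ?_ (fun i' => ?_) i
    · rw [mem_cl] at hx
      push Not at hx
      obtain ⟨g, hg1, hg2⟩ := hx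
      refine ⟨g, ?_, ?_⟩
      · intro j hj
        have hj' : (j : ℕ) < t := by
          have := Fin.lt_def.mp hj
          simpa using this
        have : j = Fin.castSucc ⟨j, hj'⟩ := by ext; rfl
        rw [this, Fin.snoc_castSucc]
        exact hg1 _ (Finset.mem_image_of_mem _ (Finset.mem_univ _))
      · rw [Fin.snoc_last]; exact hg2
    · obtain ⟨g, hg1, hg2⟩ := hf i'
      refine ⟨g, ?_, ?_⟩
      · intro j hj
        have hj' : (j : ℕ) < t := by
          have := Fin.lt_def.mp hj
          have h2 : (i' : ℕ) < t := i'.2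
          simp only [Fin.val_castSucc] at this
          omega
        have hjeq : j = Fin.castSucc ⟨j, hj'⟩ := by ext; rfl
        rw [hjeq, Fin.snoc_castSucc]
        apply hg1
        rw [hjeq] at hj
        exact Fin.castSucc_lt_castSucc_iff.mp hj
      · rw [Fin.snoc_castSucc]; exact hg2
  · ext y
    simp only [Finset.mem_image, Finset.mem_univ, true_and, Finset.mem_insert]
    constructor
    · rintro ⟨i, rfl⟩
      refine Fin.lastCases ?_ (fun i' => ?_) i
      · left; rw [Fin.snoc_last]
      · right; exact ⟨i', by rw [Fin.snoc_castSucc]⟩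
    · rintro (rfl | ⟨i, rfl⟩)
      · exact ⟨Fin.last t, by rw [Fin.snoc_last]⟩
      · exact ⟨Fin.castSucc i, by rw [Fin.snoc_castSucc]⟩

theorem irrSet_card_eq {I : Finset Ω} {t : ℕ} {f : Fin t → Ω} (hf : IrrSeq G f) (hI : univ.image f = I) :
    I.card = t := by
  rw [← hI, Finset.card_image_of_injective _ (irrSeq_injective hf), Finset.card_univ, Fintype.card_fin]

/-- Every irredundant set extends to an irredundant set with trivial pointwise stabiliser, if the action is
faithful. -/
theorem irrSet_exists_base (hfaith : ∀ g : G, (∀ x : Ω, g • x = x) → g = 1) :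
    ∀ (n : ℕ) (I : Finset Ω), (univ \ I).card = n → IrrSet G I →
      ∃ J : Finset Ω, I ⊆ J ∧ IrrSet G J ∧ ∀ g : G, (∀ y ∈ J, g • y = y) → g = 1 := by
  intro n
  induction n using Nat.strong_induction_on with
  | _ n ih =>
    intro I hn hI
    by_cases hbase : ∀ g : G, (∀ y ∈ I, g • y = y) → g = 1
    · exact ⟨I, Finset.Subset.refl _, hI, hbase⟩
    · push Not at hbase
      obtain ⟨g, hg1, hg2⟩ := hbase
      have : ∃ x : Ω, g • x ≠ x := by
        by_contra hcon
        push Not at hcon
        exact hg2 (hfaith g hcon)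
      obtain ⟨x, hx⟩ := this
      have hxcl : x ∉ cl G I := by
        intro h
        exact hx ((mem_cl.mp h) g hg1)
      have hxI : x ∉ I := fun h => hxcl (subset_cl I h)
      have hlt : (univ \ insert x I).card < n := by
        rw [← hn]
        apply Finset.card_lt_card
        rw [Finset.ssubset_iff_of_subset (Finset.sdiff_subset_sdiff (Finset.Subset.refl _) (Finset.subset_insert _ _))]
        refine ⟨x, ?_, ?_⟩
        · simp [hxI]
        · simp
      obtain ⟨J, hJ1, hJ2, hJ3⟩ := ih _ hlt (insert x I) rfl (irrSet_insert hI hxcl)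
      exact ⟨J, (Finset.subset_insert _ _).trans hJ1, hJ2, hJ3⟩

/-- Pruning: every finite set contains an irredundant set with the same closure. -/
theorem exists_irrSet_subset (S : Finset Ω) :
    ∃ I : Finset Ω, I ⊆ S ∧ IrrSet G I ∧ cl G I = cl G S := by
  induction S using Finset.induction_on with
  | empty => exact ⟨∅, Finset.Subset.refl _, irrSet_empty, rfl⟩
  | insert a S0 _ ih =>
    obtain ⟨I0, h1, h2, h3⟩ := ih
    by_cases ha : a ∈ cl G I0
    · refine ⟨I0, h1.trans (Finset.subset_insert _ _), h2, ?_⟩
      rw [h3] at ha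
      rw [cl_insert_of_mem_cl ha, h3]
    · refine ⟨insert a I0, Finset.insert_subset_insert _ h1, irrSet_insert h2 ha, cl_insert_congr h3 a⟩

/-- Strong independence. -/
def Indep (G : Type*) {Ω : Type*} [Group G] [MulAction G Ω] [Fintype Ω] [DecidableEq Ω]
    (I : Finset Ω) : Prop :=
  ∀ x ∈ I, x ∉ cl G (I.erase x)

theorem indep_subset {I J : Finset Ω} (hJ : Indep G J) (hIJ : I ⊆ J) : Indep G I := by
  intro x hx hcl
  exact hJ x (hIJ hx) (cl_mono (Finset.erase_subset_erase x hIJ) hcl)

/-- The Steinitz exchange lemma for a closure operator with the exchange property. -/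
theorem steinitz
    (hex : ∀ (S : Finset Ω) (x y : Ω), y ∈ cl G (insert x S) → y ∉ cl G S → x ∈ cl G (insert y S))
    (I : Finset Ω) (hI : Indep G I) :
    ∀ (n : ℕ) (A : Finset Ω), (I \ A).card = n → I ⊆ cl G A → I.card ≤ A.card := by
  intro n
  induction n using Nat.strong_induction_on with
  | _ n ih =>
    intro A hn hIA
    by_cases hsub : I ⊆ A
    · exact Finset.card_le_card hsub
    · obtain ⟨x, hxI, hxA⟩ := Finset.not_subset.mp hsub
      -- auxiliary: walk from I ∩ A up to A
      have aux : ∀ (B J : Finset Ω), x ∉ cl G J → x ∈ cl G (J ∪ B) →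
          ∃ a ∈ B, ∃ T : Finset Ω, J ⊆ T ∧ T ⊆ J ∪ B ∧ a ∉ T ∧ x ∈ cl G (insert a T) ∧ x ∉ cl G T := by
        intro B
        induction B using Finset.induction_on with
        | empty =>
          intro J h1 h2
          rw [Finset.union_empty] at h2
          exact absurd h2 h1
        | insert b B0 _ ihB =>
          intro J h1 h2
          by_cases h3 : x ∈ cl G (J ∪ B0)
          · obtain ⟨a, ha, T, hT1, hT2, hT3, hT4, hT5⟩ := ihB J h1 h3
            refine ⟨a, Finset.mem_insert_of_mem ha, T, hT1, hT2.trans ?_, hT3, hT4, hT5⟩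
            exact Finset.union_subset_union (Finset.Subset.refl _) (Finset.subset_insert _ _)
          · have hb : b ∉ J ∪ B0 := by
              intro hb
              apply h3
              have : J ∪ insert b B0 = J ∪ B0 := by
                rw [Finset.union_insert, Finset.insert_eq_of_mem hb]
              rw [← this]; exact h2
            refine ⟨b, Finset.mem_insert_self _ _, J ∪ B0, Finset.subset_union_left, ?_, hb, ?_, h3⟩
            · exact Finset.union_subset_union (Finset.Subset.refl _) (Finset.subset_insert _ _)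
            · rw [← Finset.union_insert]; exact h2
      have hJ : x ∉ cl G (I ∩ A) := by
        intro h
        apply hI x hxI
        refine cl_mono ?_ h
        intro y hy
        rw [Finset.mem_inter] at hy
        rw [Finset.mem_erase]
        refine ⟨?_, hy.1⟩
        rintro rfl
        exact hxA hy.2
      have hunion : (I ∩ A) ∪ (A \ I) = A := by
        ext y
        simp only [Finset.mem_union, Finset.mem_inter, Finset.mem_sdiff]
        tauto
      obtain ⟨a, ha, T, hT1, hT2, hT3, hT4, hT5⟩ := aux (A \ I) (I ∩ A) hJ (by rw [hunion]; exact hIA hxI)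
      rw [hunion] at hT2
      rw [Finset.mem_sdiff] at ha
      have haT : a ∈ cl G (insert x T) := hex T a x hT4 hT5
      set A' := insert x (A.erase a) with hA'
      have hxA' : x ∉ A.erase a := fun h => hxA (Finset.mem_of_mem_erase h)
      have hcard : A'.card = A.card := by
        rw [hA', Finset.card_insert_of_notMem hxA', Finset.card_erase_of_mem ha.1]
        have : 0 < A.card := Finset.card_pos.mpr ⟨a, ha.1⟩
        omega
      have hTA' : insert x T ⊆ A' := by
        apply Finset.insert_subset_insert
        intro y hy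
        rw [Finset.mem_erase]
        refine ⟨?_, hT2 hy⟩
        rintro rfl
        exact hT3 hy
      have hAcl : A ⊆ cl G A' := by
        intro b hb
        by_cases hba : b = a
        · rw [hba]; exact cl_mono hTA' haT
        · apply subset_cl
          rw [hA']
          exact Finset.mem_insert_of_mem (Finset.mem_erase.mpr ⟨hba, hb⟩)
      have hIA' : I ⊆ cl G A' := hIA.trans (cl_subset_of_subset_cl hAcl)
      have hlt : (I \ A').card < n := by
        rw [← hn]
        apply Finset.card_lt_card
        rw [Finset.ssubset_iff_of_subset]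
        · refine ⟨x, Finset.mem_sdiff.mpr ⟨hxI, hxA⟩, ?_⟩
          rw [Finset.mem_sdiff, not_and_not_right]
          intro _
          exact Finset.mem_insert_self _ _
        · intro y hy
          rw [Finset.mem_sdiff] at hy ⊢
          refine ⟨hy.1, fun hyA => hy.2 ?_⟩
          rw [hA']
          apply Finset.mem_insert_of_mem
          rw [Finset.mem_erase]
          refine ⟨?_, hyA⟩
          rintro rfl
          exact ha.2 hy.1
      rw [← hcard]
      exact ih _ hlt A' rfl hIA'

end helpers

/-- Let a finite group G act on a finite set Ω. An irredundant base is a sequence of points ω₁, …, ω_t whose pointwise stabiliser is trivial and in which each ω_i is moved by some element fixing ω₁, …, ω_{i−1}. Then all irredundant bases have the same length if and only if every reordering of an irredundant base is again an irredundant base. -/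
theorem result {G Ω : Type*} [Group G] [Finite G] [MulAction G Ω] [Fintype Ω] :
    (∀ (t t' : ℕ) (f : Fin t → Ω) (f' : Fin t' → Ω), ((∀ g : G, (∀ i : Fin t, g • f i = f i) → g = 1) ∧ ∀ i : Fin t, ∃ g : G, (∀ j : Fin t, j < i → g • f j = f j) ∧ g • f i ≠ f i) → ((∀ g : G, (∀ i : Fin t', g • f' i = f' i) → g = 1) ∧ ∀ i : Fin t', ∃ g : G, (∀ j : Fin t', j < i → g • f' j = f' j) ∧ g • f' i ≠ f' i) → t = t') ↔
    (∀ (t : ℕ) (f : Fin t → Ω) (σ : Equiv.Perm (Fin t)), ((∀ g : G, (∀ i : Fin t, g • f i = f i) → g = 1) ∧ ∀ i : Fin t, ∃ g : G, (∀ j : Fin t, j < i → g • f j = f j) ∧ g • f i ≠ f i) → ((∀ g : G, (∀ i : Fin t, g • (f ∘ σ) i = (f ∘ σ) i) → g = 1) ∧ ∀ i : Fin t, ∃ g : G, (∀ j : Fin t, j < i → g • (f ∘ σ) j = (f ∘ σ) j) ∧ g • (f ∘ σ) i ≠ (f ∘ σ) i)) := by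
  classical
  constructor
  · -- equal lengths ⇒ reorderable
    intro h1 t f σ hf
    obtain ⟨hb, hirr⟩ := hf
    have hbσ : ∀ g : G, (∀ i : Fin t, g • (f ∘ σ) i = (f ∘ σ) i) → g = 1 := by
      intro g hg
      apply hb
      intro i
      have := hg (σ.symm i)
      simpa using this
    refine ⟨hbσ, ?_⟩
    by_contra hcon
    push Not at hcon
    obtain ⟨i, hi⟩ := hcon
    set J' : Finset Ω := (Finset.univ.erase i).image (f ∘ σ) with hJ'
    have hJcard : J'.card ≤ t - 1 := by
      refine (Finset.card_image_le).trans ?_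
      rw [Finset.card_erase_of_mem (Finset.mem_univ _), Finset.card_univ, Fintype.card_fin]
    obtain ⟨I, hIJ, hIrr, hcl⟩ := exists_irrSet_subset (G := G) J'
    obtain ⟨t', f', hf', himg⟩ := hIrr
    have hbase' : ∀ g : G, (∀ i' : Fin t', g • f' i' = f' i') → g = 1 := by
      intro g hg
      apply hbσ
      have hgI : ∀ y ∈ I, g • y = y := by
        intro y hy
        rw [← himg] at hy
        obtain ⟨k, -, rfl⟩ := Finset.mem_image.mp hy
        exact hg k
      have hgJ : ∀ y ∈ J', g • y = y := (fixes_iff_of_cl_eq hcl g).mp hgI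
      have hgne : ∀ k : Fin t, k ≠ i → g • (f ∘ σ) k = (f ∘ σ) k := by
        intro k hk
        apply hgJ
        rw [hJ']
        exact Finset.mem_image_of_mem _ (Finset.mem_erase.mpr ⟨hk, Finset.mem_univ _⟩)
      intro k
      by_cases hk : k = i
      · rw [hk]
        exact hi g (fun j hj => hgne j (ne_of_lt hj))
      · exact hgne k hk
    have ht' : t' = I.card := (irrSet_card_eq hf' himg).symm
    have hle : t' ≤ t - 1 := by
      rw [ht']
      exact (Finset.card_le_card hIJ).trans hJcard
    have heq := h1 t' t f' f ⟨hbase', hf'⟩ ⟨hb, hirr⟩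
    have hpos : 0 < t := Nat.lt_of_le_of_lt (Nat.zero_le _) i.2
    omega
  · -- reorderable ⇒ equal lengths
    intro h2 t t' f f' hf hf'
    have hfaith : ∀ g : G, (∀ x : Ω, g • x = x) → g = 1 := fun g hg => hf.1 g (fun i => hg _)
    have strong : ∀ (t : ℕ) (f : Fin t → Ω),
        ((∀ g : G, (∀ i : Fin t, g • f i = f i) → g = 1) ∧
          ∀ i : Fin t, ∃ g : G, (∀ j : Fin t, j < i → g • f j = f j) ∧ g • f i ≠ f i) →
        ∀ i : Fin t, ∃ g : G, (∀ k : Fin t, k ≠ i → g • f k = f k) ∧ g • f i ≠ f i := by
      intro t f hf i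
      cases t with
      | zero => exact i.elim0
      | succ t =>
        obtain ⟨g, hg1, hg2⟩ := (h2 (t + 1) f (Equiv.swap i (Fin.last t)) hf).2 (Fin.last t)
        refine ⟨g, ?_, ?_⟩
        · intro k hk
          have hne : Equiv.swap i (Fin.last t) k ≠ Fin.last t := by
            intro h
            apply hk
            have := congrArg (Equiv.swap i (Fin.last t)) h
            rw [Equiv.swap_apply_self, Equiv.swap_apply_right] at this
            exact this
          have hlt : Equiv.swap i (Fin.last t) k < Fin.last t := Fin.lt_last_iff_ne_last.mpr hne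
          have := hg1 _ hlt
          simp only [Function.comp_apply, Equiv.swap_apply_self] at this
          exact this
        · simpa [Function.comp_apply, Equiv.swap_apply_right] using hg2
    have hIndepBase : ∀ J : Finset Ω, IrrSet G J → (∀ g : G, (∀ y ∈ J, g • y = y) → g = 1) → Indep G J := by
      intro J hJ hJb
      obtain ⟨t, f, hf, himg⟩ := hJ
      have hIB : (∀ g : G, (∀ i : Fin t, g • f i = f i) → g = 1) ∧
          ∀ i : Fin t, ∃ g : G, (∀ j : Fin t, j < i → g • f j = f j) ∧ g • f i ≠ f i := by
        refine ⟨?_, hf⟩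
        intro g hg
        apply hJb
        intro y hy
        rw [← himg] at hy
        obtain ⟨k, -, rfl⟩ := Finset.mem_image.mp hy
        exact hg k
      intro x hx hxcl
      rw [← himg] at hx
      obtain ⟨i, -, rfl⟩ := Finset.mem_image.mp hx
      obtain ⟨g, hg1, hg2⟩ := strong t f hIB i
      apply hg2
      apply (mem_cl.mp hxcl) g
      intro y hy
      rw [Finset.mem_erase, ← himg] at hy
      obtain ⟨k, -, rfl⟩ := Finset.mem_image.mp hy.2
      apply hg1
      rintro rfl
      exact hy.1 rfl
    have hIndep : ∀ I : Finset Ω, IrrSet G I → Indep G I := by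
      intro I hI
      obtain ⟨J, hIJ, hJ, hJb⟩ := irrSet_exists_base hfaith _ I rfl hI
      exact indep_subset (hIndepBase J hJ hJb) hIJ
    have hex : ∀ (S : Finset Ω) (x y : Ω), y ∈ cl G (insert x S) → y ∉ cl G S → x ∈ cl G (insert y S) := by
      intro S x y hy1 hy2
      by_contra hx
      obtain ⟨I, hIS, hIrr, hcl⟩ := exists_irrSet_subset (G := G) S
      have hyI : y ∉ cl G I := by rw [hcl]; exact hy2
      have hIy : IrrSet G (insert y I) := irrSet_insert hIrr hyI
      have hxI : x ∉ cl G (insert y I) := by rw [cl_insert_congr hcl y]; exact hx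
      have hIxy : IrrSet G (insert x (insert y I)) := irrSet_insert hIy hxI
      have hind := hIndep _ hIxy
      have hy_mem : y ∈ insert x (insert y I) := by simp
      apply hind y hy_mem
      have hyx : y ≠ x := by
        rintro rfl
        exact hx (subset_cl _ (Finset.mem_insert_self _ _))
      have hyI' : y ∉ I := fun h => hyI (subset_cl _ h)
      have hsub : insert x I ⊆ (insert x (insert y I)).erase y := by
        intro z hz
        rw [Finset.mem_erase]
        rcases Finset.mem_insert.mp hz with rfl | hz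
        · exact ⟨hyx.symm, Finset.mem_insert_self _ _⟩
        · exact ⟨fun h => hyI' (h ▸ hz), Finset.mem_insert_of_mem (Finset.mem_insert_of_mem hz)⟩
      apply cl_mono hsub
      rw [cl_insert_congr hcl x]
      exact hy1
    -- the two bases as independent sets
    have hset : ∀ (t : ℕ) (f : Fin t → Ω),
        ((∀ g : G, (∀ i : Fin t, g • f i = f i) → g = 1) ∧
          ∀ i : Fin t, ∃ g : G, (∀ j : Fin t, j < i → g • f j = f j) ∧ g • f i ≠ f i) →
        Indep G (Finset.univ.image f) ∧ (Finset.univ.image f).card = t ∧ cl G (Finset.univ.image f) = Finset.univ := by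
      intro t f hf
      have hIrr : IrrSet G (Finset.univ.image f) := ⟨t, f, hf.2, rfl⟩
      refine ⟨hIndep _ hIrr, irrSet_card_eq hf.2 rfl, ?_⟩
      ext x
      simp only [Finset.mem_univ, iff_true]
      rw [mem_cl]
      intro g hg
      have : g = 1 := hf.1 g (fun i => hg _ (Finset.mem_image_of_mem _ (Finset.mem_univ _)))
      rw [this, one_smul]
    obtain ⟨hA1, hA2, hA3⟩ := hset t f hf
    obtain ⟨hB1, hB2, hB3⟩ := hset t' f' hf'
    have hle1 : t ≤ t' := by
      rw [← hA2, ← hB2]
      apply steinitz hex _ hA1 _ _ rfl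
      rw [hB3]; exact Finset.subset_univ _
    have hle2 : t' ≤ t := by
      rw [← hA2, ← hB2]
      apply steinitz hex _ hB1 _ _ rfl
      rw [hA3]; exact Finset.subset_univ _
    omega

end Cfsg.Agent.S5747
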