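import Cfsg.Statements.S5748
import Mathlib
import Cfsg.Agent.S0183
import Cfsg.Agent.Lib.Helper21_BSW7
import Cfsg.Agent.Lib.Helper77_CAConv
import Cfsg.Agent.Lib.Helper77_CAi

set_option autoImplicit false
open Cfsg

namespace Cfsg.Agent.S5748

/-- A finite non-abelian simple group in which commuting is a transitive relation on the non-identity elements (equivalently, every non-identity element has abelian centraliser) is isomorphic to PSL₂ over a field with 2^f elements for some f ≥ 2; conversely these groups have that property. -/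
theorem result {G : Type*} [Group G] [Finite G] [IsSimpleGroup G] (hG : ¬ IsMulCommutative G) :
    (∀ a b c : G, a ≠ 1 → b ≠ 1 → c ≠ 1 → Commute a b → Commute b c → Commute a c) ↔
    ∃ (F : Type) (_ : Field F) (_ : Fintype F) (f : ℕ), 2 ≤ f ∧ Fintype.card F = 2 ^ f ∧ Nonempty (G ≃* Matrix.ProjectiveSpecialLinearGroup (Fin 2) F) := by
  classical
  have h2p : Fact (Nat.Prime 2) := ⟨Nat.prime_two⟩
  constructor
  · intro hCT'
    have hCT : Cfsg.Agent.Lib.Helper77_CAa.CT G := hCT'
    -- the order of `G` is even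
    have heven : 2 ∣ Nat.card G := by
      by_contra hodd
      have hodd' : Odd (Nat.card G) := by
        rw [← Nat.not_even_iff_odd, even_iff_two_dvd]
        exact hodd
      have hCN : Cfsg.IsCNGroup G := by
        intro g hg
        let _ : CommGroup ↥(Subgroup.centralizer ({g} : Set G)) :=
          { (inferInstance : Group ↥(Subgroup.centralizer ({g} : Set G))) with
            mul_comm := fun a b => Subtype.ext
              (hCT.commute_of_commute hg
                (Cfsg.Agent.Lib.Helper77_CAa.mem_centralizer_singleton.mp a.2)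
                (Cfsg.Agent.Lib.Helper77_CAa.mem_centralizer_singleton.mp b.2)).eq }
        exact CommGroup.isNilpotent
      have hsol := Cfsg.Agent.S0183.result hodd' hCN
      apply hG
      have hcomm := IsSimpleGroup.comm_iff_isSolvable.mpr hsol
      exact ⟨⟨hcomm⟩⟩
    obtain ⟨t, ht⟩ := exists_prime_orderOf_dvd_card' 2 heven
    obtain ⟨T, htT, hTA⟩ := Cfsg.Agent.Lib.Helper77_CAa.exists_sylow hCT ht
    have hCIT := Cfsg.Agent.Lib.Helper77_CAi.cit_of_ct hG hCT
    have hTeq : Subgroup.centralizer ({t} : Set G) = (T : Subgroup G) :=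
      Cfsg.Agent.Lib.Helper21_BSW.centralizer_eq hCIT T ht htT
    have hk2 := Cfsg.Agent.Lib.Helper77_CAb.two_le_kk hG hCT ht
    have hkd := Cfsg.Agent.Lib.Helper77_CAb.kk_dvd hG hCT ht
    -- `|T| ≥ 3`
    have hcard3 : 3 ≤ Nat.card ↥(T : Subgroup G) := by
      rw [← hTeq]
      have h1 : 1 < Nat.card ↥(Subgroup.centralizer ({t} : Set G)) := by
        rw [Finite.one_lt_card_iff_nontrivial]
        exact ⟨⟨⟨t, Cfsg.Agent.Lib.Helper77_CAa.t_mem⟩, 1, fun h =>
          Cfsg.Agent.Lib.Helper77_CAa.t_ne_one ht (congrArg Subtype.val h)⟩⟩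
      have h2 : 0 < Nat.card ↥(Subgroup.centralizer ({t} : Set G)) - 1 := by omega
      have h3 := Nat.le_of_dvd h2 hkd
      omega
    have hnc : ¬ IsCyclic ↥(T : Subgroup G) := by
      intro hcyc
      have h1 : Monoid.exponent ↥(T : Subgroup G) ∣ 2 := by
        apply Monoid.exponent_dvd_of_forall_pow_eq_one
        intro a
        apply Subtype.ext
        exact Cfsg.Agent.Lib.Helper21_BSW.sq_eq_one_of_mem hCIT T a.2
      rw [IsCyclic.exponent_eq_card] at h1
      have := Nat.le_of_dvd (by norm_num) h1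
      omega
    have hnn : ¬ (T : Subgroup G).Normal := by
      intro hn
      rcases hn.eq_bot_or_eq_top with h | h
      · have : t ∈ (⊥ : Subgroup G) := h ▸ htT
        exact Cfsg.Agent.Lib.Helper77_CAa.t_ne_one ht (Subgroup.mem_bot.mp this)
      · exact Cfsg.Agent.Lib.Helper77_CAa.A_ne_top hG ht (hTeq.trans h)
    obtain ⟨F, hF, hFin, hcardF, hiso⟩ :=
      Cfsg.Agent.Lib.Helper21_BSW.exists_mulEquiv_PSL hCIT T hnc hnn
    obtain ⟨f, hf⟩ := (IsPGroup.iff_card.mp T.isPGroup')
    refine ⟨F, hF, hFin, f, ?_, ?_, hiso⟩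
    · by_contra hlt
      have hf1 : f ≤ 1 := by omega
      have : 2 ^ f ≤ 2 ^ 1 := Nat.pow_le_pow_right (by norm_num) hf1
      omega
    · rw [hcardF, hf]
  · rintro ⟨F, hF, hFin, f, hf2, hcard, ⟨e⟩⟩
    have hchar : CharP F 2 := charP_of_card_eq_prime_pow hcard
    intro a b c _ hb _ hab hbc
    exact Cfsg.Agent.Lib.Helper77_CAConv.commute_trans_of_mulEquiv e a b c hb hab hbc

end Cfsg.Agent.S5748
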