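import Cfsg.Statements.S5754
-- import your own Cfsg.Agent.* helpers here

set_option autoImplicit false
open Cfsg

namespace Cfsg.Agent.S5754

section helpers

variable {F V : Type*} [Field F] [AddCommGroup V] [Module F V]

/-- Q (x - y) = Q x + Q y - polar Q x y -/
theorem map_sub_eq (Q : QuadraticForm F V) (x y : V) :
    Q (x - y) = Q x + Q y - QuadraticMap.polar (⇑Q) x y := by
  have h := QuadraticMap.map_add (⇑Q) (x - y) y
  rw [sub_add_cancel] at h
  have h2 : QuadraticMap.polar (⇑Q) (x - y) y = QuadraticMap.polar (⇑Q) x y - QuadraticMap.polar (⇑Q) y y := by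
    rw [QuadraticMap.polar_sub_left]
  rw [h2, QuadraticMap.polar_self] at h
  simp only [nsmul_eq_mul, Nat.cast_ofNat] at h
  linear_combination (-1 : F) * h

/-- The dual vector used for the reflection in `x`. -/
noncomputable def reflDual (Q : QuadraticForm F V) (x : V) : Module.Dual F V :=
  (Q x)⁻¹ • (QuadraticMap.polarBilin Q).flip x

theorem reflDual_apply (Q : QuadraticForm F V) (x v : V) :
    reflDual Q x v = (Q x)⁻¹ * QuadraticMap.polar (⇑Q) v x := by
  simp [reflDual]

theorem reflDual_self (Q : QuadraticForm F V) (x : V) (hx : Q x ≠ 0) : reflDual Q x x = 2 := by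
  rw [reflDual_apply, QuadraticMap.polar_self]
  simp only [nsmul_eq_mul, Nat.cast_ofNat]
  field_simp

/-- The reflection in a non-singular vector, as an isometry. -/
noncomputable def refl (Q : QuadraticForm F V) (x : V) (hx : Q x ≠ 0) : Q.IsometryEquiv Q :=
  { Module.reflection (reflDual_self Q x hx) with
    map_app' := by
      intro v
      change Q (Module.reflection (reflDual_self Q x hx) v) = Q v
      rw [Module.reflection_apply, map_sub_eq, QuadraticMap.map_smul, QuadraticMap.polar_smul_right,
        reflDual_apply]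
      simp only [smul_eq_mul]
      field_simp
      ring }

theorem refl_apply (Q : QuadraticForm F V) (x : V) (hx : Q x ≠ 0) (v : V) :
    refl Q x hx v = v - ((Q x)⁻¹ * QuadraticMap.polar (⇑Q) v x) • x := by
  change Module.reflection (reflDual_self Q x hx) v = _
  rw [Module.reflection_apply, reflDual_apply]

theorem refl_apply_of_polar_eq_zero (Q : QuadraticForm F V) (x : V) (hx : Q x ≠ 0) (v : V)
    (hv : QuadraticMap.polar (⇑Q) v x = 0) : refl Q x hx v = v := by
  rw [refl_apply, hv]; simp

theorem refl_sub_apply (Q : QuadraticForm F V) (w w' : V) (hQ : Q w = Q w') (hx : Q (w - w') ≠ 0) :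
    refl Q (w - w') hx w = w' := by
  rw [refl_apply]
  have h1 : QuadraticMap.polar (⇑Q) w (w - w') = Q (w - w') := by
    rw [QuadraticMap.polar_sub_right, QuadraticMap.polar_self, map_sub_eq, ← hQ]
    simp only [nsmul_eq_mul, Nat.cast_ofNat]
    ring
  rw [h1, inv_mul_cancel₀ hx, one_smul]
  abel

/-- Witt extension for anisotropic forms, family version. -/
theorem witt_family (Q : QuadraticForm F V) (hQ : Q.Anisotropic) :
    ∀ (n : ℕ) (v v' : Fin n → V), (∀ i, Q (v i) = Q (v' i)) →
      (∀ i j, Q (v i - v j) = Q (v' i - v' j)) →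
      ∃ φ : Q.IsometryEquiv Q, ∀ i, φ (v i) = v' i := by
  intro n
  induction n with
  | zero =>
    intro v v' _ _
    exact ⟨QuadraticMap.IsometryEquiv.refl Q, fun i => i.elim0⟩
  | succ n ih =>
    intro v v' h1 h2
    obtain ⟨φ₀, hφ₀⟩ := ih (fun i => v i.castSucc) (fun i => v' i.castSucc)
      (fun i => h1 _) (fun i j => h2 _ _)
    set w := φ₀ (v (Fin.last n)) with hw
    set w' := v' (Fin.last n) with hw'
    have hQw : Q w = Q w' := by
      rw [hw, QuadraticMap.IsometryEquiv.map_app, hw']; exact h1 _
    by_cases hww : w = w'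
    · refine ⟨φ₀, fun i => ?_⟩
      refine Fin.lastCases ?_ (fun j => ?_) i
      · exact hww
      · exact hφ₀ j
    · have hx0 : w - w' ≠ 0 := sub_ne_zero.mpr hww
      have hx : Q (w - w') ≠ 0 := fun h => hx0 (hQ _ h)
      refine ⟨φ₀.trans (refl Q (w - w') hx), fun i => ?_⟩
      refine Fin.lastCases ?_ (fun j => ?_) i
      · change refl Q (w - w') hx (φ₀ (v (Fin.last n))) = v' (Fin.last n)
        exact refl_sub_apply Q w w' hQw hx
      · change refl Q (w - w') hx (φ₀ (v j.castSucc)) = v' j.castSucc
        rw [hφ₀ j]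
        apply refl_apply_of_polar_eq_zero
        -- polar (v' j) (w - w') = 0
        have e1 : Q (v' j.castSucc - w) = Q (v' j.castSucc - w') := by
          have : v' j.castSucc - w = φ₀ (v j.castSucc - v (Fin.last n)) := by
            rw [map_sub, hφ₀ j]
          rw [this, QuadraticMap.IsometryEquiv.map_app]
          exact h2 _ _
        rw [map_sub_eq, map_sub_eq, hQw] at e1
        rw [QuadraticMap.polar_sub_right]
        linear_combination (-1 : F) * e1

end helpers

/-- Let V be a finite-dimensional vector space over a finite field F carrying an anisotropic quadratic form Q (Q(v) = 0 only for v = 0). Then the group of all maps v ↦ φ(v) + c, with φ an isometry of Q and c ∈ V, acts on V as a binary permutation group: given n ≥ 2 and two n-tuples u, u' of vectors such that every pair of corresponding entries of u is carried to that of u' by such a map, one such map carries u to u'. -/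
theorem result {F V : Type*} [Field F] [Finite F] [AddCommGroup V] [Module F V] [Module.Finite F V]
    (Q : QuadraticForm F V) (hQ : Q.Anisotropic) (n : ℕ) (hn : 2 ≤ n) (u u' : Fin n → V)
    (h2 : ∀ i j : Fin n, i ≠ j → ∃ (φ : Q.IsometryEquiv Q) (c : V), φ (u i) + c = u' i ∧ φ (u j) + c = u' j) :
    ∃ (φ : Q.IsometryEquiv Q) (c : V), ∀ i, φ (u i) + c = u' i := by
  classical
  -- all pairwise differences have the same Q-value
  have hdiff : ∀ i j : Fin n, Q (u i - u j) = Q (u' i - u' j) := by
    intro i j
    by_cases hij : i = j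
    · subst hij; simp
    · obtain ⟨φ, c, h1, h2'⟩ := h2 i j hij
      have : u' i - u' j = φ (u i - u j) := by
        rw [← h1, ← h2', map_sub]; abel
      rw [this, QuadraticMap.IsometryEquiv.map_app]
  let i₀ : Fin n := ⟨0, by omega⟩
  obtain ⟨φ, hφ⟩ := witt_family Q hQ n (fun i => u i - u i₀) (fun i => u' i - u' i₀)
    (fun i => hdiff i i₀)
    (fun i j => by
      have e1 : u i - u i₀ - (u j - u i₀) = u i - u j := by abel
      have e2 : u' i - u' i₀ - (u' j - u' i₀) = u' i - u' j := by abel
      rw [e1, e2]; exact hdiff i j)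
  refine ⟨φ, u' i₀ - φ (u i₀), fun i => ?_⟩
  have := hφ i
  simp only [map_sub] at this
  have h3 : φ (u i) + (u' i₀ - φ (u i₀)) = (φ (u i) - φ (u i₀)) + u' i₀ := by abel
  rw [h3, this]; abel

end Cfsg.Agent.S5754
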