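import Cfsg.Statements.S5763
-- import your own Cfsg.Agent.* helpers here

set_option autoImplicit false
open Cfsg

namespace Cfsg.Agent.S5763

open Equiv

/-! ## The reference structure on eight points

The points `0, …, 7` carry the pairs `{0,1},{2,3},{4,5},{6,7}` and the quads `{0,1,2,3},{4,5,6,7}`.
`levN a b` is `0` if `a, b` lie in a common pair, `1` if they lie in a common quad but not in a common pair,
and `2` otherwise.  The stabiliser `P` of this structure is a `2`-group; all its conjugates are the stabilisers of
the `315` structures of the same shape, which are listed by codes in `codes`. -/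

/-- Level of two points of `{0, …, 7}` in the reference structure. -/
def levN (a b : Nat) : Nat := if Nat.xor a b < 2 then 0 else if Nat.xor a b < 4 then 1 else 2

/-- The `i`-th base-8 digit of `c`. -/
def decN (c i : Nat) : Nat := Nat.land (Nat.shiftRight c (Nat.mul 3 i)) 7

theorem decN_lt (c i : Nat) : decN c i < 8 := by
  unfold decN
  exact Nat.lt_succ_of_le Nat.and_le_right

theorem levN_self (a : Nat) : levN a a = 0 := by
  simp [levN]

theorem levN_comm (a b : Nat) : levN a b = levN b a := by
  simp [levN, Nat.xor_comm]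

theorem app_inv (a : Perm (Fin 8)) (i : Fin 8) : a (a⁻¹ i) = i := by simp

/-- The stabiliser of the reference structure. -/
def P : Subgroup (Perm (Fin 8)) where
  carrier := {g | ∀ i j : Fin 8, levN (g i) (g j) = levN i j}
  mul_mem' := by
    intro a b ha hb i j
    simp only [Perm.coe_mul, Function.comp_apply]
    rw [ha, hb]
  one_mem' := by
    intro i j
    rfl
  inv_mem' := by
    intro a ha i j
    have h := ha (a⁻¹ i) (a⁻¹ j)
    rw [app_inv, app_inv] at h
    exact h.symm

theorem mem_P (g : Perm (Fin 8)) : g ∈ P ↔ ∀ i j : Fin 8, levN (g i) (g j) = levN i j := Iff.rfl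

/-! ## `P` is a 2-group -/

def pr (i : Fin 8) : Fin 4 := ⟨i.val / 2, by omega⟩
def rp (k : Fin 4) : Fin 8 := ⟨2 * k.val, by omega⟩

theorem lev0_iff : ∀ i j : Fin 8, levN i j = 0 ↔ pr i = pr j := by decide
theorem lev1_iff : ∀ i j : Fin 8, levN i j ≤ 1 ↔ (pr i).val / 2 = (pr j).val / 2 := by decide
theorem lev_rp : ∀ i : Fin 8, levN i (rp (pr i)) = 0 := by decide
theorem pr_rp : ∀ k : Fin 4, pr (rp k) = k := by decide

theorem key4 : ∀ ρ : Fin 4 → Fin 4, Function.Surjective ρ →
    (∀ k l : Fin 4, k.val / 2 = l.val / 2 → (ρ k).val / 2 = (ρ l).val / 2) →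
    ∀ k, ρ (ρ (ρ (ρ k))) = k := by
  decide +kernel

theorem key2 : ∀ i j k : Fin 8, pr j = pr i → pr k = pr j → j ≠ i → k ≠ j → k = i := by decide

theorem pow8 (g : Perm (Fin 8)) (hg : g ∈ P) : g ^ 8 = 1 := by
  have hg' : ∀ i j : Fin 8, levN (g i) (g j) = levN i j := hg
  let ρ : Fin 4 → Fin 4 := fun k => pr (g (rp k))
  have h1 : ∀ i, pr (g i) = ρ (pr i) := by
    intro i
    have h := hg' i (rp (pr i))
    rw [lev_rp] at h
    exact (lev0_iff _ _).1 h
  have hsurj : Function.Surjective ρ := by
    intro k
    refine ⟨pr (g⁻¹ (rp k)), ?_⟩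
    rw [← h1, app_inv, pr_rp]
  have hquad : ∀ k l : Fin 4, k.val / 2 = l.val / 2 → (ρ k).val / 2 = (ρ l).val / 2 := by
    intro k l hkl
    have a1 : levN (rp k) (rp l) ≤ 1 := (lev1_iff _ _).2 (by rw [pr_rp, pr_rp]; exact hkl)
    have a2 : levN (g (rp k)) (g (rp l)) ≤ 1 := by rw [hg']; exact a1
    exact (lev1_iff _ _).1 a2
  have h4 := key4 ρ hsurj hquad
  have h5 : ∀ i, pr (g (g (g (g i)))) = pr i := by
    intro i
    rw [h1, h1, h1, h1, h4]
  have e : ∀ x, (g ^ 4) x = g (g (g (g x))) := by
    intro x
    simp [pow_succ, Perm.mul_apply]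
  have h6 : ∀ i, (g ^ 4) ((g ^ 4) i) = i := by
    intro i
    by_cases hfix : (g ^ 4) i = i
    · rw [hfix, hfix]
    · apply key2 i ((g ^ 4) i) ((g ^ 4) ((g ^ 4) i))
      · rw [e]; exact h5 i
      · rw [e ((g ^ 4) i)]; exact h5 _
      · exact hfix
      · intro hh; exact hfix ((g ^ 4).injective hh)
  have h8 : g ^ 8 = g ^ 4 * g ^ 4 := by rw [← pow_add]
  ext i
  rw [h8, Perm.mul_apply, h6]
  rfl

theorem isPGroup_P : IsPGroup 2 P := by
  intro g
  refine ⟨3, ?_⟩
  apply Subtype.ext
  have h := pow8 g.1 g.2
  simpa using h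

/-! ## Checking twenty-eight pairs -/

/-- Conjunction of `F i j` over the 28 pairs `i < j < 8`. -/
def chk28 (F : Nat → Nat → Bool) : Bool :=
  F 0 1 &&
  F 0 2 &&
  F 0 3 &&
  F 0 4 &&
  F 0 5 &&
  F 0 6 &&
  F 0 7 &&
  F 1 2 &&
  F 1 3 &&
  F 1 4 &&
  F 1 5 &&
  F 1 6 &&
  F 1 7 &&
  F 2 3 &&
  F 2 4 &&
  F 2 5 &&
  F 2 6 &&
  F 2 7 &&
  F 3 4 &&
  F 3 5 &&
  F 3 6 &&
  F 3 7 &&
  F 4 5 &&
  F 4 6 &&
  F 4 7 &&
  F 5 6 &&
  F 5 7 &&
  F 6 7

theorem chk28_sound (F : Nat → Nat → Bool) (h : chk28 F = true) :
    ∀ i j : Fin 8, i < j → F i.val j.val = true := by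
  simp only [chk28, Bool.and_eq_true] at h
  intro i j hij
  fin_cases i <;> fin_cases j <;> first | exact absurd hij (by decide) | simp_all

theorem rel_of_chk (A B : Nat → Nat → Nat) (hA : ∀ i, A i i = B i i) (hAs : ∀ i j, A i j = A j i)
    (hBs : ∀ i j, B i j = B j i) (h : chk28 (fun i j => Nat.beq (A i j) (B i j)) = true) :
    ∀ i j : Fin 8, A i.val j.val = B i.val j.val := by
  intro i j
  rcases lt_trichotomy i j with h1 | h1 | h1
  · exact Nat.eq_of_beq_eq_true (chk28_sound _ h i j h1)
  · subst h1; exact hA _
  · rw [hAs, hBs]; exact Nat.eq_of_beq_eq_true (chk28_sound _ h j i h1)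

/-! ## The table of structures -/

/-- Position map of the transposition `(0 1)`. -/
def sw01 (i : Nat) : Nat := if i = 0 then 1 else if i = 1 then 0 else i
/-- Position map of the rotation `i ↦ i + 1`. -/
def rot8 (i : Nat) : Nat := (i + 1) % 8

/-- The structure of `c` moved by the position map `g` is the structure of `c'`. -/
def relOk (c c' : Nat) (g : Nat → Nat) : Bool :=
  chk28 (fun i j => Nat.beq (levN (decN c (g i)) (decN c (g j))) (levN (decN c' i) (decN c' j)))

theorem relOk_sound (c c' : Nat) (g : Nat → Nat) (h : relOk c c' g = true) :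
    ∀ i j : Fin 8, levN (decN c (g i.val)) (decN c (g j.val)) = levN (decN c' i.val) (decN c' j.val) :=
  rel_of_chk (fun i j => levN (decN c (g i)) (decN c (g j))) (fun i j => levN (decN c' i) (decN c' j))
    (fun i => by simp only [levN_self]) (fun i j => levN_comm _ _) (fun i j => levN_comm _ _) h

/-- Codes of the 315 structures. -/
def codes : List Nat :=
  [16434824, 2054353, 2054346, 2353946, 4451097, 4488547, 4451083, 2653539, 4488540, 6847841, 2653532, 6623148, 8949675, 6847820, 2953132, 8720299, 9216501, 8949661, 7410165, 9244585, 8757749, 8720285, 7381493, 9216494, 11637822, 11604467, 7410158, 11412030, 9244557, 3252725, 8757742, 11580478, 11575795, 7381486, 11408446, 13734973, 14037639, 11604446, 7742014, 13509181, 14009415, 11641329, 3252718, 10892350, 13677629, 14030471, 11575774, 7738430, 13505597, 14008967, 13734959, 12202631, 14037688, 16434768, 14033467, 13550663, 13509167, 12174407, 14009464, 16431240, 11641294, 3552318, 12989501, 13944455, 13677615, 12195463, 16433872, 13550215, 13505583, 12173959, 14009016, 16431184, 16396933,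 12202680, 16205392, 1754711, 8045639, 13550712, 16373896, 16368709, 12174456, 16201864, 1751183, 2053905, 13026951, 12989487, 12109447, 13944504, 16423120, 16389765, 12195512, 16204496, 2054234, 13550264, 16373840, 16368261, 12174008, 16201808, 1751127, 2053898, 16396968, 12535376, 1525335, 1754746, 8045688, 15685768, 1693839, 2046737, 16368744, 12531848, 1521807, 2025233, 1751225, 14898961, 13027000, 16308432, 16303749, 12109496, 16193744, 1743063, 2052890, 16389800, 12534480, 1524439, 2025562, 1693783, 2046730, 16368296, 12531792, 1521751, 2025226, 1751162, 14898954, 4451041, 2049621, 1525370, 4413647, 1005711, 1693881, 14891793, 2352994, 2046093, 1566481, 1521849, 14870289, 2316055, 3959522, 1628375, 2038554, 16303784, 12523728, 1513687, 2024218, 1743098, 14897946, 4450915, 2048725, 1566810, 1524474, 14870618, 1693818, 14891786, 4450145, 2046037, 1566474, 1521786, 14870282, 4447457, 4413199, 6056673, 4451020, 2049642, 4384975, 4413689, 15231769, 1005753, 14805777, 3958626, 2352980, 4488428, 2046121, 10741521, 2287383, 3955938, 2316090, 14969570,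 3959508, 1628410, 14883610, 4449123, 2037973, 1565466, 1513722, 14869274, 4447331, 4412191, 6056547, 4450908, 2048746, 10741850, 4384863, 6055777, 4450124, 2653420, 2046058, 10741514, 4384527, 6053089, 4413241, 15231713, 6056652, 8944985, 15228185, 4001123, 3947874, 3958612, 4689132, 8682730, 2287418, 14965986, 3955924, 4483815, 14969556, 8883546, 6054755, 4449116, 6847596, 2037994, 10740506, 4383519, 6052963, 4412219, 15231587, 6056540, 8944971, 15228171, 6055756, 2854124, 8944873, 4384569, 15228129, 6053068, 2648807, 15231692, 4001116, 9145689, 3215275, 4000675, 6791596, 3947860, 4687788, 8883434, 8682709, 4480231, 14965972, 8883098, 10259802, 5304747, 7048300, 8944747, 4383547, 15228003, 6052956, 6842983, 15231580, 9145675, 7409577, 8194977, 9145577, 8944845, 3215261, 2645223, 15228108, 4000668, 9145241, 10292569, 3240363, 6693365, 6791540, 9237557, 8974581, 5304733, 11571098, 10259354, 5304691, 5476779, 6954549, 7409549, 6839399, 15227996, 8194956, 9145227, 10292555, 7434665, 3023349, 3121524, 3240349, 11603865, 10292121, 3240307, 6696501,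 11322430, 9237550, 8974574, 11148851, 6954542, 6976053, 10292107, 7434609, 3026485, 10863678, 10890803, 3240286, 6696494, 3026478]

/-- Each code with the codes of its images under `(0 1)` and under the rotation. -/
def tbl : List (Nat × Nat × Nat) :=
  [(16434824, 16434824, 2054353),
  (2054353, 2054346, 2353946),
  (2054346, 2054353, 4451097),
  (2353946, 2353946, 4488547),
  (4451097, 4451083, 2653539),
  (4488547, 4488540, 16434824),
  (4451083, 4451097, 6847841),
  (2653539, 2653532, 6623148),
  (4488540, 4488547, 8949675),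
  (6847841, 6847820, 2953132),
  (2653532, 2653539, 8720299),
  (6623148, 6623148, 9216501),
  (8949675, 8949661, 7410165),
  (6847820, 6847841, 9244585),
  (2953132, 2953132, 8757749),
  (8720299, 8720285, 7381493),
  (9216501, 9216494, 11637822),
  (8949661, 8949675, 11604467),
  (7410165, 7410158, 11412030),
  (9244585, 9244557, 3252725),
  (8757749, 8757742, 11580478),
  (8720285, 8720299, 11575795),
  (7381493, 7381486, 11408446),
  (9216494, 9216501, 13734973),
  (11637822, 11637822, 14037639),
  (11604467, 11604446, 7742014),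
  (7410158, 7410165, 13509181),
  (11412030, 11412030, 14009415),
  (9244557, 9244585, 11641329),
  (3252725, 3252718, 10892350),
  (8757742, 8757749, 13677629),
  (11580478, 11580478, 14030471),
  (11575795, 11575774, 7738430),
  (7381486, 7381493, 13505597),
  (11408446, 11408446, 14008967),
  (13734973, 13734959, 12202631),
  (14037639, 14037688, 16434768),
  (11604446, 11604467, 14033467),
  (7742014, 7742014, 13550663),
  (13509181, 13509167, 12174407),
  (14009415, 14009464, 16431240),
  (11641329, 11641294, 3552318),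
  (3252718, 3252725, 12989501),
  (10892350, 10892350, 13944455),
  (13677629, 13677615, 12195463),
  (14030471, 14033467, 16433872),
  (11575774, 11575795, 14037688),
  (7738430, 7738430, 13550215),
  (13505597, 13505583, 12173959),
  (14008967, 14009016, 16431184),
  (13734959, 13734973, 16396933),
  (12202631, 12202680, 16205392),
  (14037688, 14037639, 1754711),
  (16434768, 16433872, 2054346),
  (14033467, 14030471, 8045639),
  (13550663, 13550712, 16373896),
  (13509167, 13509181, 16368709),
  (12174407, 12174456, 16201864),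
  (14009464, 14009415, 1751183),
  (16431240, 16431240, 2053905),
  (11641294, 11641329, 4488540),
  (3552318, 3552318, 13026951),
  (12989501, 12989487, 12109447),
  (13944455, 13944504, 16423120),
  (13677615, 13677629, 16389765),
  (12195463, 12195512, 16204496),
  (16433872, 16434768, 2054234),
  (13550215, 13550264, 16373840),
  (13505583, 13505597, 16368261),
  (12173959, 12174008, 16201808),
  (14009016, 14008967, 1751127),
  (16431184, 16423120, 2053898),
  (16396933, 16396968, 12535376),
  (12202680, 12202631, 1525335),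
  (16205392, 16204496, 9216494),
  (1754711, 1754746, 7410158),
  (8045639, 8045688, 15685768),
  (13550712, 13550663, 1693839),
  (16373896, 16373896, 2046737),
  (16368709, 16368744, 12531848),
  (12174456, 12174407, 1521807),
  (16201864, 16201864, 2025233),
  (1751183, 1751225, 14898961),
  (2053905, 2053898, 11641294),
  (13026951, 13027000, 16308432),
  (12989487, 12989501, 16303749),
  (12109447, 12109496, 16193744),
  (13944504, 13944455, 1743063),
  (16423120, 16431184, 2052890),
  (16389765, 16389800, 12534480),
  (12195512, 12195463, 1524439),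
  (16204496, 16205392, 2025562),
  (2054234, 2054234, 4451083),
  (13550264, 13550215, 1693783),
  (16373840, 16308432, 2046730),
  (16368261, 16368296, 12531792),
  (12174008, 12173959, 1521751),
  (16201808, 16193744, 2025226),
  (1751127, 1751162, 14898954),
  (2053898, 2053905, 4451041),
  (16396968, 16396933, 2049621),
  (12535376, 12534480, 8757742),
  (1525335, 1525370, 7381486),
  (1754746, 1754711, 4413647),
  (8045688, 8045639, 1005711),
  (15685768, 15685768, 13509167),
  (1693839, 1693881, 14891793),
  (2046737, 2046730, 2352994),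
  (16368744, 16368709, 2046093),
  (12531848, 12531848, 1566481),
  (1521807, 1521849, 14870289),
  (2025233, 2025226, 11575774),
  (1751225, 1751183, 2316055),
  (14898961, 14898954, 3959522),
  (13027000, 13026951, 1628375),
  (16308432, 16373840, 2038554),
  (16303749, 16303784, 12523728),
  (12109496, 12109447, 1513687),
  (16193744, 16201808, 2024218),
  (1743063, 1743098, 14897946),
  (2052890, 2052890, 4450915),
  (16389800, 16389765, 2048725),
  (12534480, 12535376, 1566810),
  (1524439, 1524474, 14870618),
  (2025562, 2025562, 13734959),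
  (1693783, 1693818, 14891786),
  (2046730, 2046737, 4450145),
  (16368296, 16368261, 2046037),
  (12531792, 12523728, 1566474),
  (1521751, 1521786, 14870282),
  (2025226, 2025233, 4447457),
  (1751162, 1751127, 4413199),
  (14898954, 14898961, 6056673),
  (4451041, 4451020, 2653532),
  (2049621, 2049642, 3252718),
  (1525370, 1525335, 4384975),
  (4413647, 4413689, 15231769),
  (1005711, 1005753, 14805777),
  (1693881, 1693839, 16303784),
  (14891793, 14891786, 3958626),
  (2352994, 2352980, 4488428),
  (2046093, 2046121, 10741521),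
  (1566481, 1566474, 11604446),
  (1521849, 1521807, 2287383),
  (14870289, 14870282, 3955938),
  (2316055, 2316090, 14969570),
  (3959522, 3959508, 14009464),
  (1628375, 1628410, 14883610),
  (2038554, 2038554, 4449123),
  (16303784, 16303749, 2037973),
  (12523728, 12531792, 1565466),
  (1513687, 1513722, 14869274),
  (2024218, 2024218, 4447331),
  (1743098, 1743063, 4412191),
  (14897946, 14897946, 6056547),
  (4450915, 4450908, 6847820),
  (2048725, 2048746, 10741850),
  (1566810, 1566810, 13677615),
  (1524474, 1524439, 4384863),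
  (14870618, 14870618, 13505583),
  (1693818, 1693783, 12109496),
  (14891786, 14891793, 6055777),
  (4450145, 4450124, 2653420),
  (2046037, 2046058, 10741514),
  (1566474, 1566481, 4413689),
  (1521786, 1521751, 4384527),
  (14870282, 14870289, 6053089),
  (4447457, 4384975, 12202680),
  (4413199, 4413241, 15231713),
  (6056673, 6056652, 12174456),
  (4451020, 4451041, 8944985),
  (2049642, 2049621, 4451020),
  (4384975, 4447457, 15228185),
  (4413689, 4413647, 12195512),
  (15231769, 14805777, 4001123),
  (1005753, 1005711, 16389800),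
  (14805777, 15231769, 3947874),
  (3958626, 3958612, 4689132),
  (2352980, 2352994, 8682730),
  (4488428, 4488428, 8949661),
  (2046121, 2046093, 2352980),
  (10741521, 10741514, 1628410),
  (2287383, 2287418, 14965986),
  (3955938, 3955924, 14009016),
  (2316090, 2316055, 4483815),
  (14969570, 14969556, 13550712),
  (3959508, 3959522, 8883546),
  (1628410, 1628375, 13944504),
  (14883610, 14883610, 6054755),
  (4449123, 4449116, 6847596),
  (2037973, 2037994, 10740506),
  (1565466, 1565466, 1005753),
  (1513722, 1513687, 4383519),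
  (14869274, 14869274, 6052963),
  (4447331, 4384863, 16396968),
  (4412191, 4412219, 15231587),
  (6056547, 6056540, 16368744),
  (4450908, 4450915, 8944971),
  (2048746, 2048725, 4450908),
  (10741850, 10741850, 12989487),
  (4384863, 4447331, 15228171),
  (6055777, 6055756, 2854124),
  (4450124, 4450145, 8944873),
  (2653420, 2653420, 8720285),
  (2046058, 2046037, 4450124),
  (10741514, 10741521, 1693818),
  (4384527, 4384569, 15228129),
  (6053089, 6053068, 12174008),
  (4413241, 4413199, 2648807),
  (15231713, 15231692, 4001116),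
  (6056652, 6056673, 9145689),
  (8944985, 8944971, 3215275),
  (15228185, 15228171, 4000675),
  (4001123, 4001116, 6791596),
  (3947874, 3947860, 4687788),
  (3958612, 3958626, 8883434),
  (4689132, 4689132, 1751225),
  (8682730, 8682709, 13027000),
  (2287418, 2287383, 4480231),
  (14965986, 14965972, 13550264),
  (3955924, 3955938, 8883098),
  (4483815, 4480231, 8045688),
  (14969556, 14969570, 10259802),
  (8883546, 8883546, 5304747),
  (6054755, 8883434, 7048300),
  (4449116, 4449123, 8944747),
  (6847596, 6847596, 9244557),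
  (2037994, 2037973, 4449116),
  (10740506, 10740506, 1693881),
  (4383519, 4383547, 15228003),
  (6052963, 6052956, 16368296),
  (4412219, 4412191, 6842983),
  (15231587, 15231580, 3947860),
  (6056540, 6056547, 9145675),
  (8944971, 8944985, 7409577),
  (15228171, 15228185, 8194977),
  (6055756, 6055777, 9145577),
  (2854124, 2854124, 1521849),
  (8944873, 8944845, 3215261),
  (4384569, 4384527, 2645223),
  (15228129, 15228108, 4000668),
  (6053068, 6053089, 9145241),
  (2648807, 2645223, 1524474),
  (15231692, 15231713, 10292569),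
  (4001116, 4001123, 6052956),
  (9145689, 9145675, 3240363),
  (3215275, 3215261, 6693365),
  (4000675, 4000668, 6791540),
  (6791596, 6791596, 9237557),
  (3947860, 3947874, 6056540),
  (4687788, 4687788, 8974581),
  (8883434, 6054755, 5304733),
  (8682709, 8682730, 11571098),
  (4480231, 4483815, 1754746),
  (14965972, 14965986, 10259354),
  (8883098, 8883098, 5304691),
  (10259802, 10259802, 5476779),
  (5304747, 5304733, 6954549),
  (7048300, 7048300, 2046121),
  (8944747, 5476779, 7409549),
  (4383547, 4383519, 6839399),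
  (15228003, 15227996, 8194956),
  (6052956, 6052963, 9145227),
  (6842983, 6839399, 2048746),
  (15231580, 15231587, 10292555),
  (9145675, 9145689, 7434665),
  (7409577, 7409549, 3023349),
  (8194977, 8194956, 3121524),
  (9145577, 5304691, 3240349),
  (8944845, 8944873, 11603865),
  (3215261, 3215275, 3955924),
  (2645223, 2648807, 1525370),
  (15228108, 15228129, 10292121),
  (4000668, 4000675, 6053068),
  (9145241, 9145227, 3240307),
  (10292569, 10292555, 15227996),
  (3240363, 3240349, 6696501),
  (6693365, 6791540, 11322430),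
  (6791540, 6693365, 9237550),
  (9237557, 9237550, 2287418),
  (8974581, 8974574, 2316090),
  (5304733, 5304747, 11148851),
  (11571098, 11571098, 8682709),
  (10259354, 10259354, 8944845),
  (5304691, 9145577, 6954542),
  (5476779, 8944747, 6976053),
  (6954549, 6954542, 2037994),
  (7409549, 7409577, 3959508),
  (6839399, 6842983, 2049642),
  (15227996, 15228003, 10292107),
  (8194956, 8194977, 6056652),
  (9145227, 9145241, 7434609),
  (10292555, 10292569, 15231580),
  (7434665, 11148851, 3026485),
  (3023349, 3121524, 10863678),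
  (3121524, 3023349, 8974574),
  (3240349, 3240363, 10890803),
  (11603865, 6976053, 14965972),
  (10292121, 10292107, 15228108),
  (3240307, 3240286, 6696494),
  (6696501, 6696494, 1513722),
  (11322430, 11322430, 4383547),
  (9237550, 9237557, 4384569),
  (8974574, 8974581, 4413241),
  (11148851, 7434665, 3958612),
  (6954542, 6954549, 2046058),
  (6976053, 11603865, 14969556),
  (10292107, 10292121, 15231692),
  (7434609, 10890803, 3026478),
  (3026485, 3026478, 1743098),
  (10863678, 10863678, 4412219),
  (10890803, 7434609, 6055756),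
  (3240286, 3240307, 3240286),
  (6696494, 6696501, 1521786),
  (3026478, 3026485, 1751162)]

def rowOk : Nat × Nat × Nat → Bool
  | (c, t0, t1) => relOk c t0 sw01 && relOk c t1 rot8 && codes.any (Nat.beq t0) && codes.any (Nat.beq t1)

theorem tbl_ok : tbl.all rowOk = true := by decide +kernel

theorem codes_eq : codes = tbl.map (fun r => r.1) := by decide +kernel

theorem step_ok (c : Nat) (hc : c ∈ codes) :
    (∃ t ∈ codes, ∀ i j : Fin 8, levN (decN c (sw01 i.val)) (decN c (sw01 j.val)) = levN (decN t i.val) (decN t j.val)) ∧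
    (∃ t ∈ codes, ∀ i j : Fin 8, levN (decN c (rot8 i.val)) (decN c (rot8 j.val)) = levN (decN t i.val) (decN t j.val)) := by
  rw [codes_eq, List.mem_map] at hc
  obtain ⟨⟨c', t0, t1⟩, hr, rfl⟩ := hc
  have h := List.all_eq_true.1 tbl_ok _ hr
  simp only [rowOk, Bool.and_eq_true, List.any_eq_true] at h
  obtain ⟨⟨⟨h0, h1⟩, ⟨a, ha, hat⟩⟩, ⟨b, hb, hbt⟩⟩ := h
  have ea : t0 = a := Nat.eq_of_beq_eq_true hat
  have eb : t1 = b := Nat.eq_of_beq_eq_true hbt
  subst ea; subst eb
  exact ⟨⟨t0, ha, relOk_sound _ _ _ h0⟩, ⟨t1, hb, relOk_sound _ _ _ h1⟩⟩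

/-! ## Every permutation carries the reference structure to a listed one -/

theorem gens_top : Submonoid.closure ({finRotate 8, swap (0 : Fin 8) (finRotate 8 0)} : Set (Perm (Fin 8))) = ⊤ := by
  have h := Equiv.Perm.closure_cycle_adjacent_swap (σ := finRotate 8) isCycle_finRotate support_finRotate (0 : Fin 8)
  rw [← Subgroup.closure_toSubmonoid_of_finite, h]
  rfl

theorem sw01_val : ∀ i : Fin 8, ((swap (0 : Fin 8) (finRotate 8 0)) i).val = sw01 i.val := by decide
theorem rot8_val : ∀ i : Fin 8, ((finRotate 8) i).val = rot8 i.val := by decide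

theorem base_ok : ∀ i j : Fin 8, levN i.val j.val = levN (decN 16434824 i.val) (decN 16434824 j.val) := by
  decide +kernel

theorem base_mem : 16434824 ∈ codes := by decide +kernel

theorem orbit (y : Perm (Fin 8)) :
    ∃ c ∈ codes, ∀ i j : Fin 8, levN (y i).val (y j).val = levN (decN c i.val) (decN c j.val) := by
  induction y using Submonoid.induction_of_closure_eq_top_right gens_top with
  | one => exact ⟨16434824, base_mem, base_ok⟩
  | mul_right y g hg ih =>
    obtain ⟨c, hc, hrel⟩ := ih
    obtain ⟨⟨t0, ht0, h0⟩, ⟨t1, ht1, h1⟩⟩ := step_ok c hc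
    rcases hg with rfl | hg
    · refine ⟨t1, ht1, fun i j => ?_⟩
      rw [Perm.mul_apply, Perm.mul_apply, hrel, rot8_val, rot8_val]
      exact h1 i j
    · rw [Set.mem_singleton_iff] at hg
      subst hg
      refine ⟨t0, ht0, fun i j => ?_⟩
      rw [Perm.mul_apply, Perm.mul_apply, hrel, sw01_val, sw01_val]
      exact h0 i j

/-! ## Common elements of two stabilisers -/

/-- Codes of fifteen involutions of `P`. -/
def cands : List Nat := [14570689, 11789505, 9925825, 14599816, 16406152, 16434376, 16434817, 6852524, 5017068, 6823845, 4988389, 2206526, 2177406, 371511, 342391]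

/-- The map coded by `b` preserves the structure coded by `c`. -/
def presOk (b c : Nat) : Bool :=
  chk28 (fun i j => Nat.beq (levN (decN c (decN b i)) (decN c (decN b j))) (levN (decN c i) (decN c j)))

theorem good_ok : codes.all (fun c => cands.any fun b => presOk b c) = true := by decide +kernel

theorem cands_ok : ∀ b ∈ cands, (∀ i : Fin 8, decN b (decN b i.val) = i.val) ∧ (∃ i : Fin 8, decN b i.val ≠ i.val) ∧
    (∀ i j : Fin 8, levN (decN b i.val) (decN b j.val) = levN i.val j.val) := by
  decide +kernel

theorem keyB (y : Perm (Fin 8)) : ∃ b : Perm (Fin 8), b ∈ P ∧ b ≠ 1 ∧ y * b * y⁻¹ ∈ P := by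
  obtain ⟨c, hc, hrel⟩ := orbit y
  have hg := List.all_eq_true.1 good_ok c hc
  obtain ⟨bc, hbc, hpres⟩ := List.any_eq_true.1 hg
  obtain ⟨hinv, ⟨i0, hne⟩, hbase⟩ := cands_ok bc hbc
  have hpres' : ∀ i j : Fin 8, levN (decN c (decN bc i.val)) (decN c (decN bc j.val)) = levN (decN c i.val) (decN c j.val) :=
    rel_of_chk (fun i j => levN (decN c (decN bc i)) (decN c (decN bc j))) (fun i j => levN (decN c i) (decN c j))
      (fun i => by simp only [levN_self]) (fun i j => levN_comm _ _) (fun i j => levN_comm _ _) hpres
  let bf : Fin 8 → Fin 8 := fun i => ⟨decN bc i.val, decN_lt _ _⟩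
  have hbf : Function.Involutive bf := fun i => Fin.ext (hinv i)
  have hbv : ∀ i : Fin 8, ((hbf.toPerm bf) i).val = decN bc i.val := fun i => rfl
  refine ⟨hbf.toPerm bf, ?_, ?_, ?_⟩
  · intro i j
    rw [hbv, hbv]
    exact hbase i j
  · intro h
    apply hne
    rw [← hbv, h]
    rfl
  · intro i j
    have hi : y (y⁻¹ i) = i := app_inv y i
    have hj : y (y⁻¹ j) = j := app_inv y j
    rw [Perm.mul_apply, Perm.mul_apply, Perm.mul_apply, Perm.mul_apply, hrel, hbv, hbv, hpres', ← hrel, hi, hj]

/-- In the symmetric group on 8 letters any two Sylow 2-subgroups have non-trivial intersection: for a Sylow 2-subgroup H and every element x, H ∩ xHx⁻¹ ≠ 1. -/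
theorem result (H : Sylow 2 (Equiv.Perm (Fin 8))) (x : Equiv.Perm (Fin 8)) :
    (H : Subgroup (Equiv.Perm (Fin 8))) ⊓ (H : Subgroup (Equiv.Perm (Fin 8))).map (MulAut.conj x).toMonoidHom ≠ ⊥ := by
  obtain ⟨Q, hPQ⟩ := isPGroup_P.exists_le_sylow
  obtain ⟨g, rfl⟩ := MulAction.exists_smul_eq (Perm (Fin 8)) Q H
  obtain ⟨b, hbP, hb1, hbc⟩ := keyB (g⁻¹ * x⁻¹ * g)
  intro hbot
  have hmemQ : ∀ p ∈ P, g * p * g⁻¹ ∈ ((g • Q : Sylow 2 (Perm (Fin 8))) : Subgroup (Perm (Fin 8))) := by
    intro p hp
    rw [Sylow.coe_subgroup_smul, Subgroup.mem_pointwise_smul_iff_inv_smul_mem]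
    simp only [MulAut.smul_def, MulAut.conj_inv_apply]
    have : g⁻¹ * (g * p * g⁻¹) * g = p := by group
    rw [this]
    exact hPQ hp
  have hmem : g * b * g⁻¹ ∈ ((g • Q : Sylow 2 (Perm (Fin 8))) : Subgroup (Perm (Fin 8))) ⊓
      ((g • Q : Sylow 2 (Perm (Fin 8))) : Subgroup (Perm (Fin 8))).map (MulAut.conj x).toMonoidHom := by
    refine Subgroup.mem_inf.2 ⟨hmemQ b hbP, ?_⟩
    rw [Subgroup.mem_map]
    refine ⟨g * (g⁻¹ * x⁻¹ * g * b * (g⁻¹ * x⁻¹ * g)⁻¹) * g⁻¹, hmemQ _ hbc, ?_⟩
    simp only [MulEquiv.coe_toMonoidHom, MulAut.conj_apply]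
    group
  rw [hbot, Subgroup.mem_bot] at hmem
  apply hb1
  have : b = g⁻¹ * (g * b * g⁻¹) * g := by group
  rw [this, hmem]
  group

end Cfsg.Agent.S5763
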