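import Cfsg.Statements.S5789
import Cfsg.Agent.Lib.Helper94_Symp
import Cfsg.Agent.Lib.Helper94_Bridge
import Cfsg.Agent.Lib.Helper94_SLBridge
import Cfsg.Agent.Lib.Helper94_SympDecomp
import Cfsg.Agent.Lib.Helper94_SympQuad
import Cfsg.Agent.Lib.Helper94_SubfieldBridge
import Cfsg.Agent.Lib.Helper38_SpSub2
import Cfsg.Agent.Lib.Helper38_SpSubBridge
import Cfsg.Agent.Lib.Helper67_Sp4E_Main4
import Cfsg.Agent.Lib.Helper88_Sp4E_EBR
import Cfsg.Agent.Lib.Helper65_Sp4E_Q5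

set_option autoImplicit false
set_option linter.style.haveILetI false
open Cfsg

namespace Cfsg.Agent.S5789

open Cfsg.Agent.Lib.Helper94_Symp Cfsg.Agent.Lib.Helper94_Bridge Cfsg.Agent.Lib.Helper94_SLBridge
  Cfsg.Agent.Lib.Helper94_SympDecomp Cfsg.Agent.Lib.Helper94_SympQuad
  Cfsg.Agent.Lib.Helper94_SubfieldBridge Cfsg.Agent.Lib.Helper38_SpSub2
  Cfsg.Agent.Lib.Helper38_SpSubBridge

/-- the degree of `F` over `F₀` -/
lemma finrank_eq' {F : Type*} [Field F] [Fintype F] (F₀ : Subfield F) (r : ℕ)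
    (hcard : Fintype.card F = Nat.card F₀ ^ r) : Module.finrank F₀ F = r := by
  classical
  letI : Fintype F₀ := Fintype.ofFinite F₀
  have h1 := Module.card_eq_pow_finrank (K := F₀) (V := F)
  rw [hcard, Nat.card_eq_fintype_card] at h1
  have h2 : 2 ≤ Fintype.card F₀ := Fintype.one_lt_card
  exact (Nat.pow_right_injective h2 h1).symm

lemma comap_symm_comap' {G G' : Type*} [Group G] [Group G'] (e : G ≃* G') (H : Subgroup G) :
    (H.comap e.symm.toMonoidHom).comap e.toMonoidHom = H := by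
  ext g
  simp

lemma charP_two {F : Type*} [Field F] [Fintype F] (heven : ¬ Odd (Fintype.card F)) : CharP F 2 := by
  have hchar : ringChar F = 2 := by
    rw [FiniteField.even_card_iff_char_two]
    rcases Nat.even_or_odd (Fintype.card F) with h | h
    · exact Nat.even_iff.mp h
    · exact absurd h heven
  exact ringChar.of_eq hchar

/-- part (1) -/
theorem part1 {F : Type*} [Field F] [Fintype F] (W : Submodule F (Fin 2 ⊕ Fin 2 → F)) (hW0 : W ≠ ⊥)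
    (hW : Cfsg.Geo.IsTotallySingularFor (Cfsg.sympForm 2 F) W) :
    Cfsg.Geo.IsMaximalIn (Cfsg.spGL 2 F) (Cfsg.Geo.subspaceStabilizer W ⊓ Cfsg.spGL 2 F) := by
  rw [spGL_eq, subspaceStabilizer_eq, ← Subgroup.comap_inf]
  apply isMaximalIn_comap
  apply maximal_stab_totally_isotropic (Bsymp 2 F) (Bsymp_isAlt 2) (Bsymp_nondegenerate 2) W hW0
  intro u hu v hv
  rw [Bsymp_apply]
  exact hW u hu v hv

/-- part (2) -/
theorem part2 {F : Type*} [Field F] [Fintype F] (h4 : 4 ≤ Fintype.card F)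
    (D : Fin 2 → Submodule F (Fin 2 ⊕ Fin 2 → F))
    (hD : Cfsg.Geo.IsNondegenerateMDecomposition (Cfsg.sympForm 2 F) 2 D) :
    Cfsg.Geo.IsMaximalIn (Cfsg.spGL 2 F) (Cfsg.Geo.decompositionStabilizer D ⊓ Cfsg.spGL 2 F) := by
  classical
  let S : Subgroup ((Fin 2 ⊕ Fin 2 → F) ≃ₗ[F] (Fin 2 ⊕ Fin 2 → F)) :=
    (Cfsg.Geo.decompositionStabilizer D).comap (glEquiv (Fin 2 ⊕ Fin 2) F).symm.toMonoidHom
  have hSeq : Cfsg.Geo.decompositionStabilizer D = S.comap (glEquiv (Fin 2 ⊕ Fin 2) F).toMonoidHom :=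
    (comap_symm_comap (glEquiv (Fin 2 ⊕ Fin 2) F) _).symm
  rw [hSeq, spGL_eq, ← Subgroup.comap_inf]
  apply isMaximalIn_comap
  apply maximal_dstab (Bsymp 2 F) (Bsymp_isAlt 2) (Bsymp_nondegenerate 2) 2 D hD.decomp.two_le
    hD.decomp.pos hD.decomp.finrank_eq hD.decomp.iSup_eq_top
  · intro i w hw hw0
    obtain ⟨x, hx, hxw⟩ := (hD.nondegenerate i w hw hw0).1
    exact ⟨x, hx, by rw [Bsymp_apply]; exact hxw⟩
  · intro i j hij u hu v hv
    rw [Bsymp_apply]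
    exact hD.orthogonal i j hij u hu v hv
  · intro _
    by_contra hcon
    push Not at hcon
    have hsub : (Finset.univ : Finset F) ⊆ {0, 1} := by
      intro c _
      by_cases hc : c = 0
      · simp [hc]
      · simp [hcon c hc]
    have : Fintype.card F ≤ 2 := by
      calc Fintype.card F = (Finset.univ : Finset F).card := rfl
        _ ≤ ({0, 1} : Finset F).card := Finset.card_le_card hsub
        _ ≤ 2 := Finset.card_le_two
    omega
  · intro g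
    have key : Matrix.toLin' (((glEquiv (Fin 2 ⊕ Fin 2) F).symm g :
        Matrix.GeneralLinearGroup (Fin 2 ⊕ Fin 2) F) : Matrix (Fin 2 ⊕ Fin 2) (Fin 2 ⊕ Fin 2) F) =
        (g : (Fin 2 ⊕ Fin 2 → F) →ₗ[F] (Fin 2 ⊕ Fin 2 → F)) := by
      refine LinearMap.ext fun x => ?_
      rw [Matrix.toLin'_apply, ← glEquiv_apply, MulEquiv.apply_symm_apply]
      rfl
    constructor
    · rintro ⟨σ, hσ⟩
      refine ⟨σ, fun i => ?_⟩
      have := hσ i
      simp only [MulEquiv.toMonoidHom_eq_coe, MonoidHom.coe_coe] at this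
      rw [key] at this
      exact this
    · rintro ⟨σ, hσ⟩
      refine ⟨σ, fun i => ?_⟩
      simp only [MulEquiv.toMonoidHom_eq_coe, MonoidHom.coe_coe]
      rw [key]
      exact hσ i

/-- part (4) -/
theorem part4 {F : Type*} [Field F] [Fintype F] (heven : ¬ Odd (Fintype.card F))
    (F₀ : Subfield F) (r : ℕ) (P : Matrix.GeneralLinearGroup (Fin 2 ⊕ Fin 2) F) (ζ : F)
    (hr : r.Prime) (hcard : Fintype.card F = Nat.card F₀ ^ r) (hζ : ζ ≠ 0)
    (hP : Cfsg.Geo.IsFormRationalStructure (Cfsg.sympForm 2 F) F₀ ζ P) :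
    Cfsg.Geo.IsMaximalIn (Cfsg.spGL 2 F) (Cfsg.Geo.subfieldSubgroup F₀ P ⊓ Cfsg.spGL 2 F) := by
  classical
  haveI : CharP F 2 := charP_two heven
  have hfin : Module.finrank F₀ F = r := finrank_eq' F₀ r hcard
  have hp : (Module.finrank F₀ F).Prime := by rw [hfin]; exact hr
  have hBalt : (ζ • Bsymp 2 F).IsAlt := isAlt_smul (Bsymp_isAlt 2) ζ
  have hBN : (ζ • Bsymp 2 F).Nondegenerate := by
    have hN := Bsymp_nondegenerate (F := F) 2
    constructor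
    · intro x hx
      apply hN.1 x
      intro y
      have := hx y
      simp only [LinearMap.smul_apply, smul_eq_mul] at this
      rcases mul_eq_zero.mp this with h | h
      · exact absurd h hζ
      · exact h
    · intro y hy
      apply hN.2 y
      intro x
      have := hy x
      simp only [LinearMap.smul_apply, smul_eq_mul] at this
      rcases mul_eq_zero.mp this with h | h
      · exact absurd h hζ
      · exact h
  have hrat : ∀ u v : Fin 2 ⊕ Fin 2 → F₀,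
      (ζ • Bsymp 2 F) ((P : Matrix (Fin 2 ⊕ Fin 2) (Fin 2 ⊕ Fin 2) F).mulVec (cv F₀ u))
        ((P : Matrix (Fin 2 ⊕ Fin 2) (Fin 2 ⊕ Fin 2) F).mulVec (cv F₀ v)) ∈ F₀ := by
    intro u v
    simp only [LinearMap.smul_apply, smul_eq_mul, Bsymp_apply]
    exact hP _ _ (cv_mem F₀ u) (cv_mem F₀ v)
  obtain ⟨m', b, hcount, hbs, hratV⟩ := exists_rat_basis F₀ P (ζ • Bsymp 2 F) hBalt hBN hrat
  have hm' : m' = 2 := by
    simp only [Fintype.card_sum, Fintype.card_fin] at hcount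
    omega
  subst hm'
  let S : Subgroup ((Fin 2 ⊕ Fin 2 → F) ≃ₗ[F] (Fin 2 ⊕ Fin 2 → F)) :=
    (Cfsg.Geo.subfieldSubgroup F₀ P).comap (glEquiv (Fin 2 ⊕ Fin 2) F).symm.toMonoidHom
  have hSeq : Cfsg.Geo.subfieldSubgroup F₀ P = S.comap (glEquiv (Fin 2 ⊕ Fin 2) F).toMonoidHom :=
    (comap_symm_comap' (glEquiv (Fin 2 ⊕ Fin 2) F) _).symm
  rw [hSeq, spGL_eq, ← Subgroup.comap_inf]
  apply isMaximalIn_comap
  rw [← isoGroup_smul (Bsymp 2 F) hζ]
  apply Cfsg.Agent.Lib.Helper67_Sp4E_Main4.maximal_rat2 hBalt hbs ?_ hp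
  intro g
  have key : ∀ x, (((glEquiv (Fin 2 ⊕ Fin 2) F).symm g :
      Matrix.GeneralLinearGroup (Fin 2 ⊕ Fin 2) F) :
      Matrix (Fin 2 ⊕ Fin 2) (Fin 2 ⊕ Fin 2) F).mulVec x = g x := by
    intro x
    rw [← glEquiv_apply, MulEquiv.apply_symm_apply]
  show (glEquiv (Fin 2 ⊕ Fin 2) F).symm g ∈ Cfsg.Geo.subfieldSubgroup F₀ P ↔ _
  rw [mem_subfieldSubgroup_iff]
  simp only [key]
  constructor
  · rintro ⟨μ, hμ, h⟩
    refine ⟨μ, hμ, fun v hv => ?_⟩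
    obtain ⟨w, hw, hgw⟩ := h v ((hratV v).mpr hv)
    exact ⟨w, (hratV w).mp hw, hgw⟩
  · rintro ⟨μ, hμ, h⟩
    refine ⟨μ, hμ, fun v hv => ?_⟩
    obtain ⟨w, hw, hgw⟩ := h v ((hratV v).mp hv)
    exact ⟨w, (hratV w).mpr hw, hgw⟩

/-- part (5) -/
theorem part5 {F : Type*} [Field F] [Fintype F] (heven : ¬ Odd (Fintype.card F))
    (h4 : 4 ≤ Fintype.card F) (Q : (Fin 2 ⊕ Fin 2 → F) → F)
    (hQ : Cfsg.Geo.IsNondegenerateQuadraticForm Q)
    (hpol : ∀ u v, QuadraticMap.polar Q u v = Cfsg.sympForm 2 F u v) :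
    Cfsg.Geo.IsMaximalIn (Cfsg.spGL 2 F) (Cfsg.Geo.quadSimilarityGroup Q ⊓ Cfsg.spGL 2 F) := by
  have hchar : ringChar F = 2 := by
    rw [FiniteField.even_card_iff_char_two]
    rcases Nat.even_or_odd (Fintype.card F) with h | h
    · exact Nat.even_iff.mp h
    · exact absurd h heven
  have : CharP F 2 := ringChar.of_eq hchar
  have hsq : ∀ a : F, ∃ b : F, b * b = a := by
    intro a
    obtain ⟨r, hr⟩ := FiniteField.isSquare_of_char_two hchar a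
    exact ⟨r, hr.symm⟩
  have hQs : ∀ (c : F) (v : Fin 2 ⊕ Fin 2 → F), Q (c • v) = c * c * Q v := by
    intro c v
    rw [hQ.smul, sq]
  have hQp : ∀ u v : Fin 2 ⊕ Fin 2 → F, Q (u + v) = Q u + Q v + Bsymp 2 F u v := by
    intro u v
    have := hpol u v
    simp only [QuadraticMap.polar] at this
    rw [Bsymp_apply]
    linear_combination this
  have hdim : 4 ≤ Module.finrank F (Fin 2 ⊕ Fin 2 → F) := by
    rw [Module.finrank_fintype_fun_eq_card, Fintype.card_sum, Fintype.card_fin]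
  have hHeq : Cfsg.Geo.quadSimilarityGroup Q ⊓ Cfsg.spGL 2 F =
      (oGroup (Bsymp 2 F) Q).comap (glEquiv (Fin 2 ⊕ Fin 2) F).toMonoidHom := by
    ext g
    rw [Subgroup.mem_inf, spGL_eq, Subgroup.mem_comap, Subgroup.mem_comap, mem_oGroup]
    simp only [MulEquiv.toMonoidHom_eq_coe, MonoidHom.coe_coe]
    constructor
    · rintro ⟨⟨c, hc⟩, hsp⟩
      refine ⟨hsp, fun v => ?_⟩
      rw [glEquiv_apply, hc]
      obtain ⟨u, w, huw⟩ : ∃ u w : Fin 2 ⊕ Fin 2 → F, Bsymp 2 F u w ≠ 0 := by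
        have hpos : 0 < Module.finrank F (Fin 2 ⊕ Fin 2 → F) := by omega
        obtain ⟨w, hw⟩ := Module.finrank_pos_iff_exists_ne_zero.mp hpos
        by_contra hcon
        push Not at hcon
        exact hw ((Bsymp_nondegenerate 2).2 w (fun u => hcon u w))
      have h1 := hQp (glEquiv (Fin 2 ⊕ Fin 2) F g u) (glEquiv (Fin 2 ⊕ Fin 2) F g w)
      rw [← map_add, hsp u w] at h1
      simp only [glEquiv_apply] at h1
      rw [hc, hc, hc, hQp u w] at h1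
      have h2 : ((c : F) - 1) * Bsymp 2 F u w = 0 := by linear_combination h1
      rcases mul_eq_zero.mp h2 with h3 | h3
      · rw [sub_eq_zero.mp h3, one_mul]
      · exact absurd h3 huw
    · rintro ⟨hsp, hq⟩
      refine ⟨⟨1, fun v => ?_⟩, hsp⟩
      rw [Units.val_one, one_mul, ← glEquiv_apply]
      exact hq v
  rw [hHeq, spGL_eq]
  apply isMaximalIn_comap
  exact Cfsg.Agent.Lib.Helper65_Sp4E_Q5.maximal_oGroup4 (Bsymp 2 F) (Bsymp_isAlt 2) Q hsq hQs hQp (Bsymp_nondegenerate 2) hdim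
    (by rw [Nat.card_eq_fintype_card]; exact h4)

theorem result {F : Type*} [Field F] [Fintype F] (heven : ¬ Odd (Fintype.card F)) (h4 : 4 ≤ Fintype.card F) :
    (∀ W : Submodule F (Fin 2 ⊕ Fin 2 → F), W ≠ ⊥ → Cfsg.Geo.IsTotallySingularFor (Cfsg.sympForm 2 F) W → Cfsg.Geo.IsMaximalIn (Cfsg.spGL 2 F) (Cfsg.Geo.subspaceStabilizer W ⊓ Cfsg.spGL 2 F)) ∧
    (∀ D : Fin 2 → Submodule F (Fin 2 ⊕ Fin 2 → F), Cfsg.Geo.IsNondegenerateMDecomposition (Cfsg.sympForm 2 F) 2 D → Cfsg.Geo.IsMaximalIn (Cfsg.spGL 2 F) (Cfsg.Geo.decompositionStabilizer D ⊓ Cfsg.spGL 2 F)) ∧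
    (∀ K : Subalgebra F (Matrix (Fin 2 ⊕ Fin 2) (Fin 2 ⊕ Fin 2) F), Cfsg.Geo.IsFieldSubalgebra 2 K → Cfsg.Geo.IsSelfAdjointFor (Cfsg.sympForm 2 F) K → (∀ k ∈ K, ∀ v : (Fin 2 ⊕ Fin 2 → F), (Cfsg.sympForm 2 F) (Matrix.mulVec k v) v = 0) → Cfsg.Geo.IsMaximalIn (Cfsg.spGL 2 F) (Cfsg.Geo.subalgebraNormalizer K ⊓ Cfsg.spGL 2 F)) ∧
    (∀ (F₀ : Subfield F) (r : ℕ) (P : Matrix.GeneralLinearGroup (Fin 2 ⊕ Fin 2) F) (ζ : F), r.Prime → Fintype.card F = Nat.card F₀ ^ r → ζ ≠ 0 → Cfsg.Geo.IsFormRationalStructure (Cfsg.sympForm 2 F) F₀ ζ P → Cfsg.Geo.IsMaximalIn (Cfsg.spGL 2 F) (Cfsg.Geo.subfieldSubgroup F₀ P ⊓ Cfsg.spGL 2 F)) ∧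
    (∀ Q : (Fin 2 ⊕ Fin 2 → F) → F, Cfsg.Geo.IsNondegenerateQuadraticForm Q → (∀ u v : (Fin 2 ⊕ Fin 2 → F), QuadraticMap.polar Q u v = (Cfsg.sympForm 2 F) u v) → Cfsg.Geo.IsMaximalIn (Cfsg.spGL 2 F) (Cfsg.Geo.quadSimilarityGroup Q ⊓ Cfsg.spGL 2 F)) :=
  ⟨fun W hW0 hW => part1 W hW0 hW, fun D hD => part2 h4 D hD,
    fun K hK hsa halt => Cfsg.Agent.Lib.Helper88_Sp4E_EBR.part3 heven h4 K hK hsa halt,
    fun F₀ r P ζ hr hcard hζ hP => part4 heven F₀ r P ζ hr hcard hζ hP,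
    fun Q hQ hpol => part5 heven h4 Q hQ hpol⟩

end Cfsg.Agent.S5789
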