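import Cfsg.Statements.S5849
import Cfsg.Agent.Lib.Helper59_OmegaEvenRows
import Cfsg.Agent.Lib.Helper59_QSubTwo9Bridge
import Cfsg.Agent.Lib.Helper29_OX2_BRIDGE

set_option autoImplicit false
open Cfsg

namespace Cfsg.Agent.S5849

/-- Maximal subgroups of Ω_10^-(q) of geometric type (any q). Let F be a finite field with q elements (characteristic p), Q a non-degenerate quadratic form on F^10 (non-degenerate polar form) of minus type (Witt index 4: no totally singular 5-space), and Ω = Ω_10^-(q) the commutator subgroup of the isometry group of Q, inside GL_10(F). Each of the following, intersected with Ω, is a maximal subgroup of Ω: (1) the stabiliser of any non-zero subspace on which Q vanishes identically (totally singular subspaces, dimensions 1 to 4); (2) for q odd, the stabiliser of any proper subspace of odd dimension other than 5 on which the polar form of Q is non-degenerate; (3) the stabiliser of any non-degenerate 2-space of minus type (containing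 no non-zero singular vector); (4) for q ≥ 4, the stabiliser of any non-degenerate 2-space of plus type (containing a non-zero singular vector); (5) the stabiliser of any non-degenerate 4-space (either type); (6) for q even, the stabiliser of the 1-space spanned by any non-singular vector v (Q(v) ≠ 0); (7) for q = p prime with p ≡ 3 mod 4, the stabiliser of any decomposition of F^10 into 10 pairwise orthogonal, pairwise Q-isometric non-degenerate 1-spaces; (8) for q ≠ 3, the stabiliser of any decomposition of F^10 into 5 pairwise orthogonal, pairwise Q-isometric non-degenerate 2-spaces; (9) for q ≡ 3 mod 4, the stabiliser of any decomposition of F^10 into 2 pairwise orthogonal, pairwise Q-isometric non-degenerate 5-spaces; (10) for q ≡ 1 mod 4, the stabiliser of any decomposition of F^10 into two orthogonal non-degenerate 5-spaces that are not Q-isometric; (11) for q odd, the normaliser of any degree-2 subfield K of the matrix algebra whose elements are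 self-adjoint for the polar form of Q (Q is then the trace of a quadratic form over K); (12) the normaliser of any degree-2 subfield K of the matrix algebra, closed under adjoints for the polar form but not self-adjoint, whose elements act as similarities of Q (so F^10 becomes a 5-dimensional space over K with a hermitian form, and the subgroup is of the type of the unitary group GU_5(q)); (13) every subfield group for a subfield F₀ with |F| = |F₀|^r, r an odd prime, whose F₀-structure carries a non-zero scalar multiple of Q. -/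
theorem result {F : Type*} [Field F] [Fintype F] (Q : (Fin 10 → F) → F) (hQ : Cfsg.Geo.IsNondegenerateQuadraticForm Q) (hminus : ¬ Cfsg.Geo.IsPlusTypeOn Q ⊤) :
    (∀ W : Submodule F (Fin 10 → F), W ≠ ⊥ → Cfsg.Geo.IsTotallySingularQuad Q W → Cfsg.Geo.IsMaximalIn (Cfsg.Geo.omegaGL Q) (Cfsg.Geo.subspaceStabilizer W ⊓ Cfsg.Geo.omegaGL Q)) ∧
    (Odd (Fintype.card F) → ∀ W : Submodule F (Fin 10 → F), W ≠ ⊥ → W ≠ ⊤ → Odd (Module.finrank F W) → 2 * Module.finrank F W ≠ 10 → Cfsg.Geo.IsNondegenerateOn (QuadraticMap.polar Q) W → Cfsg.Geo.IsMaximalIn (Cfsg.Geo.omegaGL Q) (Cfsg.Geo.subspaceStabilizer W ⊓ Cfsg.Geo.omegaGL Q)) ∧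
    (∀ W : Submodule F (Fin 10 → F), Module.finrank F W = 2 → Cfsg.Geo.IsNondegenerateOn (QuadraticMap.polar Q) W → ¬ Cfsg.Geo.IsPlusTypeOn Q W → Cfsg.Geo.IsMaximalIn (Cfsg.Geo.omegaGL Q) (Cfsg.Geo.subspaceStabilizer W ⊓ Cfsg.Geo.omegaGL Q)) ∧
    (4 ≤ Fintype.card F → ∀ W : Submodule F (Fin 10 → F), Module.finrank F W = 2 → Cfsg.Geo.IsNondegenerateOn (QuadraticMap.polar Q) W → Cfsg.Geo.IsPlusTypeOn Q W → Cfsg.Geo.IsMaximalIn (Cfsg.Geo.omegaGL Q) (Cfsg.Geo.subspaceStabilizer W ⊓ Cfsg.Geo.omegaGL Q)) ∧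
    (∀ W : Submodule F (Fin 10 → F), Module.finrank F W = 4 → Cfsg.Geo.IsNondegenerateOn (QuadraticMap.polar Q) W → Cfsg.Geo.IsMaximalIn (Cfsg.Geo.omegaGL Q) (Cfsg.Geo.subspaceStabilizer W ⊓ Cfsg.Geo.omegaGL Q)) ∧
    (¬ Odd (Fintype.card F) → ∀ v : (Fin 10 → F), Q v ≠ 0 → Cfsg.Geo.IsMaximalIn (Cfsg.Geo.omegaGL Q) (Cfsg.Geo.subspaceStabilizer (Submodule.span F {v}) ⊓ Cfsg.Geo.omegaGL Q)) ∧
    ((∃ p : ℕ, p.Prime ∧ Fintype.card F = p ∧ (p % 4 = 3)) → ∀ D : Fin 10 → Submodule F (Fin 10 → F), Cfsg.Geo.IsOrthogonalMDecomposition Q 1 D → Cfsg.Geo.IsMaximalIn (Cfsg.Geo.omegaGL Q) (Cfsg.Geo.decompositionStabilizer D ⊓ Cfsg.Geo.omegaGL Q)) ∧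
    (Fintype.card F ≠ 3 → ∀ D : Fin 5 → Submodule F (Fin 10 → F), Cfsg.Geo.IsOrthogonalMDecomposition Q 2 D → Cfsg.Geo.IsMaximalIn (Cfsg.Geo.omegaGL Q) (Cfsg.Geo.decompositionStabilizer D ⊓ Cfsg.Geo.omegaGL Q)) ∧
    (Fintype.card F % 4 = 3 → ∀ D : Fin 2 → Submodule F (Fin 10 → F), Cfsg.Geo.IsOrthogonalMDecomposition Q 5 D → Cfsg.Geo.IsMaximalIn (Cfsg.Geo.omegaGL Q) (Cfsg.Geo.decompositionStabilizer D ⊓ Cfsg.Geo.omegaGL Q)) ∧
    (Fintype.card F % 4 = 1 → ∀ D : Fin 2 → Submodule F (Fin 10 → F), Cfsg.Geo.IsNondegenerateMDecomposition (QuadraticMap.polar Q) 5 D → ¬ Cfsg.Geo.AreIsometricFor Q (D 0) (D 1) → Cfsg.Geo.IsMaximalIn (Cfsg.Geo.omegaGL Q) (Cfsg.Geo.decompositionStabilizer D ⊓ Cfsg.Geo.omegaGL Q)) ∧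
    (Odd (Fintype.card F) → ∀ K : Subalgebra F (Matrix (Fin 10) (Fin 10) F), Cfsg.Geo.IsFieldSubalgebra 2 K → Cfsg.Geo.IsSelfAdjointFor (QuadraticMap.polar Q) K → Cfsg.Geo.IsMaximalIn (Cfsg.Geo.omegaGL Q) (Cfsg.Geo.subalgebraNormalizer K ⊓ Cfsg.Geo.omegaGL Q)) ∧
    (∀ K : Subalgebra F (Matrix (Fin 10) (Fin 10) F), Cfsg.Geo.IsFieldSubalgebra 2 K → Cfsg.Geo.IsAdjointClosedFor (QuadraticMap.polar Q) K → ¬ Cfsg.Geo.IsSelfAdjointFor (QuadraticMap.polar Q) K → (∀ k ∈ K, ∃ c : F, ∀ v : (Fin 10 → F), Q (Matrix.mulVec k v) = c * Q v) → Cfsg.Geo.IsMaximalIn (Cfsg.Geo.omegaGL Q) (Cfsg.Geo.subalgebraNormalizer K ⊓ Cfsg.Geo.omegaGL Q)) ∧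
    (∀ (F₀ : Subfield F) (r : ℕ) (P : Matrix.GeneralLinearGroup (Fin 10) F) (ζ : F), r.Prime → Odd r → Fintype.card F = Nat.card F₀ ^ r → ζ ≠ 0 → Cfsg.Geo.IsQuadFormRationalStructure (fun v : Fin 10 → F => ζ * Q v) F₀ P → Cfsg.Geo.IsMaximalIn (Cfsg.Geo.omegaGL Q) (Cfsg.Geo.subfieldSubgroup F₀ P ⊓ Cfsg.Geo.omegaGL Q)) := by
  classical
  have hc : Fintype.card (Fin 10) = 10 := Fintype.card_fin 10
  have hfrV : Module.finrank F (Fin 10 → F) = 10 := by simp
  have hc2 := Cfsg.Agent.Lib.Helper59_OmegaEvenRows.hc2_geo Q hQ (by rw [hc]; norm_num)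
  refine ⟨?_, ?_, ?_, ?_, ?_, ?_, ?_, ?_, ?_, ?_, ?_, ?_, ?_⟩
  · -- (1) totally singular subspaces
    intro W hW0 hW
    exact Cfsg.Agent.Lib.Helper94_OrthFinal.ts_maximal_of_minus Q hQ hc2 (by rw [hc]; norm_num)
      W hW0 hW hminus
  · -- (2) odd-dimensional nondegenerate subspaces
    intro hodd W hW0 hW1 hWodd hdim hW
    apply Cfsg.Agent.Lib.Helper59_OrthNondeg9.nondeg_maximal9 Q hQ hc2 (by rw [hc]; norm_num)
      W hW0 hW1 (by rw [hc]; exact hdim) hW
    rintro ⟨-, U, hU2, -, -, hUW | ⟨-, hsum⟩⟩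
    · rw [← hUW, hU2] at hWodd
      exact absurd hWodd (by decide)
    · rw [hc, hU2] at hsum
      have h8 : Module.finrank F W = 8 := by omega
      rw [h8] at hWodd
      exact absurd hWodd (by decide)
  · -- (3) minus-type planes
    intro W hW2 hW hWm
    have hW0 : W ≠ ⊥ := by
      intro h
      rw [h, finrank_bot] at hW2
      omega
    have hW1 : W ≠ ⊤ := by
      intro h
      rw [h, finrank_top, hfrV] at hW2
      omega
    apply Cfsg.Agent.Lib.Helper59_OrthNondeg9.nondeg_maximal9 Q hQ hc2 (by rw [hc]; norm_num)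
      W hW0 hW1 (by rw [hc, hW2]; norm_num) hW
    rintro ⟨-, U, hU2, -, hUp, hUW | ⟨-, hsum⟩⟩
    · exact hWm (hUW ▸ hUp)
    · rw [hc, hU2, hW2] at hsum
      omega
  · -- (4) plus-type planes, q ≥ 4
    intro hq W hW2 hW hWp
    have hW0 : W ≠ ⊥ := by
      intro h
      rw [h, finrank_bot] at hW2
      omega
    have hW1 : W ≠ ⊤ := by
      intro h
      rw [h, finrank_top, hfrV] at hW2
      omega
    apply Cfsg.Agent.Lib.Helper59_OrthNondeg9.nondeg_maximal9 Q hQ hc2 (by rw [hc]; norm_num)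
      W hW0 hW1 (by rw [hc, hW2]; norm_num) hW
    rintro ⟨hq3, -⟩
    omega
  · -- (5) nondegenerate 4-spaces
    intro W hW4 hW
    have hW0 : W ≠ ⊥ := by
      intro h
      rw [h, finrank_bot] at hW4
      omega
    have hW1 : W ≠ ⊤ := by
      intro h
      rw [h, finrank_top, hfrV] at hW4
      omega
    apply Cfsg.Agent.Lib.Helper59_OrthNondeg9.nondeg_maximal9 Q hQ hc2 (by rw [hc]; norm_num)
      W hW0 hW1 (by rw [hc, hW4]; norm_num) hW
    rintro ⟨-, U, hU2, -, -, hUW | ⟨-, hsum⟩⟩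
    · rw [← hUW, hU2] at hW4
      omega
    · rw [hc, hU2, hW4] at hsum
      omega
  · -- (6) nonsingular vectors, q even
    intro hev v hv
    have h2 : (2 : F) = 0 := by
      by_contra h2
      apply hev
      exact Cfsg.Agent.Lib.Helper44_FinSq.odd_card_of_two_ne_zero h2
    exact Cfsg.Agent.Lib.Helper94_OrthFinal.nonsing_maximal Q hQ hc2 (by rw [hc]; norm_num) h2 v hv
  · -- (7) frames
    rintro ⟨p, hp, hFp, hp4⟩ D hD
    have hodd : Odd (Fintype.card F) := by
      rw [hFp]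
      rcases hp.eq_two_or_odd' with h | h
      · omega
      · exact h
    have h2 : (2 : F) ≠ 0 := Cfsg.Agent.Lib.Helper44_FinSq.two_ne_zero_of_odd_card hodd
    exact Cfsg.Agent.Lib.Helper59_OmegaEvenRows.frames_maximal10 Q hQ h2 (by rw [hc])
      (by rw [hFp]; exact hp) D hD
  · -- (8) five anisotropic planes
    intro hq D hD
    exact Cfsg.Agent.Lib.Helper59_OmegaEvenRows.dstab_maximal_planes' Q hQ (by rw [hc]; norm_num)
      D hD (Cfsg.Agent.Lib.Helper59_OmegaEvenRows.aniso_of_minus Q hQ hminus D hD) (le_refl 5) hq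
  · -- (9) two isometric 5-spaces
    intro _ D hD
    exact Cfsg.Agent.Lib.Helper59_OmegaEvenRows.dstab_maximal_ge4' Q hQ (by rw [hc]; norm_num)
      5 D hD (by norm_num) (Or.inr (Or.inl (le_refl 5)))
  · -- (10) two non-isometric 5-spaces
    intro _ D hD hni
    exact Cfsg.Agent.Lib.Helper59_OmegaEvenRows.noniso_halves_maximal Q hQ (by rw [hc]; norm_num)
      5 (le_refl 5) D hD hni
  · -- (11) extension field of degree 2, self-adjoint
    intro hodd K hK hsa
    exact Cfsg.Agent.Lib.Helper29_OX2_BRIDGE.omega10_ext2 Q hQ hodd K hK hsa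
  · -- (12) unitary type
    intro K hK hac hnsa hsc
    exact Cfsg.Agent.Lib.Helper59_OmegaEvenRows.ufield_maximal9 Q hQ K hK (by rw [hc]; norm_num)
      hac hnsa hsc
  · -- (13) subfield groups
    intro F₀ r P ζ hr hrodd hcard hζ hP
    exact Cfsg.Agent.Lib.Helper59_QSubTwo9Bridge.qsub_maximal_all9 Q hQ (by rw [hc]; norm_num)
      F₀ r hr (fun _ hr2 => by rw [hr2] at hrodd; exact absurd hrodd (by decide)) hcard P hζ hP

end Cfsg.Agent.S5849
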