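import Cfsg.Statements.S5876

set_option autoImplicit false
open Cfsg

namespace Cfsg.Agent.S5876
open scoped Matrix MatrixGroups
open Module

section grp
open scoped commutatorElement
variable {G : Type*} [Group G]

/-- Key group-theoretic lemma. In a finite solvable group every non-identity element `g` either lies in an
abelian normal subgroup, or has a non-trivial commutator `[g,x]` lying in one, or a non-trivial double
commutator `[[g,x],x']` lying in one. -/
theorem exists_abelian_normal [Finite G] [Group.IsSolvable G] (g : G) :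
    ∃ A : Subgroup G, A.Normal ∧ (∀ a ∈ A, ∀ b ∈ A, a * b = b * a) ∧
      (g ∈ A ∨ ∃ x : G, ⁅g, x⁆ ≠ 1 ∧ (⁅g, x⁆ ∈ A ∨ ∃ x' : G, ⁅⁅g, x⁆, x'⁆ ≠ 1 ∧ ⁅⁅g, x⁆, x'⁆ ∈ A)) := by
  classical
  by_cases hz : g ∈ Subgroup.center G
  · exact ⟨Subgroup.center G, inferInstance,
      fun a ha b _ => (Subgroup.mem_center_iff.mp ha b).symm, Or.inl hz⟩
  -- the centraliser of g
  set C : Subgroup G := Subgroup.centralizer ({g} : Set G) with hC
  have hCmem : ∀ x : G, x ∈ C ↔ g * x = x * g := by
    intro x
    rw [hC, Subgroup.mem_centralizer_iff]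
    simp
  -- minimal normal subgroup not centralised by g
  obtain ⟨N, hN⟩ := exists_minimal_of_wellFoundedLT
    (fun N : Subgroup G => N.Normal ∧ ¬ N ≤ C) ⟨⊤, inferInstance, by
      intro h
      apply hz
      rw [Subgroup.mem_center_iff]
      intro x
      have := (hCmem x).mp (h (Subgroup.mem_top x))
      exact this.symm⟩
  obtain ⟨⟨hNn, hNC⟩, hNmin⟩ := hN
  have := hNn
  -- every normal subgroup strictly below N is centralised by g
  have hlt : ∀ M : Subgroup G, M.Normal → M < N → M ≤ C := by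
    intro M hMn hMN
    by_contra hMC
    exact (not_le_of_gt hMN) (hNmin ⟨hMn, hMC⟩ hMN.le)
  -- L : join of all normal subgroups strictly below N
  set L : Subgroup G := sSup {M : Subgroup G | M.Normal ∧ M < N} with hL
  have hLn : L.Normal := Subgroup.sSup_normal _ (fun M hM => hM.1)
  have hLC : L ≤ C := sSup_le (fun M hM => hlt M hM.1 hM.2)
  have hLN : L ≤ N := sSup_le (fun M hM => hM.2.le)
  have hLlt : ∀ M : Subgroup G, M.Normal → M < N → M ≤ L := fun M hMn hMN => le_sSup ⟨hMn, hMN⟩
  -- pick x ∈ N not commuting with g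
  obtain ⟨x, hxN, hxC⟩ := SetLike.not_le_iff_exists.mp hNC
  have hgx : ⁅g, x⁆ ≠ 1 := by
    intro h
    apply hxC
    rw [hCmem]
    exact commutatorElement_eq_one_iff_mul_comm.mp h
  have hyN : ⁅g, x⁆ ∈ N := by
    rw [commutatorElement_def]
    exact N.mul_mem (hNn.conj_mem x hxN g) (N.inv_mem hxN)
  -- N ≠ ⊥ and the derived subgroup of N lies in L
  have hNbot : N ≠ ⊥ := by
    rintro rfl
    exact hNC bot_le
  have hN'lt : ⁅N, N⁆ < N := Group.IsSolvable.commutator_lt_of_ne_bot hNbot
  have hN'L : ⁅N, N⁆ ≤ L := hLlt _ inferInstance hN'lt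
  by_cases hcase : L ≤ Subgroup.centralizer (N : Set G)
  · -- case (i): L is central in N; A = Z(N) = N ⊓ C_G(N)
    refine ⟨N ⊓ Subgroup.centralizer (N : Set G), inferInstance, ?_, ?_⟩
    · intro a ha b hb
      exact (Subgroup.mem_centralizer_iff.mp hb.2 a ha.1)
    · right
      refine ⟨x, hgx, ?_⟩
      by_cases hyZ : ⁅g, x⁆ ∈ Subgroup.centralizer (N : Set G)
      · exact Or.inl ⟨hyN, hyZ⟩
      · right
        rw [Subgroup.mem_centralizer_iff] at hyZ
        push Not at hyZ
        obtain ⟨x', hx'N, hx'⟩ := hyZ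
        have hne : ⁅⁅g, x⁆, x'⁆ ≠ 1 := by
          intro h
          exact hx' (commutatorElement_eq_one_iff_mul_comm.mp h).symm
        refine ⟨x', hne, ?_⟩
        have hmem : ⁅⁅g, x⁆, x'⁆ ∈ ⁅N, N⁆ := Subgroup.commutator_mem_commutator hyN hx'N
        exact ⟨hN'lt.le hmem, hcase (hN'L hmem)⟩
  · -- case (ii): A = Z(L) = L ⊓ C_G(L)
    refine ⟨L ⊓ Subgroup.centralizer (L : Set G), inferInstance, ?_, ?_⟩
    · intro a ha b hb
      exact (Subgroup.mem_centralizer_iff.mp hb.2 a ha.1)
    · right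
      refine ⟨x, hgx, Or.inl ?_⟩
      -- D = C_G(L) is normal and contains g
      have hgD : g ∈ Subgroup.centralizer (L : Set G) := by
        rw [Subgroup.mem_centralizer_iff]
        intro l hl
        exact ((hCmem l).mp (hLC hl)).symm
      have hyD : ⁅g, x⁆ ∈ Subgroup.centralizer (L : Set G) := by
        have hDn : (Subgroup.centralizer (L : Set G)).Normal := inferInstance
        have : ⁅g, x⁆ = g * (x * g⁻¹ * x⁻¹) := by
          rw [commutatorElement_def]; group
        rw [this]
        exact Subgroup.mul_mem _ hgD (hDn.conj_mem _ (Subgroup.inv_mem _ hgD) x)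
      -- N ⊓ D < N
      have hND : N ⊓ Subgroup.centralizer (L : Set G) < N := by
        refine lt_of_le_of_ne inf_le_left ?_
        intro h
        apply hcase
        have hle : N ≤ Subgroup.centralizer (L : Set G) := by
          rw [← h]; exact inf_le_right
        intro l hl
        rw [Subgroup.mem_centralizer_iff]
        intro m hm
        have := Subgroup.mem_centralizer_iff.mp (hle hm) l hl
        exact this.symm
      have hyL : ⁅g, x⁆ ∈ L := hLlt _ inferInstance hND ⟨hyN, hyD⟩
      exact ⟨hyL, hyD⟩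

end grp

section lin
variable {F : Type*} [Field F] {n : ℕ}

/-- the action of an invertible matrix on column vectors -/
def act (g : GL (Fin n) F) (v : Fin n → F) : Fin n → F := (g : Matrix (Fin n) (Fin n) F) *ᵥ v

lemma act_mul (g h : GL (Fin n) F) (v : Fin n → F) : act (g * h) v = act g (act h v) := by
  simp [act, Matrix.mulVec_mulVec]

lemma act_one (v : Fin n → F) : act (1 : GL (Fin n) F) v = v := by
  simp [act]

lemma act_inv_act (g : GL (Fin n) F) (v : Fin n → F) : act g⁻¹ (act g v) = v := by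
  rw [← act_mul, inv_mul_cancel, act_one]

lemma act_act_inv (g : GL (Fin n) F) (v : Fin n → F) : act g (act g⁻¹ v) = v := by
  rw [← act_mul, mul_inv_cancel, act_one]

lemma act_add (g : GL (Fin n) F) (v w : Fin n → F) : act g (v + w) = act g v + act g w := by
  simp [act, Matrix.mulVec_add]

lemma act_sub (g : GL (Fin n) F) (v w : Fin n → F) : act g (v - w) = act g v - act g w := by
  simp [act, Matrix.mulVec_sub]

lemma act_zero (g : GL (Fin n) F) : act g (0 : Fin n → F) = 0 := by
  simp [act]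

lemma act_sum {ι : Type*} (g : GL (Fin n) F) (s : Finset ι) (u : ι → Fin n → F) :
    act g (∑ i ∈ s, u i) = ∑ i ∈ s, act g (u i) := by
  classical
  induction s using Finset.induction_on with
  | empty => simp [act_zero]
  | insert a s ha ih => rw [Finset.sum_insert ha, Finset.sum_insert ha, act_add, ih]

lemma toLin'_apply_eq_act (g : GL (Fin n) F) (v : Fin n → F) :
    Matrix.toLin' (g : Matrix (Fin n) (Fin n) F) v = act g v := by
  simp [act]

/-- fixed space of one element -/
def Fix (g : GL (Fin n) F) : Submodule F (Fin n → F) :=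
  Module.End.eigenspace (Matrix.toLin' (g : Matrix (Fin n) (Fin n) F)) 1

lemma mem_Fix {g : GL (Fin n) F} {v : Fin n → F} : v ∈ Fix g ↔ act g v = v := by
  rw [Fix, Module.End.mem_eigenspace_iff, one_smul, toLin'_apply_eq_act]

/-- common fixed space of a set of elements -/
def fixS (B : Set (GL (Fin n) F)) : Submodule F (Fin n → F) := ⨅ b ∈ B, Fix b

lemma mem_fixS {B : Set (GL (Fin n) F)} {v : Fin n → F} : v ∈ fixS B ↔ ∀ b ∈ B, act b v = v := by
  simp [fixS, Submodule.mem_iInf, mem_Fix]

lemma fixS_singleton (a : GL (Fin n) F) : fixS {a} = Fix a := by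
  ext v; simp [mem_fixS, mem_Fix]

lemma fixS_union (B B' : Set (GL (Fin n) F)) : fixS (B ∪ B') = fixS B ⊓ fixS B' := by
  ext v
  simp only [mem_fixS, Submodule.mem_inf, Set.mem_union]
  constructor
  · intro h; exact ⟨fun b hb => h b (Or.inl hb), fun b hb => h b (Or.inr hb)⟩
  · rintro ⟨h1, h2⟩ b (hb | hb)
    · exact h1 b hb
    · exact h2 b hb

/-- translate of a subspace -/
def tr (g : GL (Fin n) F) (W : Submodule F (Fin n → F)) : Submodule F (Fin n → F) :=
  W.map (Matrix.toLin' (g : Matrix (Fin n) (Fin n) F))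

lemma mem_tr {g : GL (Fin n) F} {W : Submodule F (Fin n → F)} {v : Fin n → F} :
    v ∈ tr g W ↔ act g⁻¹ v ∈ W := by
  rw [tr, Submodule.mem_map]
  constructor
  · rintro ⟨w, hw, rfl⟩
    rw [toLin'_apply_eq_act, act_inv_act]; exact hw
  · intro h
    exact ⟨_, h, by rw [toLin'_apply_eq_act, act_act_inv]⟩

lemma act_mem_tr {g : GL (Fin n) F} {W : Submodule F (Fin n → F)} {v : Fin n → F} (hv : v ∈ W) :
    act g v ∈ tr g W := by
  rw [mem_tr, act_inv_act]; exact hv

lemma tr_mul (g h : GL (Fin n) F) (W : Submodule F (Fin n → F)) : tr (g * h) W = tr g (tr h W) := by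
  ext v
  simp only [mem_tr, mul_inv_rev, act_mul]

lemma tr_one (W : Submodule F (Fin n → F)) : tr (1 : GL (Fin n) F) W = W := by
  ext v
  simp only [mem_tr, inv_one, act_one]

lemma tr_inv_tr (g : GL (Fin n) F) (W : Submodule F (Fin n → F)) : tr g⁻¹ (tr g W) = W := by
  rw [← tr_mul, inv_mul_cancel, tr_one]

lemma tr_tr_inv (g : GL (Fin n) F) (W : Submodule F (Fin n → F)) : tr g (tr g⁻¹ W) = W := by
  rw [← tr_mul, mul_inv_cancel, tr_one]

lemma tr_mono (g : GL (Fin n) F) {W W' : Submodule F (Fin n → F)} (h : W ≤ W') : tr g W ≤ tr g W' :=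
  Submodule.map_mono h

lemma tr_bot (g : GL (Fin n) F) : tr g (⊥ : Submodule F (Fin n → F)) = ⊥ := by
  simp [tr]

lemma tr_ne_bot (g : GL (Fin n) F) {W : Submodule F (Fin n → F)} (h : W ≠ ⊥) : tr g W ≠ ⊥ := by
  intro h'
  apply h
  rw [← tr_inv_tr g W, h', tr_bot]

lemma finrank_tr (g : GL (Fin n) F) (W : Submodule F (Fin n → F)) :
    finrank F (tr g W) = finrank F W := by
  apply le_antisymm
  · exact Submodule.finrank_map_le _ _
  · conv_lhs => rw [← tr_inv_tr g W]
    exact Submodule.finrank_map_le _ _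

lemma tr_fixS (g : GL (Fin n) F) (B : Set (GL (Fin n) F)) :
    tr g (fixS B) = fixS ((fun b => g * b * g⁻¹) '' B) := by
  ext v
  rw [mem_tr, mem_fixS, mem_fixS]
  constructor
  · rintro h _ ⟨b, hb, rfl⟩
    have := h b hb
    rw [act_mul, act_mul, this, act_act_inv]
  · intro h b hb
    have := h _ ⟨b, hb, rfl⟩
    rw [act_mul, act_mul] at this
    have h2 := congrArg (act g⁻¹) this
    rw [act_inv_act] at h2
    exact h2

/-- commutator inequality -/
lemma two_mul_finrank_Fix_le (g x : GL (Fin n) F) :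
    2 * finrank F (Fix g) ≤ n + finrank F (Fix (g * x * g⁻¹ * x⁻¹)) := by
  have h1 : Fix g ⊓ tr x (Fix g) ≤ Fix (g * x * g⁻¹ * x⁻¹) := by
    intro v hv
    obtain ⟨hv1, hv2⟩ := Submodule.mem_inf.mp hv
    rw [mem_tr, mem_Fix] at hv2
    rw [mem_Fix] at hv1 ⊢
    -- g (x⁻¹ v) = x⁻¹ v, so g⁻¹ (x⁻¹ v) = x⁻¹ v
    have h3 : act g⁻¹ (act x⁻¹ v) = act x⁻¹ v := by
      conv_lhs => rw [← hv2]
      rw [act_inv_act]
    rw [act_mul, act_mul, act_mul, h3, act_act_inv, hv1]
  have h2 := Submodule.finrank_sup_add_finrank_inf_eq (Fix g) (tr x (Fix g))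
  have h3 : finrank F ↥(Fix g ⊔ tr x (Fix g)) ≤ n := by
    have := Submodule.finrank_le (Fix g ⊔ tr x (Fix g))
    simpa using this
  have h4 := Submodule.finrank_mono h1
  rw [finrank_tr] at h2
  omega

/-- Independence of a family of common fixed spaces of subsets of a commuting set, which pairwise
intersect trivially. -/
lemma indep_of_fixS {ι : Type*} (D : ι → Submodule F (Fin n → F)) (Bs : ι → Set (GL (Fin n) F))
    (hD : ∀ i, D i = fixS (Bs i))
    (hcomm : ∀ i j, ∀ b ∈ Bs i, ∀ c ∈ Bs j, b * c = c * b)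
    (hdisj : ∀ i j, i ≠ j → D i ⊓ D j = ⊥) : iSupIndep D := by
  classical
  rw [iSupIndep_iff_finsetSum_eq_zero_imp_eq_zero]
  -- invariance of each D j under each b ∈ Bs i
  have hinv : ∀ i j, ∀ b ∈ Bs i, ∀ v ∈ D j, act b v ∈ D j := by
    intro i j b hb v hv
    rw [hD j, mem_fixS] at hv ⊢
    intro c hc
    rw [← act_mul, ← hcomm i j b hb c hc, act_mul, hv c hc]
  intro s
  induction s using Finset.induction_on with
  | empty => intro v _ _ i hi; simp at hi
  | insert i s his ih =>
    intro u hu hsum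
    rw [Finset.sum_insert his] at hsum
    -- all u j, j ∈ s, vanish
    have hs : ∀ j ∈ s, u j = 0 := by
      intro j hj
      have hji : j ≠ i := by rintro rfl; exact his hj
      -- u j is fixed by every b ∈ Bs i
      have hfix : ∀ b ∈ Bs i, act b (u j) = u j := by
        intro b hb
        have hui : act b (u i) = u i := by
          have := hu i (Finset.mem_insert_self i s)
          rw [hD i, mem_fixS] at this
          exact this b hb
        -- apply b - 1 to the relation
        have h1 : ∑ k ∈ s, (act b (u k) - u k) = 0 := by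
          have h2 := congrArg (act b) hsum
          rw [act_add, act_sum, act_zero, hui] at h2
          rw [Finset.sum_sub_distrib]
          have h3 : ∑ k ∈ s, act b (u k) = - u i := by
            rw [eq_neg_iff_add_eq_zero, add_comm]; exact h2
          have h4 : ∑ k ∈ s, u k = - u i := by
            rw [eq_neg_iff_add_eq_zero, add_comm]; exact hsum
          rw [h3, h4, sub_self]
        have h5 := ih (fun k => act b (u k) - u k) (fun k hk => by
          have hk' := hu k (Finset.mem_insert_of_mem hk)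
          exact (D k).sub_mem (hinv i k b hb _ hk') hk') h1 j hj
        exact sub_eq_zero.mp h5
      have hmem : u j ∈ D i ⊓ D j := by
        refine Submodule.mem_inf.mpr ⟨?_, hu j (Finset.mem_insert_of_mem hj)⟩
        rw [hD i, mem_fixS]; exact hfix
      rw [hdisj i j hji.symm] at hmem
      exact (Submodule.mem_bot F).mp hmem
    intro j hj
    rcases Finset.mem_insert.mp hj with rfl | hj
    · rw [Finset.sum_eq_zero hs, add_zero] at hsum
      exact hsum
    · exact hs j hj


/-- Clifford-type lemma: in an irreducible primitive linear group, a non-identity element of an abelian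
normal subset (closed under `G`-conjugation, pairwise commuting) has no non-zero fixed vector. -/
theorem Fix_eq_bot_of_abelian_normal [Fintype F] {G : Subgroup (GL (Fin n) F)}
    (hirr : Cfsg.Geo.ActsIrreducibly (Cfsg.Geo.matrixSet G))
    (hprim : ∀ (m t : ℕ) (D : Fin t → Submodule F (Fin n → F)), 2 ≤ t →
      Cfsg.Geo.IsMDecomposition m D → ¬ G ≤ Cfsg.Geo.decompositionStabilizer D)
    (A : Set (GL (Fin n) F)) (hAn : ∀ g ∈ G, ∀ a ∈ A, g * a * g⁻¹ ∈ A)
    (hAc : ∀ a ∈ A, ∀ b ∈ A, a * b = b * a)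
    {a : GL (Fin n) F} (ha : a ∈ A) (ha1 : a ≠ 1) : Fix a = ⊥ := by
  classical
  by_contra hne
  let P : Submodule F (Fin n → F) → Prop :=
    fun U => (∃ B : Set (GL (Fin n) F), B ⊆ A ∧ U = fixS B) ∧ U ≠ ⊥
  have hPa : P (Fix a) := ⟨⟨{a}, by simpa using ha, (fixS_singleton a).symm⟩, hne⟩
  obtain ⟨U, hUa, hUmin⟩ := exists_minimal_le_of_wellFoundedLT P (Fix a) hPa
  suffices hU : U = ⊤ by
    apply ha1
    have htop : Fix a = ⊤ := top_le_iff.mp (hU ▸ hUa)
    have h1 : ∀ v, act a v = v := fun v => mem_Fix.mp (htop ▸ Submodule.mem_top)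
    apply Units.ext
    apply Matrix.toLin'.injective
    apply LinearMap.ext
    intro v
    rw [toLin'_apply_eq_act, h1 v]
    simp
  -- translation preserves P
  have hPtr : ∀ g ∈ G, ∀ W, P W → P (tr g W) := by
    rintro g hg W ⟨⟨B, hBA, rfl⟩, hW⟩
    refine ⟨⟨(fun b => g * b * g⁻¹) '' B, ?_, tr_fixS g B⟩, tr_ne_bot g hW⟩
    rintro _ ⟨b, hb, rfl⟩
    exact hAn g hg b (hBA hb)
  -- translation preserves minimality
  have hMintr : ∀ g ∈ G, ∀ W, Minimal P W → Minimal P (tr g W) := by
    intro g hg W hW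
    refine ⟨hPtr g hg W hW.1, ?_⟩
    intro W' hW' hle
    have h1 : tr g⁻¹ W' ≤ W := by
      have := tr_mono g⁻¹ hle
      rwa [tr_inv_tr] at this
    have h2 := hW.2 (hPtr g⁻¹ (G.inv_mem hg) W' hW') h1
    have := tr_mono g h2
    rwa [tr_tr_inv] at this
  -- two distinct minimal members meet trivially
  have hdisj : ∀ W W', Minimal P W → Minimal P W' → W ≠ W' → W ⊓ W' = ⊥ := by
    intro W W' hW hW' hne'
    by_contra hbot
    apply hne'
    obtain ⟨⟨B, hBA, hB⟩, _⟩ := hW.1
    obtain ⟨⟨B', hBA', hB'⟩, _⟩ := hW'.1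
    have hP : P (W ⊓ W') :=
      ⟨⟨B ∪ B', Set.union_subset hBA hBA', by rw [fixS_union, ← hB, ← hB']⟩, hbot⟩
    exact le_antisymm (le_trans (hW.2 hP inf_le_left) inf_le_right)
      (le_trans (hW'.2 hP inf_le_right) inf_le_left)
  -- the orbit of U
  let O : Set (Submodule F (Fin n → F)) := Set.range (fun g : G => tr (g : GL (Fin n) F) U)
  have hOfin : O.Finite := Set.finite_range _
  have : Finite O := hOfin.to_subtype
  have hUO : U ∈ O := ⟨1, by simp [tr_one]⟩
  have hOmin : ∀ W ∈ O, Minimal P W := by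
    rintro _ ⟨g, rfl⟩
    exact hMintr g g.2 U hUmin
  have hOtr : ∀ g ∈ G, ∀ W ∈ O, tr g W ∈ O := by
    rintro g hg _ ⟨h, rfl⟩
    exact ⟨⟨g, hg⟩ * h, by simp [tr_mul]⟩
  have hOrank : ∀ W ∈ O, finrank F W = finrank F U := by
    rintro _ ⟨g, rfl⟩
    exact finrank_tr _ _
  -- enumerate the orbit
  let t := Nat.card O
  let e : O ≃ Fin t := Finite.equivFin O
  let D : Fin t → Submodule F (Fin n → F) := fun i => (e.symm i : Submodule F (Fin n → F))
  have hDO : ∀ i, D i ∈ O := fun i => (e.symm i).2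
  have hDinj : Function.Injective D := by
    intro i j hij
    have : e.symm i = e.symm j := Subtype.ext hij
    exact e.symm.injective this
  have hDsurj : ∀ W ∈ O, ∃ i, D i = W := by
    intro W hW
    exact ⟨e ⟨W, hW⟩, by simp [D]⟩
  by_cases ht : 2 ≤ t
  · exfalso
    -- the decomposition
    have hindep : iSupIndep D := by
      have hB : ∀ i, ∃ B : Set (GL (Fin n) F), B ⊆ A ∧ D i = fixS B := fun i => (hOmin _ (hDO i)).1.1
      choose Bs hBsA hBs using hB
      refine indep_of_fixS D Bs hBs ?_ ?_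
      · intro i j b hb c hc
        exact hAc b (hBsA i hb) c (hBsA j hc)
      · intro i j hij
        exact hdisj _ _ (hOmin _ (hDO i)) (hOmin _ (hDO j)) (fun h => hij (hDinj h))
    have hsup : iSup D = ⊤ := by
      have hinv : ∀ s ∈ Cfsg.Geo.matrixSet G, (iSup D).map (Matrix.toLin' s) ≤ iSup D := by
        rintro _ ⟨g, hg, rfl⟩
        rw [Submodule.map_iSup]
        apply iSup_le
        intro i
        obtain ⟨j, hj⟩ := hDsurj _ (hOtr g hg _ (hDO i))
        have : Submodule.map (Matrix.toLin' (g : Matrix (Fin n) (Fin n) F)) (D i) = D j := hj.symm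
        rw [this]
        exact le_iSup D j
      rcases hirr _ hinv with h | h
      · exfalso
        obtain ⟨i, hi⟩ := hDsurj U hUO
        have : U ≤ iSup D := hi ▸ le_iSup D i
        rw [h] at this
        exact hUmin.1.2 (le_bot_iff.mp this)
      · exact h
    have hdec : Cfsg.Geo.IsMDecomposition (finrank F U) D := by
      refine ⟨ht, ?_, fun i => hOrank _ (hDO i), hindep, hsup⟩
      exact Nat.lt_of_lt_of_le Nat.zero_lt_one (Submodule.one_le_finrank_iff.mpr hUmin.1.2)
    apply hprim _ _ D ht hdec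
    intro g hg
    -- the permutation induced by g
    have hperm : ∀ i, ∃ j, tr g (D i) = D j := by
      intro i
      obtain ⟨j, hj⟩ := hDsurj _ (hOtr g hg _ (hDO i))
      exact ⟨j, hj.symm⟩
    choose σ hσ using hperm
    have hσinj : Function.Injective σ := by
      intro i j hij
      apply hDinj
      have h1 := hσ i
      have h2 := hσ j
      rw [hij] at h1
      have : tr g (D i) = tr g (D j) := h1.trans h2.symm
      have := congrArg (tr g⁻¹) this
      rwa [tr_inv_tr, tr_inv_tr] at this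
    have hσbij : Function.Bijective σ := Finite.injective_iff_bijective.mp hσinj
    exact ⟨Equiv.ofBijective σ hσbij, fun i => hσ i⟩
  · -- orbit is a singleton, so U is invariant
    have hsub : Subsingleton O := (Finite.card_le_one_iff_subsingleton).mp (by omega)
    have hinvU : ∀ g ∈ G, tr g U = U := by
      intro g hg
      have h1 : (⟨tr g U, hOtr g hg U hUO⟩ : O) = ⟨U, hUO⟩ := Subsingleton.elim _ _
      exact congrArg Subtype.val h1
    have hinv : ∀ s ∈ Cfsg.Geo.matrixSet G, U.map (Matrix.toLin' s) ≤ U := by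
      rintro _ ⟨g, hg, rfl⟩
      exact (hinvU g hg).le
    rcases hirr U hinv with h | h
    · exact absurd h hUmin.1.2
    · exact h

end lin

open scoped commutatorElement in
/-- Fixed-point spaces in primitive soluble linear groups. Let F be a finite field and G a soluble subgroup of GL_n(F) that acts irreducibly on F^n and primitively (G preserves no decomposition of F^n into two or more independent subspaces of equal dimension). Then every non-identity element g of G has fixed-point space {v : g v = v} of dimension at most 3n/4. -/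
theorem result {F : Type*} [Field F] [Fintype F] {n : ℕ} (G : Subgroup (Matrix.GeneralLinearGroup (Fin n) F)) (hsol : IsSolvable G) (hirr : Cfsg.Geo.ActsIrreducibly (Cfsg.Geo.matrixSet G)) (hprim : ∀ (m t : ℕ) (D : Fin t → Submodule F (Fin n → F)), 2 ≤ t → Cfsg.Geo.IsMDecomposition m D → ¬ G ≤ Cfsg.Geo.decompositionStabilizer D) (g : Matrix.GeneralLinearGroup (Fin n) F) (hg : g ∈ G) (hg1 : g ≠ 1) :
    4 * Module.finrank F (Module.End.eigenspace (Matrix.toLin' (g : Matrix (Fin n) (Fin n) F)) 1) ≤ 3 * n := by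
  have hsol' : Group.IsSolvable G := hsol
  obtain ⟨A, hAnormal, hAcomm, h⟩ := exists_abelian_normal (⟨g, hg⟩ : G)
  let A' : Set (Matrix.GeneralLinearGroup (Fin n) F) := Subtype.val '' (A : Set G)
  have hAn : ∀ x ∈ G, ∀ a ∈ A', x * a * x⁻¹ ∈ A' := by
    rintro x hx _ ⟨a, ha, rfl⟩
    have h1 : (⟨x, hx⟩ : G) * a * (⟨x, hx⟩ : G)⁻¹ ∈ A := hAnormal.conj_mem a ha ⟨x, hx⟩
    refine ⟨_, h1, ?_⟩
    simp
  have hAc : ∀ a ∈ A', ∀ b ∈ A', a * b = b * a := by
    rintro _ ⟨a, ha, rfl⟩ _ ⟨b, hb, rfl⟩
    have := hAcomm a ha b hb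
    exact congrArg Subtype.val this
  have key : ∀ a : G, a ∈ A → a ≠ 1 → Module.finrank F (Fix (a : Matrix.GeneralLinearGroup (Fin n) F)) = 0 := by
    intro a ha ha1
    have h1 : (a : Matrix.GeneralLinearGroup (Fin n) F) ≠ 1 := by
      intro h; apply ha1; exact Subtype.ext h
    rw [Fix_eq_bot_of_abelian_normal hirr hprim A' hAn hAc ⟨a, ha, rfl⟩ h1]
    simp
  change 4 * Module.finrank F (Fix g) ≤ 3 * n
  rcases h with h | ⟨x, hx1, h⟩
  · have := key _ h (by intro h'; apply hg1; exact congrArg Subtype.val h')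
    simp only at this
    omega
  · obtain ⟨y, hy⟩ : ∃ y : Matrix.GeneralLinearGroup (Fin n) F, y = (x : Matrix.GeneralLinearGroup (Fin n) F) := ⟨_, rfl⟩
    have h1 := two_mul_finrank_Fix_le g y
    have e1 : ((⁅(⟨g, hg⟩ : G), x⁆ : G) : Matrix.GeneralLinearGroup (Fin n) F) = g * y * g⁻¹ * y⁻¹ := by
      simp [commutatorElement_def, hy]
    rcases h with h | ⟨x', hx'1, h⟩
    · have := key _ h hx1
      rw [e1] at this
      omega
    · obtain ⟨y', hy'⟩ : ∃ y' : Matrix.GeneralLinearGroup (Fin n) F, y' = (x' : Matrix.GeneralLinearGroup (Fin n) F) := ⟨_, rfl⟩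
      have h2 := two_mul_finrank_Fix_le (g * y * g⁻¹ * y⁻¹) y'
      have e2 : ((⁅⁅(⟨g, hg⟩ : G), x⁆, x'⁆ : G) : Matrix.GeneralLinearGroup (Fin n) F) =
          (g * y * g⁻¹ * y⁻¹) * y' * (g * y * g⁻¹ * y⁻¹)⁻¹ * y'⁻¹ := by
        simp [commutatorElement_def, hy, hy']
      have := key _ h hx'1
      rw [e2] at this
      omega

end Cfsg.Agent.S5876
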