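import Cfsg.Statements.S5885

set_option autoImplicit false
open Cfsg

namespace Cfsg.Agent.S5885

open MulAction

/-- Maximality of `H` in `K` phrased inside the ambient group. -/
theorem isCoatom_subgroupOf_iff {G : Type*} [Group G] {H K : Subgroup G} (hHK : H ≤ K) :
    IsCoatom (H.subgroupOf K) ↔ H ≠ K ∧ ∀ L : Subgroup G, H ≤ L → L ≤ K → L = H ∨ L = K := by
  constructor
  · intro h
    refine ⟨?_, ?_⟩
    · rintro rfl
      exact h.1 (Subgroup.subgroupOf_self H)
    · intro L hHL hLK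
      have h1 : H.subgroupOf K ≤ L.subgroupOf K := Subgroup.subgroupOf_mono K hHL
      rcases (h.le_iff).mp h1 with h2 | h2
      · right
        exact le_antisymm hLK (Subgroup.subgroupOf_eq_top.mp h2)
      · left
        have h3 := Subgroup.subgroupOf_inj.mp h2
        rw [inf_eq_left.mpr hLK, inf_eq_left.mpr hHK] at h3
        exact h3
  · rintro ⟨hne, hL⟩
    refine ⟨?_, ?_⟩
    · intro h
      exact hne (le_antisymm hHK (Subgroup.subgroupOf_eq_top.mp h))
    · intro b hb
      have hbK : b.map K.subtype ≤ K := Subgroup.map_subtype_le b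
      have hHb : H ≤ b.map K.subtype := by
        have h1 := Subgroup.map_mono (f := K.subtype) hb.le
        rwa [Subgroup.subgroupOf_map_subtype, inf_eq_left.mpr hHK] at h1
      rcases hL _ hHb hbK with h1 | h1
      · exfalso
        apply hb.ne
        apply Subgroup.map_injective K.subtype_injective
        rw [Subgroup.subgroupOf_map_subtype, inf_eq_left.mpr hHK, h1]
      · apply Subgroup.map_injective K.subtype_injective
        rw [h1, ← MonoidHom.range_eq_map, Subgroup.range_subtype]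

/-- The image of `G` in the symmetric group on the cosets of a maximal subgroup of index `n` contains the
alternating group, if the only primitive groups of degree `n` contain the alternating group. -/
theorem exists_smul_eq_perm {G : Type*} [Group G] [Finite G] (n : ℕ)
    (hA : ∀ P : Subgroup (Equiv.Perm (Fin n)), MulAction.IsPreprimitive P (Fin n) → alternatingGroup (Fin n) ≤ P)
    (M : Subgroup G) (hM : IsCoatom M) (hn : M.index = n)
    [DecidableEq (G ⧸ M)] [Fintype (G ⧸ M)]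
    (τ : Equiv.Perm (G ⧸ M)) (hτ : τ ∈ alternatingGroup (G ⧸ M)) :
    ∃ g : G, ∀ w : G ⧸ M, g • w = τ w := by
  classical
  have hcard : Nat.card (G ⧸ M) = n := by rw [← Subgroup.index_eq_card, hn]
  let e : (G ⧸ M) ≃ Fin n := Finite.equivFinOfCardEq hcard
  let ψ : G →* Equiv.Perm (Fin n) :=
    (e.permCongrHom : Equiv.Perm (G ⧸ M) ≃* Equiv.Perm (Fin n)).toMonoidHom.comp (MulAction.toPermHom G (G ⧸ M))
  have hψ : ∀ (g : G) (x : Fin n), ψ g x = e (g • e.symm x) := by
    intro g x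
    simp [ψ, Equiv.permCongrHom, Equiv.permCongr_apply]
  -- G is primitive on the cosets
  have : Nontrivial (G ⧸ M) := by
    rw [← Finite.one_lt_card_iff_nontrivial, hcard, ← hn]
    have h1 : M.index ≠ 1 := fun h => hM.1 (Subgroup.index_eq_one.mp h)
    have h0 : M.index ≠ 0 := Subgroup.index_ne_zero_of_finite
    omega
  have hprimG : IsPreprimitive G (G ⧸ M) := by
    rw [← MulAction.isCoatom_stabilizer_iff_preprimitive G ((1 : G) : G ⧸ M), MulAction.stabilizer_quotient]
    exact hM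
  -- transport to Fin n
  let P : Subgroup (Equiv.Perm (Fin n)) := ψ.range
  let φ : G → P := fun g => ⟨ψ g, MonoidHom.mem_range.mpr ⟨g, rfl⟩⟩
  let f : (G ⧸ M) →ₑ[φ] Fin n :=
    { toFun := e
      map_smul' := by
        intro g x
        change e (g • x) = (ψ g) (e x)
        rw [hψ, Equiv.symm_apply_apply] }
  have hprimP : IsPreprimitive P (Fin n) := IsPreprimitive.of_surjective (f := f) e.surjective
  have hAlt : alternatingGroup (Fin n) ≤ P := hA P hprimP
  -- transport τ
  have hτ' : e.permCongr τ ∈ alternatingGroup (Fin n) := by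
    rw [Equiv.Perm.mem_alternatingGroup, Equiv.Perm.sign_permCongr]
    exact Equiv.Perm.mem_alternatingGroup.mp hτ
  obtain ⟨g, hg⟩ := MonoidHom.mem_range.mp (hAlt hτ')
  refine ⟨g, fun w => ?_⟩
  have h1 := hψ g (e w)
  rw [hg, Equiv.permCongr_apply, Equiv.symm_apply_apply] at h1
  exact (e.injective h1).symm


/-- Existence of elements of `G` acting as a prescribed 3-cycle on the cosets of `M`. -/
theorem exists_three_cycle {G : Type*} [Group G] [Finite G] (n : ℕ)
    (hA : ∀ P : Subgroup (Equiv.Perm (Fin n)), MulAction.IsPreprimitive P (Fin n) → alternatingGroup (Fin n) ≤ P)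
    (M : Subgroup G) (hM : IsCoatom M) (hn : M.index = n)
    (a b c : G ⧸ M) (hab : a ≠ b) (hac : a ≠ c) (hbc : b ≠ c) :
    ∃ g : G, g • a = c ∧ g • c = b ∧ g • b = a ∧ ∀ w, w ≠ a → w ≠ b → w ≠ c → g • w = w := by
  classical
  have : Fintype (G ⧸ M) := Fintype.ofFinite _
  have hτ : Equiv.swap a b * Equiv.swap a c ∈ alternatingGroup (G ⧸ M) :=
    (Equiv.Perm.isThreeCycle_swap_mul_swap_same hab hac hbc).mem_alternatingGroup
  obtain ⟨g, hg⟩ := exists_smul_eq_perm n hA M hM hn _ hτ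
  refine ⟨g, ?_, ?_, ?_, ?_⟩
  · rw [hg, Equiv.Perm.mul_apply, Equiv.swap_apply_left, Equiv.swap_apply_of_ne_of_ne hac.symm hbc.symm]
  · rw [hg, Equiv.Perm.mul_apply, Equiv.swap_apply_right, Equiv.swap_apply_left]
  · rw [hg, Equiv.Perm.mul_apply, Equiv.swap_apply_of_ne_of_ne hab.symm hbc, Equiv.swap_apply_right]
  · intro w hwa hwb hwc
    rw [hg, Equiv.Perm.mul_apply, Equiv.swap_apply_of_ne_of_ne hwa hwc, Equiv.swap_apply_of_ne_of_ne hwa hwb]

open scoped Pointwise in
/-- Let n be an odd positive integer such that every primitive permutation group of degree n contains the alternating group (so the symmetric and alternating groups are the only primitive groups of degree n). Let G be a finite group, M a maximal subgroup of G of index n, and H a maximal subgroup of M. Then H is a second maximal subgroup of G: H is maximal in every maximal subgroup K of G containing H. -/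
theorem result {G : Type*} [Group G]
    [Finite G] (n : ℕ) (hodd : Odd n)
    (hA : ∀ P : Subgroup (Equiv.Perm (Fin n)), MulAction.IsPreprimitive P (Fin n) → alternatingGroup (Fin n) ≤ P)
    (M : Subgroup G) (hM : IsCoatom M) (hn : M.index = n) (H : Subgroup G) (hHM : H ≤ M)
    (hmax : IsCoatom (H.subgroupOf M)) (K : Subgroup G) (hK : IsCoatom K) (hHK : H ≤ K) :
    IsCoatom (H.subgroupOf K) := by
  classical
  by_cases hKM : K = M
  · subst hKM; exact hmax
  obtain ⟨hHneM, hHmax⟩ := (isCoatom_subgroupOf_iff hHM).mp hmax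
  -- K ⊓ M = H
  have hKMH : K ⊓ M = H := by
    rcases hHmax (K ⊓ M) (le_inf hHK hHM) inf_le_right with h | h
    · exact h
    · exfalso
      have hMK : M ≤ K := by rw [← h]; exact inf_le_left
      rcases (hM.le_iff).mp hMK with h2 | h2
      · exact hK.1 h2
      · exact hKM h2
  rw [isCoatom_subgroupOf_iff hHK]
  refine ⟨?_, ?_⟩
  · rintro rfl
    rcases (hK.le_iff).mp hHM with h2 | h2
    · exact hM.1 h2
    · exact hKM h2.symm
  intro L hHL hLK
  by_contra hcon
  push Not at hcon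
  obtain ⟨hLH, hLK'⟩ := hcon
  -- the action on the cosets of M
  set α : G ⧸ M := ((1 : G) : G ⧸ M) with hα
  have hstab : ∀ g : G, g • α = α ↔ g ∈ M := by
    intro g
    rw [← MulAction.mem_stabilizer_iff, MulAction.stabilizer_quotient]
  have hLMH : L ⊓ M = H :=
    le_antisymm (by rw [← hKMH]; exact inf_le_inf_right M hLK) (le_inf hHL hHM)
  -- B: the L-orbit of α
  set B : Set (G ⧸ M) := {w | ∃ l ∈ L, l • α = w} with hB
  have hαB : α ∈ B := ⟨1, L.one_mem, one_smul _ _⟩
  have hLB : ∀ l ∈ L, ∀ b ∈ B, l • b ∈ B := by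
    rintro l hl _ ⟨l', hl', rfl⟩
    exact ⟨l * l', L.mul_mem hl hl', mul_smul _ _ _⟩
  -- block property
  have hblock : ∀ k ∈ K, ∀ b ∈ B, k • b ∈ B → k ∈ L := by
    rintro k hk _ ⟨l₁, hl₁, rfl⟩ ⟨l₂, hl₂, h⟩
    have h1 : (l₂⁻¹ * k * l₁) • α = α := by
      rw [mul_smul, mul_smul, ← h, inv_smul_smul]
    have h2 : l₂⁻¹ * k * l₁ ∈ K ⊓ M :=
      ⟨K.mul_mem (K.mul_mem (K.inv_mem (hLK hl₂)) hk) (hLK hl₁), (hstab _).mp h1⟩
    rw [hKMH] at h2
    have h3 : k = l₂ * (l₂⁻¹ * k * l₁) * l₁⁻¹ := by group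
    rw [h3]
    exact L.mul_mem (L.mul_mem hl₂ (hHL h2)) (L.inv_mem hl₁)
  -- a point y of B other than α
  obtain ⟨l₀, hl₀L, hl₀H⟩ := SetLike.exists_of_lt (lt_of_le_of_ne hHL (Ne.symm hLH))
  set y : G ⧸ M := l₀ • α with hy
  have hyB : y ∈ B := ⟨l₀, hl₀L, rfl⟩
  have hyα : y ≠ α := by
    intro h
    apply hl₀H
    rw [← hLMH]
    exact ⟨hl₀L, (hstab _).mp h⟩
  -- an element k₀ of K outside L, and the points x = k₀ α, w₀ = k₀ y outside B
  obtain ⟨k₀, hk₀K, hk₀L⟩ := SetLike.exists_of_lt (lt_of_le_of_ne hLK hLK')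
  set x : G ⧸ M := k₀ • α with hx
  set w₀ : G ⧸ M := k₀ • y with hw₀
  have hxB : x ∉ B := fun h => hk₀L (hblock k₀ hk₀K α hαB h)
  have hw₀B : w₀ ∉ B := fun h => hk₀L (hblock k₀ hk₀K y hyB h)
  have hxw₀ : x ≠ w₀ := by
    intro h
    exact hyα ((MulAction.injective k₀ h).symm)
  have hxy : x ≠ y := fun h => hxB (h ▸ hyB)
  have hw₀y : w₀ ≠ y := fun h => hw₀B (h ▸ hyB)
  have hαx : α ≠ x := fun h => hxB (h ▸ hαB)
  have hαw₀ : α ≠ w₀ := fun h => hw₀B (h ▸ hαB)
  -- the 3-cycle y ↦ x ↦ w₀ ↦ y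
  obtain ⟨g₁, hg₁y, hg₁x, hg₁w₀, hg₁fix⟩ :=
    exists_three_cycle n hA M hM hn y w₀ x hw₀y.symm hxy.symm hxw₀.symm
  have hg₁α : g₁ • α = α := hg₁fix α hyα.symm hαw₀ hαx
  have hBfin : B.Finite := Set.toFinite B
  by_cases htrans : ∀ w : G ⧸ M, ∃ k ∈ K, k • α = w
  · -- K is transitive: H is the stabiliser of B in M
    have hL' : M ⊓ MulAction.stabilizer G B = H := by
      have hle : H ≤ M ⊓ MulAction.stabilizer G B := by
        refine le_inf hHM ?_
        intro h hh
        rw [MulAction.mem_stabilizer_set_iff_smul_set_subset hBfin]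
        rintro _ ⟨b, hb, rfl⟩
        exact hLB h (hHL hh) b hb
      rcases hHmax _ hle inf_le_left with h | h
      · exact h
      · exfalso
        have hg₁M : g₁ ∈ M := (hstab _).mp hg₁α
        rw [← h] at hg₁M
        have h2 := (MulAction.mem_stabilizer_set_iff_smul_set_subset hBfin).mp hg₁M.2
        have h3 : g₁ • y ∈ B := h2 ⟨y, hyB, rfl⟩
        rw [hg₁y] at h3
        exact hxB h3
    -- a point outside B and k₀ B
    have hr : ∃ r : G ⧸ M, r ∉ B ∧ k₀⁻¹ • r ∉ B := by
      by_contra hno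
      push Not at hno
      set B₁ : Set (G ⧸ M) := (fun w => k₀ • w) '' B with hB₁
      have hdisj : Disjoint B B₁ := by
        rw [Set.disjoint_left]
        rintro _ hw ⟨b, hb, rfl⟩
        exact hk₀L (hblock k₀ hk₀K b hb hw)
      have hunion : B ∪ B₁ = Set.univ := by
        ext r
        simp only [Set.mem_union, Set.mem_univ, iff_true]
        by_cases hrB : r ∈ B
        · exact Or.inl hrB
        · right
          exact ⟨k₀⁻¹ • r, hno r hrB, smul_inv_smul k₀ r⟩
      have hcard : Nat.card (G ⧸ M) = n := by rw [← Subgroup.index_eq_card, hn]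
      have h1 : (B ∪ B₁).ncard = B.ncard + B₁.ncard :=
        Set.ncard_union_eq hdisj hBfin (Set.toFinite B₁)
      have h2 : B₁.ncard = B.ncard := Set.ncard_image_of_injective B (MulAction.injective k₀)
      rw [hunion, Set.ncard_univ, hcard, h2] at h1
      obtain ⟨m, hm⟩ := hodd
      omega
    obtain ⟨r, hrB, hrB₁⟩ := hr
    have hrx : r ≠ x := by
      rintro rfl
      apply hrB₁
      rw [hx, inv_smul_smul]
      exact hαB
    have hrw₀ : r ≠ w₀ := by
      rintro rfl
      apply hrB₁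
      rw [hw₀, inv_smul_smul]
      exact hyB
    -- the 3-cycle x ↦ w₀ ↦ r ↦ x
    obtain ⟨g₂, hg₂x, hg₂w₀, hg₂r, hg₂fix⟩ :=
      exists_three_cycle n hA M hM hn x r w₀ hrx.symm hxw₀ hrw₀
    have hg₂B : ∀ b ∈ B, g₂ • b = b := by
      intro b hb
      exact hg₂fix b (fun h => hxB (h ▸ hb)) (fun h => hrB (h ▸ hb)) (fun h => hw₀B (h ▸ hb))
    have hg₂H : g₂ ∈ H := by
      rw [← hL']
      refine Subgroup.mem_inf.mpr ⟨(hstab _).mp (hg₂B α hαB), ?_⟩
      rw [MulAction.mem_stabilizer_set_iff_smul_set_subset hBfin]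
      rintro _ ⟨b, hb, rfl⟩
      change g₂ • b ∈ B
      rw [hg₂B b hb]
      exact hb
    have hkK : k₀⁻¹ * g₂ * k₀ ∈ K := K.mul_mem (K.mul_mem (K.inv_mem hk₀K) (hHK hg₂H)) hk₀K
    have hkα : (k₀⁻¹ * g₂ * k₀) • α = y := by
      rw [mul_smul, mul_smul, ← hx, hg₂x, hw₀, inv_smul_smul]
    have hkL : k₀⁻¹ * g₂ * k₀ ∈ L := hblock _ hkK α hαB (hkα ▸ hyB)
    have hky : (k₀⁻¹ * g₂ * k₀) • y = k₀⁻¹ • r := by
      rw [mul_smul, mul_smul, ← hw₀, hg₂w₀]
    have := hLB _ hkL y hyB
    rw [hky] at this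
    exact hrB₁ this
  · -- K is intransitive: K is the stabiliser of its orbit Δ
    push Not at htrans
    obtain ⟨w₁, hw₁⟩ := htrans
    set Δ : Set (G ⧸ M) := {w | ∃ k ∈ K, k • α = w} with hΔ
    have hΔfin : Δ.Finite := Set.toFinite Δ
    have hKΔ : K ≤ MulAction.stabilizer G Δ := by
      intro k hk
      rw [MulAction.mem_stabilizer_set_iff_smul_set_subset hΔfin]
      rintro _ ⟨_, ⟨k', hk', rfl⟩, rfl⟩
      exact ⟨k * k', K.mul_mem hk hk', mul_smul _ _ _⟩
    have hSK : MulAction.stabilizer G Δ = K := by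
      rcases (hK.le_iff).mp hKΔ with h | h
      · exfalso
        obtain ⟨g, hg⟩ := MulAction.exists_smul_eq G α w₁
        have hgS : g ∈ MulAction.stabilizer G Δ := by rw [h]; exact Subgroup.mem_top g
        have h2 := (MulAction.mem_stabilizer_set_iff_smul_set_subset hΔfin).mp hgS
        obtain ⟨k, hk, hkw⟩ : g • α ∈ Δ := h2 ⟨α, ⟨1, K.one_mem, one_smul _ _⟩, rfl⟩
        exact hw₁ k hk (hkw.trans hg)
      · exact h
    have hxΔ : x ∈ Δ := ⟨k₀, hk₀K, rfl⟩
    have hyΔ : y ∈ Δ := ⟨l₀, hLK hl₀L, rfl⟩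
    have hw₀Δ : w₀ ∈ Δ := ⟨k₀ * l₀, K.mul_mem hk₀K (hLK hl₀L), mul_smul _ _ _⟩
    have hg₁K : g₁ ∈ K := by
      rw [← hSK, MulAction.mem_stabilizer_set_iff_smul_set_subset hΔfin]
      rintro _ ⟨w, hw, rfl⟩
      change g₁ • w ∈ Δ
      by_cases h1 : w = y
      · rw [h1, hg₁y]; exact hxΔ
      by_cases h2 : w = w₀
      · rw [h2, hg₁w₀]; exact hyΔ
      by_cases h3 : w = x
      · rw [h3, hg₁x]; exact hw₀Δ
      rw [hg₁fix w h1 h2 h3]; exact hw
    have hg₁L : g₁ ∈ L := hblock g₁ hg₁K α hαB (hg₁α.symm ▸ hαB)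
    have := hLB g₁ hg₁L y hyB
    rw [hg₁y] at this
    exact hxB this

end Cfsg.Agent.S5885
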