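import Cfsg.Statements.S5890
import Cfsg.Agent.Lib.Helper50_PgMain
import Cfsg.Agent.Lib.Helper50_PgConj
import Cfsg.Agent.Lib.Helper50_PgBasic
import Cfsg.Agent.Lib.Helper50_PgAbel

set_option autoImplicit false
open Cfsg

namespace Cfsg.Agent.S5890

open Cfsg.Agent.Lib.Helper50_PgBasic Cfsg.Agent.Lib.Helper50_PgConj

/-- the preimage of a maximal subgroup under a surjective homomorphism is maximal -/
theorem isCoatom_comap_of_surjective {G G' : Type*} [Group G] [Group G'] (φ : G →* G')
    (hφ : Function.Surjective φ) (M : Subgroup G') (hM : IsCoatom M) : IsCoatom (M.comap φ) := by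
  constructor
  · intro h
    apply hM.1
    rw [← Subgroup.map_comap_eq_self_of_surjective hφ M, h,
      Subgroup.map_top_of_surjective φ hφ]
  · intro T hT
    have hker : φ.ker ≤ T := le_trans (Subgroup.ker_le_comap φ M) hT.le
    have h1 : M ≤ T.map φ := by
      rw [← Subgroup.map_comap_eq_self_of_surjective hφ M]
      exact Subgroup.map_mono hT.le
    have h2 : T.map φ ≠ M := by
      intro h
      have : T ≤ M.comap φ := by
        rw [← h]
        exact Subgroup.le_comap_map φ T
      exact absurd hT (not_lt_of_ge this)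
    have h3 := hM.2 _ (lt_of_le_of_ne h1 h2.symm)
    have h4 : (T.map φ).comap φ = T := by
      rw [Subgroup.comap_map_eq, sup_of_le_left hker]
    rw [← h4, h3, Subgroup.comap_top]

/-- in characteristic two `SL(2,F) → PGL(2,F)` is surjective -/
theorem jj_surjective_of_two {F : Type*} [Field F] [Fintype F] (h2 : (2 : F) = 0) :
    Function.Surjective (jj (F := F)) := by
  have : CharP F 2 := CharTwo.of_one_ne_zero_of_two_eq_zero one_ne_zero h2
  have hchar : ringChar F = 2 := ringChar.eq F 2
  intro x
  obtain ⟨g, rfl⟩ := Matrix.ProjGenLinGroup.mk_surjective x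
  obtain ⟨s, hs⟩ := FiniteField.isSquare_of_char_two hchar (g : Matrix (Fin 2) (Fin 2) F).det
  exact mk_mem_LL_of_det g s hs

/-- Let F be a finite field with q ≥ 4 elements, let L ≤ PGL₂(F) be the image of SL₂(F) (a copy of PSL₂(F), of index gcd(2, q − 1)), and let M be a maximal subgroup of PGL₂(F) that does not contain L. Suppose q ∉ {7, 9, 11} and that q is not a prime congruent to ±11 or ±19 modulo 40. Then M ∩ L is a maximal subgroup of L. (For the excluded q there are maximal subgroups of PGL₂(q) — dihedral groups of order 12 and 16 at q = 7, of order 20 and 16 at q = 9, of order 20 at q = 11, and S₄ at the excluded primes — whose intersection with L is not maximal in L.) -/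
theorem result {F : Type*} [Field F]
    [Fintype F] (h4 : 4 ≤ Fintype.card F) (h7 : Fintype.card F ≠ 7) (h9 : Fintype.card F ≠ 9) (h11 : Fintype.card F ≠ 11)
    (h40 : (Fintype.card F).Prime → Fintype.card F % 40 ∉ ({11, 19, 21, 29} : Finset ℕ))
    (M : Subgroup (Matrix.ProjGenLinGroup (Fin 2) F)) (hM : IsCoatom M)
    (hML : ¬ (Matrix.ProjGenLinGroup.mk.comp Matrix.SpecialLinearGroup.toGL).range ≤ M) :
    IsCoatom ((M ⊓ (Matrix.ProjGenLinGroup.mk.comp Matrix.SpecialLinearGroup.toGL).range).subgroupOf
      (Matrix.ProjGenLinGroup.mk.comp Matrix.SpecialLinearGroup.toGL).range) := by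
  apply isCoatom_of_comap M
  by_cases h2 : (2 : F) = 0
  · exact isCoatom_comap_of_surjective _ (jj_surjective_of_two h2) M hM
  · have hq2 := Cfsg.Agent.Lib.Helper50_PgAbel.odd_card_of_two_ne_zero (F := F) h2
    have hodd : Odd (Fintype.card F) := Nat.odd_iff.2 hq2
    have h5 : 5 ≤ Fintype.card F := by omega
    rcases Cfsg.Agent.Lib.Helper50_PgMain.pgl_main hodd h5 M hM hML with
      ⟨-, h⟩ | ⟨-, -, h⟩ | ⟨-, h⟩ | ⟨hp, h8, -, h⟩ | ⟨F₀, i1, i2, r, -, -, -, -, h⟩
    · exact h
    · exact h h7 h9 h11
    · exact h h7 h9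
    · have := h40 hp
      simp only [Finset.mem_insert, Finset.mem_singleton, not_or] at this
      exact h (by omega) (by omega)
    · exact h

end Cfsg.Agent.S5890
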