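import Cfsg.Statements.S5893
import Cfsg.Agent.Lib.Helper99_SL2EvenSub2

set_option autoImplicit false
open Cfsg

namespace Cfsg.Agent.S5893

open Cfsg.Agent.Lib.Helper99_SL2EvenSub Cfsg.Agent.Lib.Helper99_SL2Even
  Cfsg.Agent.Lib.Helper21_BSW

/-- The classification for maximal subgroups of `SL(2,F)`. -/
theorem main_sl {F : Type*} [Field F] [Fintype F] [CharP F 2] (h4 : 4 ≤ Fintype.card F)
    (M : Subgroup (Matrix.SpecialLinearGroup (Fin 2) F)) (hM : IsCoatom M) :
    Nat.card M = Fintype.card F * (Fintype.card F - 1) ∨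
    Nonempty (M ≃* DihedralGroup (Fintype.card F - 1)) ∨
    Nonempty (M ≃* DihedralGroup (Fintype.card F + 1)) ∨
    (∃ (F₀ : Type) (_ : Field F₀) (_ : Fintype F₀) (r : ℕ), r.Prime ∧ Fintype.card F₀ ≠ 2 ∧
        Fintype.card F = Fintype.card F₀ ^ r ∧
        Nonempty (M ≃* Matrix.SpecialLinearGroup (Fin 2) F₀)) := by
  classical
  haveI : Fact (Nat.Prime 2) := ⟨Nat.prime_two⟩
  have hC : CIT ↥M := cit_subgroup M
  let P : Sylow 2 ↥M := default
  have hnodd := not_odd_of_isCoatom h4 M hM
  have hPbot : (P : Subgroup ↥M) ≠ ⊥ := by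
    apply Sylow.ne_bot_of_dvd_card
    rw [Nat.not_odd_iff_even] at hnodd
    exact hnodd.two_dvd
  obtain ⟨t, htP, ht1⟩ : ∃ t ∈ (P : Subgroup ↥M), t ≠ 1 := by
    by_contra h
    push Not at h
    exact hPbot ((Subgroup.eq_bot_iff_forall _).2 h)
  have htt : t * t = 1 := by
    have := sq_eq_one_of_mem hC P htP
    rwa [pow_two] at this
  by_cases hPn : (P : Subgroup ↥M).Normal
  · -- Borel case
    left
    apply card_of_normal_two M hM (t : Matrix.SpecialLinearGroup (Fin 2) F)
      (fun h => ht1 (Subtype.ext h)) (congrArg Subtype.val htt)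
    intro k hk
    have hkt : (⟨k, hk⟩ : ↥M) * t * (⟨k, hk⟩ : ↥M)⁻¹ ∈ (P : Subgroup ↥M) :=
      hPn.conj_mem t htP ⟨k, hk⟩
    exact congrArg Subtype.val (commute_of_mem hC P hkt htP)
  · by_cases h2 : Nat.card (P : Subgroup ↥M) = 2
    · -- dihedral case
      right
      have hall : ∀ y ∈ (P : Subgroup ↥M), y = 1 ∨ y = t := by
        intro y hy
        obtain ⟨w, -, hw⟩ := (Nat.card_eq_two_iff' (1 : (P : Subgroup ↥M))).1 h2
        by_cases hy1 : y = 1
        · exact Or.inl hy1
        · right
          have e1 : (⟨y, hy⟩ : (P : Subgroup ↥M)) = w :=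
            hw _ (fun h => hy1 (congrArg Subtype.val h))
          have e2 : (⟨t, htP⟩ : (P : Subgroup ↥M)) = w :=
            hw _ (fun h => ht1 (congrArg Subtype.val h))
          exact congrArg Subtype.val (e1.trans e2.symm)
      have hNC : Subgroup.normalizer ((P : Subgroup ↥M) : Set ↥M) ≤
          Subgroup.centralizer ((P : Subgroup ↥M) : Set ↥M) := by
        intro n hn
        rw [Subgroup.mem_centralizer_iff]
        intro y hy
        rcases hall y hy with rfl | rfl
        · rw [one_mul, mul_one]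
        · have h3 : n * y * n⁻¹ ∈ (P : Subgroup ↥M) := (Subgroup.mem_normalizer_iff.1 hn y).1 htP
          rcases hall _ h3 with h4 | h4
          · exfalso
            apply ht1
            calc y = n⁻¹ * (n * y * n⁻¹) * n := by group
              _ = 1 := by rw [h4]; group
          · calc y * n = (n * y * n⁻¹) * n := by rw [h4]
              _ = n * y := by group
      set K₀ := (MonoidHom.transferSylow P hNC).ker with hK₀
      have hcompl : K₀.IsComplement' (P : Subgroup ↥M) :=
        MonoidHom.ker_transferSylow_isComplement' P hNC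
      have hodd₀ : ¬ 2 ∣ Nat.card K₀ := MonoidHom.not_dvd_card_ker_transferSylow P hNC
      have hK₀n : K₀.Normal := MonoidHom.normal_ker _
      set K := K₀.map M.subtype with hK
      have hKcard : Nat.card K = Nat.card K₀ :=
        (Nat.card_congr (K₀.equivMapOfInjective M.subtype M.subtype_injective).toEquiv).symm
      have hKodd : Odd (Nat.card K) := by
        rw [hKcard, ← Nat.not_even_iff_odd, even_iff_two_dvd]
        exact hodd₀
      have hK1 : K ≠ ⊥ := by
        intro h
        have hK₀bot : K₀ = ⊥ := (Subgroup.map_eq_bot_iff_of_injective K₀ M.subtype_injective).1 h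
        have hc := hcompl.card_mul_card
        rw [hK₀bot, Subgroup.card_bot, one_mul] at hc
        have hPtop : (P : Subgroup ↥M) = ⊤ := Subgroup.eq_top_of_card_eq _ hc
        apply hPn
        rw [hPtop]
        infer_instance
      have hnorm : ∀ k ∈ M, ∀ y ∈ K, k * y * k⁻¹ ∈ K := by
        rintro k hk _ ⟨y₀, hy₀, rfl⟩
        refine ⟨(⟨k, hk⟩ : ↥M) * y₀ * (⟨k, hk⟩ : ↥M)⁻¹, hK₀n.conj_mem y₀ hy₀ ⟨k, hk⟩, ?_⟩
        simp only [map_mul, map_inv, Subgroup.coe_subtype]
      rcases dihedral_of_normal_odd h4 M hM K hK1 hKodd hnorm with h | h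
      · exact Or.inl h
      · exact Or.inr (Or.inl h)
    · -- subfield case
      right; right; right
      have hnc : ¬ IsCyclic (P : Subgroup ↥M) := by
        intro hcyc
        obtain ⟨g, hg⟩ := hcyc.exists_generator
        have hord : orderOf g = Nat.card (P : Subgroup ↥M) :=
          orderOf_eq_card_of_forall_mem_zpowers hg
        have hg2 : g ^ 2 = 1 := Subtype.ext (sq_eq_one_of_mem hC P g.2)
        have hd : Nat.card (P : Subgroup ↥M) ∣ 2 := hord ▸ orderOf_dvd_of_pow_eq_one hg2
        rcases (Nat.dvd_prime Nat.prime_two).1 hd with h | h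
        · exact hPbot (Subgroup.card_eq_one.1 h)
        · exact h2 h
      exact subfield_of_noncyclic_sylow M hM P hnc hPn

/-- Let F be a finite field of even order q ≥ 4 and let M be a maximal subgroup of PSL₂(F) (= SL₂(F) = PGL₂(F)). Then one of the following holds: |M| = q(q − 1) (the stabiliser of a point of the projective line, elementary abelian of order q extended by a cyclic group of order q − 1); M is dihedral of order 2(q − 1); M is dihedral of order 2(q + 1); or q = q₀^r for a prime r with q₀ ≠ 2 and M ≅ PSL₂(F₀) with |F₀| = q₀. -/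
theorem result {F : Type*} [Field F] [Fintype F]
    (heven : Even (Fintype.card F)) (h4 : 4 ≤ Fintype.card F) (M : Subgroup (Matrix.ProjectiveSpecialLinearGroup (Fin 2) F)) (hM : IsCoatom M) :
    Nat.card M = Fintype.card F * (Fintype.card F - 1) ∨
    Nonempty (M ≃* DihedralGroup (Fintype.card F - 1)) ∨
    Nonempty (M ≃* DihedralGroup (Fintype.card F + 1)) ∨
    (∃ (F₀ : Type) (_ : Field F₀) (_ : Fintype F₀) (r : ℕ), r.Prime ∧ Fintype.card F₀ ≠ 2 ∧
        Fintype.card F = Fintype.card F₀ ^ r ∧ Nonempty (M ≃* Matrix.ProjectiveSpecialLinearGroup (Fin 2) F₀)) := by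
  classical
  have hF2 : ringChar F = 2 :=
    FiniteField.even_card_iff_char_two.2 (Nat.even_iff.1 heven)
  haveI : CharP F 2 := ringChar.of_eq hF2
  let eF := Cfsg.Agent.Lib.Helper61_SL2.pslEquivSl (F := F)
  set M' := MulEquiv.mapSubgroup eF M with hM'
  have hM'co : IsCoatom M' := (OrderIso.isCoatom_iff (MulEquiv.mapSubgroup eF) M).2 hM
  have em : ↥M ≃* ↥M' := eF.subgroupMap M
  rcases main_sl h4 M' hM'co with h | ⟨⟨e⟩⟩ | ⟨⟨e⟩⟩ | ⟨F₀, hF₀, hFin, r, hr, hne2, hq, ⟨e⟩⟩
  · left
    rw [Nat.card_congr em.toEquiv]; exact h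
  · right; left
    exact ⟨em.trans e⟩
  · right; right; left
    exact ⟨em.trans e⟩
  · right; right; right
    refine ⟨F₀, hF₀, hFin, r, hr, hne2, hq, ?_⟩
    have hF₀2 : ringChar F₀ = 2 := by
      apply FiniteField.even_card_iff_char_two.2
      have hqe : Even (Fintype.card F₀ ^ r) := hq ▸ heven
      exact Nat.even_iff.1 (Nat.even_pow.1 hqe).1
    haveI : CharP F₀ 2 := ringChar.of_eq hF₀2
    exact ⟨(em.trans e).trans (Cfsg.Agent.Lib.Helper61_SL2.pslEquivSl (F := F₀)).symm⟩

end Cfsg.Agent.S5893
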