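import Cfsg.Statements.S5894
-- import your own Cfsg.Agent.* helpers here
import Cfsg.Agent.Lib.Helper98_Perm

set_option autoImplicit false
open Cfsg

namespace Cfsg.Agent.S5894

open Cfsg.Agent.Lib.Helper98_Perm
open scoped Pointwise

theorem general {Ω : Type*} [Fintype Ω] [DecidableEq Ω] (x : Ω) (O : Set Ω) (hx : x ∉ O)
    (hO : Nat.card O = Nat.card ↥Oᶜ) (hΩ : 2 < Fintype.card Ω) :
    ∃ M H K : Subgroup (Equiv.Perm Ω), IsCoatom M ∧ M.index = Fintype.card Ω ∧ H ≤ M ∧
      IsCoatom (H.subgroupOf M) ∧ IsCoatom K ∧ H ≤ K ∧ ¬ IsCoatom (H.subgroupOf K) := by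
  classical
  have hcard : Nat.card O + Nat.card ↥Oᶜ = Fintype.card Ω := by
    rw [Nat.card_coe_set_eq, Nat.card_coe_set_eq, Set.ncard_add_ncard_compl, Nat.card_eq_fintype_card]
  have hO2 : 1 < Nat.card O := by omega
  rw [Nat.card_coe_set_eq, Set.one_lt_ncard_iff] at hO2
  obtain ⟨a, a', ha, ha', haa'⟩ := hO2
  have hOc2 : 1 < Nat.card ↥Oᶜ := by omega
  rw [Nat.card_coe_set_eq, Set.one_lt_ncard_iff] at hOc2
  obtain ⟨b, b', hb, hb', hbb'⟩ := hOc2
  -- a point of the complement other than x
  obtain ⟨c, hcO, hcx⟩ : ∃ c, c ∉ O ∧ c ≠ x := by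
    by_cases h : b = x
    · exact ⟨b', hb', fun h' => hbb' (h.trans h'.symm)⟩
    · exact ⟨b, hb, h⟩
  have : Nontrivial Ω := ⟨a, a', haa'⟩
  obtain ⟨σ, hσ⟩ := exists_perm_smul_eq_compl O hO
  obtain ⟨K, hK, hle⟩ := (eq_top_or_exists_le_coatom (pairStab O)).resolve_left
    (pairStab_ne_top O ha ha' haa' hb)
  refine ⟨MulAction.stabilizer (Equiv.Perm Ω) x,
    MulAction.stabilizer (Equiv.Perm Ω) x ⊓ MulAction.stabilizer (Equiv.Perm Ω) O, K,
    isCoatom_stabilizer_point x, ?_, inf_le_left, ?_, hK,
    inf_le_right.trans ((stabilizer_le_pairStab O).trans hle), ?_⟩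
  · rw [index_stabilizer_point, Nat.card_eq_fintype_card]
  · apply isCoatom_stabilizer_inf_subgroupOf x O hx ⟨a, ha⟩ ⟨c, hcx, hcO⟩
    rw [Nat.card_eq_fintype_card, ← hcard, ← hO, Nat.card_coe_set_eq]
    omega
  · intro hco
    rw [isCoatom_subgroupOf_iff (inf_le_right.trans ((stabilizer_le_pairStab O).trans hle))] at hco
    rcases hco.2 (MulAction.stabilizer (Equiv.Perm Ω) O) inf_le_right
      ((stabilizer_le_pairStab O).trans hle) with h | h
    · -- swap x c stabilizes O but moves x
      have hsw : Equiv.swap x c ∈ MulAction.stabilizer (Equiv.Perm Ω) O := by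
        rw [MulAction.mem_stabilizer_set]
        intro y
        rw [Equiv.Perm.smul_def]
        by_cases hyx : y = x
        · subst hyx
          rw [Equiv.swap_apply_left]
          exact ⟨fun h => absurd h hcO, fun h => absurd h hx⟩
        by_cases hyc : y = c
        · subst hyc
          rw [Equiv.swap_apply_right]
          exact ⟨fun h => absurd h hx, fun h => absurd h hcO⟩
        rw [Equiv.swap_apply_of_ne_of_ne hyx hyc]
      rw [h] at hsw
      have : Equiv.swap x c ∈ MulAction.stabilizer (Equiv.Perm Ω) x := hsw.1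
      rw [MulAction.mem_stabilizer_iff, Equiv.Perm.smul_def, Equiv.swap_apply_left] at this
      exact hcx this
    · have hσK : σ ∈ K := hle (Or.inr hσ)
      rw [← h, MulAction.mem_stabilizer_iff, hσ] at hσK
      have : a ∈ Oᶜ := by rw [hσK]; exact ha
      exact this ha

/-- For every m ≥ 2 the symmetric group on 2m letters has a maximal subgroup M of index 2m together with a maximal subgroup H of M that is not second maximal: some maximal subgroup K of the symmetric group contains H without H being maximal in K. (One may take M the stabiliser of a letter, H ≅ S_m × S_{m−1} inside it, and K ≅ S_m ≀ S₂ the stabiliser of a partition into two m-sets, with H < S_m × S_m < K.) So the prime-index hypothesis in the second-maximality criterion cannot be relaxed to any even index ≥ 4. -/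
theorem result (m : ℕ) (hm : 2 ≤ m) :
    ∃ M H K : Subgroup (Equiv.Perm (Fin (2 * m))), IsCoatom M ∧ M.index = 2 * m ∧ H ≤ M ∧ IsCoatom (H.subgroupOf M) ∧
      IsCoatom K ∧ H ≤ K ∧ ¬ IsCoatom (H.subgroupOf K) := by
  have hpos : 0 < 2 * m := by omega
  let x : Fin (2 * m) := ⟨2 * m - 1, by omega⟩
  let O : Set (Fin (2 * m)) := {i | i.val < m}
  have hx : x ∉ O := by
    simp only [O, x, Set.mem_ofPred_eq]
    omega
  have hOcard : Nat.card O = m := by
    rw [Nat.card_coe_set_eq, Set.ncard_eq_toFinset_card']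
    simp only [O, Set.toFinset_ofPred]
    rw [Fin.card_filter_val_lt]
    omega
  have hO : Nat.card O = Nat.card ↥Oᶜ := by
    have h := Set.ncard_add_ncard_compl O
    rw [Nat.card_eq_fintype_card, Fintype.card_fin] at h
    rw [Nat.card_coe_set_eq] at hOcard ⊢
    rw [Nat.card_coe_set_eq]
    omega
  obtain ⟨M, H, K, h1, h2, h3⟩ := general x O hx hO (by rw [Fintype.card_fin]; omega)
  refine ⟨M, H, K, h1, ?_, h3⟩
  rw [h2, Fintype.card_fin]

end Cfsg.Agent.S5894
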