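import Cfsg.Statements.S5895
-- import your own Cfsg.Agent.* helpers here
import Cfsg.Agent.Lib.Helper98_MaxIn
import Cfsg.Agent.Lib.Helper43_Transvection

set_option autoImplicit false
open Cfsg

namespace Cfsg.Agent.S5895

open Cfsg.Agent.Lib.Helper98_Perm Cfsg.Agent.Lib.Helper98_MaxIn
open MulAction

section affine

variable {F : Type*} [Field F] {V : Type*} [AddCommGroup V] [Module F V]

/-- the action of the linear group on the (multiplicative copy of the) vector space -/
def phi (F : Type*) [Field F] (V : Type*) [AddCommGroup V] [Module F V] :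
    (V ≃ₗ[F] V) →* MulAut (Multiplicative V) where
  toFun g := AddEquiv.toMultiplicative g.toAddEquiv
  map_one' := by ext; rfl
  map_mul' g h := by ext; rfl

theorem phi_apply (g : V ≃ₗ[F] V) (v : V) :
    phi F V g (Multiplicative.ofAdd v) = Multiplicative.ofAdd (g v) := rfl

/-- the affine group -/
abbrev Aff (F : Type*) [Field F] (V : Type*) [AddCommGroup V] [Module F V] : Type _ :=
  Multiplicative V ⋊[phi F V] (V ≃ₗ[F] V)

/-- the translation by `v` -/
abbrev tr (v : V) : Aff F V := SemidirectProduct.inl (Multiplicative.ofAdd v)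

/-- the linear part embedded -/
abbrev li (g : V ≃ₗ[F] V) : Aff F V := SemidirectProduct.inr g

theorem li_mul_tr_mul_li_inv (g : V ≃ₗ[F] V) (v : V) :
    li g * tr v * li g⁻¹ = (tr (g v) : Aff F V) := by
  rw [← SemidirectProduct.inl_aut]
  rfl

/-- the linear complement is a maximal subgroup of the affine group -/
theorem isCoatom_range_li [FiniteDimensional F V] {w₀ : V} (hw₀ : w₀ ≠ 0) :
    IsCoatom (SemidirectProduct.inr : (V ≃ₗ[F] V) →* Aff F V).range := by
  constructor
  · intro htop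
    have : (tr w₀ : Aff F V) ∈ (SemidirectProduct.inr : (V ≃ₗ[F] V) →* Aff F V).range := by
      rw [htop]; trivial
    obtain ⟨g, hg⟩ := this
    have := congrArg SemidirectProduct.left hg
    simp only [SemidirectProduct.left_inr, SemidirectProduct.left_inl] at this
    exact hw₀ (Multiplicative.ofAdd.injective this.symm)
  · intro Y hlt
    obtain ⟨y, hyY, hyM⟩ := SetLike.exists_of_lt hlt
    have hli : ∀ g : V ≃ₗ[F] V, (li g : Aff F V) ∈ Y := fun g => hlt.le ⟨g, rfl⟩
    -- the translation part of y is in Y and nontrivial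
    have hy : (SemidirectProduct.inl y.left : Aff F V) ∈ Y := by
      have h1 := SemidirectProduct.inl_left_mul_inr_right y
      have h2 : (SemidirectProduct.inl y.left : Aff F V) = y * (li y.right)⁻¹ := by
        rw [eq_mul_inv_iff_mul_eq]; exact h1
      rw [h2]
      exact Y.mul_mem hyY (Y.inv_mem (hli _))
    have hyne : Multiplicative.toAdd y.left ≠ 0 := by
      intro h0
      apply hyM
      refine ⟨y.right, ?_⟩
      have h1 := SemidirectProduct.inl_left_mul_inr_right y
      have : y.left = 1 := by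
        rw [← ofAdd_toAdd y.left, h0]; rfl
      rw [this, map_one, one_mul] at h1
      exact h1
    have htr : ∀ v : V, (tr v : Aff F V) ∈ Y := by
      intro v
      by_cases hv : v = 0
      · rw [hv]
        have : (tr (0 : V) : Aff F V) = 1 := by
          show SemidirectProduct.inl (Multiplicative.ofAdd (0 : V)) = 1
          rw [ofAdd_zero, map_one]
        rw [this]; exact Y.one_mem
      · obtain ⟨g, hg⟩ := Cfsg.Agent.Lib.Helper43_Transvection.exists_equiv_apply_eq (F := F) hyne hv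
        rw [← hg, ← li_mul_tr_mul_li_inv]
        have hinv : (li g⁻¹ : Aff F V) = (li g)⁻¹ := map_inv _ _
        rw [hinv]
        exact Y.mul_mem (Y.mul_mem (hli g) hy) (Y.inv_mem (hli g))
    rw [eq_top_iff]
    intro x _
    rw [← SemidirectProduct.inl_left_mul_inr_right x]
    exact Y.mul_mem (htr (Multiplicative.toAdd x.left)) (hli _)


/-- the stabiliser of the line through `w₀` in the linear group -/
def H0 (F : Type*) [Field F] {V : Type*} [AddCommGroup V] [Module F V] (w₀ : V) :
    Subgroup (V ≃ₗ[F] V) where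
  carrier := {g | g w₀ ∈ Submodule.span F {w₀} ∧ g⁻¹ w₀ ∈ Submodule.span F {w₀}}
  one_mem' := ⟨Submodule.mem_span_singleton_self _, by
    rw [inv_one]; exact Submodule.mem_span_singleton_self _⟩
  mul_mem' := by
    rintro g h ⟨hg, hg'⟩ ⟨hh, hh'⟩
    rw [Submodule.mem_span_singleton] at hg hg' hh hh'
    obtain ⟨a, ha⟩ := hg
    obtain ⟨a', ha'⟩ := hg'
    obtain ⟨b, hb⟩ := hh
    obtain ⟨b', hb'⟩ := hh'
    constructor
    · show g (h w₀) ∈ _
      rw [← hb, map_smul, ← ha, smul_smul]
      exact Submodule.smul_mem _ _ (Submodule.mem_span_singleton_self _)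
    · rw [mul_inv_rev]
      show h⁻¹ (g⁻¹ w₀) ∈ _
      rw [← ha', map_smul, ← hb', smul_smul]
      exact Submodule.smul_mem _ _ (Submodule.mem_span_singleton_self _)
  inv_mem' := by
    rintro g ⟨hg, hg'⟩
    exact ⟨hg', by rw [inv_inv]; exact hg⟩

theorem mem_H0 (w₀ : V) (g : V ≃ₗ[F] V) :
    g ∈ H0 F w₀ ↔ g w₀ ∈ Submodule.span F {w₀} ∧ g⁻¹ w₀ ∈ Submodule.span F {w₀} := Iff.rfl

theorem apply_mem_span_of_mem_H0 {w₀ : V} {g : V ≃ₗ[F] V} (hg : g ∈ H0 F w₀) {v : V}
    (hv : v ∈ Submodule.span F {w₀}) : g v ∈ Submodule.span F {w₀} := by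
  rw [Submodule.mem_span_singleton] at hv
  obtain ⟨c, rfl⟩ := hv
  rw [map_smul]
  exact Submodule.smul_mem _ _ hg.1

theorem H0_eq_stabilizer {w₀ : V} (hw₀ : w₀ ≠ 0) :
    H0 F w₀ = stabilizer (V ≃ₗ[F] V) (Projectivization.mk F w₀ hw₀) := by
  ext g
  rw [mem_stabilizer_iff, Projectivization.smul_mk, Projectivization.mk_eq_mk_iff, mem_H0]
  constructor
  · rintro ⟨h1, h2⟩
    rw [Submodule.mem_span_singleton] at h1
    obtain ⟨a, ha⟩ := h1
    have ha0 : a ≠ 0 := by
      rintro rfl
      rw [zero_smul] at ha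
      exact hw₀ (g.map_eq_zero_iff.mp ha.symm)
    exact ⟨Units.mk0 a ha0, ha⟩
  · rintro ⟨a, ha⟩
    have ha' : g w₀ = (a : F) • w₀ := ha.symm
    constructor
    · rw [Submodule.mem_span_singleton]; exact ⟨a, ha⟩
    · rw [Submodule.mem_span_singleton]
      refine ⟨((a⁻¹ : Fˣ) : F), ?_⟩
      have : g⁻¹ (g w₀) = w₀ := g.symm_apply_apply w₀
      rw [ha', map_smul] at this
      conv_lhs => rw [← this]
      rw [smul_smul]
      simp

/-- the intermediate subgroup `W ⋊ H₀` -/
def X (F : Type*) [Field F] {V : Type*} [AddCommGroup V] [Module F V] (w₀ : V) :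
    Subgroup (Aff F V) where
  carrier := {x | Multiplicative.toAdd x.left ∈ Submodule.span F {w₀} ∧ x.right ∈ H0 F w₀}
  one_mem' := ⟨Submodule.zero_mem _, (H0 F w₀).one_mem⟩
  mul_mem' := by
    rintro x y ⟨hx, hx'⟩ ⟨hy, hy'⟩
    refine ⟨?_, (H0 F w₀).mul_mem hx' hy'⟩
    rw [SemidirectProduct.mul_left]
    show Multiplicative.toAdd x.left + x.right (Multiplicative.toAdd y.left) ∈ _
    exact Submodule.add_mem _ hx (apply_mem_span_of_mem_H0 hx' hy)
  inv_mem' := by
    rintro x ⟨hx, hx'⟩
    refine ⟨?_, (H0 F w₀).inv_mem hx'⟩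
    rw [SemidirectProduct.inv_left]
    show x.right⁻¹ (-(Multiplicative.toAdd x.left)) ∈ _
    exact apply_mem_span_of_mem_H0 ((H0 F w₀).inv_mem hx') (Submodule.neg_mem _ hx)

theorem mem_X (w₀ : V) (x : Aff F V) :
    x ∈ X F w₀ ↔ Multiplicative.toAdd x.left ∈ Submodule.span F {w₀} ∧ x.right ∈ H0 F w₀ :=
  Iff.rfl

end affine


open scoped LinearAlgebra.Projectivization in
theorem isCoatom_H0 {F : Type*} [Field F] {V : Type*} [AddCommGroup V] [Module F V]
    (w₀ u : V) (hw₀ : w₀ ≠ 0) (hu : u ∉ Submodule.span F {w₀}) : IsCoatom (H0 F w₀) := by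
  rw [H0_eq_stabilizer hw₀]
  have hu0 : u ≠ 0 := by
    rintro rfl
    exact hu (Submodule.zero_mem _)
  have : Nontrivial (ℙ F V) := by
    refine ⟨⟨Projectivization.mk F w₀ hw₀, Projectivization.mk F u hu0, ?_⟩⟩
    rw [Ne, Projectivization.mk_eq_mk_iff]
    rintro ⟨a, ha⟩
    apply hu
    rw [Submodule.mem_span_singleton]
    refine ⟨((a⁻¹ : Fˣ) : F), ?_⟩
    rw [← ha, Units.smul_def, smul_smul]
    simp
  have : IsPreprimitive (V ≃ₗ[F] V) (ℙ F V) :=
    isPreprimitive_of_is_two_pretransitive inferInstance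
  exact IsPreprimitive.isCoatom_stabilizer_of_isPreprimitive (G := V ≃ₗ[F] V)
    (Projectivization.mk F w₀ hw₀)

theorem main {F : Type} [Field F] {V : Type} [AddCommGroup V] [Module F V] [Finite V]
    [FiniteDimensional F V] (w₀ u : V) (hw₀ : w₀ ≠ 0) (hu : u ∉ Submodule.span F {w₀}) :
    ∃ (G : Type) (_ : Group G) (_ : Finite G) (M H K : Subgroup G), IsCoatom M ∧
      M.index = Nat.card V ∧ H ≤ M ∧
      IsCoatom (H.subgroupOf M) ∧ IsCoatom K ∧ H ≤ K ∧ ¬ IsCoatom (H.subgroupOf K) := by
  have : Finite (V ≃ₗ[F] V) := Finite.of_injective (fun g => (g : V → V)) DFunLike.coe_injective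
  have : Finite (Aff F V) := Finite.of_equiv _ SemidirectProduct.equivProd.symm
  have hH0 : IsCoatom (H0 F w₀) := isCoatom_H0 w₀ u hw₀ hu
  have hinr : (SemidirectProduct.inr : (V ≃ₗ[F] V) →* Aff F V).ker = ⊥ :=
    (MonoidHom.ker_eq_bot_iff _).mpr SemidirectProduct.inr_injective
  have hHK : (H0 F w₀).map (SemidirectProduct.inr : (V ≃ₗ[F] V) →* Aff F V) ≤
      (H0 F w₀).comap (SemidirectProduct.rightHom : Aff F V →* (V ≃ₗ[F] V)) := by
    rintro _ ⟨g, hg, rfl⟩
    rw [Subgroup.mem_comap, SemidirectProduct.rightHom_inr]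
    exact hg
  refine ⟨Aff F V, inferInstance, inferInstance,
    (SemidirectProduct.inr : (V ≃ₗ[F] V) →* Aff F V).range,
    (H0 F w₀).map SemidirectProduct.inr,
    (H0 F w₀).comap SemidirectProduct.rightHom,
    isCoatom_range_li hw₀, ?_, Subgroup.map_le_range _ _, ?_, ?_, hHK, ?_⟩
  · -- index
    have h1 := Subgroup.index_mul_card (SemidirectProduct.inr : (V ≃ₗ[F] V) →* Aff F V).range
    have h2 : Nat.card (SemidirectProduct.inr : (V ≃ₗ[F] V) →* Aff F V).range =
        Nat.card (V ≃ₗ[F] V) :=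
      (Nat.card_congr (MonoidHom.ofInjective SemidirectProduct.inr_injective).toEquiv).symm
    have h3 : Nat.card (Aff F V) = Nat.card V * Nat.card (V ≃ₗ[F] V) := by
      rw [SemidirectProduct.card]
      rfl
    rw [h2, h3] at h1
    exact Nat.eq_of_mul_eq_mul_right Nat.card_pos h1
  · -- H maximal in M
    rw [isCoatom_subgroupOf_iff_maxIn (Subgroup.map_le_range _ _), MonoidHom.range_eq_map,
      maxIn_map_iff _ (by rw [hinr]; exact bot_le) le_top, ← isCoatom_iff_maxIn_top]
    exact hH0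
  · -- K maximal
    rw [isCoatom_iff_maxIn_top]
    have hsurj : Function.Surjective (SemidirectProduct.rightHom : Aff F V →* (V ≃ₗ[F] V)) :=
      SemidirectProduct.rightHom_surjective
    have hker : (SemidirectProduct.rightHom : Aff F V →* (V ≃ₗ[F] V)).ker ≤
        (H0 F w₀).comap SemidirectProduct.rightHom := by
      intro x hx
      rw [Subgroup.mem_comap, MonoidHom.mem_ker.mp hx]
      exact (H0 F w₀).one_mem
    rw [← maxIn_map_iff SemidirectProduct.rightHom hker le_top,
      Subgroup.map_comap_eq_self_of_surjective hsurj, Subgroup.map_top_of_surjective _ hsurj,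
      ← isCoatom_iff_maxIn_top]
    exact hH0
  · -- H not maximal in K
    rw [isCoatom_subgroupOf_iff_maxIn hHK]
    rintro ⟨-, hmax⟩
    have hHX : (H0 F w₀).map (SemidirectProduct.inr : (V ≃ₗ[F] V) →* Aff F V) ≤ X F w₀ := by
      rintro _ ⟨g, hg, rfl⟩
      rw [mem_X, SemidirectProduct.left_inr, SemidirectProduct.right_inr]
      exact ⟨Submodule.zero_mem _, hg⟩
    have hXK : X F w₀ ≤ (H0 F w₀).comap SemidirectProduct.rightHom := by
      intro x hx
      exact hx.2
    rcases hmax _ hHX hXK with h | h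
    · -- tr w₀ ∈ X but not in H
      have h1 : (tr w₀ : Aff F V) ∈ X F w₀ := by
        rw [mem_X, SemidirectProduct.left_inl, SemidirectProduct.right_inl]
        exact ⟨Submodule.mem_span_singleton_self _, (H0 F w₀).one_mem⟩
      rw [h] at h1
      obtain ⟨g, -, hg⟩ := h1
      have := congrArg SemidirectProduct.left hg
      rw [SemidirectProduct.left_inr, SemidirectProduct.left_inl] at this
      exact hw₀ (Multiplicative.ofAdd.injective this.symm)
    · -- tr u ∈ K but not in X
      have h1 : (tr u : Aff F V) ∈ (H0 F w₀).comap SemidirectProduct.rightHom := by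
        rw [Subgroup.mem_comap, SemidirectProduct.rightHom_inl]
        exact (H0 F w₀).one_mem
      rw [← h, mem_X, SemidirectProduct.left_inl] at h1
      exact hu h1.1

theorem result (p d : ℕ) (hp : p.Prime)
    (hd : 2 ≤ d) :
    ∃ (G : Type) (_ : Group G) (_ : Finite G) (M H K : Subgroup G), IsCoatom M ∧ M.index = p ^ d ∧ H ≤ M ∧
      IsCoatom (H.subgroupOf M) ∧ IsCoatom K ∧ H ≤ K ∧ ¬ IsCoatom (H.subgroupOf K) := by
  have : Fact p.Prime := ⟨hp⟩
  have hcard : Nat.card (Fin d → ZMod p) = p ^ d := by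
    rw [Nat.card_fun, Nat.card_eq_fintype_card, Nat.card_eq_fintype_card, ZMod.card, Fintype.card_fin]
  rw [← hcard]
  refine main (F := ZMod p) (V := Fin d → ZMod p) (Pi.single ⟨0, by omega⟩ 1)
    (Pi.single ⟨1, by omega⟩ 1) ?_ ?_
  · intro h
    have := congrFun h ⟨0, by omega⟩
    simp at this
  · intro h
    rw [Submodule.mem_span_singleton] at h
    obtain ⟨a, ha⟩ := h
    have := congrFun ha ⟨1, by omega⟩
    simp at this

end Cfsg.Agent.S5895
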