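import Cfsg.Statements.S5896
import Cfsg.Agent.Lib.Helper98_MaxIn
import Cfsg.Agent.S4337

set_option autoImplicit false
set_option linter.unusedSectionVars false
open Cfsg

namespace Cfsg.Agent.S5896

open Cfsg.Agent.Lib.Helper98_MaxIn

theorem three_zmod : (3 : ZMod 3) = 0 := by decide

section step

variable {L : Type} [Group L] (c : L)

/-- the module induced from the sign character of `⟨c⟩`, over `ZMod 3` -/
def V : AddSubgroup (L → ZMod 3) where
  carrier := {φ | ∀ x, φ (c * x) = -φ x}
  zero_mem' := by intro x; simp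
  add_mem' := by
    intro a b ha hb x
    simp only [Pi.add_apply, ha x, hb x]; ring
  neg_mem' := by
    intro a ha x
    simp only [Pi.neg_apply, ha x]

theorem V_apply (φ : V c) (x : L) : φ.1 (c * x) = -φ.1 x := φ.2 x

/-- right translation -/
def act (h : L) : V c ≃+ V c where
  toFun φ := ⟨fun x => φ.1 (x * h), by
    intro x; show φ.1 (c * x * h) = -φ.1 (x * h); rw [mul_assoc]; exact φ.2 (x * h)⟩
  invFun φ := ⟨fun x => φ.1 (x * h⁻¹), by
    intro x; show φ.1 (c * x * h⁻¹) = -φ.1 (x * h⁻¹); rw [mul_assoc]; exact φ.2 (x * h⁻¹)⟩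
  left_inv := by intro φ; ext x; simp
  right_inv := by intro φ; ext x; simp
  map_add' := by intro a b; ext x; rfl

@[simp] theorem act_apply (h : L) (φ : V c) (x : L) : (act c h φ).1 x = φ.1 (x * h) := rfl

/-- the action as a homomorphism into automorphisms of the multiplicative copy -/
def phi : L →* MulAut (Multiplicative (V c)) where
  toFun h := AddEquiv.toMultiplicative (act c h)
  map_one' := by
    ext φ : 1
    show Multiplicative.ofAdd (act c 1 (Multiplicative.toAdd φ)) = φ
    have : act c 1 (Multiplicative.toAdd φ) = Multiplicative.toAdd φ := by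
      apply Subtype.ext; funext x; simp [act]
    rw [this]; rfl
  map_mul' g h := by
    ext φ : 1
    show Multiplicative.ofAdd (act c (g * h) (Multiplicative.toAdd φ)) =
      Multiplicative.ofAdd (act c g (act c h (Multiplicative.toAdd φ)))
    congr 1; apply Subtype.ext; funext x; simp [act, mul_assoc]

theorem phi_apply (h : L) (v : V c) :
    phi c h (Multiplicative.ofAdd v) = Multiplicative.ofAdd (act c h v) := rfl

/-- the next group -/
abbrev Gp : Type := Multiplicative (V c) ⋊[phi c] L

/-- the translation by `v` -/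
abbrev tr (v : V c) : Gp c := SemidirectProduct.inl (Multiplicative.ofAdd v)

theorem tr_add (v w : V c) : tr c (v + w) = tr c v * tr c w := by
  show (SemidirectProduct.inl (Multiplicative.ofAdd (v + w)) : Gp c) = _
  rw [ofAdd_add, map_mul]

theorem tr_neg (v : V c) : tr c (-v) = (tr c v)⁻¹ := by
  show (SemidirectProduct.inl (Multiplicative.ofAdd (-v)) : Gp c) = _
  rw [ofAdd_neg, map_inv]

theorem tr_zero : tr c (0 : V c) = 1 := by
  show (SemidirectProduct.inl (Multiplicative.ofAdd (0 : V c)) : Gp c) = _
  rw [ofAdd_zero, map_one]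

theorem tr_injective : Function.Injective (tr c) := fun _ _ h =>
  Multiplicative.ofAdd.injective (SemidirectProduct.inl_injective h)

theorem conj_tr (e : Gp c) (v : V c) : e * tr c v * e⁻¹ = tr c (act c e.right v) := by
  have h1 := SemidirectProduct.inl_left_mul_inr_right e
  have h2 : SemidirectProduct.inr e.right * tr c v * (SemidirectProduct.inr e.right)⁻¹ =
      tr c (act c e.right v) := by
    rw [← map_inv, ← SemidirectProduct.inl_aut]; rfl
  have : e * tr c v * e⁻¹ =
      SemidirectProduct.inl e.left * (SemidirectProduct.inr e.right * tr c v *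
        (SemidirectProduct.inr e.right)⁻¹) * (SemidirectProduct.inl e.left)⁻¹ := by
    conv_lhs => rw [← h1]
    group
  rw [this, h2]
  show SemidirectProduct.inl e.left * SemidirectProduct.inl _ * (SemidirectProduct.inl e.left)⁻¹ =
    SemidirectProduct.inl _
  rw [← map_inv, ← map_mul, ← map_mul, mul_comm, inv_mul_cancel_left]

theorem coatom_comap (M : Subgroup L) (hco : IsCoatom M) :
    IsCoatom (M.comap (SemidirectProduct.rightHom : Gp c →* L)) := by
  rw [isCoatom_iff_maxIn_top]
  have hsurj : Function.Surjective (SemidirectProduct.rightHom : Gp c →* L) :=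
    SemidirectProduct.rightHom_surjective
  have hker : (SemidirectProduct.rightHom : Gp c →* L).ker ≤
      M.comap SemidirectProduct.rightHom := by
    intro x hx
    rw [Subgroup.mem_comap, MonoidHom.mem_ker.mp hx]
    exact M.one_mem
  rw [← maxIn_map_iff SemidirectProduct.rightHom hker le_top,
    Subgroup.map_comap_eq_self_of_surjective hsurj, Subgroup.map_top_of_surjective _ hsurj,
    ← isCoatom_iff_maxIn_top]
  exact hco

theorem tr_mem_comap (M : Subgroup L) (v : V c) :
    tr c v ∈ M.comap (SemidirectProduct.rightHom : Gp c →* L) := by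
  rw [Subgroup.mem_comap, SemidirectProduct.rightHom_inl]
  exact M.one_mem

theorem solvable_comap (M : Subgroup L) (hsolv : Group.IsSolvable M) :
    Group.IsSolvable (M.comap (SemidirectProduct.rightHom : Gp c →* L)) := by
  let ρ : M.comap (SemidirectProduct.rightHom : Gp c →* L) →* M :=
    (SemidirectProduct.rightHom : Gp c →* L).subgroupComap M
  let f : Multiplicative (V c) →* M.comap (SemidirectProduct.rightHom : Gp c →* L) :=
    (SemidirectProduct.inl : Multiplicative (V c) →* Gp c).codRestrict _
      (fun v => tr_mem_comap c M (Multiplicative.toAdd v))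
  have := hsolv
  refine Group.isSolvable_of_ker_le_range f ρ ?_
  intro x hx
  have hx1 : (x : Gp c).right = 1 := by
    have := congrArg Subtype.val (MonoidHom.mem_ker.mp hx)
    exact this
  refine ⟨(x : Gp c).left, Subtype.ext ?_⟩
  have h1 := SemidirectProduct.inl_left_mul_inr_right (x : Gp c)
  rw [hx1, map_one, mul_one] at h1
  exact h1


section eps

variable (hc2 : c * c = 1)
include hc2

open Classical in
/-- the spanning elements of `V` -/
noncomputable def eps (g : L) : V c :=
  ⟨fun x => (if x = g then 1 else 0) - (if x = c * g then 1 else 0), by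
    intro x
    have h1 : c * x = g ↔ x = c * g :=
      ⟨fun h => by rw [← h, ← mul_assoc, hc2, one_mul],
       fun h => by rw [h, ← mul_assoc, hc2, one_mul]⟩
    have h2 : c * x = c * g ↔ x = g := mul_left_cancel_iff
    simp only [h1, h2]; ring⟩

open Classical in
theorem eps_apply (g x : L) :
    (eps c hc2 g).1 x = (if x = g then 1 else 0) - (if x = c * g then 1 else 0) := rfl

theorem act_eps_one (h : L) : act c h (eps c hc2 1) = eps c hc2 h⁻¹ := by
  classical
  apply Subtype.ext; funext x
  rw [act_apply, eps_apply, eps_apply]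
  have h1 : x * h = 1 ↔ x = h⁻¹ := mul_eq_one_iff_eq_inv
  have h2 : x * h = c * 1 ↔ x = c * h⁻¹ := by
    rw [mul_one, eq_mul_inv_iff_mul_eq]
  simp only [h1, h2]

theorem act_c_eps_one : act c c (eps c hc2 1) - eps c hc2 1 = eps c hc2 1 := by
  classical
  have hcinv : c⁻¹ = c := inv_eq_of_mul_eq_one_right hc2
  apply Subtype.ext; funext x
  show (act c c (eps c hc2 1)).1 x - (eps c hc2 1).1 x = (eps c hc2 1).1 x
  rw [act_apply, eps_apply, eps_apply]
  have h1 : x * c = 1 ↔ x = c := by rw [mul_eq_one_iff_eq_inv, hcinv]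
  have h2 : x * c = c ↔ x = 1 := by rw [mul_eq_right]
  simp only [mul_one, h1, h2]
  have h3 := three_zmod
  linear_combination (-(if x = 1 then (1 : ZMod 3) else 0) + (if x = c then (1 : ZMod 3) else 0)) * h3

theorem decomp [Fintype L] (φ : V c) :
    φ = ∑ g : L, ((-φ.1 g).val) • eps c hc2 g := by
  classical
  have hcinv : c⁻¹ = c := inv_eq_of_mul_eq_one_right hc2
  apply Subtype.ext; funext x
  rw [AddSubgroup.val_finsetSum, Finset.sum_apply]
  have hterm : ∀ g : L, (((-φ.1 g).val) • eps c hc2 g).1 x =
      (if g = x then -φ.1 g else 0) - (if g = c * x then -φ.1 g else 0) := by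
    intro g
    show ((-φ.1 g).val) • (eps c hc2 g).1 x = _
    rw [eps_apply, nsmul_eq_mul, ZMod.natCast_zmod_val]
    have h1 : x = g ↔ g = x := eq_comm
    have h2 : x = c * g ↔ g = c * x :=
      ⟨fun h => by rw [h, ← mul_assoc, hc2, one_mul],
       fun h => by rw [h, ← mul_assoc, hc2, one_mul]⟩
    simp only [h1, h2]
    split_ifs <;> ring
  simp only [hterm]
  rw [Finset.sum_sub_distrib, Finset.sum_ite_eq', Finset.sum_ite_eq']
  simp only [Finset.mem_univ, if_true]
  rw [V_apply]
  have h3 := three_zmod
  linear_combination (φ.1 x) * h3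

theorem perfect [Finite L] (hperf : commutator L = ⊤) : commutator (Gp c) = ⊤ := by
  classical
  have := Fintype.ofFinite L
  have hKn : (commutator (Gp c)).Normal := inferInstance
  have hinr : ∀ l : L, (SemidirectProduct.inr l : Gp c) ∈ commutator (Gp c) := by
    intro l
    have hl : l ∈ commutator L := by rw [hperf]; trivial
    rw [commutator_def] at hl
    have h1 : (SemidirectProduct.inr l : Gp c) ∈
        Subgroup.map (SemidirectProduct.inr : L →* Gp c) ⁅(⊤ : Subgroup L), (⊤ : Subgroup L)⁆ :=
      Subgroup.mem_map_of_mem _ hl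
    rw [Subgroup.map_commutator] at h1
    rw [commutator_def]
    exact Subgroup.commutator_mono le_top le_top h1
  have htr1 : tr c (eps c hc2 1) ∈ commutator (Gp c) := by
    have h1 : (SemidirectProduct.inr c : Gp c) * tr c (eps c hc2 1) *
        (SemidirectProduct.inr c : Gp c)⁻¹ * (tr c (eps c hc2 1))⁻¹ ∈ commutator (Gp c) := by
      rw [commutator_def, ← commutatorElement_def]
      exact Subgroup.commutator_mem_commutator (Subgroup.mem_top _) (Subgroup.mem_top _)
    rw [conj_tr, SemidirectProduct.right_inr, ← tr_neg, ← tr_add,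
      ← sub_eq_add_neg, act_c_eps_one] at h1
    exact h1
  have htrg : ∀ g : L, tr c (eps c hc2 g) ∈ commutator (Gp c) := by
    intro g
    have h1 := hKn.conj_mem _ htr1 (SemidirectProduct.inr g⁻¹ : Gp c)
    rw [conj_tr, SemidirectProduct.right_inr, act_eps_one, inv_inv] at h1
    exact h1
  let S : AddSubgroup (V c) :=
    { carrier := {φ | tr c φ ∈ commutator (Gp c)}
      zero_mem' := by
        show tr c 0 ∈ commutator (Gp c)
        rw [tr_zero]; exact Subgroup.one_mem _
      add_mem' := by
        intro a b ha hb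
        show tr c (a + b) ∈ commutator (Gp c)
        rw [tr_add]; exact Subgroup.mul_mem _ ha hb
      neg_mem' := by
        intro a ha
        show tr c (-a) ∈ commutator (Gp c)
        rw [tr_neg]; exact Subgroup.inv_mem _ ha }
  have hS : ∀ φ : V c, φ ∈ S := by
    intro φ
    rw [decomp c hc2 φ]
    exact S.sum_mem (fun g _ => S.nsmul_mem (htrg g) _)
  rw [eq_top_iff]
  intro x _
  rw [← SemidirectProduct.inl_left_mul_inr_right x]
  refine Subgroup.mul_mem _ ?_ (hinr _)
  have := hS (Multiplicative.toAdd x.left)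
  exact this

theorem derived_step [Finite L] (hc1 : c ≠ 1) (M : Subgroup L) (d : ℕ)
    (hd : derivedSeries M d ≠ ⊥) :
    derivedSeries (M.comap (SemidirectProduct.rightHom : Gp c →* L)) (d + 1) ≠ ⊥ := by
  classical
  have hcinv : c⁻¹ = c := inv_eq_of_mul_eq_one_right hc2
  set M' := M.comap (SemidirectProduct.rightHom : Gp c →* L) with hM'
  let ρ : M' →* M := (SemidirectProduct.rightHom : Gp c →* L).subgroupComap M
  have hρsurj : Function.Surjective ρ :=
    MonoidHom.subgroupComap_surjective_of_surjective _ _ SemidirectProduct.rightHom_surjective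
  have hmap := map_derivedSeries_eq hρsurj d
  obtain ⟨h', hh'1⟩ := (Subgroup.ne_bot_iff_exists_ne_one).mp hd
  have hh'D : (h' : M) ∈ Subgroup.map ρ (derivedSeries M' d) := by rw [hmap]; exact h'.2
  obtain ⟨e, heD, heq⟩ := hh'D
  intro hbot
  have hDn : (derivedSeries M' d).Normal := derivedSeries_normal M' d
  set h : L := (e : Gp c).right with hh
  have hh1 : h ≠ 1 := by
    intro h1
    apply hh'1
    apply Subtype.ext
    apply Subtype.ext
    rw [← heq]
    exact h1
  -- the double commutator
  have key : ∀ v : V c,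
      (v + act c h (-v)) + act c h (-(v + act c h (-v))) = 0 := by
    intro v
    let tv : M' := ⟨tr c v, tr_mem_comap c M v⟩
    have hcv : tv * e * tv⁻¹ * e⁻¹ ∈ derivedSeries M' d :=
      (derivedSeries M' d).mul_mem (hDn.conj_mem e heD tv) ((derivedSeries M' d).inv_mem heD)
    have h2 : (tv * e * tv⁻¹ * e⁻¹) * e * (tv * e * tv⁻¹ * e⁻¹)⁻¹ * e⁻¹ ∈
        derivedSeries M' (d + 1) := by
      rw [derivedSeries_succ, ← commutatorElement_def]
      exact Subgroup.commutator_mem_commutator hcv heD
    rw [hbot, Subgroup.mem_bot] at h2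
    have h3 := congrArg (fun z : M' => (z : Gp c)) h2
    simp only [Subgroup.coe_mul, Subgroup.coe_inv, Subgroup.coe_one] at h3
    have hcv' : tr c v * (e : Gp c) * (tr c v)⁻¹ * (e : Gp c)⁻¹ =
        tr c (v + act c h (-v)) := by
      rw [tr_add, ← conj_tr, tr_neg]; group
    have htv : (tv : Gp c) = tr c v := rfl
    rw [htv, hcv'] at h3
    have h4 : tr c (v + act c h (-v)) * (e : Gp c) * (tr c (v + act c h (-v)))⁻¹ *
        (e : Gp c)⁻¹ = tr c ((v + act c h (-v)) + act c h (-(v + act c h (-v)))) := by
      rw [tr_add _ (v + act c h (-v)), ← conj_tr, tr_neg]; group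
    rw [h4, ← tr_zero c] at h3
    exact tr_injective c h3
  have hk := key (eps c hc2 1)
  have hk' := congrArg (fun φ : V c => φ.1 h⁻¹) hk
  simp only [map_neg, map_add, neg_add_rev, neg_neg] at hk'
  have e1 : ∀ (φ ψ : V c) (x : L), (φ + ψ).1 x = φ.1 x + ψ.1 x := fun _ _ _ => rfl
  have e2 : ∀ (φ : V c) (x : L), (-φ).1 x = -φ.1 x := fun _ _ => rfl
  have e3 : ((0 : V c)).1 h⁻¹ = 0 := rfl
  simp only [e1, e2, e3, act_apply, eps_apply, inv_mul_cancel, one_mul, mul_one] at hk'
  have hne1 : ¬ (h⁻¹ = 1) := fun h1 => hh1 (inv_eq_one.mp h1)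
  have hc1' : ¬ ((1 : L) = c) := fun h1 => hc1 h1.symm
  have hinvc : h⁻¹ = c ↔ h = c := by rw [inv_eq_iff_eq_inv, hcinv]
  simp only [hne1, hh1, hc1', hinvc, if_true, if_false] at hk'
  by_cases hhc : h = c
  · simp only [hhc, if_true] at hk'
    revert hk'; decide
  · simp only [hhc, if_false] at hk'
    revert hk'; decide

end eps

end step

section base

open Equiv MulAction

/-- the involution of the base group -/
def c0 : alternatingGroup (Fin 5) :=
  ⟨swap 0 1 * swap 2 3, Equiv.Perm.mem_alternatingGroup.mpr (by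
    rw [Equiv.Perm.sign_mul, Equiv.Perm.sign_swap (by decide), Equiv.Perm.sign_swap (by decide)]
    rfl)⟩

theorem c0_ne_one : c0 ≠ 1 := by decide

theorem c0_mul_self : c0 * c0 = 1 := by decide

theorem c0_mem : c0 ∈ stabilizer (alternatingGroup (Fin 5)) (4 : Fin 5) := by decide

theorem base_solvable :
    Group.IsSolvable (stabilizer (alternatingGroup (Fin 5)) (4 : Fin 5)) := by
  classical
  have : Fintype (SubMulAction.ofStabilizer (alternatingGroup (Fin 5)) (4 : Fin 5)) :=
    Fintype.ofFinite _
  have hcard : Fintype.card (SubMulAction.ofStabilizer (alternatingGroup (Fin 5)) (4 : Fin 5))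
      ≤ 4 := by
    have h1 := SubMulAction.nat_card_ofStabilizer_add_one_eq (alternatingGroup (Fin 5))
      (4 : Fin 5)
    rw [Nat.card_eq_fintype_card, Nat.card_eq_fintype_card, Fintype.card_fin] at h1
    omega
  have hs := Cfsg.Agent.S4337.solvable_perm_of_card_le hcard
  refine Group.isSolvable_of_isSolvable_injective
    (f := MulAction.toPermHom (stabilizer (alternatingGroup (Fin 5)) (4 : Fin 5))
      (SubMulAction.ofStabilizer (alternatingGroup (Fin 5)) (4 : Fin 5))) ?_
  rw [injective_iff_map_eq_one]
  intro g hg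
  apply Subtype.ext
  apply Subtype.ext
  apply Equiv.ext
  intro x
  by_cases hx : x = 4
  · rw [hx]; exact g.2
  · have := congrArg (fun σ : Perm (SubMulAction.ofStabilizer (alternatingGroup (Fin 5))
        (4 : Fin 5)) => (σ ⟨x, hx⟩ : Fin 5)) hg
    exact this

theorem base_claim : ∃ (L : Type) (_ : Group L) (_ : Finite L) (c : L) (M : Subgroup L),
    c ≠ 1 ∧ c * c = 1 ∧ commutator L = ⊤ ∧ IsCoatom M ∧ Group.IsSolvable M ∧
      derivedSeries M 0 ≠ ⊥ := by
  have hprim : IsPreprimitive (alternatingGroup (Fin 5)) (Fin 5) :=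
    alternatingGroup.isPreprimitive_of_three_le_card (Fin 5) (by simp)
  refine ⟨alternatingGroup (Fin 5), inferInstance, inferInstance, c0,
    stabilizer (alternatingGroup (Fin 5)) (4 : Fin 5), c0_ne_one, c0_mul_self,
    commutator_alternatingGroup_eq_top (by simp),
    IsPreprimitive.isCoatom_stabilizer_of_isPreprimitive _ _, base_solvable, ?_⟩
  rw [derivedSeries_zero]
  intro h
  have h1 : (⟨c0, c0_mem⟩ : stabilizer (alternatingGroup (Fin 5)) (4 : Fin 5)) ∈
      (⊥ : Subgroup (stabilizer (alternatingGroup (Fin 5)) (4 : Fin 5))) := by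
    rw [← h]; trivial
  rw [Subgroup.mem_bot] at h1
  exact c0_ne_one (congrArg Subtype.val h1)

end base

theorem claim (d : ℕ) : ∃ (L : Type) (_ : Group L) (_ : Finite L) (c : L) (M : Subgroup L),
    c ≠ 1 ∧ c * c = 1 ∧ commutator L = ⊤ ∧ IsCoatom M ∧ Group.IsSolvable M ∧
      derivedSeries M d ≠ ⊥ := by
  induction d with
  | zero => exact base_claim
  | succ d ih =>
    obtain ⟨L, hG, hF, c, M, hc1, hc2, hperf, hco, hsolv, hd⟩ := ih
    have hfin : Finite (Gp c) := Finite.of_equiv _ SemidirectProduct.equivProd.symm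
    refine ⟨Gp c, inferInstance, hfin, SemidirectProduct.inr c,
      M.comap SemidirectProduct.rightHom, ?_, ?_, perfect c hc2 hperf, coatom_comap c M hco,
      solvable_comap c M hsolv, derived_step c hc2 hc1 M d hd⟩
    · intro h
      apply hc1
      apply SemidirectProduct.inr_injective (N := Multiplicative (V c)) (φ := phi c)
      rw [h, map_one]
    · rw [← map_mul, hc2, map_one]

/-- Finite perfect groups have solvable maximal subgroups of unbounded derived length: for every d there is a finite perfect group G (equal to its commutator subgroup) with a solvable maximal subgroup H whose derived length exceeds d, i.e. the d-th term of the derived series of H is non-trivial. (Take the derived subgroup of a wreath product S ≀ A₅ with S solvable of large derived length, and H the preimage of a maximal subgroup of A₅.) -/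
theorem result (d : ℕ) :
    ∃ (G : Type) (_ : Group G) (_ : Finite G) (H : Subgroup G), commutator G = ⊤ ∧ IsCoatom H ∧ Group.IsSolvable H ∧
      derivedSeries H d ≠ ⊥ := by
  obtain ⟨L, hG, hF, c, M, -, -, hperf, hco, hsolv, hd⟩ := claim d
  exact ⟨L, hG, hF, M, hperf, hco, hsolv, hd⟩

end Cfsg.Agent.S5896
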