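import Cfsg.Statements.S5902
-- import your own Cfsg.Agent.* helpers here

set_option autoImplicit false
open Cfsg


namespace Cfsg.Agent.S5902

theorem key {G : Type*} [Group G] [Finite G] (X M : Subgroup G)
    (hK : ComplementedLattice (Subgroup X))
    (hXM : X ≤ M) (huniq : ∀ M' : Subgroup G, IsCoatom M' → X ≤ M' → M' = M)
    (H : Subgroup G) (hH : ¬ H ≤ M) :
    ∃ C : Subgroup G, H ⊔ C = ⊤ ∧ H ⊓ C = ⊥ := by
  obtain ⟨C0, hC0⟩ := exists_isCompl ((H ⊓ X).subgroupOf X)
  have hYX : (H ⊓ X) ⊓ X = H ⊓ X := inf_eq_left.mpr inf_le_right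
  have hsup : (H ⊓ X) ⊔ C0.map X.subtype = X := by
    have h1 : ((H ⊓ X).subgroupOf X ⊔ C0).map X.subtype = X := by
      rw [hC0.sup_eq_top, ← MonoidHom.range_eq_map, Subgroup.range_subtype]
    rw [Subgroup.map_sup, Subgroup.subgroupOf_map_subtype, hYX] at h1
    exact h1
  have hinf : (H ⊓ X) ⊓ C0.map X.subtype = ⊥ := by
    have h1 : ((H ⊓ X).subgroupOf X ⊓ C0).map X.subtype = ⊥ := by
      rw [hC0.inf_eq_bot, Subgroup.map_bot]
    rw [Subgroup.map_inf _ _ _ X.subtype_injective, Subgroup.subgroupOf_map_subtype, hYX] at h1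
    exact h1
  have hCX : C0.map X.subtype ≤ X := by
    rintro _ ⟨c, _, rfl⟩
    exact c.2
  refine ⟨C0.map X.subtype, ?_, ?_⟩
  · by_contra hne
    obtain ⟨M', hM', hle⟩ := (eq_top_or_exists_le_coatom (H ⊔ C0.map X.subtype)).resolve_left hne
    have hXle : X ≤ H ⊔ C0.map X.subtype := by
      conv_lhs => rw [← hsup]
      exact sup_le (inf_le_left.trans le_sup_left) le_sup_right
    have := huniq M' hM' (hXle.trans hle)
    subst this
    exact hH (le_sup_left.trans hle)
  · have h2 : H ⊓ C0.map X.subtype ≤ (H ⊓ X) ⊓ C0.map X.subtype :=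
      le_inf (le_inf inf_le_left (inf_le_right.trans hCX)) inf_le_right
    rw [hinf] at h2
    exact le_bot_iff.mp h2

theorem part1 {G : Type*} [Group G] [Finite G] (X M : Subgroup G)
    (hK : ComplementedLattice (Subgroup X))
    (hXM : X ≤ M) (huniq : ∀ M' : Subgroup G, IsCoatom M' → X ≤ M' → M' = M)
    (H : Subgroup G) (hH : ¬ H ≤ M.normalCore) :
    ∃ C : Subgroup G, H ⊔ C = ⊤ ∧ H ⊓ C = ⊥ := by
  -- find b with b H b⁻¹ not inside M
  have : ∃ b : G, ¬ H.map (MulAut.conj b).toMonoidHom ≤ M := by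
    by_contra hcon
    push Not at hcon
    apply hH
    intro h hh b
    apply hcon b
    exact ⟨h, hh, rfl⟩
  obtain ⟨b, hb⟩ := this
  obtain ⟨C', hC1, hC2⟩ := key X M hK hXM huniq _ hb
  refine ⟨C'.map (MulAut.conj b⁻¹).toMonoidHom, ?_, ?_⟩
  · have h := congrArg (Subgroup.map (MulAut.conj b⁻¹).toMonoidHom) hC1
    rw [Subgroup.map_sup, Subgroup.map_map] at h
    have hid : ((MulAut.conj b⁻¹).toMonoidHom.comp (MulAut.conj b).toMonoidHom) = MonoidHom.id G := by
      ext x; simp [mul_assoc]
    rw [hid, Subgroup.map_id] at h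
    rw [h]
    exact Subgroup.map_top_of_surjective _ (MulAut.conj b⁻¹).surjective
  · have h := congrArg (Subgroup.map (MulAut.conj b⁻¹).toMonoidHom) hC2
    rw [Subgroup.map_inf _ _ _ (MulAut.conj b⁻¹).injective, Subgroup.map_map] at h
    have hid : ((MulAut.conj b⁻¹).toMonoidHom.comp (MulAut.conj b).toMonoidHom) = MonoidHom.id G := by
      ext x; simp [mul_assoc]
    rw [hid, Subgroup.map_id, Subgroup.map_bot] at h
    exact h

/-- Let G be a finite group, X a subgroup whose own subgroup lattice is complemented, and suppose X lies in exactly one maximal subgroup M of G. Then every subgroup H of G not contained in the normal core of M has a complement in the subgroup lattice of G (some C with H ⊔ C = G and H ⊓ C = 1); in particular the subgroup lattice of G modulo the normal core of M is complemented. -/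
theorem result {G : Type*} [Group G] [Finite G] (X M : Subgroup G)
    (hK : ComplementedLattice (Subgroup X))
    (hM : IsCoatom M) (hXM : X ≤ M) (huniq : ∀ M' : Subgroup G, IsCoatom M' → X ≤ M' → M' = M) :
    (∀ H : Subgroup G, ¬ H ≤ M.normalCore → ∃ C : Subgroup G, H ⊔ C = ⊤ ∧ H ⊓ C = ⊥) ∧
    ComplementedLattice (Subgroup (G ⧸ M.normalCore)) := by
  refine ⟨fun H hH => part1 X M hK hXM huniq H hH, ⟨fun Hbar => ?_⟩⟩
  by_cases hbot : Hbar = ⊥
  · exact ⟨⊤, by rw [hbot]; exact isCompl_bot_top⟩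
  · have hH : ¬ Hbar.comap (QuotientGroup.mk' M.normalCore) ≤ M.normalCore := by
      intro hle
      apply hbot
      rw [eq_bot_iff]
      intro x hx
      obtain ⟨g, rfl⟩ := QuotientGroup.mk'_surjective M.normalCore x
      have : g ∈ M.normalCore := hle hx
      rw [Subgroup.mem_bot]
      exact (QuotientGroup.eq_one_iff g).mpr this
    obtain ⟨C, hC1, hC2⟩ := part1 X M hK hXM huniq _ hH
    refine ⟨C.map (QuotientGroup.mk' M.normalCore), ?_⟩
    rw [isCompl_iff, disjoint_iff, codisjoint_iff]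
    constructor
    · rw [eq_bot_iff]
      rintro x ⟨hx1, ⟨c, hc, rfl⟩⟩
      have : c ∈ Hbar.comap (QuotientGroup.mk' M.normalCore) ⊓ C := ⟨hx1, hc⟩
      rw [hC2, Subgroup.mem_bot] at this
      subst this
      simp
    · have h := congrArg (Subgroup.map (QuotientGroup.mk' M.normalCore)) hC1
      rw [Subgroup.map_sup, Subgroup.map_comap_eq_self_of_surjective
        (QuotientGroup.mk'_surjective _)] at h
      rw [h]
      exact Subgroup.map_top_of_surjective _ (QuotientGroup.mk'_surjective _)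

end Cfsg.Agent.S5902
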