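import Cfsg.Statements.S5903
-- import your own Cfsg.Agent.* helpers here

set_option autoImplicit false
open Cfsg


namespace Cfsg.Agent.S5903

/-- the relative-complement lemma (same argument as S5901) -/
theorem rel_compl {G : Type*} [Group G] [Finite G] (T X M : Subgroup G)
    (hTX : T ≤ X)
    (hint : ∀ Y : Subgroup G, T ≤ Y → Y ≤ X → ∃ C : Subgroup G, T ≤ C ∧ C ≤ X ∧ Y ⊔ C = X ∧ Y ⊓ C = T)
    (huniq : ∀ M' : Subgroup G, IsCoatom M' → X ≤ M' → M' = M)
    (H : Subgroup G) (hH : ¬ H ≤ M) (hHT : H ⊓ T = ⊥) :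
    ∃ C : Subgroup G, H ⊔ C = ⊤ ∧ H ⊓ C = ⊥ := by
  obtain ⟨C, hTC, hCX, hsup, hinf⟩ := hint ((H ⊓ X) ⊔ T) le_sup_right (sup_le inf_le_right hTX)
  refine ⟨C, ?_, ?_⟩
  · by_contra hne
    obtain ⟨M', hM', hle⟩ := (eq_top_or_exists_le_coatom (H ⊔ C)).resolve_left hne
    have hXle : X ≤ H ⊔ C := by
      rw [← hsup]
      refine sup_le (sup_le (inf_le_left.trans le_sup_left) (hTC.trans le_sup_right)) le_sup_right
    have := huniq M' hM' (hXle.trans hle)
    subst this
    exact hH (le_sup_left.trans hle)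
  · have h1 : H ⊓ C ≤ T := by
      rw [← hinf]
      exact le_inf ((inf_le_inf_left H hCX).trans le_sup_left) inf_le_right
    have h2 : H ⊓ C ≤ H ⊓ T := le_inf inf_le_left h1
    rw [hHT] at h2
    exact le_bot_iff.mp h2

/-- the interval `[N, X]` is complemented when the subgroup lattice of `X ⧸ N` is. -/
theorem interval_compl {G : Type*} [Group G] (X N : Subgroup G) (hNX : N ≤ X)
    [(N.subgroupOf X).Normal] (hK : ComplementedLattice (Subgroup (X ⧸ N.subgroupOf X)))
    (Y : Subgroup G) (hNY : N ≤ Y) (hYX : Y ≤ X) :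
    ∃ C : Subgroup G, N ≤ C ∧ C ≤ X ∧ Y ⊔ C = X ∧ Y ⊓ C = N := by
  set π := QuotientGroup.mk' (N.subgroupOf X) with hπ
  have hker : π.ker = N.subgroupOf X := QuotientGroup.ker_mk' _
  obtain ⟨Cb, hCb⟩ := exists_isCompl ((Y.subgroupOf X).map π)
  have hN'Y' : N.subgroupOf X ≤ Y.subgroupOf X := Subgroup.subgroupOf_mono X hNY
  have hY' : ((Y.subgroupOf X).map π).comap π = Y.subgroupOf X := by
    rw [Subgroup.comap_map_eq, hker]
    exact sup_eq_left.mpr hN'Y'
  have hN'C' : N.subgroupOf X ≤ Cb.comap π :=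
    le_of_eq_of_le hker.symm (Subgroup.ker_le_comap π Cb)
  have hsup' : Y.subgroupOf X ⊔ Cb.comap π = ⊤ := by
    have h1 : (Y.subgroupOf X ⊔ Cb.comap π).map π = ⊤ := by
      rw [Subgroup.map_sup, Subgroup.map_comap_eq_self_of_surjective
        (QuotientGroup.mk'_surjective _), hCb.sup_eq_top]
    have h2 := congrArg (Subgroup.comap π) h1
    rw [Subgroup.comap_map_eq, hker, Subgroup.comap_top] at h2
    rw [← h2]
    exact (sup_eq_left.mpr (hN'Y'.trans le_sup_left)).symm
  have hinf' : Y.subgroupOf X ⊓ Cb.comap π = N.subgroupOf X := by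
    have h1 := congrArg (Subgroup.comap π) hCb.inf_eq_bot
    rw [Subgroup.comap_inf, hY'] at h1
    exact h1.trans ((MonoidHom.comap_bot π).trans hker)
  have hmapY : (Y.subgroupOf X).map X.subtype = Y := by
    rw [Subgroup.subgroupOf_map_subtype]; exact inf_eq_left.mpr hYX
  have hmapN : (N.subgroupOf X).map X.subtype = N := by
    rw [Subgroup.subgroupOf_map_subtype]; exact inf_eq_left.mpr hNX
  refine ⟨(Cb.comap π).map X.subtype, ?_, ?_, ?_, ?_⟩
  · calc N = (N.subgroupOf X).map X.subtype := hmapN.symm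
      _ ≤ _ := Subgroup.map_mono hN'C'
  · rintro _ ⟨c, _, rfl⟩; exact c.2
  · have h := congrArg (Subgroup.map X.subtype) hsup'
    rw [Subgroup.map_sup, hmapY, ← MonoidHom.range_eq_map, Subgroup.range_subtype] at h
    exact h
  · have h := congrArg (Subgroup.map X.subtype) hinf'
    rw [Subgroup.map_inf _ _ _ X.subtype_injective, hmapY, hmapN] at h
    exact h

/-- conjugate of a subgroup -/
abbrev cj {G : Type*} [Group G] (g : G) (A : Subgroup G) : Subgroup G :=
  A.map (MulAut.conj g).toMonoidHom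

theorem mem_cj {G : Type*} [Group G] (g x : G) (A : Subgroup G) :
    x ∈ cj g A ↔ g⁻¹ * x * g ∈ A := by
  constructor
  · rintro ⟨a, ha, rfl⟩
    simpa [mul_assoc] using ha
  · intro h
    exact ⟨g⁻¹ * x * g, h, by simp [mul_assoc]⟩

/-- the key choice of a conjugate -/
theorem exists_good_conj {G : Type*} [Group G] [Finite G] [IsSimpleGroup G] (M N : Subgroup G)
    (hM : IsCoatom M) (hN : (Nat.card N).Prime) (hcen : ∀ n ∈ N, ∀ m ∈ M, m * n = n * m)
    (H : Subgroup G) (hH0 : H ≠ ⊥) (hH1 : H ≠ ⊤) :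
    ∃ g : G, ¬ H ≤ cj g M ∧ ¬ cj g N ≤ H := by
  by_contra hcon
  push Not at hcon
  -- N is nontrivial
  have hNne : N ≠ ⊥ := by
    intro h
    rw [h] at hN
    simp at hN
    exact Nat.not_prime_one hN
  -- elements of cj g M commute with elements of cj g N
  have hcomm : ∀ g : G, ∀ n ∈ cj g N, ∀ m ∈ cj g M, m * n = n * m := by
    intro g n hn m hm
    rw [mem_cj] at hn hm
    have := hcen _ hn _ hm
    have h2 : g * ((g⁻¹ * m * g) * (g⁻¹ * n * g)) * g⁻¹ = g * ((g⁻¹ * n * g) * (g⁻¹ * m * g)) * g⁻¹ := by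
      rw [this]
    simpa [mul_assoc] using h2
  set S : Set G := {x | x ∈ H ∧ ∃ g : G, x ∈ cj g N} with hS
  set L := Subgroup.closure S with hL
  have hLH : L ≤ H := (Subgroup.closure_le H).mpr (fun x hx => hx.1)
  -- conjugation by elements of conjugates of N preserves S
  have hP : ∀ a : G, ∀ y ∈ cj a N, ∀ x ∈ L, y * x * y⁻¹ ∈ L := by
    intro a y hy
    have : L ≤ L.comap (MulAut.conj y).toMonoidHom := by
      rw [hL, Subgroup.closure_le]
      intro s hs
      show y * s * y⁻¹ ∈ Subgroup.closure S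
      apply Subgroup.subset_closure
      by_cases h1 : H ≤ cj a M
      · -- H ≤ cj a M : y commutes with s
        have hsM : s ∈ cj a M := h1 hs.1
        have := hcomm a y hy s hsM
        have e : y * s * y⁻¹ = s := by
          rw [← this]; simp
        rw [e]; exact hs
      · -- cj a N ≤ H
        have hyH : y ∈ H := hcon a h1 hy
        refine ⟨H.mul_mem (H.mul_mem hyH hs.1) (H.inv_mem hyH), ?_⟩
        obtain ⟨g, hg⟩ := hs.2
        refine ⟨y * g, ?_⟩
        rw [mem_cj] at hg ⊢
        simpa [mul_assoc] using hg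
    intro x hx
    exact this hx
  have hnorm : ∀ a : G, cj a N ≤ Subgroup.normalizer (L : Set G) := by
    intro a y hy
    rw [Subgroup.mem_normalizer_iff]
    intro x
    constructor
    · exact hP a y hy x
    · intro hx
      have := hP a y⁻¹ ((cj a N).inv_mem hy) _ hx
      simpa [mul_assoc] using this
  have hnc : Subgroup.normalClosure (N : Set G) = ⊤ := by
    have hnormal : (Subgroup.normalClosure (N : Set G)).Normal := Subgroup.normalClosure_normal
    rcases hnormal.eq_bot_or_eq_top with h | h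
    · exfalso
      apply hNne
      rw [eq_bot_iff, ← h]
      exact Subgroup.le_normalClosure
    · exact h
  have hLnormal : L.Normal := by
    rw [← Subgroup.normalizer_eq_top_iff, eq_top_iff, ← hnc]
    unfold Subgroup.normalClosure
    rw [Subgroup.closure_le]
    intro x hx
    rw [Group.mem_conjugatesOfSet_iff] at hx
    obtain ⟨a, ha, hax⟩ := hx
    rw [isConj_iff] at hax
    obtain ⟨c, rfl⟩ := hax
    exact hnorm c ⟨a, ha, rfl⟩
  rcases hLnormal.eq_bot_or_eq_top with h | h
  · -- L = ⊥ : then H ≤ all conjugates of M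
    have hall : ∀ g : G, H ≤ cj g M := by
      intro g
      by_contra hg
      have h2 := hcon g hg
      apply hNne
      rw [eq_bot_iff]
      intro n hn
      have hn' : g * n * g⁻¹ ∈ S := ⟨h2 ⟨n, hn, rfl⟩, g, ⟨n, hn, rfl⟩⟩
      have : g * n * g⁻¹ ∈ L := Subgroup.subset_closure hn'
      rw [h, Subgroup.mem_bot] at this
      rw [Subgroup.mem_bot]
      have e : n = g⁻¹ * (g * n * g⁻¹) * g := by simp [mul_assoc]
      rw [e, this]; simp
    have hcore : H ≤ M.normalCore := by
      intro x hx b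
      have := hall b⁻¹ hx
      rw [mem_cj] at this
      simpa using this
    have hcn : M.normalCore = ⊥ := by
      rcases (Subgroup.normalCore_normal M).eq_bot_or_eq_top with h3 | h3
      · exact h3
      · exfalso
        apply hM.1
        rw [eq_top_iff, ← h3]
        exact Subgroup.normalCore_le M
    rw [hcn] at hcore
    exact hH0 (le_bot_iff.mp hcore)
  · apply hH1
    rw [eq_top_iff, ← h]
    exact hLH

/-- Let G be a finite simple group, X a subgroup lying in exactly one maximal subgroup M of G, and N a subgroup of prime order with N ≤ X that is central in M. If the subgroup lattice of X/N is complemented, then the subgroup lattice of G is complemented. -/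
theorem result {G : Type*} [Group G] [Finite G] [IsSimpleGroup G] (X M N : Subgroup G)
    (hM : IsCoatom M) (hXM : X ≤ M) (huniq : ∀ M' : Subgroup G, IsCoatom M' → X ≤ M' → M' = M)
    (hNX : N ≤ X) (hN : (Nat.card N).Prime) (hcen : ∀ n ∈ N, ∀ m ∈ M, m * n = n * m)
    [(N.subgroupOf X).Normal] (hK : ComplementedLattice (Subgroup (X ⧸ N.subgroupOf X))) :
    ComplementedLattice (Subgroup G) := by
  refine ⟨fun H => ?_⟩
  by_cases hH0 : H = ⊥
  · exact ⟨⊤, by rw [hH0]; exact isCompl_bot_top⟩
  by_cases hH1 : H = ⊤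
  · exact ⟨⊥, by rw [hH1]; exact isCompl_top_bot⟩
  obtain ⟨g, hg1, hg2⟩ := exists_good_conj M N hM hN hcen H hH0 hH1
  -- pass to H' = g⁻¹ H g
  have hid : ∀ A : Subgroup G, cj g (cj g⁻¹ A) = A := by
    intro A
    unfold cj
    rw [Subgroup.map_map]
    have : ((MulAut.conj g).toMonoidHom.comp (MulAut.conj g⁻¹).toMonoidHom) = MonoidHom.id G := by
      ext x; simp [mul_assoc]
    rw [this, Subgroup.map_id]
  have hH'M : ¬ cj g⁻¹ H ≤ M := by
    intro h
    apply hg1
    have : cj g (cj g⁻¹ H) ≤ cj g M := Subgroup.map_mono (f := (MulAut.conj g).toMonoidHom) h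
    rw [hid] at this
    exact this
  have hNH' : ¬ N ≤ cj g⁻¹ H := by
    intro h
    apply hg2
    have : cj g N ≤ cj g (cj g⁻¹ H) := Subgroup.map_mono (f := (MulAut.conj g).toMonoidHom) h
    rw [hid] at this
    exact this
  have hinfN : cj g⁻¹ H ⊓ N = ⊥ := by
    have : Fact (Nat.card N).Prime := ⟨hN⟩
    rcases Subgroup.eq_bot_or_eq_top_of_prime_card ((cj g⁻¹ H).subgroupOf N) with h | h
    · rw [Subgroup.subgroupOf_eq_bot] at h
      rw [inf_comm]
      exact disjoint_iff.mp h.symm
    · exfalso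
      apply hNH'
      rwa [Subgroup.subgroupOf_eq_top] at h
  obtain ⟨C', hC1, hC2⟩ := rel_compl N X M hNX
    (fun Y h1 h2 => interval_compl X N hNX hK Y h1 h2) huniq _ hH'M hinfN
  refine ⟨cj g C', ?_⟩
  rw [isCompl_iff, disjoint_iff, codisjoint_iff]
  constructor
  · have h := congrArg (cj g) hC2
    unfold cj at h
    rw [Subgroup.map_inf _ _ _ (MulAut.conj g).injective, Subgroup.map_bot] at h
    rw [← h]
    congr 1
    exact (hid H).symm
  · have h := congrArg (cj g) hC1
    unfold cj at h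
    rw [Subgroup.map_sup, Subgroup.map_top_of_surjective _ (MulAut.conj g).surjective] at h
    rw [← h]
    congr 1
    exact (hid H).symm

end Cfsg.Agent.S5903
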