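import Cfsg.Statements.S5904
-- import your own Cfsg.Agent.* helpers here

set_option autoImplicit false
open scoped Pointwise
open Cfsg

namespace Cfsg.Agent.S5904

open scoped Pointwise

/-- the stabiliser of the partition `{O, Oᶜ}` -/
def pairStab {Ω : Type*} (O : Set Ω) : Subgroup (Equiv.Perm Ω) where
  carrier := {g | g • O = O ∨ g • O = Oᶜ}
  one_mem' := Or.inl (one_smul _ _)
  mul_mem' := by
    intro g h hg hh
    simp only [Set.mem_ofPred_eq] at hg hh ⊢
    rw [mul_smul]
    rcases hh with hh | hh <;> rcases hg with hg | hg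
    · left; rw [hh, hg]
    · right; rw [hh, hg]
    · right; rw [hh, Set.smul_set_compl, hg]
    · left; rw [hh, Set.smul_set_compl, hg, compl_compl]
  inv_mem' := by
    intro g hg
    simp only [Set.mem_ofPred_eq] at hg ⊢
    rcases hg with hg | hg
    · left
      rw [inv_smul_eq_iff, hg]
    · right
      rw [inv_smul_eq_iff, Set.smul_set_compl, hg, compl_compl]

/-- Let Ω be a finite set with more than two elements and O ⊆ Ω a subset with exactly as many elements as its complement. Then the setwise stabilizer of O in the symmetric group on Ω is not a maximal subgroup (it is properly contained in the stabilizer of the partition {O, Ω ∖ O}, which is proper). -/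
theorem result {Ω : Type*} [Fintype Ω] [DecidableEq Ω] (hΩ : 2 < Fintype.card Ω)
    (O : Set Ω) (hO : Nat.card O = Nat.card ↥Oᶜ) :
    ¬ IsCoatom (MulAction.stabilizer (Equiv.Perm Ω) O) := by
  classical
  intro hco
  -- cardinalities
  have hcard : Nat.card O + Nat.card ↥Oᶜ = Fintype.card Ω := by
    rw [Nat.card_coe_set_eq, Nat.card_coe_set_eq, Set.ncard_add_ncard_compl, Nat.card_eq_fintype_card]
  have hm : 2 ≤ Nat.card O := by omega
  -- two distinct points in O and a point in the complement
  have hO2 : 1 < Nat.card O := by omega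
  rw [Nat.card_coe_set_eq, Set.one_lt_ncard_iff] at hO2
  obtain ⟨a, a', ha, ha', haa'⟩ := hO2
  have hOc : 0 < Nat.card ↥Oᶜ := by omega
  rw [Nat.card_coe_set_eq, Set.ncard_pos] at hOc
  obtain ⟨b, hb⟩ := hOc
  -- a permutation exchanging O and its complement
  obtain ⟨e⟩ : Nonempty (O ≃ ↥Oᶜ) := Finite.card_eq.mp hO
  let σ : Equiv.Perm Ω := (Equiv.Set.sumCompl O).symm.trans
    ((Equiv.sumCongr e e.symm).trans ((Equiv.sumComm _ _).trans (Equiv.Set.sumCompl O)))
  have hσ1 : ∀ x ∈ O, σ x ∈ Oᶜ := by
    intro x hx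
    simp only [σ, Equiv.trans_apply, Equiv.Set.sumCompl_symm_apply_of_mem hx, Equiv.sumCongr_apply,
      Sum.map_inl, Equiv.sumComm_apply, Sum.swap_inl, Equiv.Set.sumCompl_apply_inr]
    exact (e ⟨x, hx⟩).2
  have hσ2 : ∀ x ∈ Oᶜ, σ x ∈ O := by
    intro x hx
    simp only [σ, Equiv.trans_apply, Equiv.Set.sumCompl_symm_apply_of_notMem hx, Equiv.sumCongr_apply,
      Sum.map_inr, Equiv.sumComm_apply, Sum.swap_inr, Equiv.Set.sumCompl_apply_inl]
    exact (e.symm ⟨x, hx⟩).2
  have hσO : σ • O = Oᶜ := by
    ext y
    rw [Set.mem_smul_set_iff_inv_smul_mem]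
    constructor
    · intro hy
      have := hσ1 _ hy
      simpa using this
    · intro hy
      by_contra hn
      have := hσ2 (σ⁻¹ • y) hn
      simp at this
      exact hy this
  -- the intermediate subgroup
  have hlt : MulAction.stabilizer (Equiv.Perm Ω) O < pairStab O := by
    rw [lt_iff_le_and_ne]
    constructor
    · intro g hg
      exact Or.inl (MulAction.mem_stabilizer_iff.mp hg)
    · intro heq
      have hσmem : σ ∈ pairStab O := Or.inr hσO
      rw [← heq, MulAction.mem_stabilizer_iff, hσO] at hσmem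
      have : a ∈ Oᶜ := by rw [hσmem]; exact ha
      exact this ha
  have htop := hco.2 _ hlt
  -- but swap a b is not in pairStab
  have hsw : Equiv.swap a b ∈ pairStab O := by rw [htop]; trivial
  have hbmem : b ∈ Equiv.swap a b • O := by
    rw [Set.mem_smul_set]
    exact ⟨a, ha, by simp [Equiv.Perm.smul_def]⟩
  have ha'mem : a' ∈ Equiv.swap a b • O := by
    rw [Set.mem_smul_set]
    refine ⟨a', ha', ?_⟩
    rw [Equiv.Perm.smul_def]
    apply Equiv.swap_apply_of_ne_of_ne haa'.symm
    rintro rfl
    exact hb ha'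
  rcases hsw with h | h
  · rw [h] at hbmem
    exact hb hbmem
  · rw [h] at ha'mem
    exact ha'mem ha'

end Cfsg.Agent.S5904
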