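import Cfsg.Statements.S5905
-- import your own Cfsg.Agent.* helpers here
import Cfsg.Agent.Lib.Helper98_Imprim

set_option autoImplicit false
open Cfsg

namespace Cfsg.Agent.S5905

open Cfsg.Agent.Lib.Helper98_Imprim
open MulAction Equiv
open scoped Pointwise

/-- Let Ω be a finite set and f : Ω → Fin b a map onto b ≥ 2 labels whose fibres all have the same size a ≥ 2 (a partition of Ω into b blocks of size a, so |Ω| = ab). Then the stabilizer of this partition in the symmetric group on Ω — the permutations g such that x and y lie in the same block exactly when g x and g y do, a group isomorphic to the imprimitive wreath product S_a ≀ S_b — is a maximal subgroup of the symmetric group. -/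
theorem result {Ω : Type*} [Fintype Ω] [DecidableEq Ω] (a b : ℕ) (ha : 2 ≤ a) (hb : 2 ≤ b)
    (f : Ω → Fin b) (hf : ∀ i : Fin b, Nat.card {x : Ω // f x = i} = a) :
    IsCoatom (Subgroup.closure {g : Equiv.Perm Ω | ∀ x y : Ω, f x = f y ↔ f (g x) = f (g y)}) := by
  rw [closure_eq_partStab]
  have hcard : ∀ i j : Fin b, Nat.card {x // f x = i} = Nat.card {x // f x = j} :=
    fun i j => (hf i).trans (hf j).symm
  have hfa : ∀ x₀ : Ω, (fibre f x₀).ncard = a := by
    intro x₀
    rw [← hf (f x₀), ← Nat.card_coe_set_eq]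
    rfl
  -- points
  let i0 : Fin b := ⟨0, by omega⟩
  let i1 : Fin b := ⟨1, by omega⟩
  have hi01 : i0 ≠ i1 := by
    intro h
    have := congrArg Fin.val h
    simp [i0, i1] at this
  have hnt0 : Nontrivial {x // f x = i0} := by
    rw [← Finite.one_lt_card_iff_nontrivial, hf]; omega
  have hne1 : Nonempty {x // f x = i1} := by
    rw [← Finite.card_pos_iff, hf]; omega
  obtain ⟨⟨x, hx⟩, ⟨y, hy⟩, hxy⟩ := hnt0
  obtain ⟨⟨z, hz⟩⟩ := hne1
  have hxy' : x ≠ y := fun h => hxy (Subtype.ext h)
  have hxz : x ≠ z := fun h => hi01 (by rw [← hx, ← hz, h])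
  have hyz : y ≠ z := fun h => hi01 (by rw [← hy, ← hz, h])
  have han : a < Nat.card Ω := by
    rw [← hfa x, ← Set.ncard_univ]
    apply Set.ncard_lt_ncard _ Set.finite_univ
    rw [Set.ssubset_univ_iff]
    intro h
    have : z ∈ fibre f x := by rw [h]; trivial
    rw [mem_fibre, hz, hx] at this
    exact hi01 this.symm
  refine ⟨?_, fun K hlt => ?_⟩
  · intro htop
    have hmem : swap y z ∈ partStab f := by rw [htop]; trivial
    have := (hmem x y).mp (hx.trans hy.symm)
    rw [swap_apply_of_ne_of_ne hxy' hxz, swap_apply_left, hx, hz] at this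
    exact hi01 this
  · have htrans : IsPretransitive K Ω := by
      refine ⟨fun u v => ?_⟩
      obtain ⟨g, hg, hgu⟩ := exists_mem_partStab_apply_eq f hcard u v
      exact ⟨⟨g, hlt.le hg⟩, hgu⟩
    by_cases hprim : IsPreprimitive K Ω
    · exact Equiv.Perm.subgroup_eq_top_of_isPreprimitive_of_isSwap_mem hprim (swap x y) ⟨x, y, hxy', rfl⟩
        (hlt.le (swap_mem_partStab f (hx.trans hy.symm)))
    · exfalso
      have := le_partStab_of_not_isPreprimitive f hcard a hfa (by omega) han K hlt.le hprim
      exact not_lt_of_ge this hlt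

end Cfsg.Agent.S5905
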