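import Mathlib
import Cfsg.Agent.S0827
import Cfsg.Statements.S5908

set_option autoImplicit false
open Cfsg

namespace Cfsg.Agent.S5908

open QuaternionGroup in
theorem q8_central : ∀ h : QuaternionGroup 2, h * a 2 = a 2 * h := by decide

open QuaternionGroup in
theorem q8_a2_ne_one : (a 2 : QuaternionGroup 2) ≠ 1 := by decide

open QuaternionGroup in
theorem q8_not_comm : (xa 0 : QuaternionGroup 2) * a 1 ≠ a 1 * xa 0 := by decide

/-- a group with a normal subgroup whose quotient is the quaternion group of order 8 does not have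
a complemented subgroup lattice: the preimage of the centre of `Q₈` has no complement. -/
theorem not_complemented_of_quotient_q8 {G : Type*} [Group G] (N : Subgroup G) [N.Normal]
    (e : G ⧸ N ≃* QuaternionGroup 2) : ¬ ComplementedLattice (Subgroup G) := by
  intro hcl
  let θ : G →* QuaternionGroup 2 := e.toMonoidHom.comp (QuotientGroup.mk' N)
  have hθsurj : Function.Surjective θ :=
    e.surjective.comp (QuotientGroup.mk'_surjective N)
  let H : Subgroup G := (Subgroup.center (QuaternionGroup 2)).comap θ
  obtain ⟨K, hK⟩ := hcl.exists_isCompl H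
  have hHmem : ∀ g : G, g ∈ H ↔ θ g ∈ Subgroup.center (QuaternionGroup 2) := fun g => Iff.rfl
  have ha2 : (QuaternionGroup.a 2 : QuaternionGroup 2) ∈ Subgroup.center (QuaternionGroup 2) := by
    rw [Subgroup.mem_center_iff]
    exact q8_central
  have hinf : ∀ g : G, g ∈ H → g ∈ K → g = 1 := by
    intro g hgH hgK
    have : g ∈ H ⊓ K := ⟨hgH, hgK⟩
    rw [hK.inf_eq_bot, Subgroup.mem_bot] at this
    exact this
  have hKbot : K = ⊥ := by
    rw [Subgroup.eq_bot_iff_forall]
    intro k hk
    by_contra hk1
    have hθk : θ k ∉ Subgroup.center (QuaternionGroup 2) := fun h => hk1 (hinf k ((hHmem k).mpr h) hk)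
    have hθk1 : θ k ≠ 1 := fun h => hθk (h ▸ one_mem _)
    rcases Cfsg.Agent.S0827.q8_sq (θ k) hθk1 with h | h
    · exact hθk (h ▸ ha2)
    · have hkk : θ (k * k) = QuaternionGroup.a 2 := by rw [map_mul, h]
      have h1 : k * k = 1 := hinf (k * k) ((hHmem _).mpr (hkk ▸ ha2)) (mul_mem hk hk)
      rw [h1, map_one] at hkk
      exact q8_a2_ne_one hkk.symm
  have hHtop : H = ⊤ := by
    have := hK.sup_eq_top
    rwa [hKbot, sup_bot_eq] at this
  obtain ⟨g, hg⟩ := hθsurj (QuaternionGroup.a 1)
  have hgH : g ∈ H := hHtop ▸ Subgroup.mem_top g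
  rw [hHmem, hg, Subgroup.mem_center_iff] at hgH
  exact q8_not_comm (hgH _)

/-- The subgroup lattice of PSU₃(2) (the solvable group of order 72, realised over the field with 4 elements) is not complemented: some subgroup H has no subgroup X with H ⊔ X = ⊤ and H ⊓ X = ⊥. -/
theorem result {F : Type*} [Field F] [Fintype F] (hF : Fintype.card F = 4) :
    ¬ ComplementedLattice (Subgroup (Cfsg.PSU 3 F 2)) := by
  obtain ⟨N, hN, -, -, ⟨e⟩⟩ := Cfsg.Agent.S0827.result hF
  exact not_complemented_of_quotient_q8 N e

end Cfsg.Agent.S5908
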