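import Cfsg.Statements.S5909
-- import your own Cfsg.Agent.* helpers here
import Cfsg.Agent.Lib.Helper98_Imprim
import Cfsg.Agent.Lib.Helper98_ImprimAlt
import Cfsg.Agent.Lib.Helper98_MaxIn
import Cfsg.Agent.S3681

set_option autoImplicit false
open Cfsg

namespace Cfsg.Agent.S5909

open Cfsg.Agent.Lib.Helper98_Imprim Cfsg.Agent.Lib.Helper98_ImprimAlt Cfsg.Agent.Lib.Helper98_MaxIn
open MulAction Equiv
open scoped Pointwise

section

variable {Ω : Type*} [Fintype Ω] [DecidableEq Ω] {b : ℕ} (f : Ω → Fin b) {a : ℕ}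
  (hf : ∀ i : Fin b, Nat.card {x : Ω // f x = i} = a)

omit [DecidableEq Ω] in
include hf in
theorem card_eq : Fintype.card Ω = b * a := by
  rw [Fintype.card_congr (Equiv.sigmaFiberEquiv f).symm, Fintype.card_sigma]
  simp only [← Nat.card_eq_fintype_card, hf]
  simp

include hf in
/-- the even part of the partition stabilizer is transitive -/
theorem exists_even_apply_eq (ha : 2 ≤ a) (hb : 2 ≤ b) (u v : Ω) :
    ∃ g ∈ partStab f ⊓ alternatingGroup Ω, g u = v := by
  have hcard : ∀ i j : Fin b, Nat.card {x // f x = i} = Nat.card {x // f x = j} :=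
    fun i j => (hf i).trans (hf j).symm
  obtain ⟨g, hg, hgu⟩ := exists_mem_partStab_apply_eq f hcard u v
  rcases Int.units_eq_one_or (Perm.sign g) with hs | hs
  · exact ⟨g, Subgroup.mem_inf.mpr ⟨hg, Perm.mem_alternatingGroup.mpr hs⟩, hgu⟩
  · obtain ⟨j, hj⟩ := exists_index ({f u} : Finset (Fin b))
      (by rw [Finset.card_singleton, Fintype.card_fin]; omega)
    rw [Finset.mem_singleton] at hj
    obtain ⟨p, q, hpq, hp, hq, -, -⟩ := exists_pair f hf j ∅ (by rw [Finset.card_empty]; omega)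
    have hpu : u ≠ p := fun h => hj (by rw [← hp, h])
    have hqu : u ≠ q := fun h => hj (by rw [← hq, h])
    refine ⟨g * swap p q, Subgroup.mem_inf.mpr
      ⟨Subgroup.mul_mem _ hg (swap_mem_partStab f (hp.trans hq.symm)), ?_⟩, ?_⟩
    · rw [Perm.mem_alternatingGroup, map_mul, hs, Perm.sign_swap hpq]
      rfl
    · rw [Perm.mul_apply, swap_apply_of_ne_of_ne hpu hqu, hgu]

include hf in
/-- the even part of the partition stabilizer is a proper subgroup of the alternating group -/
theorem inf_ne (ha : 2 ≤ a) (hb : 2 ≤ b) :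
    partStab f ⊓ alternatingGroup Ω ≠ alternatingGroup Ω := by
  let i0 : Fin b := ⟨0, by omega⟩
  let i1 : Fin b := ⟨1, by omega⟩
  have hi01 : i0 ≠ i1 := by
    intro h
    have := congrArg Fin.val h
    simp [i0, i1] at this
  obtain ⟨x, y, hxy, hx, hy, -, -⟩ := exists_pair f hf i0 ∅ (by rw [Finset.card_empty]; omega)
  obtain ⟨z, -, -, hz, -, -, -⟩ := exists_pair f hf i1 ∅ (by rw [Finset.card_empty]; omega)
  have hxz : x ≠ z := fun h => hi01 (by rw [← hx, ← hz, h])
  have hyz : y ≠ z := fun h => hi01 (by rw [← hy, ← hz, h])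
  intro htop
  have hmem : swap x z * swap x y ∈ partStab f ⊓ alternatingGroup Ω := by
    rw [htop]
    exact swap_mul_swap_mem_alternatingGroup hxz hxy
  have := ((Subgroup.mem_inf.mp hmem).1 x y).mp (hx.trans hy.symm)
  rw [Perm.mul_apply, Perm.mul_apply, swap_apply_left, swap_apply_right,
    swap_apply_of_ne_of_ne hxy.symm hyz, swap_apply_left, hy, hz] at this
  exact hi01 this

include hf in
/-- a three-cycle inside a fibre -/
theorem three_cycle_of_three_le (ha : 3 ≤ a) (hb : 2 ≤ b) :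
    ∃ c ∈ partStab f ⊓ alternatingGroup Ω, c.IsThreeCycle := by
  let i0 : Fin b := ⟨0, by omega⟩
  have h1 := card_filter f hf i0
  obtain ⟨x, hx, y, hy, z, hz, hxy, hxz, hyz⟩ :=
    Finset.two_lt_card.mp (show 2 < (Finset.univ.filter (fun w => f w = i0)).card by omega)
  rw [Finset.mem_filter] at hx hy hz
  refine ⟨swap x y * swap x z, Subgroup.mem_inf.mpr ⟨Subgroup.mul_mem _
    (swap_mem_partStab f (hx.2.trans hy.2.symm)) (swap_mem_partStab f (hx.2.trans hz.2.symm)),
    swap_mul_swap_mem_alternatingGroup hxy hxz⟩, Perm.isThreeCycle_swap_mul_swap_same hxy hxz hyz⟩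

include hf in
/-- a permutation that does not preserve the partition into pairs splits some pair -/
theorem exists_bad_pair (ha : a = 2) {g : Perm Ω} (hg : g ∉ partStab f) :
    ∃ p q, p ≠ q ∧ f p = f q ∧ f (g p) ≠ f (g q) := by
  rw [mem_partStab] at hg
  push Not at hg
  obtain ⟨x, y, hxy⟩ := hg
  rcases hxy with ⟨h1, h2⟩ | ⟨h1, h2⟩
  · exact ⟨x, y, fun h => h2 (by rw [h]), h1, h2⟩
  · obtain ⟨x', hx'ne, hx'f⟩ := exists_mate f hf (by omega) x
    refine ⟨x, x', hx'ne.symm, hx'f.symm, fun h => ?_⟩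
    have hyx' : y ≠ x' := fun h' => h1 (by rw [h', hx'f])
    have hxy' : x ≠ y := fun h' => h1 (by rw [h'])
    rcases two_of_three f hf ha h2 h with h' | h' | h'
    · exact hxy' (g.injective h')
    · exact hx'ne.symm (g.injective h')
    · exact hyx' (g.injective h')

include hf in
/-- pairs, at least five of them: a primitive overgroup contains a three-cycle -/
theorem three_cycle_of_five_le (ha : a = 2) (hb : 5 ≤ b) (K : Subgroup (Perm Ω))
    (hK : partStab f ⊓ alternatingGroup Ω ≤ K) {g : Perm Ω} (hgK : g ∈ K)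
    (hg : g ∉ partStab f) : ∃ c ∈ K, c.IsThreeCycle := by
  obtain ⟨p, q, hpq, hfpq, hbad⟩ := exists_bad_pair f hf ha hg
  obtain ⟨r1, hr1ne, hr1f⟩ := exists_mate f hf (by omega) (g p)
  obtain ⟨j, hj⟩ := exists_index ({f p, f (g⁻¹ r1)} : Finset (Fin b))
    (lt_of_le_of_lt Finset.card_le_two (by rw [Fintype.card_fin]; omega))
  rw [Finset.mem_insert, Finset.mem_singleton] at hj
  push Not at hj
  obtain ⟨p', q', hp'q', hp', hq', -, -⟩ := exists_pair f hf j ∅
    (by rw [Finset.card_empty]; omega)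
  obtain ⟨i3, hi3⟩ := exists_index ({f (g p), f (g q), f (g p'), f (g q')} : Finset (Fin b))
    (lt_of_le_of_lt Finset.card_le_four (by rw [Fintype.card_fin]; omega))
  simp only [Finset.mem_insert, Finset.mem_singleton] at hi3
  push Not at hi3
  obtain ⟨s, s', hss', hs, hs', -, -⟩ := exists_pair f hf i3 ∅
    (by rw [Finset.card_empty]; omega)
  have hpp' : p ≠ p' := fun h => hj.1 (by rw [← hp', h])
  have hpq' : p ≠ q' := fun h => hj.1 (by rw [← hq', h])
  have hig : ∀ X, g⁻¹ (g X) = X := fun X => by simp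
  have ht : swap p q * swap p' q' ∈ K :=
    hK (Subgroup.mem_inf.mpr ⟨Subgroup.mul_mem _ (swap_mem_partStab f hfpq)
      (swap_mem_partStab f (hp'.trans hq'.symm)), swap_mul_swap_mem_alternatingGroup hpq hp'q'⟩)
  have hy : swap (g p) (g q) * swap (g p') (g q') ∈ K := by
    have h1 : g * (swap p q * swap p' q') * g⁻¹ ∈ K :=
      K.mul_mem (K.mul_mem hgK ht) (K.inv_mem hgK)
    rw [swap_apply_apply, swap_apply_apply]
    convert h1 using 1
    group
  have hx : swap (g p) r1 * swap s s' ∈ K :=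
    hK (Subgroup.mem_inf.mpr ⟨Subgroup.mul_mem _ (swap_mem_partStab f hr1f.symm)
      (swap_mem_partStab f (hs.trans hs'.symm)), swap_mul_swap_mem_alternatingGroup hr1ne.symm hss'⟩)
  have hgps : g p ≠ s := fun h => hi3.1 (by rw [← hs, h])
  have hgps' : g p ≠ s' := fun h => hi3.1 (by rw [← hs', h])
  refine ⟨_, K.mul_mem (K.mul_mem (K.mul_mem hx hy) (K.inv_mem hx)) (K.inv_mem hy),
    Cfsg.Agent.S3681.isThreeCycle_commutator _ _ (g p) ?_ ?_ ?_⟩
  · rw [Perm.mul_apply, swap_apply_of_ne_of_ne hgps hgps', swap_apply_left]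
    exact hr1ne
  · rw [Perm.mul_apply, swap_apply_of_ne_of_ne (fun h => hpp' (g.injective h))
      (fun h => hpq' (g.injective h)), swap_apply_left]
    exact fun h => hpq (g.injective h).symm
  · intro ω hxω hyω
    by_contra hω
    have hω' : ω = r1 ∨ ω = s ∨ ω = s' := by
      by_contra hcon
      push Not at hcon
      apply hxω
      rw [Perm.mul_apply, swap_apply_of_ne_of_ne hcon.2.1 hcon.2.2,
        swap_apply_of_ne_of_ne hω hcon.1]
    apply hyω
    have key : ∀ ω', ω' ≠ g p → ω' ≠ g q → ω' ≠ g p' → ω' ≠ g q' →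
        (swap (g p) (g q) * swap (g p') (g q')) ω' = ω' := by
      intro ω' h1 h2 h3 h4
      rw [Perm.mul_apply, swap_apply_of_ne_of_ne h3 h4, swap_apply_of_ne_of_ne h1 h2]
    rcases hω' with h | h | h
    · rw [h]
      refine key r1 hr1ne (fun h' => hbad (by rw [← hr1f, h'])) ?_ ?_
      · intro h'
        apply hj.2
        rw [h', hig, hp']
      · intro h'
        apply hj.2
        rw [h', hig, hq']
    · rw [h]
      exact key s (fun h' => hi3.1 (by rw [← hs, h'])) (fun h' => hi3.2.1 (by rw [← hs, h']))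
        (fun h' => hi3.2.2.1 (by rw [← hs, h'])) (fun h' => hi3.2.2.2 (by rw [← hs, h']))
    · rw [h]
      exact key s' (fun h' => hi3.1 (by rw [← hs', h'])) (fun h' => hi3.2.1 (by rw [← hs', h']))
        (fun h' => hi3.2.2.1 (by rw [← hs', h'])) (fun h' => hi3.2.2.2 (by rw [← hs', h']))

include hf in
/-- three pairs: an overgroup not preserving the partition contains a three-cycle -/
theorem three_cycle_of_three (ha : a = 2) (hb : b = 3) (K : Subgroup (Perm Ω))
    (hK : partStab f ⊓ alternatingGroup Ω ≤ K) {g : Perm Ω} (hgK : g ∈ K)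
    (hg : g ∉ partStab f) : ∃ c ∈ K, c.IsThreeCycle := by
  obtain ⟨p, q, hpq, hfpq, hbad⟩ := exists_bad_pair f hf ha hg
  obtain ⟨u', hu'ne, hu'f⟩ := exists_mate f hf (by omega) (g p)
  obtain ⟨v', hv'ne, hv'f⟩ := exists_mate f hf (by omega) (g q)
  obtain ⟨i3, hi3⟩ := exists_index ({f (g p), f (g q)} : Finset (Fin b))
    (lt_of_le_of_lt Finset.card_le_two (by rw [Fintype.card_fin]; omega))
  rw [Finset.mem_insert, Finset.mem_singleton] at hi3
  push Not at hi3
  obtain ⟨w, w', hww', hw, hw', -, -⟩ := exists_pair f hf i3 ∅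
    (by rw [Finset.card_empty]; omega)
  have h3 : ∀ {x y z : Ω}, f x = f y → f x = f z → x ≠ y → x ≠ z → y ≠ z → False := by
    intro x y z h1 h2 n1 n2 n3
    rcases two_of_three f hf ha h1 h2 with h | h | h
    · exact n1 h
    · exact n2 h
    · exact n3 h
  -- the three fibres are everything
  have hidx : ∀ j : Fin b, j = f (g p) ∨ j = f (g q) ∨ j = i3 := by
    intro j
    have hc : ({f (g p), f (g q), i3} : Finset (Fin b)).card = 3 :=
      Finset.card_eq_three.mpr ⟨_, _, _, hbad, Ne.symm hi3.1, Ne.symm hi3.2, rfl⟩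
    have huniv := Finset.eq_univ_of_card _ (hc.trans (by rw [Fintype.card_fin, hb]))
    have hj := Finset.mem_univ j
    rw [← huniv] at hj
    simpa using hj
  have hcover : ∀ z, z = g p ∨ z = u' ∨ z = g q ∨ z = v' ∨ z = w ∨ z = w' := by
    intro z
    rcases hidx (f z) with h | h | h
    · rcases two_of_three f hf ha h (h.trans hu'f.symm) with h' | h' | h'
      · exact Or.inl h'
      · exact Or.inr (Or.inl h')
      · exact absurd h'.symm hu'ne
    · rcases two_of_three f hf ha h (h.trans hv'f.symm) with h' | h' | h'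
      · exact Or.inr (Or.inr (Or.inl h'))
      · exact Or.inr (Or.inr (Or.inr (Or.inl h')))
      · exact absurd h'.symm hv'ne
    · rcases two_of_three f hf ha (h.trans hw.symm) (h.trans hw'.symm) with h' | h' | h'
      · exact Or.inr (Or.inr (Or.inr (Or.inr (Or.inl h'))))
      · exact Or.inr (Or.inr (Or.inr (Or.inr (Or.inr h'))))
      · exact absurd h' hww'
  -- distinctness
  have hu'v' : u' ≠ v' := fun h => hbad (by rw [← hu'f, ← hv'f, h])
  have hu'w : u' ≠ w := fun h => hi3.1 (by rw [← hw, ← h, hu'f])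
  have hu'w' : u' ≠ w' := fun h => hi3.1 (by rw [← hw', ← h, hu'f])
  have hv'w : v' ≠ w := fun h => hi3.2 (by rw [← hw, ← h, hv'f])
  have hv'w' : v' ≠ w' := fun h => hi3.2 (by rw [← hw', ← h, hv'f])
  have hu'q : u' ≠ g q := fun h => hbad (by rw [← hu'f, h])
  have hv'p : v' ≠ g p := fun h => hbad (by rw [← hv'f, h])
  have hwp : w ≠ g p := fun h => hi3.1 (by rw [← hw, h])
  have hwq : w ≠ g q := fun h => hi3.2 (by rw [← hw, h])
  have hw'p : w' ≠ g p := fun h => hi3.1 (by rw [← hw', h])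
  have hw'q : w' ≠ g q := fun h => hi3.2 (by rw [← hw', h])
  have hgi : ∀ X, g (g⁻¹ X) = X := fun X => by simp
  have hX : ∀ X, X ≠ g p → X ≠ g q → f (g⁻¹ X) ≠ f p := by
    intro X hXp hXq h
    have e1 : p ≠ g⁻¹ X := fun e => hXp (by rw [e, hgi])
    have e2 : q ≠ g⁻¹ X := fun e => hXq (by rw [e, hgi])
    exact h3 hfpq h.symm hpq e1 e2
  have hinj : ∀ {X Y : Ω}, X ≠ Y → g⁻¹ X ≠ g⁻¹ Y := fun h e => h (g⁻¹.injective e)
  have hσ : swap (g⁻¹ u') (g⁻¹ v') * swap (g⁻¹ w) (g⁻¹ w') ∈ partStab f := by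
    refine pairing_mem_partStab f hf ha (hinj hu'v') (hinj hu'w) (hinj hu'w') (hinj hv'w)
      (hinj hv'w') (hinj hww') ?_
    intro z hz
    have hzp : f z ≠ f p := by
      rcases hz with h | h | h | h <;> rw [h]
      · exact hX _ hu'ne hu'q
      · exact hX _ hv'p hv'ne
      · exact hX _ hwp hwq
      · exact hX _ hw'p hw'q
    have hzp' : g z ≠ g p := fun h => hzp (by rw [g.injective h])
    have hzq' : g z ≠ g q := fun h => hzp (by rw [g.injective h, hfpq])
    rcases hcover (g z) with h | h | h | h | h | h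
    · exact absurd h hzp'
    · exact Or.inl (Perm.eq_inv_iff_eq.mpr h)
    · exact absurd h hzq'
    · exact Or.inr (Or.inl (Perm.eq_inv_iff_eq.mpr h))
    · exact Or.inr (Or.inr (Or.inl (Perm.eq_inv_iff_eq.mpr h)))
    · exact Or.inr (Or.inr (Or.inr (Perm.eq_inv_iff_eq.mpr h)))
  have hσK : swap (g⁻¹ u') (g⁻¹ v') * swap (g⁻¹ w) (g⁻¹ w') ∈ K :=
    hK (Subgroup.mem_inf.mpr ⟨hσ, swap_mul_swap_mem_alternatingGroup (hinj hu'v') (hinj hww')⟩)
  have hx : swap u' v' * swap w w' ∈ K := by
    have h1 : g * (swap (g⁻¹ u') (g⁻¹ v') * swap (g⁻¹ w) (g⁻¹ w')) * g⁻¹ ∈ K :=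
      K.mul_mem (K.mul_mem hgK hσK) (K.inv_mem hgK)
    have e1 : swap u' v' = g * swap (g⁻¹ u') (g⁻¹ v') * g⁻¹ := by
      rw [← swap_apply_apply, hgi, hgi]
    have e2 : swap w w' = g * swap (g⁻¹ w) (g⁻¹ w') * g⁻¹ := by
      rw [← swap_apply_apply, hgi, hgi]
    rw [e1, e2]
    convert h1 using 1
    group
  have ht : swap w w' * swap (g p) u' ∈ K :=
    hK (Subgroup.mem_inf.mpr ⟨Subgroup.mul_mem _ (swap_mem_partStab f (hw.trans hw'.symm))
      (swap_mem_partStab f hu'f.symm), swap_mul_swap_mem_alternatingGroup hww' hu'ne.symm⟩)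
  refine ⟨swap u' v' * swap w w' * (swap w w' * swap (g p) u'), K.mul_mem hx ht, ?_⟩
  rw [mul_assoc, swap_mul_self_mul, swap_comm (g p) u']
  exact Perm.isThreeCycle_swap_mul_swap_same hu'v' hu'ne hv'p

include hf in
/-- degree four: the even partition stabilizer has index three in the alternating group -/
theorem case_four (ha : a = 2) (hb : b = 2) (K : Subgroup (Perm Ω))
    (hK : partStab f ⊓ alternatingGroup Ω ≤ K) (hKA : K ≤ alternatingGroup Ω)
    (hne : K ≠ partStab f ⊓ alternatingGroup Ω) : K = alternatingGroup Ω := by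
  have hn : Fintype.card Ω = 4 := by rw [card_eq f hf, ha, hb]
  have : IsPretransitive (partStab f ⊓ alternatingGroup Ω : Subgroup (Perm Ω)) Ω :=
    ⟨fun u v => by
      obtain ⟨g, hg, hgu⟩ := exists_even_apply_eq f hf (by omega) (by omega) u v
      exact ⟨⟨g, hg⟩, hgu⟩⟩
  have h4 : 4 ∣ Nat.card (partStab f ⊓ alternatingGroup Ω : Subgroup (Perm Ω)) := by
    obtain ⟨u⟩ : Nonempty Ω := Fintype.card_pos_iff.mp (by omega)
    have h1 := MulAction.index_stabilizer_of_transitive
      (partStab f ⊓ alternatingGroup Ω : Subgroup (Perm Ω)) u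
    rw [Nat.card_eq_fintype_card, hn] at h1
    rw [← h1]
    exact Subgroup.index_dvd_card _
  have h1 := Subgroup.card_dvd_of_le hK
  have h2 := Subgroup.card_dvd_of_le hKA
  have h12 : Nat.card (alternatingGroup Ω) = 12 := by
    have : Nontrivial Ω := Fintype.one_lt_card_iff_nontrivial.mp (by omega)
    rw [nat_card_alternatingGroup, Nat.card_eq_fintype_card, hn]
    rfl
  have hlt : Nat.card (partStab f ⊓ alternatingGroup Ω : Subgroup (Perm Ω)) < Nat.card K := by
    by_contra hcon
    push Not at hcon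
    exact hne (Subgroup.eq_of_le_of_card_ge hK hcon).symm
  have hpos : 0 < Nat.card (partStab f ⊓ alternatingGroup Ω : Subgroup (Perm Ω)) := Nat.card_pos
  apply Subgroup.eq_of_le_of_card_ge hKA
  rw [h12] at h2 ⊢
  obtain ⟨m, hm⟩ := h4
  obtain ⟨k, hk⟩ := h1
  rw [hm] at hk hlt hpos
  have hK12 : Nat.card K ≤ 12 := Nat.le_of_dvd (by norm_num) h2
  rw [hk] at h2 hlt hK12 ⊢
  have hm1 : 1 ≤ m := by omega
  have hk2 : 2 ≤ k := by
    by_contra hcon
    push Not at hcon
    interval_cases k <;> omega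
  have hmk : m * k ≤ 3 := by nlinarith
  have hm' : m = 1 := by
    by_contra hcon
    have : 2 ≤ m := by omega
    nlinarith
  subst hm'
  have hk3 : k ≤ 3 := by omega
  interval_cases k
  · norm_num at h2
  · norm_num

end

/-- Let Ω be a finite set whose size is not 8, and f : Ω → Fin b a labelling with b ≥ 2 whose fibres all have the same size a ≥ 2 (a partition into b blocks of size a). Then the even permutations preserving the partition — the intersection of the imprimitive wreath product S_a ≀ S_b with the alternating group — form a maximal subgroup of the alternating group on Ω. -/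
theorem result {Ω : Type*} [Fintype Ω] [DecidableEq Ω] (h8 : Fintype.card Ω ≠ 8) (a b : ℕ) (ha : 2 ≤ a) (hb : 2 ≤ b)
    (f : Ω → Fin b) (hf : ∀ i : Fin b, Nat.card {x : Ω // f x = i} = a) :
    IsCoatom ((Subgroup.closure {g : Equiv.Perm Ω | ∀ x y : Ω, f x = f y ↔ f (g x) = f (g y)} ⊓ alternatingGroup Ω).subgroupOf (alternatingGroup Ω)) := by
  rw [closure_eq_partStab]
  have hcard : ∀ i j : Fin b, Nat.card {x // f x = i} = Nat.card {x // f x = j} :=
    fun i j => (hf i).trans (hf j).symm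
  have hfa : ∀ x₀ : Ω, (fibre f x₀).ncard = a := by
    intro x₀
    rw [← hf (f x₀), ← Nat.card_coe_set_eq]
    rfl
  have hn : Fintype.card Ω = b * a := card_eq f hf
  have han : a < Nat.card Ω := by
    rw [Nat.card_eq_fintype_card, hn]
    nlinarith
  rw [isCoatom_subgroupOf_iff_maxIn inf_le_right]
  refine ⟨inf_ne f hf ha hb, fun K hHK hKA => ?_⟩
  by_cases hKH : K ≤ partStab f
  · left
    exact le_antisymm (le_inf hKH hKA) hHK
  right
  by_cases h4 : a = 2 ∧ b = 2
  · refine case_four f hf h4.1 h4.2 K hHK hKA (fun h => hKH ?_)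
    rw [h]
    exact inf_le_left
  have h6 : 3 ≤ a ∨ 3 ≤ b := by omega
  have happrox : Approx f K := approx_of_pairs f K hHK
    (fun x₁ y => exists_pair_avoiding f hf ha (by rw [Fintype.card_fin]; exact hb)
      (by rw [Fintype.card_fin]; exact h6) x₁ y)
  have htrans : IsPretransitive K Ω := isPretransitive_of_approx f hcard K happrox
  have hprim : IsPreprimitive K Ω := by
    by_contra hnp
    exact hKH (le_partStab_of_not_isPreprimitive' f hcard a hfa (by omega) han K happrox hnp)
  obtain ⟨c, hcK, hc3⟩ : ∃ c ∈ K, c.IsThreeCycle := by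
    by_cases ha3 : 3 ≤ a
    · obtain ⟨c, hc, hc3⟩ := three_cycle_of_three_le f hf ha3 hb
      exact ⟨c, hHK hc, hc3⟩
    · have ha2 : a = 2 := by omega
      obtain ⟨g, hgK, hgH⟩ := SetLike.not_le_iff_exists.mp hKH
      have hb4 : b ≠ 4 := by
        intro h
        apply h8
        rw [hn, ha2, h]
      by_cases hb3 : b = 3
      · exact three_cycle_of_three f hf ha2 hb3 K hHK hgK hgH
      · exact three_cycle_of_five_le f hf ha2 (by omega) K hHK hgK hgH
  exact le_antisymm hKA
    (Equiv.Perm.alternatingGroup_le_of_isPreprimitive_of_isThreeCycle_mem hprim hc3 hcK)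

end Cfsg.Agent.S5909
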