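import Mathlib
import Cfsg.Statements.S5910
import Cfsg.Agent.Lib.Helper40_A8Pairs

set_option autoImplicit false
open Cfsg

namespace Cfsg.Agent.S5910

open Cfsg.Agent.Lib.Helper40_A8Pairs

/-- Let Ω be a set with 8 elements and f : Ω → Fin 4 a labelling whose four fibres all have size 2 (a partition of the 8 points into 4 pairs). Then the group of even permutations preserving this partition, (S₂ ≀ S₄) ∩ A₈, is not a maximal subgroup of the alternating group A₈ (it lies in a subgroup isomorphic to the affine group AGL₃(2)). -/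
theorem result {Ω : Type*} [Fintype Ω] [DecidableEq Ω] (h8 : Fintype.card Ω = 8)
    (f : Ω → Fin 4) (hf : ∀ i : Fin 4, Nat.card {x : Ω // f x = i} = 2) :
    ¬ IsCoatom ((Subgroup.closure {g : Equiv.Perm Ω | ∀ x y : Ω, f x = f y ↔ f (g x) = f (g y)} ⊓ alternatingGroup Ω).subgroupOf (alternatingGroup Ω)) := by
  obtain ⟨e, he⟩ := exists_equiv f hf
  have hfe : ∀ x y : Ω, f x = f y ↔ (e x).val / 2 = (e y).val / 2 := by
    intro x y
    rw [he, he, Fin.ext_iff]
  -- the stabiliser of the partition is a subgroup
  let S : Subgroup (Equiv.Perm Ω) :=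
    { carrier := {g | ∀ x y : Ω, f x = f y ↔ f (g x) = f (g y)}
      mul_mem' := by
        intro a b ha hb x y
        rw [Equiv.Perm.mul_apply, Equiv.Perm.mul_apply, ← ha, ← hb]
      one_mem' := fun x y => Iff.rfl
      inv_mem' := by
        intro a ha x y
        have := ha (a⁻¹ x) (a⁻¹ y)
        simp only [Equiv.Perm.coe_inv, Equiv.apply_symm_apply] at this ⊢
        exact this.symm }
  have hS : Subgroup.closure {g : Equiv.Perm Ω | ∀ x y : Ω, f x = f y ↔ f (g x) = f (g y)} = S :=
    Subgroup.closure_eq S
  have hSmem : ∀ g : Equiv.Perm Ω, g ∈ S ↔ ∀ x y : Ω, f x = f y ↔ f (g x) = f (g y) :=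
    fun g => Iff.rfl
  -- the affine group
  let K0 : Subgroup (Equiv.Perm Ω) :=
    { carrier := {g | aff (e.permCongr g)}
      mul_mem' := by
        intro a b ha hb x y z
        have ha' := ha
        have hb' := hb
        simp only [Set.mem_ofPred_eq, aff, Equiv.permCongr_apply] at ha' hb' ⊢
        simp only [Equiv.Perm.mul_apply]
        have hb2 : b (e.symm (x ^^^ y ^^^ z)) =
            e.symm (e (b (e.symm x)) ^^^ e (b (e.symm y)) ^^^ e (b (e.symm z))) := by
          rw [← hb', Equiv.symm_apply_apply]
        rw [hb2]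
        have h1 := ha' (e (b (e.symm x))) (e (b (e.symm y))) (e (b (e.symm z)))
        simp only [Equiv.symm_apply_apply] at h1
        exact h1
      one_mem' := by
        intro x y z
        simp [Equiv.permCongr_apply]
      inv_mem' := by
        intro a ha x y z
        have ha' := ha
        simp only [Set.mem_ofPred_eq, aff, Equiv.permCongr_apply] at ha' ⊢
        have h1 := ha' (e (a⁻¹ (e.symm x))) (e (a⁻¹ (e.symm y))) (e (a⁻¹ (e.symm z)))
        simp only [Equiv.symm_apply_apply, Equiv.Perm.coe_inv, Equiv.apply_symm_apply] at h1 ⊢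
        rw [← h1]
        simp }
  have hK0mem : ∀ g : Equiv.Perm Ω, g ∈ K0 ↔ aff (e.permCongr g) := fun g => Iff.rfl
  intro hco
  have hlt : (Subgroup.closure {g : Equiv.Perm Ω | ∀ x y : Ω, f x = f y ↔ f (g x) = f (g y)} ⊓
      alternatingGroup Ω).subgroupOf (alternatingGroup Ω) < K0.subgroupOf (alternatingGroup Ω) := by
    rw [hS]
    apply lt_of_le_of_ne
    · intro g hg
      rw [Subgroup.mem_subgroupOf] at hg ⊢
      rw [hK0mem]
      apply key_perm
      · intro a b
        have h1 := (hSmem _).1 hg.1 (e.symm a) (e.symm b)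
        rw [hfe, hfe] at h1
        simpa [Equiv.permCongr_apply] using h1
      · rw [Equiv.Perm.sign_permCongr]
        exact Equiv.Perm.mem_alternatingGroup.1 g.2
    · intro heq
      -- kap is in K but not in S
      have hk : e.symm.permCongr kap ∈ alternatingGroup Ω := by
        rw [Equiv.Perm.mem_alternatingGroup, Equiv.Perm.sign_permCongr]
        exact kap_sign
      have hkK : (⟨e.symm.permCongr kap, hk⟩ : alternatingGroup Ω) ∈
          K0.subgroupOf (alternatingGroup Ω) := by
        rw [Subgroup.mem_subgroupOf, hK0mem]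
        have : e.permCongr (e.symm.permCongr kap) = kap := by
          ext a
          simp [Equiv.permCongr_apply]
        rw [this]
        exact kap_aff
      rw [← heq, Subgroup.mem_subgroupOf] at hkK
      have h2 := (hSmem _).1 hkK.1 (e.symm 0) (e.symm 1)
      rw [hfe, hfe] at h2
      simp only [Equiv.permCongr_apply, Equiv.symm_symm, Equiv.apply_symm_apply] at h2
      exact kap_not_pairs h2
  have htop := hco.2 _ hlt
  -- tau is even but not affine
  have ht : e.symm.permCongr tau ∈ alternatingGroup Ω := by
    rw [Equiv.Perm.mem_alternatingGroup, Equiv.Perm.sign_permCongr]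
    exact tau_sign
  have htK : (⟨e.symm.permCongr tau, ht⟩ : alternatingGroup Ω) ∈
      K0.subgroupOf (alternatingGroup Ω) := by
    rw [htop]
    trivial
  rw [Subgroup.mem_subgroupOf, hK0mem] at htK
  have : e.permCongr (e.symm.permCongr tau) = tau := by
    ext a
    simp [Equiv.permCongr_apply]
  rw [this] at htK
  exact tau_not_aff htK

end Cfsg.Agent.S5910
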