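import Cfsg.Statements.S5911
import Cfsg.Agent.Lib.Helper99_SymAut

set_option autoImplicit false
open Cfsg

namespace Cfsg.Agent.S5911

open Cfsg.Agent.Lib.Helper99_SymAut Equiv

theorem result {Ω : Type*} [Fintype Ω] [DecidableEq Ω] (h6 : Fintype.card Ω ≠ 6)
    (H : Subgroup (Equiv.Perm Ω)) (hH : H.index = Fintype.card Ω) :
    ∃ x : Ω, H = MulAction.stabilizer (Equiv.Perm Ω) x := by
  classical
  have hcardG : Nat.card (Perm Ω) = (Fintype.card Ω).factorial := by
    rw [Nat.card_eq_fintype_card, Fintype.card_perm]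
  have hHcard : Nat.card H * Fintype.card Ω = (Fintype.card Ω).factorial := by
    have := H.card_mul_index
    rw [hH, hcardG] at this
    exact this
  -- it suffices to have an inclusion
  have hsuff : ∀ x : Ω, H ≤ MulAction.stabilizer (Perm Ω) x → H = MulAction.stabilizer (Perm Ω) x :=
    fun x hx => eq_of_le_of_index_eq _ _ (by rw [index_stabilizer, hH]) hx
  rcases Nat.lt_or_ge (Fintype.card Ω) 5 with hlt | hge
  · -- small degrees
    have h0 : Fintype.card Ω ≠ 0 := by
      intro h
      rw [h] at hH
      exact Subgroup.index_ne_zero_of_finite hH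
    have hne : Nonempty Ω := by
      rw [← Fintype.card_pos_iff]; omega
    obtain ⟨x₁⟩ := hne
    have hn : Fintype.card Ω = 1 ∨ Fintype.card Ω = 2 ∨ Fintype.card Ω = 3 ∨ Fintype.card Ω = 4 := by
      omega
    rcases hn with hn | hn | hn | hn
    · refine ⟨x₁, ?_⟩
      have h1 : H = ⊤ := by rw [← Subgroup.index_eq_one, hH, hn]
      have h2 : MulAction.stabilizer (Perm Ω) x₁ = ⊤ := by
        rw [← Subgroup.index_eq_one, index_stabilizer, hn]
      rw [h1, h2]
    · refine ⟨x₁, hsuff x₁ ?_⟩
      have h1 : Nat.card H = 1 := by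
        rw [hn] at hHcard
        have : (2 : ℕ).factorial = 2 := by decide
        omega
      rw [Subgroup.card_eq_one] at h1
      rw [h1]
      exact bot_le
    · have hp : Fact (Nat.Prime 2) := ⟨Nat.prime_two⟩
      obtain ⟨x, hx⟩ := small_case 2 (by rw [hn]) (by rw [hn]; norm_num) H (Or.inl (by
        rw [hn] at hHcard
        have : (3 : ℕ).factorial = 6 := by decide
        omega))
      exact ⟨x, hsuff x hx⟩
    · have hp : Fact (Nat.Prime 3) := ⟨Nat.prime_three⟩
      obtain ⟨x, hx⟩ := small_case 3 (by rw [hn]) (by rw [hn]; norm_num) H (Or.inr (by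
        rw [hn] at hHcard
        have : (4 : ℕ).factorial = 24 := by decide
        omega))
      exact ⟨x, hsuff x hx⟩
  · exact eq_stabilizer_of_index_of_five_le hge h6 H hH

end Cfsg.Agent.S5911
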