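import Cfsg.Statements.S5944

set_option autoImplicit false
open Cfsg

namespace Cfsg.Agent.S5944

open Equiv

/-- A subgroup `H` of `Perm (Fin n)`, different from `⊤` and the alternating group, has index ≥ 3. -/
lemma three_le_index (n : ℕ) (H : Subgroup (Equiv.Perm (Fin n))) (hH : H ≠ ⊤)
    (hA : H ≠ alternatingGroup (Fin n)) : 3 ≤ H.index := by
  have h0 : H.index ≠ 0 := Subgroup.index_ne_zero_of_finite
  have h1 : H.index ≠ 1 := fun h => hH (Subgroup.index_eq_one.mp h)
  have h2 : H.index ≠ 2 := fun h => hA (Equiv.Perm.eq_alternatingGroup_of_index_eq_two h)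
  omega

/-- If the normal core of `H` is trivial then `|G|` divides `(index H)!`. -/
lemma card_dvd_factorial_of_normalCore_eq_bot {G : Type*} [Group G] [Finite G] (H : Subgroup G)
    (h : H.normalCore = ⊥) : Nat.card G ∣ (H.index).factorial := by
  classical
  have hinj : Function.Injective (MulAction.toPermHom G (G ⧸ H)) := by
    rw [← MonoidHom.ker_eq_bot_iff, ← Subgroup.normalCore_eq_ker, h]
  have := Subgroup.card_dvd_of_injective _ hinj
  rwa [Nat.card_perm, ← Subgroup.index] at this

/-- For n ≠ 4, every proper subgroup of the symmetric group S_n other than the alternating group A_n has index at least n. -/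
theorem result (n : ℕ) (hn : n ≠ 4) (H : Subgroup (Equiv.Perm (Fin n))) (hH : H ≠ ⊤) (hA : H ≠ alternatingGroup (Fin n)) : n ≤ H.index := by
  have h3 := three_le_index n H hH hA
  by_cases hn5 : n < 5
  · omega
  rw [not_lt] at hn5
  by_contra hlt
  rw [not_le] at hlt
  have hcard : 5 ≤ Nat.card (Fin n) := by simpa using hn5
  by_cases hcore : H.normalCore = ⊥
  · have hdvd := card_dvd_factorial_of_normalCore_eq_bot H hcore
    rw [Nat.card_perm, Nat.card_fin] at hdvd
    have hle := Nat.le_of_dvd (Nat.factorial_pos _) hdvd
    have hlt' : (H.index).factorial < n.factorial := by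
      apply Nat.factorial_lt_of_lt _ hlt
      omega
    omega
  · have hnt : Nontrivial H.normalCore := (Subgroup.nontrivial_iff_ne_bot _).mpr hcore
    have hle : alternatingGroup (Fin n) ≤ H :=
      (Equiv.Perm.alternatingGroup_le_of_normal hcard hnt).trans (Subgroup.normalCore_le H)
    have hidx : H.index ∣ (alternatingGroup (Fin n)).index := Subgroup.index_dvd_of_le hle
    have h2 : (alternatingGroup (Fin n)).index = 2 := by
      have : Nontrivial (Fin n) := Fin.nontrivial_iff_two_le.mpr (by omega)
      exact alternatingGroup.index_eq_two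
    rw [h2] at hidx
    have := Nat.le_of_dvd (by norm_num) hidx
    omega

end Cfsg.Agent.S5944
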