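import Cfsg.Statements.S5945

set_option autoImplicit false
open Cfsg

namespace Cfsg.Agent.S5945

open Equiv

abbrev G6 := Equiv.Perm (Fin 6)

lemma card_G6 : Nat.card G6 = 720 := by
  rw [Nat.card_perm, Nat.card_fin]; rfl

/-- A normal subgroup contained in a subgroup of index 6 is trivial. -/
lemma normal_le_index_six_eq_bot (H N : Subgroup G6) (hH : H.index = 6) [N.Normal] (hN : N ≤ H) :
    N = ⊥ := by
  by_contra hne
  have hnt : Nontrivial N := (Subgroup.nontrivial_iff_ne_bot _).mpr hne
  have hcard : 5 ≤ Nat.card (Fin 6) := by simp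
  have hle : alternatingGroup (Fin 6) ≤ H :=
    (Equiv.Perm.alternatingGroup_le_of_normal hcard hnt).trans hN
  have hidx : H.index ∣ (alternatingGroup (Fin 6)).index := Subgroup.index_dvd_of_le hle
  rw [alternatingGroup.index_eq_two, hH] at hidx
  omega

/-- Every subgroup of index 6 of `S_6` is the preimage of a point stabilizer under some automorphism. -/
lemma exists_aut_map_eq_stabilizer (H : Subgroup G6) (hH : H.index = 6) :
    ∃ (α : G6 ≃* G6) (a : Fin 6), H.map α.toMonoidHom = MulAction.stabilizer G6 a := by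
  classical
  have hcardX : Nat.card (G6 ⧸ H) = 6 := hH
  have : Finite (G6 ⧸ H) := Nat.finite_of_card_ne_zero (by rw [hcardX]; norm_num)
  haveI : Fintype (G6 ⧸ H) := Fintype.ofFinite _
  let φ : G6 →* Equiv.Perm (G6 ⧸ H) := MulAction.toPermHom G6 (G6 ⧸ H)
  have hker : φ.ker = ⊥ := by
    rw [← Subgroup.normalCore_eq_ker]
    exact normal_le_index_six_eq_bot H _ hH (Subgroup.normalCore_le H)
  have hinj : Function.Injective φ := (MonoidHom.ker_eq_bot_iff φ).mp hker
  have hcard : Nat.card G6 = Nat.card (Equiv.Perm (G6 ⧸ H)) := by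
    rw [card_G6, Nat.card_perm, hcardX]; rfl
  have hbij : Function.Bijective φ :=
    (Nat.bijective_iff_injective_and_card φ).mpr ⟨hinj, hcard⟩
  let φe : G6 ≃* Equiv.Perm (G6 ⧸ H) := MulEquiv.ofBijective φ hbij
  have hcardX' : Fintype.card (G6 ⧸ H) = Fintype.card (Fin 6) := by
    rw [← Nat.card_eq_fintype_card, hcardX]; simp
  let e : (G6 ⧸ H) ≃ Fin 6 := Fintype.equivOfCardEq hcardX'
  let α : G6 ≃* G6 := φe.trans e.permCongrHom
  refine ⟨α, e (QuotientGroup.mk 1), ?_⟩
  ext σ
  simp only [Subgroup.mem_map, MulAction.mem_stabilizer_iff]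
  have hα : ∀ g : G6, ∀ x : Fin 6, (α g) x = e (g • e.symm x) := by
    intro g x
    rfl
  constructor
  · rintro ⟨g, hg, rfl⟩
    change (α g) (e (QuotientGroup.mk 1)) = e (QuotientGroup.mk 1)
    rw [hα, Equiv.symm_apply_apply]
    congr 1
    have : g ∈ MulAction.stabilizer G6 (QuotientGroup.mk 1 : G6 ⧸ H) := by
      rw [MulAction.stabilizer_quotient]; exact hg
    exact this
  · intro hσ
    obtain ⟨g, rfl⟩ := α.surjective σ
    refine ⟨g, ?_, rfl⟩
    change (α g) (e (QuotientGroup.mk 1)) = e (QuotientGroup.mk 1) at hσ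
    rw [hα, Equiv.symm_apply_apply] at hσ
    have h2 := e.injective hσ
    have : g ∈ MulAction.stabilizer G6 (QuotientGroup.mk 1 : G6 ⧸ H) := h2
    rwa [MulAction.stabilizer_quotient] at this

/-- The stabilizer of a point in `S_6` is isomorphic to `S_5`. -/
lemma stabilizer_equiv_perm_five (a : Fin 6) :
    Nonempty (MulAction.stabilizer G6 a ≃* Equiv.Perm (Fin 5)) := by
  classical
  let p : Fin 6 → Prop := fun x => x ≠ a
  let ι : Equiv.Perm (Subtype p) →* G6 := Equiv.Perm.ofSubtype
  have hinj : Function.Injective ι := Equiv.Perm.ofSubtype_injective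
  have hrange : ι.range = MulAction.stabilizer G6 a := by
    ext σ
    simp only [MonoidHom.mem_range, MulAction.mem_stabilizer_iff]
    constructor
    · rintro ⟨f, rfl⟩
      exact Equiv.Perm.ofSubtype_apply_of_not_mem f (by simp [p])
    · intro hσ
      have hσ' : σ a = a := hσ
      have h₁ : ∀ x, p (σ x) ↔ p x := by
        intro x
        simp only [p, ne_eq]
        rw [not_iff_not]
        constructor
        · intro h; exact σ.injective (h.trans hσ'.symm)
        · intro h; rw [h, hσ']
      have h₂ : ∀ x, σ x ≠ x → p x := by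
        intro x hx hxa
        apply hx
        rw [hxa]
        exact hσ'
      exact ⟨σ.subtypePerm h₁, Equiv.Perm.ofSubtype_subtypePerm h₁ h₂⟩
  have hcard : Fintype.card (Subtype p) = Fintype.card (Fin 5) := by
    simp only [p]
    rw [Fintype.card_subtype_compl, Fintype.card_fin, Fintype.card_fin]
    simp
  let e : Subtype p ≃ Fin 5 := Fintype.equivOfCardEq hcard
  exact ⟨((MulEquiv.subgroupCongr hrange).symm.trans (MonoidHom.ofInjective hinj).symm).trans
    e.permCongrHom⟩

abbrev G5 := Equiv.Perm (Fin 5)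

lemma card_G5 : Nat.card G5 = 120 := by
  rw [Nat.card_perm, Nat.card_fin]; rfl

lemma fact_prime_five : Fact (Nat.Prime 5) := ⟨by norm_num⟩

attribute [local instance] fact_prime_five

/-- a nontrivial normal subgroup of `S_5` has index at most 2 -/
lemma index_le_two_of_normal_G5 (N : Subgroup G5) [N.Normal] (hN : N ≠ ⊥) : N.index ∣ 2 := by
  have hnt : Nontrivial N := (Subgroup.nontrivial_iff_ne_bot _).mpr hN
  have hcard : 5 ≤ Nat.card (Fin 5) := by simp
  have hle : alternatingGroup (Fin 5) ≤ N := Equiv.Perm.alternatingGroup_le_of_normal hcard hnt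
  have hidx : N.index ∣ (alternatingGroup (Fin 5)).index := Subgroup.index_dvd_of_le hle
  rwa [alternatingGroup.index_eq_two] at hidx

lemma card_sylow_five_G5 : Nat.card (Sylow 5 G5) = 6 := by
  obtain ⟨P⟩ : Nonempty (Sylow 5 G5) := inferInstance
  have hPcard : Nat.card P = 5 := by
    have h := P.card_eq_multiplicity
    rw [card_G5] at h
    have h120 : (120 : ℕ).factorization 5 = 1 := by
      have : (120 : ℕ) = 5 ^ 1 * 24 := by norm_num
      rw [this, Nat.factorization_mul (by norm_num) (by norm_num), Nat.Prime.factorization_pow (by norm_num)]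
      simp
      rw [Nat.factorization_eq_zero_of_not_dvd (by norm_num)]
    rw [h120] at h
    simpa using h
  have hPidx : (P : Subgroup G5).index = 24 := by
    have := (P : Subgroup G5).card_mul_index
    rw [hPcard, card_G5] at this
    omega
  have h1 : Nat.card (Sylow 5 G5) ∣ 24 := hPidx ▸ P.card_dvd_index
  have h2 : Nat.card (Sylow 5 G5) ≡ 1 [MOD 5] := card_sylow_modEq_one 5 G5
  have h3 : Nat.card (Sylow 5 G5) ≠ 1 := by
    intro h
    have hsub : Subsingleton (Sylow 5 G5) := (Nat.card_eq_one_iff_unique.mp h).1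
    have hnorm : (P : Subgroup G5).Normal := P.normal_of_subsingleton
    have hne : (P : Subgroup G5) ≠ ⊥ := by
      intro hb
      have : Nat.card (P : Subgroup G5) = 1 := by rw [hb]; simp
      omega
    have := index_le_two_of_normal_G5 (P : Subgroup G5) hne
    rw [hPidx] at this
    omega
  have hle : Nat.card (Sylow 5 G5) ≤ 24 := Nat.le_of_dvd (by norm_num) h1
  have hmod : Nat.card (Sylow 5 G5) % 5 = 1 := h2
  generalize Nat.card (Sylow 5 G5) = n at *
  interval_cases n <;> omega

/-- There is a subgroup of index 6 in `S_6` that moves every point. -/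
lemma exists_transitive_index_six :
    ∃ H : Subgroup G6, H.index = 6 ∧ ∀ a : Fin 6, ∃ g ∈ H, g a ≠ a := by
  classical
  haveI : Fintype (Sylow 5 G5) := Fintype.ofFinite _
  have hcardY : Fintype.card (Sylow 5 G5) = Fintype.card (Fin 6) := by
    rw [← Nat.card_eq_fintype_card, card_sylow_five_G5]; simp
  let e : Sylow 5 G5 ≃ Fin 6 := Fintype.equivOfCardEq hcardY
  let φ : G5 →* Equiv.Perm (Sylow 5 G5) := MulAction.toPermHom G5 (Sylow 5 G5)
  have hker : φ.ker = ⊥ := by
    by_contra hne
    have h2 := index_le_two_of_normal_G5 φ.ker hne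
    obtain ⟨P⟩ : Nonempty (Sylow 5 G5) := inferInstance
    have hle : φ.ker ≤ Subgroup.normalizer (P : Set G5) := by
      intro g hg
      rw [← Sylow.stabilizer_eq_normalizer, MulAction.mem_stabilizer_iff]
      have : φ g = 1 := hg
      have := congrArg (fun σ : Equiv.Perm (Sylow 5 G5) => σ P) this
      simpa [φ] using this
    have h3 : (Subgroup.normalizer (P : Set G5)).index ∣ φ.ker.index := Subgroup.index_dvd_of_le hle
    rw [← P.card_eq_index_normalizer, card_sylow_five_G5] at h3
    have := h3.trans h2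
    omega
  have hinj : Function.Injective φ := (MonoidHom.ker_eq_bot_iff φ).mp hker
  let ψ : G5 →* G6 := (e.permCongrHom : Equiv.Perm (Sylow 5 G5) →* G6).comp φ
  have hψinj : Function.Injective ψ := e.permCongrHom.injective.comp hinj
  refine ⟨ψ.range, ?_, ?_⟩
  · have h1 : Nat.card ψ.range = 120 := by
      rw [← card_G5]
      exact (Nat.card_congr (MonoidHom.ofInjective hψinj).toEquiv).symm
    have := ψ.range.card_mul_index
    rw [h1, card_G6] at this
    omega
  · intro a
    -- pick a Sylow subgroup different from e.symm a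
    have hnontriv : ∃ Q : Sylow 5 G5, Q ≠ e.symm a := by
      by_contra hall
      push Not at hall
      have : Nat.card (Sylow 5 G5) ≤ 1 := by
        rw [Nat.card_eq_fintype_card, Fintype.card_le_one_iff]
        intro x y; rw [hall x, hall y]
      rw [card_sylow_five_G5] at this
      omega
    obtain ⟨Q, hQ⟩ := hnontriv
    obtain ⟨g, hg⟩ := MulAction.exists_smul_eq G5 (e.symm a) Q
    refine ⟨ψ g, ⟨g, rfl⟩, ?_⟩
    intro h
    have h' : e (g • e.symm a) = a := h
    rw [hg] at h'
    apply hQ
    rw [← h', Equiv.symm_apply_apply]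

lemma index_stabilizer_G6 (a : Fin 6) : (MulAction.stabilizer G6 a).index = 6 := by
  rw [MulAction.index_stabilizer_of_transitive]; simp

lemma eq_of_le_of_index_six (H K : Subgroup G6) (hH : H.index = 6) (hK : K.index = 6) (h : H ≤ K) :
    H = K := by
  apply le_antisymm h
  rw [← Subgroup.relIndex_eq_one]
  have := Subgroup.relIndex_mul_index h
  rw [hH, hK] at this
  omega

/-- an element of order 5 in `S_6` is a 5-cycle fixing exactly one point -/
lemma five_cycle_of_orderOf (c : G6) (hc : orderOf c = 5) :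
    c.IsCycle ∧ ∃ a : Fin 6, c a = a ∧ ∀ x, x ≠ a → c x ≠ x := by
  have hprime : (orderOf c).Prime := by rw [hc]; norm_num
  obtain ⟨n, hn⟩ := Equiv.Perm.cycleType_prime_order hprime
  rw [hc] at hn
  have hsum := Equiv.Perm.sum_cycleType_le c
  rw [hn, Multiset.sum_replicate] at hsum
  simp only [Fintype.card_fin, smul_eq_mul] at hsum
  have hn0 : n = 0 := by omega
  subst hn0
  have hcyc : c.IsCycle := by
    rw [← Equiv.Perm.card_cycleType_eq_one, hn]; simp
  have hsupp : c.support.card = 5 := by
    rw [← Equiv.Perm.sum_cycleType, hn]; simp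
  refine ⟨hcyc, ?_⟩
  have hcompl : (c.supportᶜ).card = 1 := by
    rw [Finset.card_compl, hsupp]; simp
  obtain ⟨a, ha⟩ := Finset.card_eq_one.mp hcompl
  refine ⟨a, ?_, ?_⟩
  · have : a ∈ c.supportᶜ := by rw [ha]; simp
    simpa using this
  · intro x hx hcx
    have : x ∈ c.supportᶜ := by simpa using hcx
    rw [ha] at this
    exact hx (by simpa using this)

/-- A subgroup of index 6 of `S_6` containing a transposition is a point stabilizer. -/
lemma eq_stabilizer_of_swap_mem (H : Subgroup G6) (hH : H.index = 6) (s : G6) (hs : s.IsSwap)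
    (hsH : s ∈ H) : ∃ a : Fin 6, H = MulAction.stabilizer G6 a := by
  classical
  have hcardH : Nat.card H = 120 := by
    have := H.card_mul_index
    rw [hH, card_G6] at this
    omega
  obtain ⟨c', hc'⟩ := exists_prime_orderOf_dvd_card' (G := H) 5 (by rw [hcardH]; norm_num)
  set c : G6 := (c' : G6) with hcdef
  have hcH : c ∈ H := c'.2
  have hc : orderOf c = 5 := by rw [hcdef, Subgroup.orderOf_coe, hc']
  obtain ⟨hcyc, a, hca, hcx⟩ := five_cycle_of_orderOf c hc
  by_cases hfix : ∀ h ∈ H, h a = a
  · refine ⟨a, eq_of_le_of_index_six H _ hH (index_stabilizer_G6 a) ?_⟩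
    intro h hh
    exact hfix h hh
  · exfalso
    push Not at hfix
    obtain ⟨h, hhH, hha⟩ := hfix
    -- transitivity from `a`
    have htrans : ∀ v : Fin 6, ∃ g ∈ H, g a = v := by
      intro v
      by_cases hv : v = a
      · exact ⟨1, H.one_mem, by simp [hv]⟩
      · obtain ⟨i, hi⟩ := hcyc.exists_pow_eq (hcx _ hha) (hcx _ hv)
        exact ⟨c ^ i * h, H.mul_mem (H.pow_mem hcH i) hhH, by simpa using hi⟩
    -- for every point u, a 5-cycle in H fixing exactly u
    have hcyc' : ∀ u : Fin 6, ∃ d ∈ H, d.IsCycle ∧ d u = u ∧ ∀ x, x ≠ u → d x ≠ x := by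
      intro u
      obtain ⟨g, hgH, hga⟩ := htrans u
      refine ⟨g * c * g⁻¹, H.mul_mem (H.mul_mem hgH hcH) (H.inv_mem hgH), ?_, ?_, ?_⟩
      · exact hcyc.conj
      · simp [← hga, hca]
      · intro x hx
        have hx' : g⁻¹ x ≠ a := by
          intro h'
          apply hx
          rw [← hga, ← h']
          simp
        have := hcx _ hx'
        intro h''
        apply this
        have h3 : g⁻¹ ((g * c * g⁻¹) x) = g⁻¹ x := by rw [h'']
        simpa using h3
    -- 2-transitivity and the conclusion: every swap is in H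
    obtain ⟨x, y, hxy, rfl⟩ := hs
    have hall : ∀ u v : Fin 6, u ≠ v → swap u v ∈ H := by
      intro u v huv
      -- g₁ maps x to u
      obtain ⟨gx, hgxH, hgx⟩ := htrans x
      obtain ⟨gu, hguH, hgu⟩ := htrans u
      set g₁ := gu * gx⁻¹ with hg₁
      have hg₁H : g₁ ∈ H := H.mul_mem hguH (H.inv_mem hgxH)
      have hg₁x : g₁ x = u := by
        rw [hg₁, Equiv.Perm.mul_apply, ← hgx]
        simp [hgu]
      obtain ⟨d, hdH, hdcyc, hdu, hdx⟩ := hcyc' u
      have hg₁y : g₁ y ≠ u := by
        intro h'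
        apply hxy
        apply g₁.injective
        rw [hg₁x, h']
      obtain ⟨i, hi⟩ := hdcyc.exists_pow_eq (hdx _ hg₁y) (hdx _ (Ne.symm huv))
      set g := d ^ i * g₁ with hg
      have hgH : g ∈ H := H.mul_mem (H.pow_mem hdH i) hg₁H
      have hgx' : g x = u := by
        rw [hg, Equiv.Perm.mul_apply, hg₁x]
        exact Equiv.Perm.pow_apply_eq_self_of_apply_eq_self hdu i
      have hgy' : g y = v := by
        rw [hg, Equiv.Perm.mul_apply, hi]
      have : swap u v = g * swap x y * g⁻¹ := by
        rw [← hgx', ← hgy', Equiv.swap_apply_apply]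
      rw [this]
      exact H.mul_mem (H.mul_mem hgH hsH) (H.inv_mem hgH)
    have htop : H = ⊤ := by
      rw [eq_top_iff, ← Equiv.Perm.closure_isSwap, Subgroup.closure_le]
      rintro σ ⟨u, v, huv, rfl⟩
      exact hall u v huv
    rw [htop, Subgroup.index_top] at hH
    omega

lemma card_isConj_map (α : G6 ≃* G6) (g : G6) :
    Nat.card {h : G6 | IsConj g h} = Nat.card {h : G6 | IsConj (α g) h} := by
  apply Nat.card_congr
  refine Equiv.subtypeEquiv α.toEquiv ?_
  intro h
  constructor
  · intro hc
    exact (α.toMonoidHom.map_isConj hc)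
  · intro hc
    have := α.symm.toMonoidHom.map_isConj hc
    simpa using this

lemma card_isConj_of_cycleType_two (g : G6) (hg : g.cycleType = {2}) :
    Nat.card {h : G6 | IsConj g h} = 15 := by
  rw [Equiv.Perm.card_isConj_eq, hg]
  decide

lemma card_isConj_of_cycleType_two_two (g : G6) (hg : g.cycleType = {2, 2}) :
    Nat.card {h : G6 | IsConj g h} = 45 := by
  rw [Equiv.Perm.card_isConj_eq, hg]
  decide

lemma card_isConj_of_cycleType_two_two_two (g : G6) (hg : g.cycleType = {2, 2, 2}) :
    Nat.card {h : G6 | IsConj g h} = 15 := by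
  rw [Equiv.Perm.card_isConj_eq, hg]
  decide

lemma cycleType_of_orderOf_two (g : G6) (hg : orderOf g = 2) :
    g.cycleType = {2} ∨ g.cycleType = {2, 2} ∨ g.cycleType = {2, 2, 2} := by
  have hprime : (orderOf g).Prime := by rw [hg]; norm_num
  obtain ⟨n, hn⟩ := Equiv.Perm.cycleType_prime_order hprime
  rw [hg] at hn
  have hsum := Equiv.Perm.sum_cycleType_le g
  rw [hn, Multiset.sum_replicate] at hsum
  simp only [Fintype.card_fin, smul_eq_mul] at hsum
  have hn2 : n ≤ 2 := by omega
  interval_cases n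
  · left; rw [hn]; rfl
  · right; left; rw [hn]; rfl
  · right; right; rw [hn]; rfl

lemma orderOf_of_cycleType (g : G6) (hg : g.cycleType = {2} ∨ g.cycleType = {2, 2, 2}) :
    orderOf g = 2 := by
  rw [← Equiv.Perm.lcm_cycleType]
  rcases hg with h | h <;> rw [h] <;> rfl

/-- An automorphism of `S_6` maps a transposition or a triple transposition to a transposition
or a triple transposition. -/
lemma cycleType_map (α : G6 ≃* G6) (g : G6) (hg : g.cycleType = {2} ∨ g.cycleType = {2, 2, 2}) :
    (α g).cycleType = {2} ∨ (α g).cycleType = {2, 2, 2} := by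
  have ho : orderOf (α g) = 2 := by rw [MulEquiv.orderOf_eq, orderOf_of_cycleType g hg]
  have hcard : Nat.card {h : G6 | IsConj (α g) h} = 15 := by
    rw [← card_isConj_map]
    rcases hg with h | h
    · exact card_isConj_of_cycleType_two g h
    · exact card_isConj_of_cycleType_two_two_two g h
  rcases cycleType_of_orderOf_two (α g) ho with h | h | h
  · left; exact h
  · rw [card_isConj_of_cycleType_two_two _ h] at hcard
    omega
  · right; exact h

/-- every point stabilizer contains a transposition -/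
lemma exists_swap_mem_stabilizer (a : Fin 6) :
    ∃ s : G6, s.IsSwap ∧ s ∈ MulAction.stabilizer G6 a := by
  obtain ⟨b, c, hba, hca, hbc⟩ : ∃ b c : Fin 6, b ≠ a ∧ c ≠ a ∧ b ≠ c := by
    revert a; decide
  refine ⟨swap b c, ⟨b, c, hbc, rfl⟩, ?_⟩
  rw [MulAction.mem_stabilizer_iff]
  exact Equiv.swap_apply_of_ne_of_ne hba.symm hca.symm

lemma stabilizer_injective : Function.Injective (fun a : Fin 6 => MulAction.stabilizer G6 a) := by
  intro a b hab
  by_contra hne
  obtain ⟨c, hca, hcb⟩ : ∃ c : Fin 6, c ≠ a ∧ c ≠ b := by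
    clear hab hne
    revert a b; decide
  have h1 : swap b c ∈ MulAction.stabilizer G6 a := by
    rw [MulAction.mem_stabilizer_iff]
    exact Equiv.swap_apply_of_ne_of_ne hne hca.symm
  have h1' : swap b c ∈ MulAction.stabilizer G6 b := by
    have : MulAction.stabilizer G6 a = MulAction.stabilizer G6 b := hab
    rwa [this] at h1
  rw [MulAction.mem_stabilizer_iff] at h1'
  have : swap b c b = c := Equiv.swap_apply_left b c
  exact hcb (by rw [← this]; exact h1')

/-- a triple transposition has no fixed point -/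
lemma no_fixed_point_of_cycleType (g : G6) (hg : g.cycleType = {2, 2, 2}) (a : Fin 6) : g a ≠ a := by
  have hsupp : g.support.card = 6 := by
    rw [← Equiv.Perm.sum_cycleType, hg]; rfl
  have : g.support = Finset.univ := by
    apply Finset.eq_univ_of_card
    rw [hsupp]; simp
  have ha : a ∈ g.support := by rw [this]; simp
  simpa using ha

lemma isConj_of_cycleType_eq (g h : G6) (hgh : g.cycleType = h.cycleType) : IsConj g h :=
  Equiv.Perm.isConj_iff_cycleType_eq.mpr hgh

lemma cycleType_map_eq_of_cycleType_eq (α : G6 ≃* G6) (g h : G6) (hgh : g.cycleType = h.cycleType) :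
    (α g).cycleType = (α h).cycleType :=
  Equiv.Perm.isConj_iff_cycleType_eq.mp (α.toMonoidHom.map_isConj (isConj_of_cycleType_eq g h hgh))

lemma two_ne_two_two_two : ({2} : Multiset ℕ) ≠ {2, 2, 2} := by decide

/-- the key automorphism: it exchanges transpositions and triple transpositions -/
lemma exists_exchanging_aut :
    ∃ α : G6 ≃* G6, (∀ g : G6, g.cycleType = {2} → (α.symm g).cycleType = {2, 2, 2}) ∧
      (∀ g : G6, g.cycleType = {2, 2, 2} → (α g).cycleType = {2}) := by
  obtain ⟨H₀, hH₀, hmove⟩ := exists_transitive_index_six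
  obtain ⟨α, a₀, hα⟩ := exists_aut_map_eq_stabilizer H₀ hH₀
  have hnoswap : ∀ s : G6, s.IsSwap → s ∉ H₀ := by
    intro s hs hsH
    obtain ⟨a, ha⟩ := eq_stabilizer_of_swap_mem H₀ hH₀ s hs hsH
    obtain ⟨g, hg, hga⟩ := hmove a
    rw [ha] at hg
    exact hga hg
  have hX : ∀ g : G6, g.cycleType = {2} → (α.symm g).cycleType = {2, 2, 2} := by
    intro g hg
    rcases cycleType_map α.symm g (Or.inl hg) with h | h
    · exfalso
      obtain ⟨s₀, hs₀, hs₀mem⟩ := exists_swap_mem_stabilizer a₀
      rw [← hα] at hs₀mem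
      obtain ⟨h₀, hh₀, hh₀s⟩ := hs₀mem
      have hs₀' : s₀.cycleType = {2} := Equiv.Perm.isSwap_iff_cycleType.mp hs₀
      have : (α.symm s₀).cycleType = {2} := by
        rw [← h]
        exact cycleType_map_eq_of_cycleType_eq α.symm s₀ g (hs₀'.trans hg.symm)
      have h₀eq : α.symm s₀ = h₀ := by
        rw [← hh₀s]; simp
      rw [h₀eq] at this
      exact hnoswap h₀ (Equiv.Perm.isSwap_iff_cycleType.mpr this) hh₀
    · exact h
  have hY : ∀ g : G6, g.cycleType = {2} → (α g).cycleType = {2, 2, 2} := by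
    intro g hg
    rcases cycleType_map α g (Or.inl hg) with h | h
    · exfalso
      have := hX (α g) h
      rw [MulEquiv.symm_apply_apply, hg] at this
      exact two_ne_two_two_two this
    · exact h
  refine ⟨α, hX, ?_⟩
  intro g hg
  rcases cycleType_map α g (Or.inr hg) with h | h
  · exact h
  · exfalso
    obtain ⟨s₀, hs₀, -⟩ := exists_swap_mem_stabilizer a₀
    have hs₀' : s₀.cycleType = {2} := Equiv.Perm.isSwap_iff_cycleType.mp hs₀
    have h1 : (α s₀).cycleType = (α g).cycleType := (hY s₀ hs₀').trans h.symm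
    have h2 := cycleType_map_eq_of_cycleType_eq α.symm _ _ h1
    rw [MulEquiv.symm_apply_apply, MulEquiv.symm_apply_apply, hs₀', hg] at h2
    exact two_ne_two_two_two h2

lemma card_index_six : Nat.card {H : Subgroup G6 // H.index = 6} = 12 := by
  classical
  obtain ⟨α, hX, hZ⟩ := exists_exchanging_aut
  let P : Subgroup G6 → Prop := fun H => ∃ a : Fin 6, H = MulAction.stabilizer G6 a
  let SA : Set (Subgroup G6) := {H | H.index = 6 ∧ P H}
  let SB : Set (Subgroup G6) := {H | H.index = 6 ∧ ¬ P H}
  let Φ : Subgroup G6 → Subgroup G6 := fun H => H.map α.toMonoidHom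
  have hΦinj : Function.Injective Φ := Subgroup.map_injective α.injective
  have hΦidx : ∀ H : Subgroup G6, (Φ H).index = H.index := fun H => Subgroup.index_map_equiv H α
  have hSA : SA = Set.range (fun a : Fin 6 => MulAction.stabilizer G6 a) := by
    ext H
    constructor
    · rintro ⟨-, a, rfl⟩
      exact ⟨a, rfl⟩
    · rintro ⟨a, rfl⟩
      exact ⟨index_stabilizer_G6 a, a, rfl⟩
  have hSAcard : SA.ncard = 6 := by
    rw [hSA, ← Set.image_univ, Set.ncard_image_of_injective _ stabilizer_injective, Set.ncard_univ]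
    simp
  have hAB : Φ '' SA ⊆ SB := by
    rintro _ ⟨H, ⟨hH, a, rfl⟩, rfl⟩
    refine ⟨(hΦidx _).trans hH, ?_⟩
    rintro ⟨b, hb⟩
    obtain ⟨s, hs, hsb⟩ := exists_swap_mem_stabilizer b
    rw [← hb] at hsb
    obtain ⟨h, hh, rfl⟩ := hsb
    have h1 := hX _ (Equiv.Perm.isSwap_iff_cycleType.mp hs)
    have h2 : α.symm (α.toMonoidHom h) = h := by simp
    rw [h2] at h1
    exact no_fixed_point_of_cycleType h h1 a hh
  have hBA : Φ '' SB ⊆ SA := by
    rintro _ ⟨H, ⟨hH, hnP⟩, rfl⟩
    refine ⟨(hΦidx _).trans hH, ?_⟩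
    obtain ⟨β, b, hβ⟩ := exists_aut_map_eq_stabilizer H hH
    obtain ⟨s, hs, hsb⟩ := exists_swap_mem_stabilizer b
    rw [← hβ] at hsb
    obtain ⟨h, hh, rfl⟩ := hsb
    have hs' := Equiv.Perm.isSwap_iff_cycleType.mp hs
    have h1 := cycleType_map β.symm _ (Or.inl hs')
    have h2 : β.symm (β.toMonoidHom h) = h := by simp
    rw [h2] at h1
    rcases h1 with h1 | h1
    · exfalso
      exact hnP (eq_stabilizer_of_swap_mem H hH h (Equiv.Perm.isSwap_iff_cycleType.mpr h1) hh)
    · have h3 := hZ h h1
      exact eq_stabilizer_of_swap_mem (Φ H) ((hΦidx _).trans hH) (α h)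
        (Equiv.Perm.isSwap_iff_cycleType.mpr h3) ⟨h, hh, rfl⟩
  have hfinA : SA.Finite := Set.toFinite _
  have hfinB : SB.Finite := Set.toFinite _
  have hle1 : SA.ncard ≤ SB.ncard := by
    rw [← Set.ncard_image_of_injective SA hΦinj]
    exact Set.ncard_le_ncard hAB hfinB
  have hle2 : SB.ncard ≤ SA.ncard := by
    rw [← Set.ncard_image_of_injective SB hΦinj]
    exact Set.ncard_le_ncard hBA hfinA
  have hunion : {H : Subgroup G6 | H.index = 6} = SA ∪ SB := by
    ext H
    simp only [SA, SB, Set.mem_ofPred_eq, Set.mem_union]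
    tauto
  have hdisj : Disjoint SA SB := by
    rw [Set.disjoint_left]
    rintro H ⟨-, hP⟩ ⟨-, hnP⟩
    exact hnP hP
  have : Nat.card {H : Subgroup G6 // H.index = 6} = Set.ncard {H : Subgroup G6 | H.index = 6} := rfl
  rw [this, hunion, Set.ncard_union_eq hdisj hfinA hfinB]
  omega

/-- The symmetric group S_6 has exactly 12 subgroups of index 6; each of them is isomorphic to S_5, and at least one of them is not the stabilizer of any point. -/
theorem result : Nat.card {H : Subgroup (Equiv.Perm (Fin 6)) // H.index = 6} = 12 ∧ (∀ H : Subgroup (Equiv.Perm (Fin 6)), H.index = 6 → Nonempty (H ≃* Equiv.Perm (Fin 5))) ∧ ∃ H : Subgroup (Equiv.Perm (Fin 6)), H.index = 6 ∧ ∀ a : Fin 6, H ≠ MulAction.stabilizer (Equiv.Perm (Fin 6)) a := by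
  refine ⟨card_index_six, ?_, ?_⟩
  · intro H hH
    obtain ⟨α, a, hα⟩ := exists_aut_map_eq_stabilizer H hH
    obtain ⟨e⟩ := stabilizer_equiv_perm_five a
    exact ⟨((α.subgroupMap H).trans (MulEquiv.subgroupCongr hα)).trans e⟩
  · obtain ⟨H, hH, hmove⟩ := exists_transitive_index_six
    refine ⟨H, hH, ?_⟩
    intro a ha
    obtain ⟨g, hg, hga⟩ := hmove a
    rw [ha] at hg
    exact hga hg

end Cfsg.Agent.S5945
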