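import Cfsg.Statements.S5912
-- import your own Cfsg.Agent.* helpers here
import Cfsg.Agent.S5944
import Cfsg.Agent.S5945

set_option autoImplicit false
open Cfsg

namespace Cfsg.Agent.S5912

open Equiv MulAction

/-- conjugate of a subgroup -/
abbrev cj {G : Type*} [Group G] (g : G) (A : Subgroup G) : Subgroup G :=
  A.map (MulAut.conj g).toMonoidHom

theorem cj_one {G : Type*} [Group G] (A : Subgroup G) : cj 1 A = A := by
  ext x
  simp [cj, Subgroup.mem_map]

theorem cj_mul {G : Type*} [Group G] (g h : G) (A : Subgroup G) : cj (g * h) A = cj g (cj h A) := by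
  simp only [cj, map_mul, Subgroup.map_map]
  rfl

/-- the conjugation action of a group on its subgroups -/
@[instance_reducible]
def conjAction (G : Type*) [Group G] : MulAction G (Subgroup G) where
  smul g A := cj g A
  one_smul := cj_one
  mul_smul := cj_mul

theorem cj_self {G : Type*} [Group G] {A : Subgroup G} {h : G} (hh : h ∈ A) : cj h A = A := by
  ext x
  constructor
  · rintro ⟨a, ha, rfl⟩
    exact A.mul_mem (A.mul_mem hh ha) (A.inv_mem hh)
  · intro hx
    refine ⟨h⁻¹ * x * h, A.mul_mem (A.mul_mem (A.inv_mem hh) hx) hh, ?_⟩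
    simp [mul_assoc]

/-- the purely group theoretic statement -/
def TwoClasses (G : Type*) [Group G] : Prop :=
  ∃ H₁ H₂ : Subgroup G, H₁.index = 6 ∧ H₂.index = 6 ∧
      (¬ ∃ g : G, Subgroup.map (MulAut.conj g).toMonoidHom H₁ = H₂) ∧
      ∀ H : Subgroup G, H.index = 6 →
        ∃ g : G, Subgroup.map (MulAut.conj g).toMonoidHom H₁ = H ∨
          Subgroup.map (MulAut.conj g).toMonoidHom H₂ = H

theorem map_cj {G G' : Type*} [Group G] [Group G'] (ψ : G ≃* G') (g : G) (A : Subgroup G) :
    (cj g A).map ψ.toMonoidHom = cj (ψ g) (A.map ψ.toMonoidHom) := by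
  ext x
  simp only [cj, Subgroup.mem_map]
  constructor
  · rintro ⟨_, ⟨a, ha, rfl⟩, rfl⟩
    exact ⟨ψ a, ⟨a, ha, rfl⟩, by simp⟩
  · rintro ⟨_, ⟨a, ha, rfl⟩, rfl⟩
    exact ⟨_, ⟨a, ha, rfl⟩, by simp⟩

theorem TwoClasses.transport {G G' : Type*} [Group G] [Group G'] (ψ : G ≃* G')
    (h : TwoClasses G) : TwoClasses G' := by
  obtain ⟨H₁, H₂, h1, h2, h3, h4⟩ := h
  have hinj : Function.Injective (Subgroup.map ψ.toMonoidHom) :=
    Subgroup.map_injective ψ.injective
  refine ⟨H₁.map ψ.toMonoidHom, H₂.map ψ.toMonoidHom, ?_, ?_, ?_, ?_⟩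
  · rw [← h1]; exact Subgroup.index_map_equiv H₁ ψ
  · rw [← h2]; exact Subgroup.index_map_equiv H₂ ψ
  · rintro ⟨g', hg'⟩
    apply h3
    obtain ⟨g, rfl⟩ := ψ.surjective g'
    refine ⟨g, hinj ?_⟩
    rw [← hg']
    exact map_cj ψ g H₁
  · intro H' hH'
    have hH : (H'.map ψ.symm.toMonoidHom).index = 6 := by
      rw [← hH']; exact Subgroup.index_map_equiv H' ψ.symm
    have hback : (H'.map ψ.symm.toMonoidHom).map ψ.toMonoidHom = H' := by
      rw [Subgroup.map_map]
      have : ψ.toMonoidHom.comp ψ.symm.toMonoidHom = MonoidHom.id G' := by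
        ext x; simp
      rw [this, Subgroup.map_id]
    obtain ⟨g, hg⟩ := h4 _ hH
    refine ⟨ψ g, ?_⟩
    rcases hg with hg | hg
    · left
      have := congrArg (Subgroup.map ψ.toMonoidHom) hg
      rw [hback] at this
      rw [← this]
      exact (map_cj ψ g H₁).symm
    · right
      have := congrArg (Subgroup.map ψ.toMonoidHom) hg
      rw [hback] at this
      rw [← this]
      exact (map_cj ψ g H₂).symm

theorem twoClasses_fin6 : TwoClasses (Perm (Fin 6)) := by
  classical
  obtain ⟨H₂, hH₂, hmove⟩ := Cfsg.Agent.S5945.exists_transitive_index_six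
  have hcjstab : ∀ (g : Perm (Fin 6)) (a : Fin 6),
      cj g (stabilizer (Perm (Fin 6)) a) = stabilizer (Perm (Fin 6)) (g a) :=
    fun g a => (stabilizer_smul_eq_stabilizer_map_conj g a).symm
  have hnotstab : ∀ (g : Perm (Fin 6)) (a : Fin 6), cj g H₂ ≠ stabilizer (Perm (Fin 6)) a := by
    intro g a h
    have : H₂ = stabilizer (Perm (Fin 6)) (g⁻¹ a) := by
      rw [← hcjstab, ← h, ← cj_mul, inv_mul_cancel, cj_one]
    obtain ⟨k, hk, hka⟩ := hmove (g⁻¹ a)
    rw [this] at hk
    exact hka hk
  have hidxcj : ∀ g : Perm (Fin 6), (cj g H₂).index = 6 := by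
    intro g
    exact (Subgroup.index_map_equiv H₂ (MulAut.conj g)).trans hH₂
  have hH₂bot : H₂ ≠ ⊥ := by
    intro h
    rw [h, Subgroup.index_bot, Cfsg.Agent.S5945.card_G6] at hH₂
    omega
  refine ⟨stabilizer (Perm (Fin 6)) (0 : Fin 6), H₂, Cfsg.Agent.S5945.index_stabilizer_G6 0, hH₂, ?_, ?_⟩
  · rintro ⟨g, hg⟩
    have hg' : cj g (stabilizer (Perm (Fin 6)) (0 : Fin 6)) = H₂ := hg
    rw [hcjstab] at hg'
    have := hnotstab 1 (g 0)
    rw [cj_one] at this
    exact this hg'.symm
  · intro H hH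
    by_cases hstab : ∃ a : Fin 6, H = stabilizer (Perm (Fin 6)) a
    · obtain ⟨a, rfl⟩ := hstab
      obtain ⟨g, hg⟩ : ∃ g : Perm (Fin 6), g (0 : Fin 6) = a :=
        MulAction.exists_smul_eq (α := Fin 6) (Perm (Fin 6)) (0 : Fin 6) a
      refine ⟨g, Or.inl ?_⟩
      have := hcjstab g 0
      rw [show g 0 = a from hg] at this
      exact this
    · -- counting
      let _ := conjAction (Perm (Fin 6))
      set N := stabilizer (Perm (Fin 6)) H₂ with hN
      have hmemN : ∀ g : Perm (Fin 6), g ∈ N ↔ cj g H₂ = H₂ := fun g => Iff.rfl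
      have hH₂N : H₂ ≤ N := fun h hh => (hmemN h).mpr (cj_self hh)
      have hNtop : N ≠ ⊤ := by
        intro htop
        have hnormal : H₂.Normal := by
          refine ⟨fun n hn g => ?_⟩
          have hg : g ∈ N := by rw [htop]; trivial
          rw [hmemN] at hg
          rw [← hg]
          exact ⟨n, hn, rfl⟩
        exact hH₂bot (Cfsg.Agent.S5945.normal_le_index_six_eq_bot H₂ H₂ hH₂ le_rfl)
      have hNalt : N ≠ alternatingGroup (Fin 6) := by
        intro halt
        have hle : H₂ ≤ alternatingGroup (Fin 6) := halt ▸ hH₂N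
        have hsimple : IsSimpleGroup (alternatingGroup (Fin 6)) :=
          alternatingGroup.isSimpleGroup (by simp)
        have hnormal : (H₂.subgroupOf (alternatingGroup (Fin 6))).Normal := by
          refine ⟨fun n hn g => ?_⟩
          rw [Subgroup.mem_subgroupOf] at hn ⊢
          have hg : (g : Perm (Fin 6)) ∈ N := by rw [halt]; exact g.2
          rw [hmemN] at hg
          rw [← hg]
          exact ⟨n, hn, rfl⟩
        rcases hnormal.eq_bot_or_eq_top with h | h
        · rw [Subgroup.subgroupOf_eq_bot] at h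
          exact hH₂bot (disjoint_iff.mp h ▸ (inf_eq_left.mpr hle).symm)
        · rw [Subgroup.subgroupOf_eq_top] at h
          have hidx : H₂.index ∣ (alternatingGroup (Fin 6)).index := Subgroup.index_dvd_of_le h
          rw [alternatingGroup.index_eq_two, hH₂] at hidx
          omega
      have hNidx : 6 ≤ N.index := Cfsg.Agent.S5944.result 6 (by norm_num) N hNtop hNalt
      have horbit : N.index = (orbit (Perm (Fin 6)) H₂).ncard := index_stabilizer _ H₂
      -- the sets
      set SA : Set (Subgroup (Perm (Fin 6))) :=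
        Set.range (fun a : Fin 6 => stabilizer (Perm (Fin 6)) a) with hSA
      set C : Set (Subgroup (Perm (Fin 6))) := orbit (Perm (Fin 6)) H₂ with hC
      have hSAcard : SA.ncard = 6 := by
        rw [hSA, ← Set.image_univ, Set.ncard_image_of_injective _ Cfsg.Agent.S5945.stabilizer_injective,
          Set.ncard_univ]
        simp
      have hAll : Set.ncard {H : Subgroup (Perm (Fin 6)) | H.index = 6} = 12 :=
        Cfsg.Agent.S5945.card_index_six
      have hSAsub : SA ⊆ {H : Subgroup (Perm (Fin 6)) | H.index = 6} := by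
        rintro _ ⟨a, rfl⟩
        exact Cfsg.Agent.S5945.index_stabilizer_G6 a
      have hCsub : C ⊆ {H : Subgroup (Perm (Fin 6)) | H.index = 6} := by
        rintro _ ⟨g, rfl⟩
        exact hidxcj g
      have hdisj : Disjoint SA C := by
        rw [Set.disjoint_left]
        rintro _ ⟨a, rfl⟩ ⟨g, hg⟩
        exact hnotstab g a hg
      have hunion_sub : SA ∪ C ⊆ {H : Subgroup (Perm (Fin 6)) | H.index = 6} :=
        Set.union_subset hSAsub hCsub
      have hunion_card : (SA ∪ C).ncard = 6 + C.ncard := by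
        rw [Set.ncard_union_eq hdisj (Set.toFinite _) (Set.toFinite _), hSAcard]
      have heq : SA ∪ C = {H : Subgroup (Perm (Fin 6)) | H.index = 6} := by
        apply Set.eq_of_subset_of_ncard_le hunion_sub _ (Set.toFinite _)
        rw [hAll, hunion_card, ← horbit]
        omega
      have hHmem : H ∈ SA ∪ C := by rw [heq]; exact hH
      rcases hHmem with ⟨a, ha⟩ | ⟨g, hg⟩
      · exact absurd ⟨a, ha.symm⟩ hstab
      · exact ⟨g, Or.inr hg⟩

/-- The symmetric group on a 6-element set Ω has exactly two conjugacy classes of subgroups of index 6: there are two non-conjugate subgroups of index 6 (a point stabilizer and a transitive subgroup isomorphic to S₅), and every subgroup of index 6 is conjugate to one of them. -/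
theorem result {Ω : Type*} [Fintype Ω] [DecidableEq Ω] (h6 : Fintype.card Ω = 6) :
    ∃ H₁ H₂ : Subgroup (Equiv.Perm Ω), H₁.index = 6 ∧ H₂.index = 6 ∧
      (¬ ∃ g : Equiv.Perm Ω, Subgroup.map (MulAut.conj g).toMonoidHom H₁ = H₂) ∧
      ∀ H : Subgroup (Equiv.Perm Ω), H.index = 6 →
        ∃ g : Equiv.Perm Ω, Subgroup.map (MulAut.conj g).toMonoidHom H₁ = H ∨ Subgroup.map (MulAut.conj g).toMonoidHom H₂ = H := by
  have e : Fin 6 ≃ Ω := (Fintype.equivFinOfCardEq h6).symm
  exact TwoClasses.transport (permCongrHom e) twoClasses_fin6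

end Cfsg.Agent.S5912
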