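import Cfsg.Statements.S5913
-- import your own Cfsg.Agent.* helpers here

set_option autoImplicit false
open Cfsg


namespace Cfsg.Agent.S5913

/-- Let S be a non-abelian simple group and n a natural number. Every normal subgroup N of the direct power S^n (functions Fin n → S) is a subproduct: there is a set T of coordinates such that N consists exactly of the elements whose coordinates outside T are trivial. In particular the minimal normal subgroups of S^n are its n factors. -/
theorem result {S : Type*} [Group S] [IsSimpleGroup S] (hS : ¬ IsMulCommutative S) (n : ℕ)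
    (N : Subgroup (Fin n → S)) [N.Normal] :
    ∃ T : Finset (Fin n), ∀ x : Fin n → S, x ∈ N ↔ ∀ i, i ∉ T → x i = 1 := by
  classical
  refine ⟨Finset.univ.filter (fun i => ∃ y ∈ N, y i ≠ 1), fun x => ⟨?_, ?_⟩⟩
  · intro hx i hi
    by_contra hne
    apply hi
    simp only [Finset.mem_filter, Finset.mem_univ, true_and]
    exact ⟨x, hx, hne⟩
  · intro hx
    -- the centre of S is trivial
    have hcen : Subgroup.center S = ⊥ := by
      rcases (Subgroup.center S).normal_of_characteristic.eq_bot_or_eq_top with h | h
      · exact h
      · exfalso
        apply hS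
        refine ⟨⟨fun a b => ?_⟩⟩
        have : a ∈ Subgroup.center S := by rw [h]; trivial
        exact (Subgroup.mem_center_iff.mp this b).symm
    -- each coordinate subgroup in the support is contained in N
    have key : ∀ i, (∃ y ∈ N, y i ≠ 1) → ∀ s : S, Pi.mulSingle i s ∈ N := by
      rintro i ⟨y, hyN, hyi⟩ s
      have hnormal : (N.comap (MonoidHom.mulSingle (fun _ : Fin n => S) i)).Normal :=
        Subgroup.Normal.comap inferInstance _
      have hmem : ∀ s : S, s ∈ N.comap (MonoidHom.mulSingle (fun _ : Fin n => S) i) ↔
          Pi.mulSingle i s ∈ N := fun s => Iff.rfl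
      rcases hnormal.eq_bot_or_eq_top with h | h
      · exfalso
        have hy : y i ∉ Subgroup.center S := by
          rw [hcen, Subgroup.mem_bot]; exact hyi
        rw [Subgroup.mem_center_iff] at hy
        push Not at hy
        obtain ⟨t, ht⟩ := hy
        have hc : Pi.mulSingle i t * y * (Pi.mulSingle i t)⁻¹ * y⁻¹ ∈ N :=
          N.mul_mem (‹N.Normal›.conj_mem y hyN _) (N.inv_mem hyN)
        have heq : Pi.mulSingle i t * y * (Pi.mulSingle i t)⁻¹ * y⁻¹ =
            Pi.mulSingle i (t * y i * t⁻¹ * (y i)⁻¹) := by
          ext j
          by_cases hj : j = i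
          · subst hj
            simp
          · simp [Pi.mulSingle_eq_of_ne hj]
        rw [heq, ← hmem, h, Subgroup.mem_bot] at hc
        apply ht
        have : t * y i * t⁻¹ * (y i)⁻¹ * (y i) * t = (y i) * t := by rw [hc, one_mul]
        simpa [mul_assoc] using this
      · rw [← hmem, h]; trivial
    apply Subgroup.pi_mem_of_mulSingle_mem
    intro i
    by_cases hi : ∃ y ∈ N, y i ≠ 1
    · exact key i hi (x i)
    · have : x i = 1 := hx i (by simpa using hi)
      rw [this, Pi.mulSingle_one]
      exact N.one_mem

end Cfsg.Agent.S5913
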