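import Cfsg.Statements.S5914
-- import your own Cfsg.Agent.* helpers here
import Cfsg.Agent.S5913
import Cfsg.Agent.Lib.Helper61_MinNormal

set_option autoImplicit false
open Cfsg

namespace Cfsg.Agent.S5914

open Equiv

section pow

variable {S : Type*} [Group S] {n : ℕ}

/-- permuting the coordinates -/
def coordPerm (S : Type*) [Group S] {n : ℕ} (σ : Perm (Fin n)) : (Fin n → S) ≃* (Fin n → S) where
  toFun x := fun k => x (σ k)
  invFun x := fun k => x (σ.symm k)
  left_inv x := by funext k; simp
  right_inv x := by funext k; simp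
  map_mul' x y := rfl

theorem coordPerm_swap_mulSingle (i j : Fin n) (s : S) :
    coordPerm S (swap i j) (Pi.mulSingle i s) = Pi.mulSingle j s := by
  funext k
  show (Pi.mulSingle i s : Fin n → S) (swap i j k) = (Pi.mulSingle j s : Fin n → S) k
  rw [Pi.mulSingle_apply, Pi.mulSingle_apply]
  have : swap i j k = i ↔ k = j := by
    rw [swap_apply_eq_iff, swap_apply_left]
  simp only [this]

/-- the shear `x ↦ x * mulSingle j (x i)` of a power of a commutative group -/
def shear (hcomm : ∀ a b : S, a * b = b * a) {i j : Fin n} (hij : i ≠ j) :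
    (Fin n → S) ≃* (Fin n → S) where
  toFun x := x * Pi.mulSingle j (x i)
  invFun x := x * Pi.mulSingle j (x i)⁻¹
  left_inv x := by
    funext k
    simp only [Pi.mul_apply, Pi.mulSingle_eq_of_ne hij, mul_one]
    by_cases hk : k = j
    · subst hk; simp
    · simp [Pi.mulSingle_eq_of_ne hk]
  right_inv x := by
    funext k
    simp only [Pi.mul_apply, Pi.mulSingle_eq_of_ne hij, mul_one]
    by_cases hk : k = j
    · subst hk; simp
    · simp [Pi.mulSingle_eq_of_ne hk]
  map_mul' x y := by
    funext k
    simp only [Pi.mul_apply]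
    by_cases hk : k = j
    · subst hk
      simp only [Pi.mulSingle_eq_same]
      rw [mul_assoc, mul_assoc, ← mul_assoc (y k), hcomm (y k) (x i), mul_assoc]
    · simp [Pi.mulSingle_eq_of_ne hk]

theorem shear_apply (hcomm : ∀ a b : S, a * b = b * a) {i j : Fin n} (hij : i ≠ j)
    (x : Fin n → S) : shear hcomm hij x = x * Pi.mulSingle j (x i) := rfl

variable [IsSimpleGroup S]

/-- a normal automorphism-invariant subgroup containing a nontrivial `mulSingle` is everything -/
theorem eq_top_of_mulSingle_mem (K : Subgroup (Fin n → S)) [K.Normal]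
    (hinv : ∀ ϕ : (Fin n → S) ≃* (Fin n → S), K.map ϕ.toMonoidHom ≤ K)
    {j₀ : Fin n} {s₀ : S} (hs₀ : s₀ ≠ 1) (hmem : Pi.mulSingle j₀ s₀ ∈ K) : K = ⊤ := by
  classical
  have hnormal : (K.comap (MonoidHom.mulSingle (fun _ : Fin n => S) j₀)).Normal :=
    Subgroup.Normal.comap inferInstance _
  have htop : K.comap (MonoidHom.mulSingle (fun _ : Fin n => S) j₀) = ⊤ := by
    rcases hnormal.eq_bot_or_eq_top with h | h
    · exfalso
      have : s₀ ∈ K.comap (MonoidHom.mulSingle (fun _ : Fin n => S) j₀) := hmem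
      rw [h, Subgroup.mem_bot] at this
      exact hs₀ this
    · exact h
  rw [eq_top_iff]
  intro x _
  apply Subgroup.pi_mem_of_mulSingle_mem
  intro j
  have h1 : Pi.mulSingle j₀ (x j) ∈ K := by
    have : x j ∈ K.comap (MonoidHom.mulSingle (fun _ : Fin n => S) j₀) := by rw [htop]; trivial
    exact this
  have h2 := hinv (coordPerm S (swap j₀ j)) ⟨_, h1, rfl⟩
  have h3 : (coordPerm S (swap j₀ j)).toMonoidHom (Pi.mulSingle j₀ (x j)) = Pi.mulSingle j (x j) :=
    coordPerm_swap_mulSingle j₀ j (x j)
  rwa [h3] at h2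

/-- direct powers of simple groups are characteristically simple -/
theorem eq_bot_or_eq_top_of_invariant (K : Subgroup (Fin n → S))
    (hinv : ∀ ϕ : (Fin n → S) ≃* (Fin n → S), K.map ϕ.toMonoidHom ≤ K) : K = ⊥ ∨ K = ⊤ := by
  classical
  have hchar : K.Characteristic := Subgroup.characteristic_iff_map_le.mpr hinv
  have hnormal : K.Normal := Subgroup.normal_of_characteristic K
  by_cases hbot : K = ⊥
  · exact Or.inl hbot
  right
  by_cases hcomm : ∀ a b : S, a * b = b * a
  · -- abelian case : shears
    obtain ⟨x, hxK, hx1⟩ : ∃ x ∈ K, x ≠ 1 := by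
      by_contra hcon
      push Not at hcon
      apply hbot
      rw [eq_bot_iff]
      intro x hx
      rw [Subgroup.mem_bot]
      exact hcon x hx
    obtain ⟨i, hi⟩ : ∃ i, x i ≠ 1 := by
      by_contra hcon
      push Not at hcon
      exact hx1 (funext hcon)
    by_cases hj : ∃ j, i ≠ j
    · obtain ⟨j, hij⟩ := hj
      have h1 : shear hcomm hij x ∈ K := hinv (shear hcomm hij) ⟨x, hxK, rfl⟩
      rw [shear_apply] at h1
      have h2 : x⁻¹ * (x * Pi.mulSingle j (x i)) ∈ K := K.mul_mem (K.inv_mem hxK) h1
      rw [inv_mul_cancel_left] at h2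
      exact eq_top_of_mulSingle_mem K hinv hi h2
    · push Not at hj
      have hx : x = Pi.mulSingle i (x i) := by
        funext k
        rw [← hj k, Pi.mulSingle_eq_same]
      rw [hx] at hxK
      exact eq_top_of_mulSingle_mem K hinv hi hxK
  · -- nonabelian case : S5913
    have hS : ¬ IsMulCommutative S := fun h => hcomm (fun a b => h.is_comm.comm a b)
    obtain ⟨T, hT⟩ := Cfsg.Agent.S5913.result hS n K
    by_cases hTe : ∃ i, i ∈ T
    · obtain ⟨i, hi⟩ := hTe
      obtain ⟨s₀, hs₀⟩ : ∃ s₀ : S, s₀ ≠ 1 := exists_ne 1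
      have hmem : Pi.mulSingle i s₀ ∈ K := by
        rw [hT]
        intro k hk
        have : k ≠ i := fun h => hk (h ▸ hi)
        rw [Pi.mulSingle_apply, if_neg this]
      exact eq_top_of_mulSingle_mem K hinv hs₀ hmem
    · exfalso
      push Not at hTe
      apply hbot
      rw [eq_bot_iff]
      intro x hx
      rw [Subgroup.mem_bot]
      funext k
      exact (hT x).mp hx k (hTe k)

end pow

/-- A non-trivial finite group G is characteristically simple (its only characteristic subgroups are 1 and G) if and only if G is isomorphic to a direct power S^n (n ≥ 1) of some simple group S (possibly cyclic of prime order). -/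
theorem result {G : Type*} [Group G] [Finite G] [Nontrivial G] :
    (∀ H : Subgroup G, H.Characteristic → H = ⊥ ∨ H = ⊤) ↔
    ∃ (S : Type) (_ : Group S) (_ : IsSimpleGroup S) (n : ℕ), 1 ≤ n ∧ Nonempty (G ≃* (Fin n → S)) := by
  constructor
  · intro h
    obtain ⟨T, hT, m, hsimple, hm, hiso⟩ :=
      Cfsg.Agent.Lib.Helper61_MinNormal.exists_simple_pow (M := G) ⊤ (by
        intro L _ hL
        apply h L
        rw [Subgroup.characteristic_iff_map_le]
        intro ϕ
        exact hL ϕ (Subgroup.mem_top _))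
    exact ⟨T, hT, hsimple, m, hm, hiso⟩
  · rintro ⟨S, hS, hsimple, n, _, ⟨e⟩⟩ H hH
    have hinv : ∀ ϕ : (Fin n → S) ≃* (Fin n → S),
        (H.map e.toMonoidHom).map ϕ.toMonoidHom ≤ H.map e.toMonoidHom := by
      intro ϕ
      have h1 := (Subgroup.characteristic_iff_map_le.mp hH) (e.trans (ϕ.trans e.symm))
      rintro _ ⟨_, ⟨h, hh, rfl⟩, rfl⟩
      have h2 : (e.trans (ϕ.trans e.symm)) h ∈ H := h1 ⟨h, hh, rfl⟩
      refine ⟨_, h2, ?_⟩
      simp
    rcases eq_bot_or_eq_top_of_invariant (H.map e.toMonoidHom) hinv with h | h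
    · left
      exact (Subgroup.map_eq_bot_iff_of_injective H e.injective).mp h
    · right
      rw [eq_top_iff]
      intro g _
      have : e g ∈ H.map e.toMonoidHom := by rw [h]; trivial
      obtain ⟨g', hg', hgg'⟩ := this
      have : g' = g := e.injective hgg'
      rwa [← this]

end Cfsg.Agent.S5914
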