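import Cfsg.Statements.S5938
import Cfsg.Agent.S0803
import Cfsg.Agent.Lib.Helper99_PSL2Prime

set_option autoImplicit false
open Cfsg

namespace Cfsg.Agent.S5938

open scoped MatrixGroups commutatorElement
open Cfsg.Agent.Lib.Helper99_PSL2Prime

theorem perm_comm_pow3 :
    ⁅(Equiv.swap (0 : Fin 4) 1), (Equiv.swap (1 : Fin 4) 2)⁆ ^ 3 = 1 := by decide

theorem perm_comm_ne :
    ⁅(Equiv.swap (0 : Fin 4) 1), (Equiv.swap (1 : Fin 4) 2)⁆ ≠ 1 := by decide

theorem perm_sq_not_comm :
    ¬ Commute ((Equiv.swap (0 : Fin 4) 1 * Equiv.swap (1 : Fin 4) 2) ^ 2)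
      ((Equiv.swap (0 : Fin 4) 1 * Equiv.swap (1 : Fin 4) 3) ^ 2) := by
  unfold Commute SemiconjBy
  decide

/-- Let p be a prime with p ≡ ±1 (mod 8) and F a field with p elements. Then PSL_2(F) has a maximal subgroup isomorphic to the symmetric group S_4. -/
theorem result {F : Type*} [Field F] [Fintype F] (p : ℕ) [Fact p.Prime] (hF : Fintype.card F = p) (hp : p % 8 = 1 ∨ p % 8 = 7) : ∃ H : Subgroup (Matrix.ProjectiveSpecialLinearGroup (Fin 2) F), IsCoatom H ∧ Nonempty (H ≃* Equiv.Perm (Fin 4)) := by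
  classical
  have hpp : p.Prime := Fact.out
  have : CharP F p := charP_of_card p hF
  have hp2 : p ≠ 2 := by rintro rfl; omega
  have hp3 : p ≠ 3 := by rintro rfl; omega
  have hp7 : 7 ≤ p := by
    have := hpp.two_le
    rcases hp with h | h
    · by_contra hlt
      have : p = 1 := by omega
      omega
    · omega
  have h16 : p ^ 2 % 16 = 1 := by
    have : p % 16 = 1 ∨ p % 16 = 9 ∨ p % 16 = 7 ∨ p % 16 = 15 := by omega
    rcases this with h | h | h | h <;> simp [Nat.pow_mod, h]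
  obtain ⟨H, ⟨e⟩⟩ := (Cfsg.Agent.S0803.result hF).2 h16
  have hcardH : Nat.card H = 24 := by
    rw [Nat.card_congr e.toEquiv, Nat.card_perm, Nat.card_eq_fintype_card, Fintype.card_fin]
    rfl
  have hcardG := card_PSL2_prime p hp2 hF
  have hbig : 336 ≤ p * (p ^ 2 - 1) := by
    have h49 : 7 ^ 2 ≤ p ^ 2 := Nat.pow_le_pow_left hp7 2
    calc 336 = 7 * (7 ^ 2 - 1) := by norm_num
      _ ≤ p * (p ^ 2 - 1) := Nat.mul_le_mul hp7 (by omega)
  refine ⟨H, ⟨?_, fun M hHM => ?_⟩, ⟨e⟩⟩
  · rintro rfl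
    have : Nat.card (⊤ : Subgroup PSL(2, F)) = Nat.card PSL(2, F) := Subgroup.card_top
    omega
  · rcases psl2_cases p hp2 hF M with h | h | h | h
    · exact h
    · exfalso
      have h1 := transfer_comm_pow hHM.le e p h (Equiv.swap (0 : Fin 4) 1) (Equiv.swap (1 : Fin 4) 2)
      have h3 := perm_comm_pow3
      have hne := perm_comm_ne
      have hd1 := orderOf_dvd_of_pow_eq_one h1
      have hd3 := orderOf_dvd_of_pow_eq_one h3
      have hco : Nat.Coprime p 3 := (Nat.coprime_primes hpp Nat.prime_three).2 hp3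
      have := Nat.dvd_gcd hd1 hd3
      rw [hco.gcd_eq_one, Nat.dvd_one, orderOf_eq_one_iff] at this
      exact hne this
    · exfalso
      exact perm_sq_not_comm (transfer_sq_comm hHM.le e h
        (Equiv.swap (0 : Fin 4) 1 * Equiv.swap (1 : Fin 4) 2)
        (Equiv.swap (0 : Fin 4) 1 * Equiv.swap (1 : Fin 4) 3))
    · exfalso
      have hdvd : Nat.card H ∣ Nat.card M := Subgroup.card_dvd_of_le hHM.le
      have hne : Nat.card H ≠ Nat.card M := by
        intro heq
        exact hHM.ne (Subgroup.eq_of_le_of_card_ge hHM.le heq.ge)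
      rw [hcardH] at hdvd hne
      rcases h with h | h | h <;> rw [h] at hdvd hne <;> omega

end Cfsg.Agent.S5938
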