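import Cfsg.Statements.S5939
import Cfsg.Agent.S0804
import Cfsg.Agent.Lib.Helper51_SL2Cases

set_option autoImplicit false
open Cfsg

namespace Cfsg.Agent.S5939

open scoped MatrixGroups commutatorElement
open Cfsg.Agent.Lib.Helper99_PSL2Prime Cfsg.Agent.Lib.Helper51_SL2Cases

/-- a `3`-cycle of `A₅` -/
def xx : alternatingGroup (Fin 5) := ⟨Equiv.swap 2 3 * Equiv.swap 3 4, by
  rw [Equiv.Perm.mem_alternatingGroup]; decide⟩
/-- another `3`-cycle of `A₅` -/
def yy : alternatingGroup (Fin 5) := ⟨Equiv.swap 1 2 * Equiv.swap 2 3, by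
  rw [Equiv.Perm.mem_alternatingGroup]; decide⟩

theorem comm_sq : ⁅xx, yy⁆ ^ 2 = 1 := by decide
theorem comm_ne : ⁅xx, yy⁆ ≠ 1 := by decide
theorem sq_not_comm : ¬ Commute (xx ^ 2) (yy ^ 2) := by
  unfold Commute SemiconjBy
  decide

/-- the maximality argument, from the weak Dickson list -/
theorem coatom_of_cases {G : Type*} [Group G] [Finite G] (p : ℕ) (hp : p.Prime) (hp2 : p ≠ 2)
    (hG : 60 < Nat.card G) (H : Subgroup G) (e : H ≃* alternatingGroup (Fin 5))
    (key : ∀ M : Subgroup G, M = ⊤ ∨ (∀ a ∈ M, ∀ b ∈ M, ⁅a, b⁆ ^ p = 1) ∨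
      (∀ a ∈ M, ∀ b ∈ M, Commute (a ^ 2) (b ^ 2)) ∨
      (Nat.card M = 12 ∨ Nat.card M = 24 ∨ Nat.card M = 60 ∨ Nat.card M = 30) ∨
      ¬ 5 ∣ Nat.card M) : IsCoatom H := by
  have hcardH : Nat.card H = 60 := by
    rw [Nat.card_congr e.toEquiv, nat_card_alternatingGroup, Nat.card_eq_fintype_card,
      Fintype.card_fin]
    rfl
  refine ⟨?_, fun M hHM => ?_⟩
  · rintro rfl
    have : Nat.card (⊤ : Subgroup G) = Nat.card G := Subgroup.card_top
    omega
  · have hdvd : Nat.card H ∣ Nat.card M := Subgroup.card_dvd_of_le hHM.le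
    have hne : Nat.card H ≠ Nat.card M := by
      intro heq
      exact hHM.ne (Subgroup.eq_of_le_of_card_ge hHM.le heq.ge)
    rw [hcardH] at hdvd hne
    rcases key M with h | h | h | h | h
    · exact h
    · exfalso
      have h1 := transfer_comm_pow hHM.le e p h xx yy
      have hd1 := orderOf_dvd_of_pow_eq_one h1
      have hd2 := orderOf_dvd_of_pow_eq_one comm_sq
      have hco : Nat.Coprime p 2 := (Nat.coprime_primes hp Nat.prime_two).2 hp2
      have := Nat.dvd_gcd hd1 hd2
      rw [hco.gcd_eq_one, Nat.dvd_one, orderOf_eq_one_iff] at this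
      exact comm_ne this
    · exfalso
      exact sq_not_comm (transfer_sq_comm hHM.le e h xx yy)
    · exfalso
      rcases h with h | h | h | h <;> rw [h] at hdvd hne <;> omega
    · exfalso
      exact h ((by norm_num : 5 ∣ 60).trans hdvd)

/-- Let p be a prime and F a finite field of characteristic p such that either F has p elements and p ≡ ±1 (mod 10), or F has p² elements and p ≡ ±3 (mod 10). Then PSL_2(F) has a maximal subgroup isomorphic to the alternating group A_5. -/
theorem result {F : Type*} [Field F] [Fintype F] (p : ℕ) [Fact p.Prime] [CharP F p] (h : (Fintype.card F = p ∧ (p % 10 = 1 ∨ p % 10 = 9)) ∨ (Fintype.card F = p ^ 2 ∧ (p % 10 = 3 ∨ p % 10 = 7))) : ∃ H : Subgroup (Matrix.ProjectiveSpecialLinearGroup (Fin 2) F), IsCoatom H ∧ Nonempty (H ≃* alternatingGroup (Fin 5)) := by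
  classical
  have hpp : p.Prime := Fact.out
  have hp2 : p ≠ 2 := by
    rintro rfl
    rcases h with ⟨-, h | h⟩ | ⟨-, h | h⟩ <;> omega
  have h2F := two_ne_zero_of_char (F := F) p hp2
  have hcardG := card_PSL2_odd (F := F) h2F
  rcases h with ⟨hF, hmod⟩ | ⟨hF, hmod⟩
  · -- the prime field
    have hp11 : 11 ≤ p := by
      have := hpp.two_le
      rcases hmod with h | h
      · by_contra hlt
        have : p = 1 := by omega
        omega
      · by_contra hlt
        have : p = 9 := by omega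
        rw [this] at hpp
        norm_num at hpp
    have hsq : p ^ 2 % 5 = 1 := by
      have : p % 5 = 1 ∨ p % 5 = 4 := by omega
      rcases this with h | h <;> simp [Nat.pow_mod, h]
    have h5 : 5 ∣ p * (p ^ 2 - 1) := by
      apply Dvd.dvd.mul_left
      exact Nat.dvd_of_mod_eq_zero (Nat.sub_mod_eq_zero_of_mod_eq (by rw [hsq]))
    obtain ⟨H, ⟨e⟩⟩ := (Cfsg.Agent.S0804.result hF).2 h5
    refine ⟨H, ?_, ⟨e⟩⟩
    have hbig : 1320 ≤ p * (p ^ 2 - 1) := by
      have h121 : 11 ^ 2 ≤ p ^ 2 := Nat.pow_le_pow_left hp11 2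
      calc 1320 = 11 * (11 ^ 2 - 1) := by norm_num
        _ ≤ p * (p ^ 2 - 1) := Nat.mul_le_mul hp11 (by omega)
    rw [hF] at hcardG
    apply coatom_of_cases p hpp hp2 (by omega) H e
    intro M
    rcases psl2_cases p hp2 hF M with h | h | h | h
    · exact Or.inl h
    · exact Or.inr (Or.inl h)
    · exact Or.inr (Or.inr (Or.inl h))
    · right; right; right; left
      rcases h with h | h | h
      · exact Or.inl h
      · exact Or.inr (Or.inl h)
      · exact Or.inr (Or.inr (Or.inl h))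
  · -- the field with `p²` elements
    have hp3 : 3 ≤ p := by
      have := hpp.two_le
      omega
    have hq5 : p ^ 2 % 5 = 4 := by
      have : p % 5 = 3 ∨ p % 5 = 2 := by omega
      rcases this with h | h <;> simp [Nat.pow_mod, h]
    have hq9 : 9 ≤ p ^ 2 := by
      calc 9 = 3 ^ 2 := by norm_num
        _ ≤ p ^ 2 := Nat.pow_le_pow_left hp3 2
    have hqq : (p ^ 2) ^ 2 % 5 = 1 := by
      rw [Nat.pow_mod, hq5]
    have h5 : 5 ∣ p ^ 2 * ((p ^ 2) ^ 2 - 1) := by
      apply Dvd.dvd.mul_left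
      exact Nat.dvd_of_mod_eq_zero (Nat.sub_mod_eq_zero_of_mod_eq (by rw [hqq]))
    obtain ⟨H, ⟨e⟩⟩ := (Cfsg.Agent.S0804.result hF).2 h5
    refine ⟨H, ?_, ⟨e⟩⟩
    have hbig : 720 ≤ p ^ 2 * ((p ^ 2) ^ 2 - 1) := by
      have h81 : 9 ^ 2 ≤ (p ^ 2) ^ 2 := Nat.pow_le_pow_left hq9 2
      calc 720 = 9 * (9 ^ 2 - 1) := by norm_num
        _ ≤ p ^ 2 * ((p ^ 2) ^ 2 - 1) := Nat.mul_le_mul hq9 (by omega)
    rw [hF] at hcardG
    have hn5 : ¬ 5 ∣ p * (p ^ 2 - 1) := by
      intro hd
      rcases (Nat.Prime.dvd_mul Nat.prime_five).1 hd with h | h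
      · have : p % 5 = 0 := Nat.mod_eq_zero_of_dvd h
        omega
      · have := Nat.mod_eq_zero_of_dvd h
        omega
    apply coatom_of_cases p hpp hp2 (by omega) H e
    intro M
    rcases psl2_sq_cases p hp2 hF M with h | h | h | h | h | ⟨-, h⟩
    · exact Or.inl h
    · exact Or.inr (Or.inl h)
    · exact Or.inr (Or.inr (Or.inl h))
    · right; right; right; left
      rcases h with h | h | h
      · exact Or.inl h
      · exact Or.inr (Or.inl h)
      · exact Or.inr (Or.inr (Or.inl h))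
    · right; right; right; right
      intro h5M
      exact hn5 (h5M.trans h)
    · right; right; right; left
      rcases h with h | h
      · exact Or.inr (Or.inr (Or.inr h))
      · exact Or.inr (Or.inr (Or.inl h))

end Cfsg.Agent.S5939
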