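import Cfsg.Statements.S5941
import Cfsg.Agent.Lib.Helper51_SL2SubMax2

set_option autoImplicit false
open Cfsg

namespace Cfsg.Agent.S5941

/-- Let K and F be finite fields of odd characteristic with #F = (#K)². Then PSL_2(F) has a maximal subgroup isomorphic to PGL_2(K). -/
theorem result {F K : Type*} [Field F] [Fintype F] [Field K] [Fintype K] (q : ℕ) (hK : Fintype.card K = q) (hF : Fintype.card F = q ^ 2) (hq : Odd q) : ∃ H : Subgroup (Matrix.ProjectiveSpecialLinearGroup (Fin 2) F), IsCoatom H ∧ Nonempty (H ≃* Matrix.ProjGenLinGroup (Fin 2) K) := by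
  classical
  obtain ⟨ι⟩ := Cfsg.Agent.Lib.Helper41_Subfield.exists_ringHom (F := F) (K := K) 2
    (by rw [hK, hF])
  obtain ⟨p, hpc⟩ := CharP.exists F
  have : Fact p.Prime := ⟨CharP.char_is_prime F p⟩
  have hoddF : Odd (Fintype.card F) := by rw [hF]; exact hq.pow
  have hp2 : p ≠ 2 := by
    intro h2
    subst h2
    have hev : ringChar F = 2 := ringChar.eq F 2
    have := FiniteField.even_card_iff_char_two.1 hev
    rw [Nat.odd_iff] at hoddF
    omega
  have hsq : ∀ a : K, IsSquare (ι a) :=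
    Cfsg.Agent.Lib.Helper41_Subfield.isSquare_of_even ι 1 (by rw [hK, hF]) hoddF
  refine ⟨(Cfsg.Agent.Lib.Helper41_Subfield.pglHom ι hsq).range, ?_, ?_⟩
  · rw [Cfsg.Agent.Lib.Helper51_SL2SubMax2.pglHom_range]
    apply Cfsg.Agent.Lib.Helper51_SL2SubMax.isCoatom_map_mk _ _
      (le_trans (Cfsg.Agent.Lib.Helper51_SL2SubMax.center_le_S0 ι)
        (Cfsg.Agent.Lib.Helper51_SL2SubMax2.S0_le_N0 ι))
    exact Cfsg.Agent.Lib.Helper51_SL2SubMax2.isCoatom_N0 ι hp2 (by rw [hF, hK]) hsq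
  · have e1 := QuotientGroup.quotientKerEquivRange (Cfsg.Agent.Lib.Helper41_Subfield.pglHom ι hsq)
    have e2 : GL (Fin 2) K ⧸ (Cfsg.Agent.Lib.Helper41_Subfield.pglHom ι hsq).ker ≃*
        GL (Fin 2) K ⧸ Subgroup.center (GL (Fin 2) K) :=
      QuotientGroup.quotientMulEquivOfEq (Cfsg.Agent.Lib.Helper41_Subfield.pglHom_ker ι hsq)
    exact ⟨(e2.symm.trans e1).symm⟩

end Cfsg.Agent.S5941
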