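import Cfsg.Statements.S5942
import Cfsg.Agent.Lib.Helper51_SL2SubMax

set_option autoImplicit false
open Cfsg

namespace Cfsg.Agent.S5942

/-- Let K and F be finite fields of odd characteristic with #F = (#K)^r for an odd prime r. Then PSL_2(F) has a maximal subgroup isomorphic to PSL_2(K). -/
theorem result {F K : Type*} [Field F] [Fintype F] [Field K] [Fintype K] (q r : ℕ) (hK : Fintype.card K = q) (hF : Fintype.card F = q ^ r) (hq : Odd q) (hr : r.Prime) (hr2 : r ≠ 2) : ∃ H : Subgroup (Matrix.ProjectiveSpecialLinearGroup (Fin 2) F), IsCoatom H ∧ Nonempty (H ≃* Matrix.ProjectiveSpecialLinearGroup (Fin 2) K) := by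
  classical
  obtain ⟨ι⟩ := Cfsg.Agent.Lib.Helper41_Subfield.exists_ringHom (F := F) (K := K) r
    (by rw [hK, hF])
  obtain ⟨p, hpc⟩ := CharP.exists F
  have : Fact p.Prime := ⟨CharP.char_is_prime F p⟩
  have hp2 : p ≠ 2 := by
    intro h2
    subst h2
    have hodd : Odd (Fintype.card F) := by rw [hF]; exact hq.pow
    have hev : ringChar F = 2 := ringChar.eq F 2
    have := FiniteField.even_card_iff_char_two.1 hev
    rw [Nat.odd_iff] at hodd
    omega
  refine ⟨(Cfsg.Agent.Lib.Helper41_Subfield.pslHom ι).range, ?_, ?_⟩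
  · rw [Cfsg.Agent.Lib.Helper51_SL2SubMax.pslHom_range]
    apply Cfsg.Agent.Lib.Helper51_SL2SubMax.isCoatom_map_mk _ _
      (Cfsg.Agent.Lib.Helper51_SL2SubMax.center_le_S0 ι)
    exact Cfsg.Agent.Lib.Helper51_SL2SubMax.isCoatom_S0 ι hp2 hr hr2 (by rw [hF, hK])
  · have e1 := QuotientGroup.quotientKerEquivRange (Cfsg.Agent.Lib.Helper41_Subfield.pslHom ι)
    have e2 := QuotientGroup.quotientMulEquivOfEq (Cfsg.Agent.Lib.Helper41_Subfield.pslHom_ker ι)
    exact ⟨(e2.symm.trans e1).symm⟩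

end Cfsg.Agent.S5942
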