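import Cfsg.Statements.S5943
import Cfsg.Agent.Lib.Helper99_SL2Even
import Cfsg.Agent.Lib.Helper41_Subfield

set_option autoImplicit false
open Cfsg

namespace Cfsg.Agent.S5943

/-- Let K and F be finite fields of characteristic 2 with #K = q > 2 and #F = q^r for a prime r. Then PSL_2(F) has a maximal subgroup isomorphic to PSL_2(K) (which equals PGL_2(K) in characteristic 2). -/
theorem result {F K : Type*} [Field F] [Fintype F] [Field K] [Fintype K] (q r : ℕ) (hK : Fintype.card K = q) (hF : Fintype.card F = q ^ r) (hq : Even q) (hq2 : q ≠ 2) (hr : r.Prime) : ∃ H : Subgroup (Matrix.ProjectiveSpecialLinearGroup (Fin 2) F), IsCoatom H ∧ Nonempty (H ≃* Matrix.ProjectiveSpecialLinearGroup (Fin 2) K) := by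
  classical
  have hr1 := hr.one_lt
  have hK2 : ringChar K = 2 :=
    FiniteField.even_card_iff_char_two.2 (by rw [hK]; exact Nat.even_iff.1 hq)
  haveI : CharP K 2 := ringChar.of_eq hK2
  have hqr : Even (q ^ r) := Nat.even_pow.2 ⟨hq, by omega⟩
  have hF2 : ringChar F = 2 :=
    FiniteField.even_card_iff_char_two.2 (by rw [hF]; exact Nat.even_iff.1 hqr)
  haveI : CharP F 2 := ringChar.of_eq hF2
  obtain ⟨n, _, hn⟩ := FiniteField.card K 2
  have he : 1 ≤ (n : ℕ) := n.pos
  have hq' : q = 2 ^ (n : ℕ) := by rw [← hK, hn]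
  have hK3 : 3 ≤ Fintype.card K := by
    have h2 : 1 < Fintype.card K := Fintype.one_lt_card
    rw [hK] at h2 ⊢
    obtain ⟨k, hk⟩ := hq
    omega
  have hFc : Fintype.card F = 2 ^ ((n : ℕ) * r) := by rw [hF, hq', pow_mul]
  obtain ⟨ι⟩ := Cfsg.Agent.Lib.Helper41_Subfield.exists_ringHom (F := F) (K := K) r
    (by rw [hK, hF])
  let eF := Cfsg.Agent.Lib.Helper61_SL2.pslEquivSl (F := F)
  refine ⟨MulEquiv.mapSubgroup eF.symm (Matrix.SpecialLinearGroup.map (n := Fin 2) ι).range,
    ?_, ?_⟩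
  · rw [OrderIso.isCoatom_iff]
    exact Cfsg.Agent.Lib.Helper99_SL2Even.isCoatom_range_map ι n r he hn hK3 hFc hr
  · have e1 : Matrix.SpecialLinearGroup (Fin 2) K ≃*
        (Matrix.SpecialLinearGroup.map (n := Fin 2) ι).range :=
      MonoidHom.ofInjective (Cfsg.Agent.Lib.Helper99_SL2Even.map_injective ι)
    have e2 := eF.symm.subgroupMap (Matrix.SpecialLinearGroup.map (n := Fin 2) ι).range
    have e3 : Matrix.ProjectiveSpecialLinearGroup (Fin 2) K ≃*
        Matrix.SpecialLinearGroup (Fin 2) K := Cfsg.Agent.Lib.Helper61_SL2.pslEquivSl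
    exact ⟨(e2.symm.trans e1.symm).trans e3.symm⟩

end Cfsg.Agent.S5943
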