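import Cfsg.Statements.S5947
import Cfsg.Agent.Lib.Helper99_Zsigmondy
import Cfsg.Agent.Lib.Helper99_Singer

set_option autoImplicit false
open Cfsg

namespace Cfsg.Agent.S5947

open Cfsg.Agent.Lib.Helper99_Zsigmondy Cfsg.Agent.Lib.Helper99_Singer

/-- a prime power `q` with `q + 1` a power of two is a prime -/
lemma prime_of_isPrimePow_of_add_one_eq_two_pow {q m : ℕ} (hq : IsPrimePow q)
    (h : q + 1 = 2 ^ m) : q.Prime := by
  obtain ⟨p, f, hp, hf, rfl⟩ := hq
  have hp : p.Prime := hp.nat_prime
  rcases Nat.lt_or_ge f 2 with hf1 | hf2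
  · have : f = 1 := by omega
    subst this
    simpa using hp
  exfalso
  have hp2 : p ≠ 2 := by
    rintro rfl
    have hm : m ≠ 0 := by
      rintro rfl
      have : 0 < 2 ^ f := by positivity
      omega
    have h1 : 2 ∣ 2 ^ m := dvd_pow_self 2 hm
    have h2 : 2 ∣ 2 ^ f := dvd_pow_self 2 (by omega)
    omega
  obtain ⟨r, hr, hrd, hrn⟩ := zsigmondy p (2 * f) hp.one_lt (by omega) (fun h => hp2 h.1)
    (fun h => by omega)
  have hfac : p ^ (2 * f) - 1 = (p ^ f - 1) * (p ^ f + 1) := by
    have h1 : 1 ≤ p ^ f := Nat.one_le_pow _ _ hp.pos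
    obtain ⟨c, hc⟩ : ∃ c, p ^ f = c + 1 := ⟨p ^ f - 1, by omega⟩
    rw [mul_comm 2 f, pow_mul, hc]
    simp only [Nat.add_sub_cancel]
    have : (c + 1) ^ 2 = c * (c + 1 + 1) + 1 := by ring
    rw [this]
    simp
  rw [hfac] at hrd
  rcases (Nat.Prime.dvd_mul hr).mp hrd with h1 | h1
  · exact hrn f (by omega) (by omega) h1
  · rw [h] at h1
    have hr2 : r = 2 := (Nat.prime_dvd_prime_iff_eq hr Nat.prime_two).mp (hr.dvd_of_dvd_pow h1)
    subst hr2
    apply hrn 1 one_pos (by omega)
    rw [pow_one]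
    have hodd : p % 2 = 1 := by
      rcases hp.eq_two_or_odd with h2 | h2
      · exact absurd h2 hp2
      · exact h2
    omega

theorem result {F K : Type*} [Field F] [Fintype F] [Field K] [Fintype K] [Algebra F K] (n : ℕ) (hn : 2 ≤ n) (hdim : Module.finrank F K = n)
    (hex1 : ¬ (n = 6 ∧ Fintype.card F = 2))
    (hex2 : ¬ (n = 2 ∧ (Fintype.card F).Prime ∧ ∃ a : ℕ, Fintype.card F + 1 = 2 ^ a))
    (U : Subgroup (Module.End F K)ˣ) (hU : IsMulCommutative U) (hcard : Nat.card U = Fintype.card K - 1) :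
    ∃ g : (Module.End F K)ˣ, U.map (MulAut.conj g).toMonoidHom = (Units.map ((Algebra.lmul F K : K →ₐ[F] Module.End F K) : K →* Module.End F K)).range := by
  classical
  have hfinE : Finite (Module.End F K) := DFunLike.finite _
  set q := Fintype.card F with hq
  have hq1 : 1 < q := Fintype.one_lt_card
  have hKcard : Fintype.card K = q ^ n := by
    rw [← hdim]; exact Module.card_eq_pow_finrank
  have hz6 : ¬ (q = 2 ∧ n = 6) := fun h => hex1 ⟨h.2, h.1⟩
  have hz2 : ¬ (n = 2 ∧ ∃ m, q + 1 = 2 ^ m) := by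
    rintro ⟨h2, m, hm⟩
    exact hex2 ⟨h2, prime_of_isPrimePow_of_add_one_eq_two_pow (FiniteField.isPrimePow_card F) hm,
      m, hm⟩
  obtain ⟨r, hr, hrd, hrn⟩ := zsigmondy q n hq1 (by omega) hz6 hz2
  have hrfact : Fact r.Prime := ⟨hr⟩
  have hord : orderOf ((q : ℕ) : ZMod r) = n := by
    rw [orderOf_eq_iff (by omega)]
    exact ⟨(dvd_pow_sub_one_iff hq1.le).mp hrd, fun k hk hk0 hk1 =>
      hrn k hk0 hk ((dvd_pow_sub_one_iff hq1.le).mpr hk1)⟩
  have hUcard : Nat.card U = q ^ n - 1 := by rw [hcard, hKcard]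
  have hrU : r ∣ Nat.card U := by rw [hUcard]; exact hrd
  obtain ⟨u, hu⟩ := exists_prime_orderOf_dvd_card' r hrU
  set T : Module.End F K := ((u : (Module.End F K)ˣ) : Module.End F K) with hTdef
  have hT : T ^ r = 1 := by
    have h1 : u ^ r = 1 := by rw [← hu]; exact pow_orderOf_eq_one u
    have h2 : ((u : (Module.End F K)ˣ)) ^ r = 1 := by
      have := congrArg (Subtype.val) h1
      simpa using this
    have h3 := congrArg (Units.val) h2
    simpa using h3
  have hT1 : T ≠ 1 := by
    intro h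
    have h2 : (u : (Module.End F K)ˣ) = 1 := Units.ext h
    have h3 : u = 1 := Subtype.ext h2
    rw [h3, orderOf_one] at hu
    exact hr.one_lt.ne hu
  have hirr : ∀ W : Submodule F K, (∀ w ∈ W, T w ∈ W) → W ≠ ⊥ → W = ⊤ :=
    irreducible_of_ppd T hr hT hT1 (by rw [hdim]; exact hord)
  obtain ⟨hcomm, hinj, hsurj⟩ := centAlg_structure T hirr (1 : K) one_ne_zero
  obtain ⟨ψ, hψ⟩ := exists_algHom_to_centAlg T hirr (1 : K) one_ne_zero hcomm hinj hsurj
    (K := K) rfl
  -- the linear map `k ↦ ψ k 1`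
  set g : Module.End F K := (evLin (1 : K)).comp ψ.toLinearMap with hgdef
  have hgapp : ∀ k, g k = ψ k 1 := fun k => rfl
  have hψinj : Function.Injective ψ := ψ.toRingHom.injective
  have hgker : LinearMap.ker g = ⊥ := by
    rw [LinearMap.ker_eq_bot']
    intro k hk
    rw [hgapp] at hk
    have := hinj (ψ k) (hψ k) hk
    rw [← map_zero ψ] at this
    exact hψinj this
  obtain ⟨gu, hgu⟩ := (LinearMap.isUnit_iff_ker_eq_bot g).mpr hgker
  have hrel : ∀ k : K, g * (Algebra.lmul F K k) = ψ k * g := by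
    intro k
    apply LinearMap.ext
    intro x
    rw [Module.End.mul_apply, Module.End.mul_apply, hgapp, hgapp]
    change ψ (k * x) 1 = _
    rw [map_mul, Module.End.mul_apply]
  -- the centraliser of `u`
  set CU : Subgroup (Module.End F K)ˣ := Subgroup.centralizer {(u : (Module.End F K)ˣ)} with hCU
  have hmemCU : ∀ x : (Module.End F K)ˣ, x ∈ CU ↔ (x : Module.End F K) ∈ centAlg T := by
    intro x
    rw [hCU, Subgroup.mem_centralizer_singleton_iff, mem_centAlg]
    constructor
    · intro h
      have := congrArg Units.val h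
      simpa [hTdef] using this.symm
    · intro h
      apply Units.ext
      simpa [hTdef] using h.symm
  have hCUcard : Nat.card CU ≤ q ^ n - 1 := by
    have hx1 : ∀ x : CU, ((x : (Module.End F K)ˣ) : Module.End F K) 1 ≠ 0 := by
      intro x h0
      have hx := (hmemCU x).mp x.2
      have := hinj _ hx h0
      exact (x : (Module.End F K)ˣ).ne_zero this
    let f : CU → Kˣ := fun x => Units.mk0 _ (hx1 x)
    have hf : Function.Injective f := by
      intro x y hxy
      have h1 : ((x : (Module.End F K)ˣ) : Module.End F K) 1 =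
          ((y : (Module.End F K)ˣ) : Module.End F K) 1 := congrArg Units.val hxy
      have h2 : (((x : (Module.End F K)ˣ) : Module.End F K) -
          ((y : (Module.End F K)ˣ) : Module.End F K)) 1 = 0 := by
        rw [LinearMap.sub_apply, h1, sub_self]
      have h3 := hinj _ ((centAlg T).sub_mem ((hmemCU x).mp x.2) ((hmemCU y).mp y.2)) h2
      exact Subtype.ext (Units.ext (sub_eq_zero.mp h3))
    have := Nat.card_le_card_of_injective f hf
    rwa [Nat.card_units, Nat.card_eq_fintype_card (α := K), hKcard] at this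
  have hUle : U ≤ CU := by
    intro x hx
    rw [hCU, Subgroup.mem_centralizer_singleton_iff]
    have := hU.is_comm.comm (⟨x, hx⟩ : U) u
    exact congrArg Subtype.val this
  have hUeq : U = CU := Subgroup.eq_of_le_of_card_ge hUle (by rw [hUcard]; exact hCUcard)
  -- the Singer group
  set M : Subgroup (Module.End F K)ˣ :=
    (Units.map ((Algebra.lmul F K : K →ₐ[F] Module.End F K) : K →* Module.End F K)).range with hM
  have hlinj : Function.Injective
      (Units.map ((Algebra.lmul F K : K →ₐ[F] Module.End F K) : K →* Module.End F K)) := by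
    apply Units.map_injective
    exact (Algebra.lmul F K).toRingHom.injective
  have hMcard : Nat.card M = q ^ n - 1 := by
    rw [hM, ← Nat.card_congr (MonoidHom.ofInjective hlinj).toEquiv, Nat.card_units,
      Nat.card_eq_fintype_card (α := K), hKcard]
  have hM'le : M.map (MulAut.conj gu).toMonoidHom ≤ CU := by
    rintro _ ⟨_, ⟨k, rfl⟩, rfl⟩
    rw [hmemCU]
    have : (((MulAut.conj gu).toMonoidHom (Units.map
        ((Algebra.lmul F K : K →ₐ[F] Module.End F K) : K →* Module.End F K) k) :
          (Module.End F K)ˣ) : Module.End F K) = ψ (k : K) := by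
      change (gu : Module.End F K) * (Algebra.lmul F K (k : K)) * ((gu⁻¹ : (Module.End F K)ˣ) : Module.End F K) = _
      rw [hgu, hrel, ← hgu, mul_assoc, Units.mul_inv, mul_one]
    rw [this]
    exact hψ _
  have hM'eq : M.map (MulAut.conj gu).toMonoidHom = CU :=
    Subgroup.eq_of_le_of_card_ge hM'le (by
      rw [Subgroup.card_map_of_injective (MulAut.conj gu).injective, hMcard]; exact hCUcard)
  refine ⟨gu⁻¹, ?_⟩
  rw [hUeq, ← hM'eq, Subgroup.map_map]
  convert Subgroup.map_id M
  ext x
  simp [mul_assoc]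

end Cfsg.Agent.S5947
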