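import Cfsg.Statements.S5949
import Cfsg.Agent.Lib.Helper99_SubspaceCount
import Cfsg.Agent.Lib.Helper99_PrimeOrderSL
import Cfsg.Agent.Lib.Helper99_RthPowers

set_option autoImplicit false
open scoped MatrixGroups
open Cfsg

namespace Cfsg.Agent.S5949

open Module
open Cfsg.Agent.Lib.Helper99_SubspaceCount Cfsg.Agent.Lib.Helper99_PrimeOrderSL
  Cfsg.Agent.Lib.Helper99_RthPowers

/-- the scalar `c` with `x ^ r = c` is nonzero for `x ∈ SL_n`, `n ≥ 1`. -/
theorem scalar_ne_zero {F : Type*} [Field F] {n : ℕ} (hn : 0 < n)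
    (x : Matrix.SpecialLinearGroup (Fin n) F) {r : ℕ} {c : F}
    (hx : (x : Matrix (Fin n) (Fin n) F) ^ r = c • (1 : Matrix (Fin n) (Fin n) F)) : c ≠ 0 := by
  rintro rfl
  have h1 := congrArg Matrix.det hx
  have : Nonempty (Fin n) := ⟨⟨0, hn⟩⟩
  rw [Matrix.det_pow, x.2, one_pow, zero_smul, Matrix.det_zero] at h1
  exact one_ne_zero h1

/-- a matrix with `x ^ r = c`, `c` not an `r`-th power, is not scalar. -/
theorem not_scalar_of_nonpower {F : Type*} [Field F] {n : ℕ} (hn : 0 < n)
    (x : Matrix (Fin n) (Fin n) F) {r : ℕ} {c : F} (hc : ∀ z : F, z ^ r ≠ c)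
    (hx : x ^ r = c • (1 : Matrix (Fin n) (Fin n) F)) (z : F) :
    x ≠ z • (1 : Matrix (Fin n) (Fin n) F) := by
  intro h
  rw [h, smul_pow, one_pow] at hx
  have h1 := congrFun (congrFun hx ⟨0, hn⟩) ⟨0, hn⟩
  simp only [Matrix.smul_apply, Matrix.one_apply_eq, smul_eq_mul, mul_one] at h1
  exact hc z h1

/-- Elements of prime order of PSL_n(q) with no fixed `m`-space. Here `T = PSL_n(F)` for a field `F` with `q = p^f` elements (`n ≥ 2`, `(n, q) ≠ (2, 2), (2, 3)`); an element of `T` of prime order `r` is represented by a matrix `x` of determinant 1 with `x^r` scalar and `x` not scalar; `i` denotes the multiplicative order of `q` modulo `r` (when `r ≠ p`), and `(a)_r` the `r`-part of `a`. Let `1 ≤ m ≤ n/2` and let `r` be a prime dividing the number of `m`-dimensional subspaces of `F^n`. Then every element of `T` of order `r` fixes some `m`-dimensional subspace (the action on `m`-spaces is `r`-elusive) if and only if `r ≠ p` and either (i) `i = 1` and (`r ∣ m`, or `(q−1)_r ≥ (n)_r` where in addition `q ≡ 1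 (mod 4)` is required when `r = 2` and `n` is even), or (ii) `2 ≤ i ≤ m` and `n mod i ≥ m mod i`. -/
theorem result {F : Type*} [Field F] [Fintype F] {p : ℕ} [Fact p.Prime] [CharP F p] {q : ℕ} (hq : Fintype.card F = q)
    (n m : ℕ) (hn : 2 ≤ n) (hT : (n, q) ≠ (2, 2) ∧ (n, q) ≠ (2, 3)) (hm : 1 ≤ m) (hmn : 2 * m ≤ n)
    (r : ℕ) [Fact r.Prime] (hrΩ : r ∣ Nat.card {W : Submodule F (Fin n → F) // Module.finrank F ↥W = m}) :
    (∀ x : Matrix.SpecialLinearGroup (Fin n) F,
      (∃ c : F, ((x ^ r : Matrix.SpecialLinearGroup (Fin n) F) : Matrix (Fin n) (Fin n) F) = c • (1 : Matrix (Fin n) (Fin n) F)) →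
      (∀ c : F, (x : Matrix (Fin n) (Fin n) F) ≠ c • (1 : Matrix (Fin n) (Fin n) F)) →
      ∃ W : Submodule F (Fin n → F), Module.finrank F ↥W = m ∧ W.map (Matrix.toLin' (x : Matrix (Fin n) (Fin n) F)) ≤ W) ↔
    (r ≠ p ∧
      ((orderOf (q : ZMod r) = 1 ∧ (r ∣ m ∨ (padicValNat r n ≤ padicValNat r (q - 1) ∧ (r = 2 → Even n → q % 4 = 1)))) ∨
       (2 ≤ orderOf (q : ZMod r) ∧ orderOf (q : ZMod r) ≤ m ∧ m % orderOf (q : ZMod r) ≤ n % orderOf (q : ZMod r)))) := by
  classical
  subst hq
  have hrpr : r.Prime := Fact.out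
  have hp : p.Prime := Fact.out
  have hfin : finrank F (Fin n → F) = n := by simp
  have hn0 : 0 < n := by omega
  -- `r ≠ p`
  have hrp : r ≠ p := by
    rintro rfl
    have h1 := card_subspaces_modEq_one (K := F) (V := Fin n → F) r m (by rw [hfin]; omega)
    have h2 : Nat.card {W : Submodule F (Fin n → F) // Module.finrank F ↥W = m} % r = 0 :=
      Nat.mod_eq_zero_of_dvd hrΩ
    unfold Nat.ModEq at h1
    rw [h2, Nat.mod_eq_of_lt hrpr.one_lt] at h1
    exact zero_ne_one h1
  set e := orderOf ((Fintype.card F : ℕ) : ZMod r) with he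
  have hepos : 0 < e :=
    (Cfsg.Agent.Lib.Helper40_PrimeOrderClasses.exists_cyclotomic_factors (F := F) p r hrpr hrp).1
  constructor
  · intro hall
    refine ⟨hrp, ?_⟩
    by_cases he1 : e = 1
    · left
      refine ⟨he1, ?_⟩
      by_contra hcon
      rw [not_or] at hcon
      obtain ⟨hrm, hcond⟩ := hcon
      have hrq : r ∣ Fintype.card F - 1 := by
        have h1 : ((Fintype.card F : ℕ) : ZMod r) = 1 := by
          have := pow_orderOf_eq_one ((Fintype.card F : ℕ) : ZMod r)
          rwa [← he, he1, pow_one] at this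
        rw [← ZMod.natCast_eq_zero_iff, Nat.cast_sub Fintype.card_pos, h1, Nat.cast_one, sub_self]
      obtain ⟨hrn, c, hc, hdet⟩ := exists_nonpower (F := F) n hrq hcond
      obtain ⟨x, hx⟩ := exists_nonpower_matrix n hrpr hrn c hc hdet
      obtain ⟨W, hWd, hW⟩ := hall x ⟨c, by rw [Matrix.SpecialLinearGroup.coe_pow]; exact hx⟩
        (not_scalar_of_nonpower hn0 _ hc hx)
      have := (nonpower_facts _ hrpr hc hx).2.1 W hW
      rw [hWd] at this
      exact hrm this
    · right
      have he2 : 2 ≤ e := by omega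
      have hrq : ¬ r ∣ Fintype.card F - 1 := not_dvd_card_sub_one he2
      by_cases hmod : m % e ≤ n % e
      · refine ⟨he2, ?_, hmod⟩
        by_contra hem
        rw [not_le] at hem
        -- `e > m` and `m ≤ n % e`: `r` does not divide the number of `m`-spaces
        exfalso
        rw [Nat.mod_eq_of_lt hem] at hmod
        apply not_dvd_card_subspaces (K := F) (V := Fin n → F) hrpr m (by rw [hfin]; omega) ?_ hrΩ
        intro i hi hdvd
        rw [hfin, ← he] at hdvd
        have h1 : e ∣ e * (n / e) := dvd_mul_right _ _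
        have h2 : n - i - e * (n / e) = n % e - i := by
          have := Nat.div_add_mod n e
          omega
        have h3 : e ∣ n % e - i := by
          rw [← h2]; exact Nat.dvd_sub hdvd h1
        have h4 : n % e < e := Nat.mod_lt _ hepos
        have h5 := Nat.le_of_dvd (by omega) h3
        omega
      · exfalso
        rw [not_le] at hmod
        have hen : e ≤ n := by
          by_contra hen
          rw [not_le] at hen
          rw [Nat.mod_eq_of_lt hen] at hmod
          have := Nat.mod_le m e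
          omega
        obtain ⟨y, hy, hyfix⟩ := exists_extremal (F := F) (p := p) n hrpr hrp he2
        rw [← he] at hyfix
        have hlt : n % e < n := lt_of_lt_of_le (Nat.mod_lt _ hepos) hen
        obtain ⟨W, hWd, hW⟩ := hall y
          ⟨1, by rw [Matrix.SpecialLinearGroup.coe_pow, hy, one_smul]⟩
          (not_scalar_of_finrank _ hrpr hrq hy hn0 (by rw [hyfix]; exact hlt))
        have := mod_le_of_invt (p := p) _ hrpr hrp hy W hW
        rw [hWd, hyfix, ← he] at this
        omega
  · rintro ⟨-, h⟩ x ⟨c, hxc⟩ hns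
    rw [Matrix.SpecialLinearGroup.coe_pow] at hxc
    have hc0 : c ≠ 0 := scalar_ne_zero hn0 x hxc
    rcases h with ⟨he1, hor⟩ | ⟨he2, hem, hmod⟩
    · by_cases hpow : ∃ μ : F, μ ^ r = c
      · obtain ⟨μ, rfl⟩ := hpow
        have hμ : μ ≠ 0 := by
          rintro rfl
          rw [zero_pow hrpr.ne_zero] at hc0
          exact hc0 rfl
        apply exists_invt_of_pow (p := p) _ hμ hrpr hrp hxc m (by omega)
        rw [← he, he1, Nat.mod_one]
        exact Nat.zero_le _
      · rw [not_exists] at hpow
        obtain ⟨hrn, -, hsub, -⟩ := nonpower_facts _ hrpr hpow hxc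
        rcases hor with hrm | hcond
        · exact hsub m (by omega) hrm
        · exfalso
          have hrq : r ∣ Fintype.card F - 1 := by
            have h1 : ((Fintype.card F : ℕ) : ZMod r) = 1 := by
              have := pow_orderOf_eq_one ((Fintype.card F : ℕ) : ZMod r)
              rwa [← he, he1, pow_one] at this
            rw [← ZMod.natCast_eq_zero_iff, Nat.cast_sub Fintype.card_pos, h1, Nat.cast_one,
              sub_self]
          have hdet := det_of_nonpower _ hrpr hpow hxc
          rw [x.2] at hdet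
          obtain ⟨z, hz⟩ := exists_pow_of_cond (F := F) n (by omega) hrq hcond hrn c hc0 hdet.symm
          exact hpow z hz
    · have hrq : ¬ r ∣ Fintype.card F - 1 := not_dvd_card_sub_one he2
      obtain ⟨μ, hμ, rfl⟩ := exists_pow_eq hrpr hrq hc0
      exact exists_invt_of_pow (p := p) _ hμ hrpr hrp hxc m (by omega) hmod

end Cfsg.Agent.S5949
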