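import Cfsg.Statements.S5950
import Cfsg.Agent.S5949
import Cfsg.Agent.Lib.Helper99_ComplCount
import Cfsg.Agent.Lib.Helper99_UnipPairs

set_option autoImplicit false
open scoped MatrixGroups
open Cfsg

namespace Cfsg.Agent.S5950

open Module Polynomial
open Cfsg.Agent.Lib.Helper99_ComplCount Cfsg.Agent.Lib.Helper99_UnipPairs

/-- Maschke: for `x ^ r = c ≠ 0` with `r` invertible in `F`, an invariant subspace has an
invariant complement. -/
theorem exists_invt_compl {F : Type*} [Field F] {n : ℕ} (x : Matrix (Fin n) (Fin n) F) {r : ℕ}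
    (hr0 : ((r : ℕ) : F) ≠ 0) {c : F} (hc : c ≠ 0)
    (hx : x ^ r = c • (1 : Matrix (Fin n) (Fin n) F)) (U : Submodule F (Fin n → F))
    (hU : U.map (Matrix.toLin' x) ≤ U) :
    ∃ W : Submodule F (Fin n → F), IsCompl U W ∧ W.map (Matrix.toLin' x) ≤ W := by
  set T : Module.End F (Fin n → F) := Matrix.toLin' x with hT
  have hTr : T ^ r = c • (1 : Module.End F (Fin n → F)) := by
    rw [hT, ← Matrix.toLin'_pow, hx, map_smul, Matrix.toLin'_one]
    rfl
  have hss : T.IsSemisimple := by
    apply Module.End.isSemisimple_of_squarefree_aeval_eq_zero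
      ((separable_X_pow_sub_C c hr0 hc).squarefree)
    rw [map_sub, map_pow, aeval_X, aeval_C, hTr, Algebra.algebraMap_eq_smul_one, sub_self]
  obtain ⟨W, hW, hUW⟩ := Module.End.isSemisimple_iff.1 hss U
    ((Module.End.mem_invtSubmodule_iff_map_le T).2 hU)
  exact ⟨W, hUW, (Module.End.mem_invtSubmodule_iff_map_le T).1 hW⟩

/-- Elements of prime order of PSL_n(q) fixing no decomposition `F^n = U ⊕ W` with `dim U = m`. Here `T = PSL_n(F)` for a field `F` with `q = p^f` elements (`n ≥ 2`, `(n, q) ≠ (2, 2), (2, 3)`); an element of `T` of prime order `r` is represented by a matrix `x` of determinant 1 with `x^r` scalar and `x` not scalar; `i` denotes the multiplicative order of `q` modulo `r` (when `r ≠ p`), and `(a)_r` the `r`-part of `a`. Let `n ≥ 3`, `1 ≤ m < n/2`, and let `r` be a prime dividing the number of such decompositions (unordered pairs `{U, W}` of complementary subspaces with `dim U = m`; since `m ≠ n − m` these are the ordered pairs with `dim U = m`). Then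 every element of `T` of order `r` fixes such a pair (fixes both `U` and `W` for some complementary `U, W` with `dim U = m`) if and only if one of: (i) `r = p > 2` and every partition of `n` into parts of size at most `p` contains, as a sub-multiset, a partition of `m`; (ii) `r = p = 2` and `n` is odd or `m` is even; (iii) `r ≠ p`, `i = 1`, and `r ∣ m` or `(q−1)_r ≥ (n)_r` (with `q ≡ 1 (mod 4)` required when `r = 2` and `n` is even); (iv) `r ≠ p`, `2 ≤ i ≤ m` and `n mod i ≥ m mod i`. -/
theorem result {F : Type*} [Field F] [Fintype F] {p : ℕ} [Fact p.Prime] [CharP F p] {q : ℕ} (hq : Fintype.card F = q)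
    (n m : ℕ) (hn : 3 ≤ n) (hm : 1 ≤ m) (hmn : 2 * m < n)
    (r : ℕ) [Fact r.Prime]
    (hrΩ : r ∣ Nat.card {P : Submodule F (Fin n → F) × Submodule F (Fin n → F) // IsCompl P.1 P.2 ∧ Module.finrank F ↥P.1 = m}) :
    (∀ x : Matrix.SpecialLinearGroup (Fin n) F,
      (∃ c : F, ((x ^ r : Matrix.SpecialLinearGroup (Fin n) F) : Matrix (Fin n) (Fin n) F) = c • (1 : Matrix (Fin n) (Fin n) F)) →
      (∀ c : F, (x : Matrix (Fin n) (Fin n) F) ≠ c • (1 : Matrix (Fin n) (Fin n) F)) →
      ∃ U W : Submodule F (Fin n → F), IsCompl U W ∧ Module.finrank F ↥U = m ∧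
        U.map (Matrix.toLin' (x : Matrix (Fin n) (Fin n) F)) ≤ U ∧ W.map (Matrix.toLin' (x : Matrix (Fin n) (Fin n) F)) ≤ W) ↔
    ((r = p ∧ 2 < p ∧ (∀ μ : Multiset ℕ, (∀ a ∈ μ, 0 < a ∧ a ≤ p) → μ.sum = n → ∃ ν : Multiset ℕ, ν ≤ μ ∧ ν.sum = m)) ∨
     (r = p ∧ p = 2 ∧ (Odd n ∨ Even m)) ∨
     (r ≠ p ∧
      ((orderOf (q : ZMod r) = 1 ∧ (r ∣ m ∨ (padicValNat r n ≤ padicValNat r (q - 1) ∧ (r = 2 → Even n → q % 4 = 1)))) ∨
       (2 ≤ orderOf (q : ZMod r) ∧ orderOf (q : ZMod r) ≤ m ∧ m % orderOf (q : ZMod r) ≤ n % orderOf (q : ZMod r))))) := by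
  classical
  have hrpr : r.Prime := Fact.out
  have hp : p.Prime := Fact.out
  have hn0 : 0 < n := by omega
  by_cases hrp : r = p
  · -- unipotent case
    subst hrp
    have key : (∀ x : Matrix.SpecialLinearGroup (Fin n) F,
        (∃ c : F, ((x ^ r : Matrix.SpecialLinearGroup (Fin n) F) : Matrix (Fin n) (Fin n) F) =
          c • (1 : Matrix (Fin n) (Fin n) F)) →
        (∀ c : F, (x : Matrix (Fin n) (Fin n) F) ≠ c • (1 : Matrix (Fin n) (Fin n) F)) →
        ∃ U W : Submodule F (Fin n → F), IsCompl U W ∧ Module.finrank F ↥U = m ∧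
          U.map (Matrix.toLin' (x : Matrix (Fin n) (Fin n) F)) ≤ U ∧
          W.map (Matrix.toLin' (x : Matrix (Fin n) (Fin n) F)) ≤ W) ↔
        (∀ μ : Multiset ℕ, (∀ a ∈ μ, 0 < a ∧ a ≤ r) → μ.sum = n →
          ∃ ν : Multiset ℕ, ν ≤ μ ∧ ν.sum = m) := by
      constructor
      · intro hall μ hμ1 hμ2
        exact partCond_of_forall (p := r) hn0 m (by omega) hall μ hμ1 hμ2
      · intro hP x ⟨c, hxc⟩ _
        rw [Matrix.SpecialLinearGroup.coe_pow] at hxc
        exact exists_pair_of_partCond (p := r) _ c hxc m hP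
    rw [key]
    by_cases h2 : r = 2
    · subst h2
      rw [partCond_two_iff n m (by omega)]
      constructor
      · intro h
        exact Or.inr (Or.inl ⟨rfl, rfl, h⟩)
      · rintro (⟨-, h, -⟩ | ⟨-, -, h⟩ | ⟨h, -⟩)
        · omega
        · exact h
        · exact absurd rfl h
    · have h2' : 2 < r := lt_of_le_of_ne hrpr.two_le (Ne.symm h2)
      constructor
      · intro h
        exact Or.inl ⟨rfl, h2', h⟩
      · rintro (⟨-, -, h⟩ | ⟨-, h, -⟩ | ⟨h, -⟩)
        · exact h
        · exact absurd h h2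
        · exact absurd rfl h
  · -- semisimple case: reduce to S5949
    have hrq : ¬ r ∣ Fintype.card F := by
      obtain ⟨k, -, hk⟩ := FiniteField.card F p
      rw [hk]
      intro h
      exact hrp ((Nat.prime_dvd_prime_iff_eq hrpr hp).1 (hrpr.dvd_of_dvd_pow h))
    have hrΩ' : r ∣ Nat.card {W : Submodule F (Fin n → F) // Module.finrank F ↥W = m} :=
      (dvd_card_pairs_iff (K := F) (V := Fin n → F) hrpr hrq m).1 hrΩ
    have hr0 : ((r : ℕ) : F) ≠ 0 := by
      rw [Ne, CharP.cast_eq_zero_iff F p]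
      intro h
      exact hrp ((Nat.prime_dvd_prime_iff_eq hp hrpr).1 h).symm
    have h49 := Cfsg.Agent.S5949.result (F := F) (p := p) hq n m (by omega)
      ⟨fun h => by have := (Prod.ext_iff.1 h).1; simp at this; omega,
       fun h => by have := (Prod.ext_iff.1 h).1; simp at this; omega⟩ hm (by omega) r hrΩ'
    have hequiv : (∀ x : Matrix.SpecialLinearGroup (Fin n) F,
        (∃ c : F, ((x ^ r : Matrix.SpecialLinearGroup (Fin n) F) : Matrix (Fin n) (Fin n) F) =
          c • (1 : Matrix (Fin n) (Fin n) F)) →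
        (∀ c : F, (x : Matrix (Fin n) (Fin n) F) ≠ c • (1 : Matrix (Fin n) (Fin n) F)) →
        ∃ U W : Submodule F (Fin n → F), IsCompl U W ∧ Module.finrank F ↥U = m ∧
          U.map (Matrix.toLin' (x : Matrix (Fin n) (Fin n) F)) ≤ U ∧
          W.map (Matrix.toLin' (x : Matrix (Fin n) (Fin n) F)) ≤ W) ↔
        (∀ x : Matrix.SpecialLinearGroup (Fin n) F,
        (∃ c : F, ((x ^ r : Matrix.SpecialLinearGroup (Fin n) F) : Matrix (Fin n) (Fin n) F) =
          c • (1 : Matrix (Fin n) (Fin n) F)) →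
        (∀ c : F, (x : Matrix (Fin n) (Fin n) F) ≠ c • (1 : Matrix (Fin n) (Fin n) F)) →
        ∃ W : Submodule F (Fin n → F), Module.finrank F ↥W = m ∧
          W.map (Matrix.toLin' (x : Matrix (Fin n) (Fin n) F)) ≤ W) := by
      constructor
      · intro h x hx1 hx2
        obtain ⟨U, W, -, hUd, hU, -⟩ := h x hx1 hx2
        exact ⟨U, hUd, hU⟩
      · intro h x hx1 hx2
        obtain ⟨U, hUd, hU⟩ := h x hx1 hx2
        obtain ⟨c, hxc⟩ := hx1
        rw [Matrix.SpecialLinearGroup.coe_pow] at hxc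
        have hc0 : c ≠ 0 := Cfsg.Agent.S5949.scalar_ne_zero hn0 x hxc
        obtain ⟨W, hUW, hW⟩ := exists_invt_compl _ hr0 hc0 hxc U hU
        exact ⟨U, W, hUW, hUd, hU, hW⟩
    rw [hequiv, h49]
    constructor
    · intro h
      exact Or.inr (Or.inr h)
    · rintro (⟨h, -⟩ | ⟨h, -⟩ | h)
      · exact absurd h hrp
      · exact absurd h hrp
      · exact h

end Cfsg.Agent.S5950
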