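import Cfsg.Statements.S5952

set_option autoImplicit false
open Cfsg

namespace Cfsg.Agent.S5952

variable {F V : Type*} [Field F] [AddCommGroup V] [Module F V]



lemma exists_le_finrank_eq [FiniteDimensional F V] (E : Submodule F V) (d : ℕ) (hd : d ≤ Module.finrank F E) :
    ∃ W : Submodule F V, W ≤ E ∧ Module.finrank F W = d := by
  let b := Module.finBasis F E
  have hli : LinearIndependent F (fun i : Fin (Module.finrank F E) => (b i : V)) :=
    b.linearIndependent.map' E.subtype (Submodule.ker_subtype E)
  refine ⟨Submodule.span F (Set.range (fun i : Fin d => (b (Fin.castLE hd i) : V))), ?_, ?_⟩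
  · rw [Submodule.span_le]; rintro _ ⟨i, rfl⟩; exact (b _).2
  · have := finrank_span_eq_card (hli.comp (Fin.castLE hd) (Fin.castLE_injective hd))
    rw [Fintype.card_fin] at this
    exact this

/-- invariance + finrank of a partial sum of an independent family of invariant subspaces of dimension a -/
lemma finrank_biSup [FiniteDimensional F V] (f : V →ₗ[F] V) {s a : ℕ} (U : Fin s → Submodule F V)
    (hUinv : ∀ j, (U j).map f ≤ U j) (hUdim : ∀ j, Module.finrank F ↥(U j) = a)
    (hind : iSupIndep U) (S : Finset (Fin s)) :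
    (⨆ j ∈ S, U j).map f ≤ (⨆ j ∈ S, U j) ∧ Module.finrank F ↥(⨆ j ∈ S, U j) = S.card * a := by
  classical
  induction S using Finset.induction_on with
  | empty => simp
  | insert j S hj ih =>
    rw [Finset.iSup_insert]
    refine ⟨?_, ?_⟩
    · rw [Submodule.map_sup]
      exact sup_le_sup (hUinv j) ih.1
    · have hdisj : Disjoint (U j) (⨆ i ∈ S, U i) := hind.disjoint_biSup hj
      have := Submodule.finrank_sup_add_finrank_inf_eq (U j) (⨆ i ∈ S, U i)
      rw [hdisj.eq_bot, finrank_bot, add_zero, hUdim, ih.2] at this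
      rw [this, Finset.card_insert_of_notMem hj]
      ring




lemma map_inf_le_of_invariant (f : V →ₗ[F] V) (A B : Submodule F V) (hA : A.map f ≤ A) (hB : B.map f ≤ B) :
    (A ⊓ B).map f ≤ A ⊓ B :=
  le_inf ((Submodule.map_mono inf_le_left).trans hA) ((Submodule.map_mono inf_le_right).trans hB)

lemma map_sup_le_of_invariant (f : V →ₗ[F] V) (A B : Submodule F V) (hA : A.map f ≤ A) (hB : B.map f ≤ B) :
    (A ⊔ B).map f ≤ A ⊔ B := by
  rw [Submodule.map_sup]; exact sup_le_sup hA hB

lemma map_biSup_le_of_invariant (f : V →ₗ[F] V) {s : ℕ} (U : Fin s → Submodule F V)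
    (hUinv : ∀ j, (U j).map f ≤ U j) (S : Finset (Fin s)) :
    (⨆ j ∈ S, U j).map f ≤ (⨆ j ∈ S, U j) := by
  simp only [Submodule.map_iSup]
  exact iSup₂_mono fun j _ => hUinv j

/-- an invariant subspace of a direct sum of irreducible invariant subspaces of dimension `a`
has dimension divisible by `a`. -/
lemma dvd_finrank_of_le_biSup [FiniteDimensional F V] (f : V →ₗ[F] V) {s a : ℕ} (U : Fin s → Submodule F V)
    (hUinv : ∀ j, (U j).map f ≤ U j) (hUdim : ∀ j, Module.finrank F ↥(U j) = a)
    (hUirr : ∀ j, ∀ W : Submodule F V, W ≤ U j → W.map f ≤ W → W = ⊥ ∨ W = U j)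
    (hind : iSupIndep U) (S : Finset (Fin s)) :
    ∀ W : Submodule F V, W ≤ (⨆ j ∈ S, U j) → W.map f ≤ W → a ∣ Module.finrank F ↥W := by
  classical
  induction S using Finset.induction_on with
  | empty =>
    intro W hW _
    have : W = ⊥ := by simpa using hW
    subst this
    simp
  | insert j S hj ih =>
    intro W hW hWinv
    rw [Finset.iSup_insert] at hW
    set T := ⨆ i ∈ S, U i with hT
    have hTinv : T.map f ≤ T := map_biSup_le_of_invariant f U hUinv S
    have hdisj : Disjoint (U j) T := hind.disjoint_biSup hj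
    set X := W ⊔ T with hX
    have hXinv : X.map f ≤ X := map_sup_le_of_invariant f W T hWinv hTinv
    have hXle : X ≤ T ⊔ U j := by
      rw [sup_comm T]; exact sup_le hW le_sup_right
    have hmod : X = T ⊔ (U j ⊓ X) := by
      have := sup_inf_assoc_of_le (U j) (show T ≤ X from le_sup_right)
      rw [← this]
      exact (inf_eq_right.mpr hXle).symm
    have hdisj2 : Disjoint T (U j ⊓ X) := (hdisj.mono_left inf_le_left).symm
    have h1 := Submodule.finrank_sup_add_finrank_inf_eq W T
    have h2 := Submodule.finrank_sup_add_finrank_inf_eq T (U j ⊓ X)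
    rw [hdisj2.eq_bot, finrank_bot, add_zero, ← hmod] at h2
    have h3 : a ∣ Module.finrank F ↥(W ⊓ T) :=
      ih (W ⊓ T) inf_le_right (map_inf_le_of_invariant f W T hWinv hTinv)
    have h4 : a ∣ Module.finrank F ↥(U j ⊓ X) := by
      rcases hUirr j (U j ⊓ X) inf_le_left (map_inf_le_of_invariant f _ _ (hUinv j) hXinv) with h | h
      · rw [h]; simp
      · rw [h, hUdim]
    have h5 : Module.finrank F ↥W = Module.finrank F ↥(W ⊓ T) + Module.finrank F ↥(U j ⊓ X) := by
      rw [← hX] at h1
      omega
    rw [h5]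
    exact dvd_add h3 h4

/-- splitting an invariant subspace along `E = ker (f - 1)` and an invariant complement `U`. -/
lemma finrank_eq_add_of_isCompl [FiniteDimensional F V] (f : V →ₗ[F] V) (U W : Submodule F V)
    (hU : U.map f ≤ U) (hW : W.map f ≤ W)
    (hdisj : Disjoint (Module.End.eigenspace f 1) U) (hsup : Module.End.eigenspace f 1 ⊔ U = ⊤) :
    Module.finrank F ↥W = Module.finrank F ↥(W ⊓ Module.End.eigenspace f 1) + Module.finrank F ↥(W ⊓ U) := by
  set E := Module.End.eigenspace f 1 with hE
  have hdisj' : Disjoint (W ⊓ E) (W ⊓ U) := hdisj.mono inf_le_right inf_le_right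
  have key : W ≤ (W ⊓ E) ⊔ (W ⊓ U) := by
    intro w hw
    have hw' : w ∈ E ⊔ U := by rw [hsup]; trivial
    obtain ⟨x, hx, u, hu, rfl⟩ := Submodule.mem_sup.mp hw'
    -- g = f - 1
    have hfx : f x = x := by
      have := Module.End.mem_eigenspace_iff.mp hx
      simpa using this
    set W' := W ⊓ U with hW'
    have hW'inv : W'.map f ≤ W' := map_inf_le_of_invariant f W U hW hU
    -- g restricted to W'
    have hgmem : ∀ y ∈ W', f y - y ∈ W' := fun y hy =>
      W'.sub_mem (hW'inv (Submodule.mem_map_of_mem hy)) hy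
    let g : W' →ₗ[F] W' :=
      { toFun := fun y => ⟨f y - y, hgmem y y.2⟩
        map_add' := by intro y z; ext; simp; abel
        map_smul' := by intro c y; ext; simp [smul_sub] }
    have hginj : Function.Injective g := by
      rw [← LinearMap.ker_eq_bot, LinearMap.ker_eq_bot']
      intro y hy
      have hy0 : f (y : V) - y = 0 := congrArg Subtype.val hy
      have hyE : (y : V) ∈ E := by
        rw [hE, Module.End.mem_eigenspace_iff]; simpa [sub_eq_zero] using hy0
      have : (y : V) ∈ E ⊓ U := ⟨hyE, y.2.2⟩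
      rw [hdisj.eq_bot] at this
      exact Subtype.ext (by simpa using this)
    have hgsurj : Function.Surjective g := LinearMap.injective_iff_surjective.mp hginj
    -- (f - 1) (x + u) = (f - 1) u ∈ W'
    have hfu : f u - u ∈ W' := by
      refine ⟨?_, U.sub_mem (hU (Submodule.mem_map_of_mem hu)) hu⟩
      have : f (x + u) - (x + u) ∈ W := W.sub_mem (hW (Submodule.mem_map_of_mem hw)) hw
      have h2 : f (x + u) - (x + u) = f u - u := by rw [map_add, hfx]; abel
      rwa [h2] at this
    obtain ⟨y, hy⟩ := hgsurj ⟨f u - u, hfu⟩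
    have hy' : f (y : V) - y = f u - u := congrArg Subtype.val hy
    have hyu : (y : V) - u ∈ E ⊓ U := by
      refine Submodule.mem_inf.mpr ⟨?_, U.sub_mem y.2.2 hu⟩
      rw [hE, Module.End.mem_eigenspace_iff, map_sub, one_smul]
      have : f (y : V) - f u = (y : V) - u := by
        have := hy'
        rw [sub_eq_sub_iff_add_eq_add] at this ⊢
        rw [this, add_comm]
      exact this
    rw [hdisj.eq_bot] at hyu
    have hyu' : (y : V) = u := by
      have : (y : V) - u = 0 := by simpa using hyu
      exact sub_eq_zero.mp this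
    have huW : u ∈ W := hyu' ▸ y.2.1
    have hxW : x ∈ W := by
      have := W.sub_mem hw huW
      simpa using this
    exact Submodule.add_mem_sup ⟨hxW, hx⟩ ⟨huW, hu⟩
  have heq : W = (W ⊓ E) ⊔ (W ⊓ U) := le_antisymm key (sup_le inf_le_left inf_le_left)
  have h1 := Submodule.finrank_sup_add_finrank_inf_eq (W ⊓ E) (W ⊓ U)
  rw [hdisj'.eq_bot, finrank_bot, add_zero, ← heq] at h1
  exact h1


/-- Which dimensions of invariant subspaces a semisimple linear map has. Let `V` be a finite-dimensional vector space over a field `F` and `f` an invertible semisimple linear map of `V`. Suppose `V` is the internal direct sum of the fixed space `C_V(f)` (the eigenspace for 1) and subspaces `U_1, …, U_s`, each `f`-invariant of dimension `a ≥ 1` on which `f` acts irreducibly (no `f`-invariant subspaces other than 0 and `U_j`). Let `0 < m < dim V` and `ℓ = m mod a`. Then `f` leaves some `m`-dimensional subspace invariant if and only if `dim C_V(f) ≥ m`, or `a ≤ m` and `dim C_V(f) ≥ ℓ`. -/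
theorem result {F V : Type*} [Field F] [AddCommGroup V] [Module F V]
    [FiniteDimensional F V] (f : V →ₗ[F] V) (hf : Function.Bijective f) (hss : Module.End.IsSemisimple f)
    {s a : ℕ} (ha : 1 ≤ a) (U : Fin s → Submodule F V)
    (hUinv : ∀ j, (U j).map f ≤ U j) (hUdim : ∀ j, Module.finrank F ↥(U j) = a)
    (hUirr : ∀ j, ∀ W : Submodule F V, W ≤ U j → W.map f ≤ W → W = ⊥ ∨ W = U j)
    (hdec : DirectSum.IsInternal (fun o : Option (Fin s) => o.elim (Module.End.eigenspace f 1) U))
    (m : ℕ) (hm : 0 < m) (hmV : m < Module.finrank F V) :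
    (∃ W : Submodule F V, Module.finrank F ↥W = m ∧ W.map f ≤ W) ↔
    (m ≤ Module.finrank F ↥(Module.End.eigenspace f 1) ∨
      (a ≤ m ∧ m % a ≤ Module.finrank F ↥(Module.End.eigenspace f 1))) := by
  classical
  set E := Module.End.eigenspace f 1 with hE
  set A : Option (Fin s) → Submodule F V := fun o => o.elim E U with hA
  have hindA : iSupIndep A := hdec.submodule_iSupIndep
  have htopA : iSup A = ⊤ := hdec.submodule_iSup_eq_top
  have hind : iSupIndep U := hindA.comp (Option.some_injective _)
  set Utot := ⨆ j ∈ (Finset.univ : Finset (Fin s)), U j with hUtot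
  have hUtot' : Utot = ⨆ j, U j := by simp [hUtot]
  have hdisj : Disjoint E Utot := by
    have h := (iSupIndep_def.mp hindA) none
    refine h.mono_right ?_
    rw [hUtot']
    exact iSup_le fun j => le_iSup₂_of_le (some j) (Option.some_ne_none j) le_rfl
  have hsup : E ⊔ Utot = ⊤ := by
    rw [hUtot', ← htopA, iSup_option]
    rfl
  have hUtot_inv : Utot.map f ≤ Utot := map_biSup_le_of_invariant f U hUinv _
  have hUtot_dim : Module.finrank F ↥Utot = s * a := by
    have := (finrank_biSup f U hUinv hUdim hind Finset.univ).2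
    simpa using this
  have hEfix : ∀ x ∈ E, f x = x := by
    intro x hx
    have := Module.End.mem_eigenspace_iff.mp hx
    simpa using this
  have hV : Module.finrank F V = Module.finrank F ↥E + s * a := by
    have := Submodule.finrank_sup_add_finrank_inf_eq E Utot
    rw [hsup, hdisj.eq_bot, finrank_bot, add_zero, finrank_top, hUtot_dim] at this
    exact this
  constructor
  · rintro ⟨W, hWm, hWinv⟩
    have h1 : Module.finrank F ↥W = Module.finrank F ↥(W ⊓ E) + Module.finrank F ↥(W ⊓ Utot) :=
      finrank_eq_add_of_isCompl f Utot W hUtot_inv hWinv hdisj hsup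
    have h2 : a ∣ Module.finrank F ↥(W ⊓ Utot) :=
      dvd_finrank_of_le_biSup f U hUinv hUdim hUirr hind Finset.univ _ inf_le_right
        (map_inf_le_of_invariant f W Utot hWinv hUtot_inv)
    have h3 : Module.finrank F ↥(W ⊓ E) ≤ Module.finrank F ↥E := Submodule.finrank_mono inf_le_right
    obtain ⟨k, hk⟩ := h2
    rw [hWm, hk] at h1
    rcases Nat.eq_zero_or_pos k with hk0 | hkpos
    · left
      rw [hk0] at h1
      omega
    · right
      have hak : a ≤ a * k := Nat.le_mul_of_pos_right a hkpos
      refine ⟨by omega, ?_⟩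
      rw [h1, Nat.add_mul_mod_self_left]
      exact (Nat.mod_le _ _).trans h3
  · rintro (hme | ⟨ham, hle⟩)
    · obtain ⟨W, hWE, hWm⟩ := exists_le_finrank_eq E m hme
      refine ⟨W, hWm, ?_⟩
      rintro _ ⟨w, hw, rfl⟩
      rw [hEfix w (hWE hw)]
      exact hw
    · -- choose the number of irreducible blocks
      obtain ⟨k', d, hk's, hde, hmkd⟩ : ∃ k' d : ℕ, k' ≤ s ∧ d ≤ Module.finrank F ↥E ∧ m = k' * a + d := by
        have hdm := Nat.div_add_mod m a
        by_cases hqs : m / a ≤ s
        · exact ⟨m / a, m % a, hqs, hle, by rw [mul_comm]; exact hdm.symm⟩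
        · rw [not_le] at hqs
          have hsa : s * a ≤ m := by
            calc s * a ≤ (m / a) * a := Nat.mul_le_mul_right a hqs.le
              _ ≤ m := Nat.div_mul_le_self m a
          refine ⟨s, m - s * a, le_rfl, ?_, by omega⟩
          omega
      obtain ⟨S, -, hScard⟩ := Finset.exists_subset_card_eq (s := (Finset.univ : Finset (Fin s))) (n := k') (by simpa using hk's)
      obtain ⟨Ed, hEdE, hEdd⟩ := exists_le_finrank_eq E d hde
      obtain ⟨hTinv, hTdim⟩ := finrank_biSup f U hUinv hUdim hind S
      set T := ⨆ j ∈ S, U j with hT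
      have hTle : T ≤ Utot := by
        rw [hUtot']
        exact iSup₂_le fun j _ => le_iSup U j
      have hdisj2 : Disjoint T Ed := (hdisj.mono hEdE hTle).symm
      have hEdinv : Ed.map f ≤ Ed := by
        rintro _ ⟨w, hw, rfl⟩
        rw [hEfix w (hEdE hw)]
        exact hw
      refine ⟨T ⊔ Ed, ?_, map_sup_le_of_invariant f T Ed hTinv hEdinv⟩
      have := Submodule.finrank_sup_add_finrank_inf_eq T Ed
      rw [hdisj2.eq_bot, finrank_bot, add_zero, hTdim, hEdd, hScard] at this
      omega

end Cfsg.Agent.S5952
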