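import Cfsg.Statements.S5955
import Cfsg.Agent.S5961
import Cfsg.Agent.Lib.Helper99_SpTI
import Cfsg.Agent.Lib.Helper99_SpTI2
import Cfsg.Agent.Lib.Helper99_SpTICount
import Cfsg.Agent.Lib.Helper99_SpElt
import Cfsg.Agent.Lib.Helper75_SpInvTI
import Cfsg.Agent.Lib.Helper27_SpSpecialElt

set_option autoImplicit false
set_option linter.unusedSectionVars false
open scoped MatrixGroups
open Cfsg

namespace Cfsg.Agent.S5955

open Module Polynomial
open Cfsg.Agent.Lib.Helper40_SpBasic Cfsg.Agent.Lib.Helper94_Bridge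
  Cfsg.Agent.Lib.Helper99_SpAtoms Cfsg.Agent.Lib.Helper99_SpTI Cfsg.Agent.Lib.Helper99_SpTI2
  Cfsg.Agent.Lib.Helper99_SpTICount Cfsg.Agent.Lib.Helper99_SpElt
  Cfsg.Agent.Lib.Helper99_InvSub Cfsg.Agent.Lib.Helper99_PrimeOrderSL

variable {F : Type*} [Field F] [Fintype F] {p : ℕ} [Fact p.Prime] [CharP F p]

theorem finrank_std (d : ℕ) : finrank F (Fin d ⊕ Fin d → F) = 2 * d := by
  rw [Module.finrank_pi, Fintype.card_sum, Fintype.card_fin, two_mul]

theorem two_ne_zero_of_ne (hp2 : p ≠ 2) : (2 : F) ≠ 0 := by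
  have h : ((2 : ℕ) : F) ≠ 0 := by
    rw [Ne, CharP.cast_eq_zero_iff F p]
    intro h
    exact hp2 ((Nat.prime_dvd_prime_iff_eq Fact.out Nat.prime_two).1 h)
  simpa using h

/-- `r = 2`, sufficiency. -/
theorem fix_of_two {d m : ℕ} (hd : 1 ≤ d) (hmd : m ≤ d) (hp2 : p ≠ 2)
    (hcond : Even m ∨ Fintype.card F % 4 = 1)
    (x : Matrix (Fin d ⊕ Fin d) (Fin d ⊕ Fin d) F) (hx : x ∈ Matrix.symplecticGroup (Fin d) F)
    (z : F) (hz : x ^ 2 = z • (1 : Matrix (Fin d ⊕ Fin d) (Fin d ⊕ Fin d) F)) :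
    ∃ W : Submodule F (Fin d ⊕ Fin d → F), finrank F W = m ∧
      (∀ u ∈ W, ∀ v ∈ W, Cfsg.sympForm d F u v = 0) ∧ W.map (Matrix.toLin' x) ≤ W := by
  have hxr : x ^ 2 ∈ Matrix.symplecticGroup (Fin d) F :=
    (Matrix.symplecticGroup (Fin d) F).pow_mem hx 2
  rw [hz] at hxr
  have hzz : z * z = 1 := Cfsg.Agent.S5961.sq_eq_one_of_smul_mem hd z hxr
  have hz1 : z = 1 ∨ z = -1 := by
    have : (z - 1) * (z + 1) = 0 := by ring_nf; rw [sq, hzz]; ring
    rcases mul_eq_zero.1 this with h | h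
    · left; exact sub_eq_zero.1 h
    · right; exact eq_neg_of_add_eq_zero_left h
  have hX : ∀ v, (Matrix.toLin' x : Module.End F (Fin d ⊕ Fin d → F)) (Matrix.toLin' x v) = z • v := by
    intro v
    rw [Matrix.toLin'_apply, Matrix.toLin'_apply, Matrix.mulVec_mulVec, ← sq, hz,
      Matrix.smul_mulVec, Matrix.one_mulVec]
  obtain ⟨W, hWd, hWti, hWinv⟩ := Cfsg.Agent.Lib.Helper75_SpInvTI.exists_ti_invariant_of_sq
    (two_ne_zero_of_ne hp2) (Bsymp d F) (Bsymp_isAlt d) (Bsymp_nondegenerate d)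
    (Matrix.toLin' x) z hz1 hX (fun u v => Cfsg.Agent.S5961.Bsymp_iso hx u v) m
    (by rw [finrank_std]; omega)
    (by rcases hcond with h | h
        · exact Or.inr (Or.inl h)
        · exact Or.inr (Or.inr h))
  refine ⟨W, hWd, fun u hu v hv => ?_, ?_⟩
  · rw [← Bsymp_apply]
    exact hWti u hu v hv
  · rintro _ ⟨w, hw, rfl⟩
    exact hWinv w hw

/-- `q ≡ 3 (mod 4)`: the invariant subspaces of `J` have even dimension. -/
theorem even_of_J_invariant {d : ℕ} (h4 : Fintype.card F % 4 = 3)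
    (W : Submodule F (Fin d ⊕ Fin d → F))
    (hW : W.map (Matrix.toLin' (Matrix.J (Fin d) F)) ≤ W) : 2 ∣ finrank F W := by
  set f : Module.End F (Fin d ⊕ Fin d → F) := Matrix.toLin' (Matrix.J (Fin d) F) with hf
  have hmon : (X ^ 2 + 1 : F[X]).Monic := by
    have : (X ^ 2 + 1 : F[X]) = X ^ 2 + C 1 := by rw [map_one]
    rw [this]
    exact monic_X_pow_add_C 1 (by norm_num)
  have hdeg : (X ^ 2 + 1 : F[X]).natDegree = 2 := by
    have : (X ^ 2 + 1 : F[X]) = X ^ 2 + C 1 := by rw [map_one]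
    rw [this]
    exact natDegree_X_pow_add_C
  have hirr : Irreducible (X ^ 2 + 1 : F[X]) := by
    rw [hmon.irreducible_iff_roots_eq_zero_of_degree_le_three (by rw [hdeg]) (by rw [hdeg]; norm_num)]
    rw [Multiset.eq_zero_iff_forall_notMem]
    intro a ha
    rw [mem_roots hmon.ne_zero, IsRoot.def, eval_add, eval_pow, eval_X, eval_one] at ha
    have hsq : IsSquare (-1 : F) := ⟨a, by rw [← sq]; exact (eq_neg_of_add_eq_zero_left ha).symm ▸ rfl⟩
    rw [FiniteField.isSquare_neg_one_iff] at hsq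
    exact hsq h4
  have hkill : aeval f (X ^ 2 + 1 : F[X]) = 0 := by
    rw [map_add, map_pow, aeval_X, map_one, hf, sq, Module.End.mul_eq_comp, ← Matrix.toLin'_mul,
      Matrix.J_squared]
    have h1 : (1 : Module.End F (Fin d ⊕ Fin d → F)) = Matrix.toLin' 1 := by
      rw [Matrix.toLin'_one]; rfl
    rw [h1, ← map_add, neg_add_cancel, map_zero]
  have hss : f.IsSemisimple :=
    Module.End.isSemisimple_of_squarefree_aeval_eq_zero hirr.squarefree hkill
  have H : HasBlocks f ⊥ 2 := by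
    apply hasBlocks_of_factors f ⊥ 2 (X ^ 2 + 1) hmon.ne_zero hkill
    intro g _ hgi hgd
    right
    have hassoc : Associated g (X ^ 2 + 1 : F[X]) := hgi.associated_of_dvd hirr hgd
    rw [← hdeg]
    exact natDegree_eq_of_degree_eq (degree_eq_degree_of_associated hassoc)
  have hWinv : W ∈ f.invtSubmodule := by
    rw [Module.End.mem_invtSubmodule]
    intro w hw
    exact hW ⟨w, hw, rfl⟩
  exact dvd_finrank_of_disjoint hss (by norm_num) H _ W rfl hWinv disjoint_bot_right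

/-- `r = 2`, necessity of `Even m ∨ q ≡ 1 (mod 4)` (for odd `q`). -/
theorem nec_two {d m : ℕ} (hd : 1 ≤ d) (hp2 : p ≠ 2)
    (hall : ∀ x : ↥(Matrix.symplecticGroup (Fin d) F),
      (∃ z : F, ((x ^ 2 : ↥(Matrix.symplecticGroup (Fin d) F)) : Matrix (Fin d ⊕ Fin d) (Fin d ⊕ Fin d) F) = z • (1 : Matrix (Fin d ⊕ Fin d) (Fin d ⊕ Fin d) F)) →
      (∀ z : F, (x : Matrix (Fin d ⊕ Fin d) (Fin d ⊕ Fin d) F) ≠ z • (1 : Matrix (Fin d ⊕ Fin d) (Fin d ⊕ Fin d) F)) →
      ∃ W : Submodule F (Fin d ⊕ Fin d → F), Module.finrank F ↥W = m ∧ (∀ u ∈ W, ∀ v ∈ W, Cfsg.sympForm d F u v = 0) ∧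
        W.map (Matrix.toLin' (x : Matrix (Fin d ⊕ Fin d) (Fin d ⊕ Fin d) F)) ≤ W) :
    Even m ∨ Fintype.card F % 4 = 1 := by
  by_contra hcon
  push Not at hcon
  obtain ⟨hmodd, h41⟩ := hcon
  -- `q` is odd
  have hqodd : Fintype.card F % 2 = 1 := by
    obtain ⟨k, -, hk⟩ := FiniteField.card F p
    rw [hk]
    have hp : p.Prime := Fact.out
    have hpodd : p % 2 = 1 := by
      rcases hp.eq_two_or_odd with h | h
      · exact absurd h hp2
      · exact h
    rw [Nat.pow_mod, hpodd, one_pow]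
    rfl
  have h43 : Fintype.card F % 4 = 3 := by omega
  set x : ↥(Matrix.symplecticGroup (Fin d) F) := ⟨Matrix.J (Fin d) F, _root_.SymplecticGroup.J_mem _ _⟩ with hx
  obtain ⟨W, hWd, -, hWinv⟩ := hall x ⟨-1, by
      rw [sq, hx]
      show Matrix.J (Fin d) F * Matrix.J (Fin d) F = _
      rw [Matrix.J_squared, neg_smul, one_smul]⟩ (by
      intro z hz
      have h1 := congrFun (congrFun hz (Sum.inl ⟨0, by omega⟩)) (Sum.inr ⟨0, by omega⟩)
      simp [hx, Matrix.J] at h1)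
  have := even_of_J_invariant h43 W hWinv
  rw [hWd] at this
  exact hmodd (even_iff_two_dvd.2 this)

theorem isoData_std {d r : ℕ} {A : Matrix (Fin d ⊕ Fin d) (Fin d ⊕ Fin d) F}
    (hA : A ∈ Matrix.symplecticGroup (Fin d) F) (hAr : A ^ r = 1) (hr0 : 0 < r) :
    IsoData (Bsymp d F) (Matrix.toLin' A : Module.End F (Fin d ⊕ Fin d → F)) r where
  alt := Bsymp_isAlt d
  iso := fun u v => Cfsg.Agent.S5961.Bsymp_iso hA u v
  pow := by
    rw [← Matrix.toLin'_pow, hAr, Matrix.toLin'_one]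
    rfl
  pos := hr0

/-- odd `r`, sufficiency. -/
theorem fix_of_odd {d m r : ℕ} (hd : 1 ≤ d) (hmd : m ≤ d) (hr : r.Prime) (hr2 : r ≠ 2)
    (hrp : r ≠ p)
    (hk : 2 * (m % orderOf ((Fintype.card F : ℕ) : ZMod r)) ≤ (2 * d) % atomDim F r)
    (h3 : Odd (orderOf ((Fintype.card F : ℕ) : ZMod r)) ∨
      (r - 1) / orderOf ((Fintype.card F : ℕ) : ZMod r) +
        2 * (m / orderOf ((Fintype.card F : ℕ) : ZMod r)) ≤
          (2 * d) / orderOf ((Fintype.card F : ℕ) : ZMod r))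
    (x : Matrix (Fin d ⊕ Fin d) (Fin d ⊕ Fin d) F) (hx : x ∈ Matrix.symplecticGroup (Fin d) F)
    (z : F) (hz : x ^ r = z • (1 : Matrix (Fin d ⊕ Fin d) (Fin d ⊕ Fin d) F)) :
    ∃ W : Submodule F (Fin d ⊕ Fin d → F), finrank F W = m ∧
      (∀ u ∈ W, ∀ v ∈ W, Cfsg.sympForm d F u v = 0) ∧ W.map (Matrix.toLin' x) ≤ W := by
  obtain ⟨hz0, hiso⟩ := Cfsg.Agent.S5961.isoData_of_mem hd (hr.odd_of_ne_two hr2) x hx z hz
  have hB : (Bsymp d F).Nondegenerate := Bsymp_nondegenerate d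
  have hipos := ord_pos (F := F) hr hrp
  set i := orderOf ((Fintype.card F : ℕ) : ZMod r) with hidef
  set T : Module.End F (Fin d ⊕ Fin d → F) := z • Matrix.toLin' x with hT
  suffices h : HasTI (Bsymp d F) T ⊤ m by
    obtain ⟨U, -, hUinv, hUti, hUd⟩ := h
    refine ⟨U, hUd, fun u hu v hv => ?_, ?_⟩
    · rw [← Bsymp_apply]
      exact hUti u hu v hv
    · rintro _ ⟨w, hw, rfl⟩
      have h1 := U.smul_mem z⁻¹ (hUinv w hw)
      rwa [hT, LinearMap.smul_apply, smul_smul, inv_mul_cancel₀ hz0, one_smul] at h1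
  have hdm := Nat.div_add_mod m i
  have hdn := Nat.div_add_mod (2 * d) (atomDim F r)
  by_cases hie : Even i
  · -- `i` even
    have hc : atomDim F r = i := by unfold atomDim; rw [if_pos hie]
    have h3' : (r - 1) / i + 2 * (m / i) ≤ (2 * d) / i := by
      rcases h3 with h | h
      · exact absurd hie (Nat.not_even_iff_odd.2 h)
      · exact h
    obtain ⟨a, e, hsum, H⟩ := exists_struct_even hiso hB hr hr2 hrp hie
    simp only [← hidef] at H
    rw [finrank_std, hc] at hsum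
    rw [hc] at hk hdn
    set t := (r - 1) / i with ht
    have ha : a ≤ (2 * d) / i := by
      rw [Nat.le_div_iff_mul_le hipos]
      rw [mul_comm]; omega
    have hA' := Nat.mul_le_mul_left i ha
    have h3'' := Nat.mul_le_mul_left i h3'
    rw [mul_add] at h3''
    by_cases hcase : t + 2 * (m / i) ≤ a + 1
    · have := H (m / i) (m % i) (Or.inr hcase) (by omega)
      rwa [hdm] at this
    · set s' := (a + 1 - t) / 2 with hs'
      have hs1 : s' = 0 ∨ t + 2 * s' ≤ a + 1 := by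
        by_cases h0 : s' = 0
        · exact Or.inl h0
        · right; omega
      have hs2 : s' ≤ m / i := by omega
      have hs3 : a ≤ 2 * s' + t := by omega
      have hS := Nat.mul_le_mul_left i hs2
      have hS3 := Nat.mul_le_mul_left i hs3
      rw [mul_add] at hS3
      have hmul : i * (2 * s') = 2 * (i * s') := by ring
      have hmul2 : i * (2 * (m / i)) = 2 * (i * (m / i)) := by ring
      have := H s' (m - i * s') hs1 (by omega)
      rwa [Nat.add_sub_cancel' (by omega)] at this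
  · -- `i` odd
    have hio : Odd i := Nat.not_even_iff_odd.1 hie
    have hc : atomDim F r = 2 * i := by unfold atomDim; rw [if_neg hie]
    obtain ⟨a, e, hsum, H⟩ := exists_struct_odd hiso hB hr hr2 hrp hio
    simp only [← hidef] at H
    rw [finrank_std, hc] at hsum
    rw [hc] at hk hdn
    have ha : a ≤ (2 * d) / (2 * i) := by
      rw [Nat.le_div_iff_mul_le (by omega)]
      rw [mul_comm]; omega
    have hA' := Nat.mul_le_mul_left (2 * i) ha
    by_cases hcase : a ≤ m / i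
    · have hS := Nat.mul_le_mul_left i hcase
      have hmul : 2 * i * a = 2 * (i * a) := by ring
      have := H a (m - i * a) le_rfl (by omega)
      rwa [Nat.add_sub_cancel' (by omega)] at this
    · have := H (m / i) (m % i) (by omega) (by omega)
      rwa [hdm] at this

/-- a scalar symplectic matrix of odd order is the identity. -/
theorem scalar_eq_one {d r : ℕ} (hd : 1 ≤ d) (hr : Odd r) (z : F)
    (hmem : z • (1 : Matrix (Fin d ⊕ Fin d) (Fin d ⊕ Fin d) F) ∈ Matrix.symplecticGroup (Fin d) F)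
    (hpow : (z • (1 : Matrix (Fin d ⊕ Fin d) (Fin d ⊕ Fin d) F)) ^ r = 1) : z = 1 := by
  have hzz : z * z = 1 := Cfsg.Agent.S5961.sq_eq_one_of_smul_mem hd z hmem
  rw [_root_.smul_pow, one_pow] at hpow
  have h1 := congrFun (congrFun hpow (Sum.inl ⟨0, by omega⟩)) (Sum.inl ⟨0, by omega⟩)
  simp only [Matrix.smul_apply, Matrix.one_apply_eq, smul_eq_mul, mul_one] at h1
  obtain ⟨k, rfl⟩ := hr
  rw [pow_succ, pow_mul, sq, hzz, one_pow, one_mul] at h1
  exact h1

/-- odd `r`, necessity. -/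
theorem nec_odd {d m r : ℕ} (hd : 1 ≤ d) (hm : 1 ≤ m) (hmd : m ≤ d) (hr : r.Prime) (hr2 : r ≠ 2)
    (hrp : r ≠ p)
    (hrΩ : r ∣ Nat.card {W : Submodule F (Fin d ⊕ Fin d → F) // Module.finrank F ↥W = m ∧ (∀ u ∈ W, ∀ v ∈ W, Cfsg.sympForm d F u v = 0)})
    (hall : ∀ x : ↥(Matrix.symplecticGroup (Fin d) F),
      (∃ z : F, ((x ^ r : ↥(Matrix.symplecticGroup (Fin d) F)) : Matrix (Fin d ⊕ Fin d) (Fin d ⊕ Fin d) F) = z • (1 : Matrix (Fin d ⊕ Fin d) (Fin d ⊕ Fin d) F)) →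
      (∀ z : F, (x : Matrix (Fin d ⊕ Fin d) (Fin d ⊕ Fin d) F) ≠ z • (1 : Matrix (Fin d ⊕ Fin d) (Fin d ⊕ Fin d) F)) →
      ∃ W : Submodule F (Fin d ⊕ Fin d → F), Module.finrank F ↥W = m ∧ (∀ u ∈ W, ∀ v ∈ W, Cfsg.sympForm d F u v = 0) ∧
        W.map (Matrix.toLin' (x : Matrix (Fin d ⊕ Fin d) (Fin d ⊕ Fin d) F)) ≤ W) :
    orderOf ((Fintype.card F : ℕ) : ZMod r) ≤ m ∧
    2 * (m % orderOf ((Fintype.card F : ℕ) : ZMod r)) ≤ (2 * d) % atomDim F r ∧
    (Odd (orderOf ((Fintype.card F : ℕ) : ZMod r)) ∨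
      (r - 1) / orderOf ((Fintype.card F : ℕ) : ZMod r) +
        2 * (m / orderOf ((Fintype.card F : ℕ) : ZMod r)) ≤
          (2 * d) / orderOf ((Fintype.card F : ℕ) : ZMod r)) := by
  have hB : (Bsymp d F).Nondegenerate := Bsymp_nondegenerate d
  have hipos := ord_pos (F := F) hr hrp
  have hrodd : Odd r := hr.odd_of_ne_two hr2
  set i := orderOf ((Fintype.card F : ℕ) : ZMod r) with hidef
  set c := atomDim F r with hcdef
  -- the counting hypothesis
  have hrΩ' : r ∣ Nat.card {W : Submodule F (Fin d ⊕ Fin d → F) //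
      finrank F W = m ∧ ∀ u ∈ W, ∀ v ∈ W, Bsymp d F u v = 0} := by
    simpa only [Bsymp_apply] using hrΩ
  obtain ⟨j₀, hj₀, hdvd⟩ := exists_dvd_of_dvd_card_ti (Bsymp d F) (Bsymp_isAlt d) hB m
    (by rw [finrank_std]; omega) hr hrΩ'
  rw [finrank_std] at hdvd
  have hidvd : i ∣ 2 * d - 2 * j₀ := by
    rw [hidef, orderOf_dvd_iff_pow_eq_one]
    have h1 : ((Fintype.card F ^ (2 * d - 2 * j₀) - 1 : ℕ) : ZMod r) = 0 :=
      (ZMod.natCast_eq_zero_iff _ _).2 hdvd
    rw [Nat.cast_sub (Nat.one_le_pow _ _ Fintype.card_pos), Nat.cast_pow, Nat.cast_one,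
      sub_eq_zero] at h1
    exact h1
  have hcdvd : c ∣ 2 * d - 2 * j₀ := by
    rw [hcdef]
    unfold atomDim
    split_ifs with hie
    · exact hidvd
    · have hio : Odd i := Nat.not_even_iff_odd.1 hie
      have h2 : 2 ∣ 2 * d - 2 * j₀ := ⟨d - j₀, by omega⟩
      exact (Nat.Coprime.mul_dvd_of_dvd_of_dvd (Nat.coprime_two_left.2 hio) h2 hidvd)
  have hcpos : 0 < c := atomDim_pos (F := F) (r := r) hipos
  have hcle : c ≤ 2 * d - 2 * j₀ := Nat.le_of_dvd (by omega) hcdvd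
  have hc2i : c ≤ 2 * i := by
    rw [hcdef]; unfold atomDim
    split_ifs <;> omega
  have hkmod : (2 * d) % c = (2 * j₀) % c := by
    obtain ⟨u, hu⟩ := hcdvd
    have : 2 * d = 2 * j₀ + c * u := by omega
    rw [this, Nat.add_mul_mod_self_left]
  have hklt : (2 * d) % c < c := Nat.mod_lt _ hcpos
  -- the extremal element
  have hspos : 1 ≤ (2 * d) / c := (Nat.one_le_div_iff hcpos).2 (by omega)
  obtain ⟨A, hA, hAr, hfix⟩ := exists_elt (F := F) d hr hr2 hrp ((2 * d) / c)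
    (Nat.div_mul_le_self _ _)
  rw [← hcdef] at hfix
  have hfix' : finrank F (Module.End.eigenspace (Matrix.toLin' A : Module.End F (Fin d ⊕ Fin d → F)) 1) =
      (2 * d) % c := by
    rw [hfix]
    have := Nat.div_add_mod (2 * d) c
    have h2 : 2 * d / c * c = c * (2 * d / c) := mul_comm _ _
    omega
  have hAns : ∀ z : F, A ≠ z • (1 : Matrix (Fin d ⊕ Fin d) (Fin d ⊕ Fin d) F) := by
    intro z hz
    have hz1 : z = 1 := scalar_eq_one hd hrodd z (hz ▸ hA) (hz ▸ hAr)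
    rw [hz1, one_smul] at hz
    rw [hz, Matrix.toLin'_one] at hfix'
    have htop : Module.End.eigenspace (LinearMap.id : Module.End F (Fin d ⊕ Fin d → F)) 1 = ⊤ := by
      rw [eq_top_iff]
      intro v _
      rw [Module.End.mem_eigenspace_iff, one_smul, LinearMap.id_apply]
    rw [htop, finrank_top, finrank_std] at hfix'
    omega
  have hiso : IsoData (Bsymp d F) (Matrix.toLin' A : Module.End F (Fin d ⊕ Fin d → F)) r :=
    isoData_std hA hAr hr.pos
  obtain ⟨W, hWd, hWti, hWinv⟩ := hall ⟨A, hA⟩ ⟨1, by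
    rw [one_smul]
    have : ((⟨A, hA⟩ : ↥(Matrix.symplecticGroup (Fin d) F)) ^ r : ↥(Matrix.symplecticGroup (Fin d) F)).1 = A ^ r := by
      rw [SubmonoidClass.coe_pow]
    rw [this, hAr]⟩ hAns
  obtain ⟨e', s', hdec, he'⟩ := exists_decomp_of_ti (p := p) hiso hB hr hrp (W := W)
    (fun w hw => hWinv ⟨w, hw, rfl⟩)
    (fun u hu v hv => by rw [Bsymp_apply]; exact hWti u hu v hv)
  rw [hWd, ← hidef] at hdec
  rw [hfix'] at he'
  have he'i : e' < i := by omega
  have hmod : m % i = e' := by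
    rw [hdec, Nat.add_mul_mod_self_left, Nat.mod_eq_of_lt he'i]
  have hdiv : m / i = s' := by
    rw [hdec, Nat.add_mul_div_left _ _ hipos, Nat.div_eq_of_lt he'i, zero_add]
  have him : i ≤ m := by
    by_contra hlt
    push Not at hlt
    have hs0 : s' = 0 := by
      by_contra h0
      have : i * 1 ≤ i * s' := Nat.mul_le_mul_left i (by omega)
      omega
    rw [hs0, mul_zero, add_zero] at hdec
    have h1 : (2 * j₀) % c = 2 * j₀ := Nat.mod_eq_of_lt (by omega)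
    omega
  refine ⟨him, by rw [hmod]; exact he', ?_⟩
  by_cases hie : Even i
  · right
    by_contra hneg
    obtain ⟨A₂, hA₂, hA₂r, hbound⟩ := Cfsg.Agent.Lib.Helper27_SpSpecialElt.exists_special_elt (F := F) hr hr2 hrp hie d m hmd him hneg
    have hA₂ns : ∀ z : F, A₂ ≠ z • (1 : Matrix (Fin d ⊕ Fin d) (Fin d ⊕ Fin d) F) := by
      intro z hz
      obtain ⟨U, hUti, hUd⟩ := exists_ti_top (B := Bsymp d F) (Bsymp_isAlt d) hB m
        (by rw [finrank_std]; omega)
      apply hbound U _ hUti hUd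
      rintro _ ⟨w, hw, rfl⟩
      rw [hz, Matrix.toLin'_apply, Matrix.smul_mulVec, Matrix.one_mulVec]
      exact U.smul_mem z hw
    obtain ⟨W₂, hW₂d, hW₂ti, hW₂inv⟩ := hall ⟨A₂, hA₂⟩ ⟨1, by
      rw [one_smul]
      have : ((⟨A₂, hA₂⟩ : ↥(Matrix.symplecticGroup (Fin d) F)) ^ r : ↥(Matrix.symplecticGroup (Fin d) F)).1 = A₂ ^ r := by
        rw [SubmonoidClass.coe_pow]
      rw [this, hA₂r]⟩ hA₂ns
    exact hbound W₂ hW₂inv (fun u hu v hv => by rw [Bsymp_apply]; exact hW₂ti u hu v hv) hW₂d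
  · left
    exact Nat.not_even_iff_odd.1 hie

/-- Elements of prime order of PSp_n(q) with no fixed totally isotropic `m`-space. Here `T = PSp_n(q)` with `n = 2d ≥ 4`, `(n, q) ≠ (4, 2)`, realised through the symplectic matrices over the field `F` with `q` elements (preserving the standard alternating form); an element of `T` of prime order `r` is such a matrix `x` with `x^r` scalar and `x` not scalar. For `r ≠ p` let `i` be the multiplicative order of `q` modulo `r`, `c = i` for `i` even and `c = 2i` for `i` odd, and write `k = n mod c`, `ℓ = m mod i`, `ℓ' = m mod c`, `n' = ⌊n/i⌋`, `m' = ⌊m/i⌋`, `t = (r−1)/i`. Let `1 ≤ m ≤ n/2` and let `r` be a prime dividing the number of totally isotropic `m`-spaces. Then every element of `T` of order `r` fixes a totally isotropic `m`-space if and only if either (i) `r = 2 ≠ p` and (`m` is even or `q ≡ 1 (mod 4)`); or (ii) `r ≠ p`, `r > 2`, `i ≤ m`, `k ≥ 2ℓ`, and (`i` is odd or `n' − 2m'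 ≥ t`). -/
theorem result {F : Type*} [Field F] [Fintype F] {p : ℕ} [Fact p.Prime] [CharP F p] {q : ℕ} (hq : Fintype.card F = q)
    (d m : ℕ) (hd : 2 ≤ d) (hT : (d, q) ≠ (2, 2)) (hm : 1 ≤ m) (hmd : m ≤ d)
    (r : ℕ) [Fact r.Prime]
    (hrΩ : r ∣ Nat.card {W : Submodule F (Fin d ⊕ Fin d → F) // Module.finrank F ↥W = m ∧ (∀ u ∈ W, ∀ v ∈ W, Cfsg.sympForm d F u v = 0)})
    (i c : ℕ) (hi : i = orderOf (q : ZMod r)) (hc : c = if Even i then i else 2 * i) :
    (∀ x : ↥(Matrix.symplecticGroup (Fin d) F),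
      (∃ z : F, ((x ^ r : ↥(Matrix.symplecticGroup (Fin d) F)) : Matrix (Fin d ⊕ Fin d) (Fin d ⊕ Fin d) F) = z • (1 : Matrix (Fin d ⊕ Fin d) (Fin d ⊕ Fin d) F)) →
      (∀ z : F, (x : Matrix (Fin d ⊕ Fin d) (Fin d ⊕ Fin d) F) ≠ z • (1 : Matrix (Fin d ⊕ Fin d) (Fin d ⊕ Fin d) F)) →
      ∃ W : Submodule F (Fin d ⊕ Fin d → F), Module.finrank F ↥W = m ∧ (∀ u ∈ W, ∀ v ∈ W, Cfsg.sympForm d F u v = 0) ∧
        W.map (Matrix.toLin' (x : Matrix (Fin d ⊕ Fin d) (Fin d ⊕ Fin d) F)) ≤ W) ↔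
    ((r = 2 ∧ p ≠ 2 ∧ (Even m ∨ q % 4 = 1)) ∨
     (r ≠ p ∧ 2 < r ∧ i ≤ m ∧ 2 * (m % i) ≤ (2 * d) % c ∧ (Odd i ∨ (r - 1) / i + 2 * (m / i) ≤ (2 * d) / i))) := by
  subst hq
  have hd1 : 1 ≤ d := by omega
  have hrpr : r.Prime := Fact.out
  have hB : (Bsymp d F).Nondegenerate := Bsymp_nondegenerate d
  have hrΩ' : r ∣ Nat.card {W : Submodule F (Fin d ⊕ Fin d → F) //
      finrank F W = m ∧ ∀ u ∈ W, ∀ v ∈ W, Bsymp d F u v = 0} := by
    simpa only [Bsymp_apply] using hrΩ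
  have hrp : r ≠ p := by
    intro h
    subst h
    have h1 := card_ti_modEq_one (Bsymp d F) (Bsymp_isAlt d) hB r m (by rw [finrank_std]; omega)
    unfold Nat.ModEq at h1
    rw [Nat.mod_eq_zero_of_dvd hrΩ', Nat.mod_eq_of_lt hrpr.one_lt] at h1
    exact zero_ne_one h1
  have hc' : c = atomDim F r := by
    rw [hc, hi]
    rfl
  subst hi
  constructor
  · intro hall
    by_cases hr2 : r = 2
    · left
      refine ⟨hr2, fun h => hrp (hr2.trans h.symm), ?_⟩
      subst hr2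
      exact nec_two hd1 (Ne.symm hrp) hall
    · right
      obtain ⟨h1, h2, h3⟩ := nec_odd hd1 hm hmd hrpr hr2 hrp hrΩ hall
      refine ⟨hrp, lt_of_le_of_ne hrpr.two_le (Ne.symm hr2), h1, ?_, h3⟩
      rw [hc']
      exact h2
  · rintro (⟨hr2, hp2, hcond⟩ | ⟨hrp', h2r, him, hk, h3⟩)
    · subst hr2
      intro x ⟨z, hz⟩ _
      exact fix_of_two hd1 hmd hp2 hcond x.1 x.2 z (by rw [← hz, SubmonoidClass.coe_pow])
    · intro x ⟨z, hz⟩ _
      exact fix_of_odd hd1 hmd hrpr (by omega) hrp' (by rw [← hc']; exact hk) h3 x.1 x.2 z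
        (by rw [← hz, SubmonoidClass.coe_pow])

end Cfsg.Agent.S5955
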