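import Cfsg.Statements.S5956
import Cfsg.Agent.S5961
import Cfsg.Agent.Lib.Helper99_SpTI
import Cfsg.Agent.Lib.Helper99_SpElt
import Cfsg.Agent.Lib.Helper99_SpNDCount
import Cfsg.Agent.Lib.Helper75_SpND_Q2
import Cfsg.Agent.Lib.Helper75_SpND_Q3
import Cfsg.Agent.Lib.Helper88_SpND_Q4

set_option autoImplicit false
set_option linter.unusedSectionVars false
open scoped MatrixGroups
open Cfsg

namespace Cfsg.Agent.S5956

open Module Polynomial
open Cfsg.Agent.Lib.Helper40_SpBasic Cfsg.Agent.Lib.Helper94_Bridge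
  Cfsg.Agent.Lib.Helper99_SpAtoms Cfsg.Agent.Lib.Helper99_SpTI Cfsg.Agent.Lib.Helper99_SpOrth
  Cfsg.Agent.Lib.Helper99_SpNec Cfsg.Agent.Lib.Helper99_SpElt
  Cfsg.Agent.Lib.Helper99_InvSub Cfsg.Agent.Lib.Helper99_PrimeOrderSL
  Cfsg.Agent.Lib.Helper99_SpNDCount Cfsg.Agent.Lib.Helper75_SpND_Q2

variable {F : Type*} [Field F] [Fintype F] {p : ℕ} [Fact p.Prime] [CharP F p]

theorem finrank_std' (d : ℕ) : finrank F (Fin d ⊕ Fin d → F) = 2 * d := by
  rw [Module.finrank_pi, Fintype.card_sum, Fintype.card_fin, two_mul]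

theorem isoData_std' {d r : ℕ} {A : Matrix (Fin d ⊕ Fin d) (Fin d ⊕ Fin d) F}
    (hA : A ∈ Matrix.symplecticGroup (Fin d) F) (hAr : A ^ r = 1) (hr0 : 0 < r) :
    IsoData (Bsymp d F) (Matrix.toLin' A : Module.End F (Fin d ⊕ Fin d → F)) r where
  alt := Bsymp_isAlt d
  iso := fun u v => Cfsg.Agent.S5961.Bsymp_iso hA u v
  pow := by
    rw [← Matrix.toLin'_pow, hAr, Matrix.toLin'_one]
    rfl
  pos := hr0

/-- a scalar symplectic matrix of odd order is the identity. -/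
theorem scalar_eq_one' {d r : ℕ} (hd : 1 ≤ d) (hr : Odd r) (z : F)
    (hmem : z • (1 : Matrix (Fin d ⊕ Fin d) (Fin d ⊕ Fin d) F) ∈ Matrix.symplecticGroup (Fin d) F)
    (hpow : (z • (1 : Matrix (Fin d ⊕ Fin d) (Fin d ⊕ Fin d) F)) ^ r = 1) : z = 1 := by
  have hzz : z * z = 1 := Cfsg.Agent.S5961.sq_eq_one_of_smul_mem hd z hmem
  rw [_root_.smul_pow, one_pow] at hpow
  have h1 := congrFun (congrFun hpow (Sum.inl ⟨0, by omega⟩)) (Sum.inl ⟨0, by omega⟩)
  simp only [Matrix.smul_apply, Matrix.one_apply_eq, smul_eq_mul, mul_one] at h1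
  obtain ⟨k, rfl⟩ := hr
  rw [pow_succ, pow_mul, sq, hzz, one_pow, one_mul] at h1
  exact h1

theorem sum_map_const {α : Type*} (f : α → ℕ) (k : ℕ) (l : List α) (h : ∀ P ∈ l, f P = k) :
    (l.map f).sum = k * l.length := by
  induction l with
  | nil => simp
  | cons P l ih =>
    rw [List.map_cons, List.sum_cons, h P List.mem_cons_self,
      ih (fun Q hQ => h Q (List.mem_cons_of_mem _ hQ)), List.length_cons]
    ring

section struct

variable {V : Type*} [AddCommGroup V] [Module F V] [FiniteDimensional F V]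
variable {B : LinearMap.BilinForm F V} {T : Module.End F V} {r : ℕ}

/-- structure theorem: invariant nondegenerate subspaces from atoms and planes. -/
theorem exists_nd_struct (hiso : IsoData B T r) (hB : B.Nondegenerate) (hr : r.Prime)
    (hr2 : r ≠ 2) (hrp : r ≠ p) :
    ∃ a e : ℕ, atomDim F r * a + 2 * e = finrank F V ∧
      ∀ a' e' : ℕ, a' ≤ a → e' ≤ e →
        ∃ W : Submodule F V, Inv T W ∧ NDOn B W ∧ finrank F W = atomDim F r * a' + 2 * e' := by
  classical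
  obtain ⟨L, hL, hp, hsum⟩ := exists_pieces (p := p) hr hr2 hrp (finrank F V) B T rfl hiso hB
  have hskew := hiso.skew
  set La := L.filter (fun P => P.2) with hLa
  set Lp := L.filter (fun P => !P.2) with hLp
  have hsubA : La.Sublist L := List.filter_sublist
  have hsubP : Lp.Sublist L := List.filter_sublist
  refine ⟨La.length, Lp.length, ?_, ?_⟩
  · rw [← hsum, sum_pieces L hL]
  · intro a' e' ha' he'
    have hsA : (La.take a').Sublist L := (List.take_sublist a' La).trans hsubA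
    have hsP : (Lp.take e').Sublist L := (List.take_sublist e' Lp).trans hsubP
    have hA2 : ∀ Q ∈ La.take a', Q.2 = true := by
      intro Q hQ
      have := (List.mem_filter.1 ((List.take_sublist a' La).subset hQ)).2
      simpa using this
    have hP2 : ∀ Q ∈ Lp.take e', Q.2 = false := by
      intro Q hQ
      have := (List.mem_filter.1 ((List.take_sublist e' Lp).subset hQ)).2
      simpa using this
    have hndA : NDOn B (lsup (La.take a')) :=
      ndOn_lsup hskew _ (fun Q hQ => (hL Q (hsA.subset hQ)).2.1) (hp.sublist hsA)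
    have hndP : NDOn B (lsup (Lp.take e')) :=
      ndOn_lsup hskew _ (fun Q hQ => (hL Q (hsP.subset hQ)).2.1) (hp.sublist hsP)
    have horth : ∀ u ∈ lsup (La.take a'), ∀ v ∈ lsup (Lp.take e'), B u v = 0 := by
      apply orth_lsup_lsup hskew
      intro P hP Q hQ
      apply cross_orth hskew hp (hsA.subset hP) (hsP.subset hQ)
      intro hPQ
      have h1 := hA2 P hP
      have h2 := hP2 Q hQ
      rw [hPQ, h2] at h1
      exact Bool.noConfusion h1
    refine ⟨lsup (La.take a') ⊔ lsup (Lp.take e'), ?_, ndOn_sup hskew hndA hndP horth, ?_⟩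
    · exact inv_sup (inv_lsup _ (fun Q hQ => (hL Q (hsA.subset hQ)).1))
        (inv_lsup _ (fun Q hQ => (hL Q (hsP.subset hQ)).1))
    · rw [finrank_sup_of_disjoint (disjoint_of_orth hskew hndA horth),
        finrank_lsup hskew _ (fun Q hQ => (hL Q (hsA.subset hQ)).2.1) (hp.sublist hsA),
        finrank_lsup hskew _ (fun Q hQ => (hL Q (hsP.subset hQ)).2.1) (hp.sublist hsP),
        sum_map_const _ (atomDim F r) _ (fun Q hQ => ((hL Q (hsA.subset hQ)).2.2.1 (hA2 Q hQ)).1),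
        sum_map_const _ 2 _ (fun Q hQ => ((hL Q (hsP.subset hQ)).2.2.2 (hP2 Q hQ)).1),
        List.length_take, List.length_take, min_eq_left ha', min_eq_left he']

end struct

/-- odd `r ≠ p`, sufficiency. -/
theorem fix_nd_of_odd {d m r : ℕ} (hd : 1 ≤ d) (hme : Even m) (hmd : m ≤ 2 * d) (hr : r.Prime)
    (hr2 : r ≠ 2) (hrp : r ≠ p) (hk : m % atomDim F r ≤ (2 * d) % atomDim F r)
    (x : Matrix (Fin d ⊕ Fin d) (Fin d ⊕ Fin d) F) (hx : x ∈ Matrix.symplecticGroup (Fin d) F)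
    (z : F) (hz : x ^ r = z • (1 : Matrix (Fin d ⊕ Fin d) (Fin d ⊕ Fin d) F)) :
    ∃ W : Submodule F (Fin d ⊕ Fin d → F), finrank F W = m ∧
      (∀ u ∈ W, u ≠ 0 → ∃ v ∈ W, Cfsg.sympForm d F u v ≠ 0) ∧ W.map (Matrix.toLin' x) ≤ W := by
  obtain ⟨hz0, hiso⟩ := Cfsg.Agent.S5961.isoData_of_mem hd (hr.odd_of_ne_two hr2) x hx z hz
  have hB : (Bsymp d F).Nondegenerate := Bsymp_nondegenerate d
  have hipos := ord_pos (F := F) hr hrp
  have hcpos : 0 < atomDim F r := atomDim_pos (F := F) (r := r) hipos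
  have hce : Even (atomDim F r) := even_atomDim
  set c := atomDim F r with hcdef
  set T : Module.End F (Fin d ⊕ Fin d → F) := z • Matrix.toLin' x with hT
  obtain ⟨a, e, hsum, H⟩ := exists_nd_struct (p := p) hiso hB hr hr2 hrp
  rw [finrank_std', ← hcdef] at hsum
  simp only [← hcdef] at H
  suffices h : ∃ a' e' : ℕ, a' ≤ a ∧ e' ≤ e ∧ c * a' + 2 * e' = m by
    obtain ⟨a', e', ha', he', hm'⟩ := h
    obtain ⟨W, hWinv, hWnd, hWd⟩ := H a' e' ha' he'
    refine ⟨W, by rw [hWd, hm'], ?_, ?_⟩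
    · intro u hu hu0
      obtain ⟨v, hv, hne⟩ := (Cfsg.Agent.S5961.ndOn_iff (Bsymp d F) W).1 hWnd u hu hu0
      exact ⟨v, hv, by rwa [← Bsymp_apply]⟩
    · rintro _ ⟨w, hw, rfl⟩
      have h1 := W.smul_mem z⁻¹ (hWinv w hw)
      rwa [hT, LinearMap.smul_apply, smul_smul, inv_mul_cancel₀ hz0, one_smul] at h1
  have hdm := Nat.div_add_mod m c
  have hdn := Nat.div_add_mod (2 * d) c
  have hc2 : 2 ∣ c := even_iff_two_dvd.1 hce
  have hm2 : 2 ∣ m := even_iff_two_dvd.1 hme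
  have ha : a ≤ (2 * d) / c := by
    rw [Nat.le_div_iff_mul_le hcpos]
    rw [mul_comm]; omega
  have hA' := Nat.mul_le_mul_left c ha
  by_cases hcase : a ≤ m / c
  · have hS := Nat.mul_le_mul_left c hcase
    -- use all atoms
    have heven : 2 ∣ m - c * a := Nat.dvd_sub hm2 (hc2.mul_right a)
    obtain ⟨e', he'⟩ := heven
    exact ⟨a, e', le_rfl, by omega, by omega⟩
  · have heven : 2 ∣ m % c := by
      have h1 : 2 ∣ c * (m / c) := hc2.mul_right _
      exact (Nat.dvd_add_right h1).1 (by rw [hdm]; exact hm2)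
    obtain ⟨e', he'⟩ := heven
    exact ⟨m / c, e', by omega, by omega, by omega⟩

/-- odd `r ≠ p`, necessity. -/
theorem nec_nd_odd {d m r : ℕ} (hd : 1 ≤ d) (hm : 2 ≤ m) (hme : Even m) (hmd : m < d)
    (hr : r.Prime) (hr2 : r ≠ 2) (hrp : r ≠ p)
    (hrΩ : r ∣ Nat.card {W : Submodule F (Fin d ⊕ Fin d → F) // Module.finrank F ↥W = m ∧ (∀ u ∈ W, u ≠ 0 → ∃ v ∈ W, Cfsg.sympForm d F u v ≠ 0)})
    (hall : ∀ x : ↥(Matrix.symplecticGroup (Fin d) F),
      (∃ z : F, ((x ^ r : ↥(Matrix.symplecticGroup (Fin d) F)) : Matrix (Fin d ⊕ Fin d) (Fin d ⊕ Fin d) F) = z • (1 : Matrix (Fin d ⊕ Fin d) (Fin d ⊕ Fin d) F)) →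
      (∀ z : F, (x : Matrix (Fin d ⊕ Fin d) (Fin d ⊕ Fin d) F) ≠ z • (1 : Matrix (Fin d ⊕ Fin d) (Fin d ⊕ Fin d) F)) →
      ∃ W : Submodule F (Fin d ⊕ Fin d → F), Module.finrank F ↥W = m ∧ (∀ u ∈ W, u ≠ 0 → ∃ v ∈ W, Cfsg.sympForm d F u v ≠ 0) ∧
        W.map (Matrix.toLin' (x : Matrix (Fin d ⊕ Fin d) (Fin d ⊕ Fin d) F)) ≤ W) :
    atomDim F r ≤ m ∧ m % atomDim F r ≤ (2 * d) % atomDim F r := by
  have hB : (Bsymp d F).Nondegenerate := Bsymp_nondegenerate d
  have hipos := ord_pos (F := F) hr hrp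
  have hrodd : Odd r := hr.odd_of_ne_two hr2
  set i := orderOf ((Fintype.card F : ℕ) : ZMod r) with hidef
  set c := atomDim F r with hcdef
  have hrΩ' : r ∣ Nat.card {W : Submodule F (Fin d ⊕ Fin d → F) //
      finrank F W = m ∧ ∀ u ∈ W, u ≠ 0 → ∃ v ∈ W, Bsymp d F u v ≠ 0} := by
    simpa only [Bsymp_apply] using hrΩ
  obtain ⟨j₀, hj₀, hdvd⟩ := exists_dvd_of_dvd_card_nd (Bsymp d F) (Bsymp_isAlt d) hB m hme
    (by rw [finrank_std']; omega) hr (Cfsg.Agent.Lib.Helper99_SpNec.not_dvd_card hr hrp) hrΩ'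
  rw [finrank_std'] at hdvd
  have hidvd : i ∣ 2 * d - 2 * j₀ := by
    rw [hidef, orderOf_dvd_iff_pow_eq_one]
    have h1 : ((Fintype.card F ^ (2 * d - 2 * j₀) - 1 : ℕ) : ZMod r) = 0 :=
      (ZMod.natCast_eq_zero_iff _ _).2 hdvd
    rw [Nat.cast_sub (Nat.one_le_pow _ _ Fintype.card_pos), Nat.cast_pow, Nat.cast_one,
      sub_eq_zero] at h1
    exact h1
  have hcdvd : c ∣ 2 * d - 2 * j₀ := by
    rw [hcdef]
    unfold atomDim
    split_ifs with hie
    · exact hidvd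
    · have hio : Odd i := Nat.not_even_iff_odd.1 hie
      have h2 : 2 ∣ 2 * d - 2 * j₀ := ⟨d - j₀, by omega⟩
      exact (Nat.Coprime.mul_dvd_of_dvd_of_dvd (Nat.coprime_two_left.2 hio) h2 hidvd)
  have hcpos : 0 < c := atomDim_pos (F := F) (r := r) hipos
  have hcle : c ≤ 2 * d - 2 * j₀ := Nat.le_of_dvd (by omega) hcdvd
  have hkmod : (2 * d) % c = (2 * j₀) % c := by
    obtain ⟨u, hu⟩ := hcdvd
    have : 2 * d = 2 * j₀ + c * u := by omega
    rw [this, Nat.add_mul_mod_self_left]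
  have hklt : (2 * d) % c < c := Nat.mod_lt _ hcpos
  obtain ⟨A, hA, hAr, hfix⟩ := exists_elt (F := F) d hr hr2 hrp ((2 * d) / c)
    (Nat.div_mul_le_self _ _)
  rw [← hcdef] at hfix
  have hfix' : finrank F (Module.End.eigenspace (Matrix.toLin' A : Module.End F (Fin d ⊕ Fin d → F)) 1) =
      (2 * d) % c := by
    rw [hfix]
    have := Nat.div_add_mod (2 * d) c
    have h2 : 2 * d / c * c = c * (2 * d / c) := mul_comm _ _
    omega
  have hAns : ∀ z : F, A ≠ z • (1 : Matrix (Fin d ⊕ Fin d) (Fin d ⊕ Fin d) F) := by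
    intro z hz
    have hz1 : z = 1 := scalar_eq_one' hd hrodd z (hz ▸ hA) (hz ▸ hAr)
    rw [hz1, one_smul] at hz
    rw [hz, Matrix.toLin'_one] at hfix'
    have htop : Module.End.eigenspace (LinearMap.id : Module.End F (Fin d ⊕ Fin d → F)) 1 = ⊤ := by
      rw [eq_top_iff]
      intro v _
      rw [Module.End.mem_eigenspace_iff, one_smul, LinearMap.id_apply]
    rw [htop, finrank_top, finrank_std'] at hfix'
    omega
  have hiso : IsoData (Bsymp d F) (Matrix.toLin' A : Module.End F (Fin d ⊕ Fin d → F)) r :=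
    isoData_std' hA hAr hr.pos
  obtain ⟨W, hWd, hWnd, hWinv⟩ := hall ⟨A, hA⟩ ⟨1, by
    rw [one_smul]
    have : ((⟨A, hA⟩ : ↥(Matrix.symplecticGroup (Fin d) F)) ^ r : ↥(Matrix.symplecticGroup (Fin d) F)).1 = A ^ r := by
      rw [SubmonoidClass.coe_pow]
    rw [this, hAr]⟩ hAns
  have hWnd' : NDOn (Bsymp d F) W := by
    rw [Cfsg.Agent.S5961.ndOn_iff]
    intro u hu hu0
    obtain ⟨v, hv, hne⟩ := hWnd u hu hu0
    exact ⟨v, hv, by rwa [Bsymp_apply]⟩
  have hdv := dvd_sub_fix (p := p) hiso hr hrp (W := W) (fun w hw => hWinv ⟨w, hw, rfl⟩) hWnd'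
  rw [hWd, ← hcdef] at hdv
  have hle1 : finrank F ↥(W ⊓ Module.End.eigenspace (Matrix.toLin' A : Module.End F (Fin d ⊕ Fin d → F)) 1) ≤ (2 * d) % c := by
    rw [← hfix']
    exact Submodule.finrank_mono inf_le_right
  have hle2 : finrank F ↥(W ⊓ Module.End.eigenspace (Matrix.toLin' A : Module.End F (Fin d ⊕ Fin d → F)) 1) ≤ m := by
    rw [← hWd]
    exact Submodule.finrank_mono inf_le_left
  set e' := finrank F ↥(W ⊓ Module.End.eigenspace (Matrix.toLin' A : Module.End F (Fin d ⊕ Fin d → F)) 1) with he'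
  obtain ⟨a', ha'⟩ := hdv
  have hdec : m = e' + c * a' := by omega
  have he'c : e' < c := by omega
  have hmod : m % c = e' := by
    rw [hdec, Nat.add_mul_mod_self_left, Nat.mod_eq_of_lt he'c]
  refine ⟨?_, by rw [hmod]; exact hle1⟩
  by_contra hlt
  push Not at hlt
  have ha0 : a' = 0 := by
    by_contra h0
    have : c * 1 ≤ c * a' := Nat.mul_le_mul_left c (by omega)
    omega
  rw [ha0, mul_zero, add_zero] at hdec
  have h1 : (2 * j₀) % c = 2 * j₀ := Nat.mod_eq_of_lt (by omega)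
  omega

/-- Elements of prime order of PSp_n(q) with no fixed nondegenerate `m`-space. Here `T = PSp_n(q)` with `n = 2d ≥ 4`, `(n, q) ≠ (4, 2)`, realised through the symplectic matrices over the field `F` with `q` elements (preserving the standard alternating form); an element of `T` of prime order `r` is such a matrix `x` with `x^r` scalar and `x` not scalar. For `r ≠ p` let `i` be the multiplicative order of `q` modulo `r`, `c = i` for `i` even and `c = 2i` for `i` odd, and write `k = n mod c`, `ℓ = m mod i`, `ℓ' = m mod c`, `n' = ⌊n/i⌋`, `m' = ⌊m/i⌋`, `t = (r−1)/i`. Let `m` be even with `2 ≤ m < n/2` and let `r` be a prime dividing the number of nondegenerate `m`-spaces. Then every element of `T` of order `r` fixes a nondegenerate `m`-space if and only if one of: (i) `r = p > 2` and every partition of `n` into parts of size at most `p` in which every odd part has even multiplicity contains (as a sub-multiset) a partition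 of `m` in which every odd part has even multiplicity; (ii) `r = p = 2` and (`n ≡ 2 (mod 4)` or `m ≡ 0 (mod 4)`); (iii) `r = 2 ≠ p`; (iv) `r ≠ p`, `r > 2`, `c ≤ m` and `k ≥ ℓ'`. -/
theorem result {F : Type*} [Field F] [Fintype F] {p : ℕ} [Fact p.Prime] [CharP F p] {q : ℕ} (hq : Fintype.card F = q)
    (d m : ℕ) (hd : 2 ≤ d) (hT : (d, q) ≠ (2, 2)) (hm : 2 ≤ m) (hme : Even m) (hmd : m < d)
    (r : ℕ) [Fact r.Prime]
    (hrΩ : r ∣ Nat.card {W : Submodule F (Fin d ⊕ Fin d → F) // Module.finrank F ↥W = m ∧ (∀ u ∈ W, u ≠ 0 → ∃ v ∈ W, Cfsg.sympForm d F u v ≠ 0)})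
    (i c : ℕ) (hi : i = orderOf (q : ZMod r)) (hc : c = if Even i then i else 2 * i) :
    (∀ x : ↥(Matrix.symplecticGroup (Fin d) F),
      (∃ z : F, ((x ^ r : ↥(Matrix.symplecticGroup (Fin d) F)) : Matrix (Fin d ⊕ Fin d) (Fin d ⊕ Fin d) F) = z • (1 : Matrix (Fin d ⊕ Fin d) (Fin d ⊕ Fin d) F)) →
      (∀ z : F, (x : Matrix (Fin d ⊕ Fin d) (Fin d ⊕ Fin d) F) ≠ z • (1 : Matrix (Fin d ⊕ Fin d) (Fin d ⊕ Fin d) F)) →
      ∃ W : Submodule F (Fin d ⊕ Fin d → F), Module.finrank F ↥W = m ∧ (∀ u ∈ W, u ≠ 0 → ∃ v ∈ W, Cfsg.sympForm d F u v ≠ 0) ∧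
        W.map (Matrix.toLin' (x : Matrix (Fin d ⊕ Fin d) (Fin d ⊕ Fin d) F)) ≤ W) ↔
    ((r = p ∧ 2 < p ∧ (∀ μ : Multiset ℕ, (∀ a ∈ μ, 0 < a ∧ a ≤ p) → (∀ a : ℕ, Odd a → Even (μ.count a)) → μ.sum = 2 * d →
        ∃ ν : Multiset ℕ, ν ≤ μ ∧ ν.sum = m ∧ ∀ a : ℕ, Odd a → Even (ν.count a))) ∨
     (r = p ∧ p = 2 ∧ ((2 * d) % 4 = 2 ∨ m % 4 = 0)) ∨
     (r = 2 ∧ p ≠ 2) ∨
     (r ≠ p ∧ 2 < r ∧ c ≤ m ∧ m % c ≤ (2 * d) % c)) := by
  subst hq
  have hd1 : 1 ≤ d := by omega
  have hrpr : r.Prime := Fact.out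
  have hppr : p.Prime := Fact.out
  have hc' : c = atomDim F r := by
    rw [hc, hi]
    rfl
  subst hi
  by_cases hrp : r = p
  · subst hrp
    by_cases hr2 : r = 2
    · subst hr2
      rw [Cfsg.Agent.Lib.Helper75_SpND_Q3.Q3 d m hd hm hme hmd]
      constructor
      · intro h
        exact Or.inr (Or.inl ⟨rfl, rfl, h⟩)
      · rintro (⟨-, h, -⟩ | ⟨-, -, h⟩ | ⟨-, h⟩ | ⟨h, -⟩)
        · omega
        · exact h
        · exact absurd rfl h
        · exact absurd rfl h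
    · have h2r : 2 < r := lt_of_le_of_ne hrpr.two_le (Ne.symm hr2)
      rw [Cfsg.Agent.Lib.Helper88_SpND_Q4.Q4 d m hd hm hme hmd h2r]
      constructor
      · intro h
        exact Or.inl ⟨rfl, h2r, h⟩
      · rintro (⟨-, -, h⟩ | ⟨-, h, -⟩ | ⟨h, -⟩ | ⟨h, -⟩)
        · exact h
        · exact absurd h hr2
        · exact absurd h hr2
        · exact absurd rfl h
  · by_cases hr2 : r = 2
    · subst hr2
      constructor
      · intro _
        exact Or.inr (Or.inr (Or.inl ⟨rfl, fun h => hrp h.symm⟩))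
      · intro _ x hx _
        exact Q2 d m hd hm hme hmd (fun h => hrp h.symm) x hx
    · have h2r : 2 < r := lt_of_le_of_ne hrpr.two_le (Ne.symm hr2)
      constructor
      · intro hall
        obtain ⟨h1, h2⟩ := nec_nd_odd hd1 hm hme hmd hrpr hr2 hrp hrΩ hall
        refine Or.inr (Or.inr (Or.inr ⟨hrp, h2r, ?_, ?_⟩))
        · rw [hc']; exact h1
        · rw [hc']; exact h2
      · rintro (⟨h, -⟩ | ⟨h, -⟩ | ⟨h, -⟩ | ⟨-, -, -, hk⟩)
        · exact absurd h hrp
        · exact absurd h hrp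
        · exact absurd h hr2
        · intro x ⟨z, hz⟩ _
          exact fix_nd_of_odd hd1 hme (by omega) hrpr hr2 hrp (by rw [← hc']; exact hk) x.1 x.2 z
            (by rw [← hz, SubmonoidClass.coe_pow])

end Cfsg.Agent.S5956
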