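import Cfsg.Statements.S5957
import Cfsg.Agent.Lib.Helper99_Monomial

set_option autoImplicit false
open scoped MatrixGroups
open Cfsg

namespace Cfsg.Agent.S5957

open Cfsg.Agent.Lib.Helper99_Monomial

/-- an endomorphism `X` of `F^n` with `X² = z ≠ 0` permutes the summands of a decomposition of
`F^n` into `t` subspaces of dimension `a`, whenever `n = a t`. -/
theorem exists_decomposition {F : Type*} [Field F] (n a t : ℕ) (hat : n = a * t) (ha : 1 ≤ a)
    (ht : 2 ≤ t) (X : Module.End F (Fin n → F)) (z : F) (hz : z ≠ 0)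
    (hX : ∀ v, X (X v) = z • v) :
    ∃ D : Fin t → Submodule F (Fin n → F), Cfsg.Geo.IsMDecomposition a D ∧
        ∃ σ : Equiv.Perm (Fin t), ∀ j, (D j).map X = D (σ j) := by
  classical
  obtain ⟨ι, hιf, b, τ, c, hbli, hbspan, hτ, hc, hXb⟩ :=
    hasMonomialFamily X z hz hX n ⊤ (by rw [finrank_top, Module.finrank_fin_fun]) (fun _ _ => trivial)
  have hcardι : Fintype.card ι = a * t := by
    have := finrank_span_eq_card hbli
    rw [hbspan, finrank_top, Module.finrank_fin_fun] at this
    rw [← this, hat]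
  obtain ⟨J, hJf, P, σ, hJc, hPc, -, hPd, hPσ⟩ := exists_blocks τ hτ a t Finset.univ
    (fun _ _ => Finset.mem_univ _) (by rw [Finset.card_univ, hcardι])
  have hcover : ∀ i : ι, ∃ j, i ∈ P j := by
    have h1 : (Finset.univ.biUnion P).card = Fintype.card ι := by
      rw [Finset.card_biUnion (fun j _ j' _ hjj' => hPd j j' hjj')]
      simp only [hPc, Finset.sum_const, Finset.card_univ, smul_eq_mul, hJc, hcardι]
      exact mul_comm _ _
    have h2 := Finset.eq_univ_of_card _ h1
    intro i
    have : i ∈ Finset.univ.biUnion P := by rw [h2]; exact Finset.mem_univ i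
    rw [Finset.mem_biUnion] at this
    obtain ⟨j, -, hj⟩ := this
    exact ⟨j, hj⟩
  let e : J ≃ Fin t := Fintype.equivFinOfCardEq hJc
  let D : Fin t → Submodule F (Fin n → F) := fun j =>
    Submodule.span F (b '' (P (e.symm j) : Set ι))
  refine ⟨D, ⟨ht, ha, ?_, ?_, ?_⟩, e.permCongr σ, ?_⟩
  · -- dimensions
    intro j
    have hli : LinearIndependent F (fun i : {i // i ∈ P (e.symm j)} => b i) :=
      hbli.comp _ Subtype.val_injective
    have hrange : Set.range (fun i : {i // i ∈ P (e.symm j)} => b i) =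
        b '' (P (e.symm j) : Set ι) := by
      ext v
      constructor
      · rintro ⟨i, rfl⟩
        exact ⟨i.1, i.2, rfl⟩
      · rintro ⟨i, hi, rfl⟩
        exact ⟨⟨i, hi⟩, rfl⟩
    have := finrank_span_eq_card hli
    rw [hrange, Fintype.card_coe, hPc] at this
    exact this
  · -- independence
    rw [iSupIndep_def]
    intro j
    have hle : (⨆ (k) (_ : k ≠ j), D k) ≤
        Submodule.span F (b '' ((P (e.symm j) : Set ι)ᶜ)) := by
      apply iSup₂_le
      intro k hk
      apply Submodule.span_mono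
      apply Set.image_mono
      intro i hi hij
      have hne : e.symm k ≠ e.symm j := fun h => hk (e.symm.injective h)
      exact Finset.disjoint_left.mp (hPd _ _ hne) hi hij
    exact (hbli.disjoint_span_image disjoint_compl_right).mono_right hle
  · -- spanning
    rw [eq_top_iff, ← hbspan, Submodule.span_le]
    rintro _ ⟨i, rfl⟩
    obtain ⟨j, hj⟩ := hcover i
    apply Submodule.mem_iSup_of_mem (e j)
    apply Submodule.subset_span
    refine ⟨i, ?_, rfl⟩
    rw [Equiv.symm_apply_apply]
    exact hj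
  · -- the permutation
    intro j
    have hσj : P (e.symm (e.permCongr σ j)) = (P (e.symm j)).image τ := by
      rw [Equiv.permCongr_apply, Equiv.symm_apply_apply, hPσ]
    change (Submodule.span F (b '' (P (e.symm j) : Set ι))).map X =
      Submodule.span F (b '' (P (e.symm (e.permCongr σ j)) : Set ι))
    rw [hσj, Submodule.map_span]
    apply le_antisymm
    · rw [Submodule.span_le]
      rintro _ ⟨_, ⟨i, hi, rfl⟩, rfl⟩
      rw [hXb]
      apply Submodule.smul_mem
      apply Submodule.subset_span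
      refine ⟨τ i, ?_, rfl⟩
      rw [Finset.mem_coe, Finset.mem_image]
      exact ⟨i, hi, rfl⟩
    · rw [Submodule.span_le]
      rintro _ ⟨i', hi', rfl⟩
      rw [Finset.mem_coe, Finset.mem_image] at hi'
      obtain ⟨i, hi, rfl⟩ := hi'
      have h1 : b (τ i) = (c i)⁻¹ • X (b i) := by
        rw [hXb, smul_smul, inv_mul_cancel₀ (hc i), one_smul]
      rw [h1]
      apply Submodule.smul_mem
      apply Submodule.subset_span
      exact ⟨b i, ⟨i, hi, rfl⟩, rfl⟩

theorem result {F : Type*} [Field F] [Fintype F] {p : ℕ} [Fact p.Prime] [CharP F p] {q : ℕ} (hq : Fintype.card F = q)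
    (n a t : ℕ) (hn : 2 ≤ n) (hT : (n, q) ≠ (2, 2) ∧ (n, q) ≠ (2, 3)) (hat : n = a * t) (ha : 1 ≤ a) (ht : 2 ≤ t)
    (hΩ : 2 ∣ Nat.card {D : Fin t → Submodule F (Fin n → F) // Cfsg.Geo.IsMDecomposition a D} / Nat.factorial t)
    (x : Matrix.SpecialLinearGroup (Fin n) F)
    (hx1 : ∃ z : F, ((x ^ 2 : Matrix.SpecialLinearGroup (Fin n) F) : Matrix (Fin n) (Fin n) F) = z • (1 : Matrix (Fin n) (Fin n) F))
    (hx2 : ∀ z : F, (x : Matrix (Fin n) (Fin n) F) ≠ z • (1 : Matrix (Fin n) (Fin n) F)) :
    ∃ D : Fin t → Submodule F (Fin n → F), Cfsg.Geo.IsMDecomposition a D ∧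
        ∃ σ : Equiv.Perm (Fin t), ∀ j, (D j).map (Matrix.toLin' (x : Matrix (Fin n) (Fin n) F)) = D (σ j) := by
  obtain ⟨z, hz⟩ := hx1
  have hne : Nonempty (Fin n) := ⟨⟨0, by omega⟩⟩
  have hz0 : z ≠ 0 := by
    rintro rfl
    have h1 := (x ^ 2).det_coe
    rw [hz, zero_smul, Matrix.det_zero] at h1
    exact zero_ne_one h1
  apply exists_decomposition n a t hat ha ht _ z hz0
  intro v
  rw [Matrix.toLin'_apply, Matrix.toLin'_apply, Matrix.mulVec_mulVec, ← pow_two,
    ← Matrix.SpecialLinearGroup.coe_pow, hz, Matrix.smul_mulVec, Matrix.one_mulVec]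

end Cfsg.Agent.S5957
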