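import Cfsg.Statements.S5958
import Cfsg.Agent.Lib.Helper99_InvSub
import Cfsg.Agent.Lib.Helper99_PrimeOrderSL
import Cfsg.Agent.Lib.Helper99_PrimeOrderSL3
import Cfsg.Agent.Lib.Helper99_DecompBasic
import Cfsg.Agent.Lib.Helper99_DecompCount
import Cfsg.Agent.Lib.Helper99_DecompNec
import Cfsg.Agent.Lib.Helper99_DecompSuff

set_option autoImplicit false
open scoped MatrixGroups
open Cfsg

namespace Cfsg.Agent.S5958

open Module Polynomial
open Cfsg.Agent.Lib.Helper99_InvSub
open Cfsg.Agent.Lib.Helper99_PrimeOrderSL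
open Cfsg.Agent.Lib.Helper99_PrimeOrderSL3
open Cfsg.Agent.Lib.Helper99_DecompBasic
open Cfsg.Agent.Lib.Helper99_DecompCount
open Cfsg.Agent.Lib.Helper99_DecompNec
open Cfsg.Agent.Lib.Helper99_DecompSuff

section aux

variable {F : Type*} [Field F]

theorem isMDec_iff {n t a : ℕ} (ht : 2 ≤ t) (ha : 1 ≤ a) (D : Fin t → Submodule F (Fin n → F)) :
    Cfsg.Geo.IsMDecomposition a D ↔ IsDec a D :=
  ⟨fun h => ⟨h.finrank_eq, h.indep, h.iSup_eq_top⟩, fun h => ⟨ht, ha, h.1, h.2.1, h.2.2⟩⟩

variable {V : Type*} [AddCommGroup V] [Module F V] [FiniteDimensional F V]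

/-- a decomposition into invariant subspaces is stabilized (with the trivial permutation). -/
theorem exists_perm_of_invt {T : Module.End F V} (hTinj : Function.Injective T) {t : ℕ}
    {D : Fin t → Submodule F V} (hinv : ∀ j, D j ∈ T.invtSubmodule) :
    ∃ σ : Equiv.Perm (Fin t), ∀ j, (D j).map T = D (σ j) := by
  refine ⟨1, fun j => ?_⟩
  rw [Equiv.Perm.one_apply]
  apply Submodule.eq_of_le_of_finrank_eq
  · exact (Module.End.mem_invtSubmodule_iff_map_le T).1 (hinv j)
  · exact (Submodule.equivMapOfInjective T hTinj _).symm.finrank_eq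

/-- an invariant subspace of dimension less than the block size is fixed pointwise. -/
theorem le_fix_of_invt {T : Module.End F V} (hss : T.IsSemisimple) {E : Submodule F V} {c : ℕ}
    (hc : 1 ≤ c) (H : HasBlocks T E c) (hE : E ∈ T.invtSubmodule) {W : Submodule F V}
    (hW : W ∈ T.invtSubmodule) (hWc : finrank F W < c) : W ≤ E := by
  have h1 := mod_le_finrank_inf hss hc H hE hW
  rw [Nat.mod_eq_of_lt hWc] at h1
  have h2 : W ⊓ E = W := Submodule.eq_of_le_of_finrank_le inf_le_left h1
  rw [← h2]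
  exact inf_le_right

end aux

section finite

variable {F : Type*} [Field F] [Fintype F] {p : ℕ} [Fact p.Prime] [CharP F p]

/-- sufficiency: the arithmetic conditions give a stabilized decomposition for every element
with `x ^ r` scalar. -/
theorem suff (n a t : ℕ) (hat : n = a * t) {r : ℕ} (hr : r.Prime) (hrp : r ≠ p)
    (x : Matrix (Fin n) (Fin n) F) (z : F) (hz : z ≠ 0)
    (hx : x ^ r = z • (1 : Matrix (Fin n) (Fin n) F))
    (hR : (a = 1 ∧ 1 < orderOf ((Fintype.card F : ℕ) : ZMod r) ∧
        orderOf ((Fintype.card F : ℕ) : ZMod r) = r - 1 ∧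
        n ≤ (n % orderOf ((Fintype.card F : ℕ) : ZMod r)) * r) ∨
      (orderOf ((Fintype.card F : ℕ) : ZMod r) ≤ a ∧
        n % orderOf ((Fintype.card F : ℕ) : ZMod r) =
          t * (a % orderOf ((Fintype.card F : ℕ) : ZMod r)))) :
    ∃ D : Fin t → Submodule F (Fin n → F), IsDec a D ∧
      ∃ σ : Equiv.Perm (Fin t), ∀ j, (D j).map (Matrix.toLin' x) = D (σ j) := by
  classical
  set c := orderOf ((Fintype.card F : ℕ) : ZMod r) with hc
  have hfin : finrank F (Fin n → F) = n := Module.finrank_fin_fun F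
  by_cases hpow : ∃ μ : F, μ ^ r = z
  · obtain ⟨μ, rfl⟩ := hpow
    have hμ : μ ≠ 0 := by
      rintro rfl
      rw [zero_pow hr.ne_zero] at hz
      exact hz rfl
    set T : Module.End F (Fin n → F) := μ⁻¹ • Matrix.toLin' x with hT
    have hTr : T ^ r = 1 := smul_pow_eq_one x hμ hx
    have hrF : ((r : ℕ) : F) ≠ 0 := natCast_ne_zero hr hrp
    have hss : T.IsSemisimple := isSemisimple_of_pow_eq_one T r hrF hTr
    have H : HasBlocks T (Module.End.eigenspace T 1) c :=
      hasBlocks_of_pow_eq_one (p := p) T hr hrp hTr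
    have hTinj : Function.Injective T :=
      injective_of_pow_eq_smul hr.pos one_ne_zero (by rw [one_smul]; exact hTr)
    have hmap : ∀ W : Submodule F (Fin n → F), W.map (Matrix.toLin' x) = W.map T := by
      intro W
      rw [hT, Submodule.map_smul _ _ _ (inv_ne_zero hμ)]
    suffices h : ∃ D : Fin t → Submodule F (Fin n → F), IsDec a D ∧
        ∃ σ : Equiv.Perm (Fin t), ∀ j, (D j).map T = D (σ j) by
      obtain ⟨D, hD, σ, hσ⟩ := h
      exact ⟨D, hD, σ, fun j => by rw [hmap, hσ]⟩
    have hc1 : 1 ≤ c :=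
      (Cfsg.Agent.Lib.Helper40_PrimeOrderClasses.exists_cyclotomic_factors (F := F) p r hr hrp).1
    set E := Module.End.eigenspace T 1 with hE
    have hEfix : ∀ v ∈ E, T v = v := by
      intro v hv
      rw [hE, Module.End.mem_eigenspace_iff, one_smul] at hv
      exact hv
    obtain ⟨s, hs⟩ := finrank_eq_add_mul hss hc1 H (invt_of_fix hEfix)
    rw [hfin] at hs
    have hk : n % c ≤ finrank F E := by
      have h1 : n % c = finrank F E % c := by
        conv_lhs => rw [hs]
        exact Nat.add_mul_mod_self_left _ _ _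
      rw [h1]
      exact Nat.mod_le _ _
    rcases hR with ⟨ha1, -, hcr, hlarge⟩ | ⟨-, hmod⟩
    · have htn : t = n := by rw [hat, ha1, one_mul]
      subst htn
      subst ha1
      exact exists_dec_lines hss hr hrF hTr hc1 hcr H hfin
        (hlarge.trans (Nat.mul_le_mul_right r hk))
    · obtain ⟨D, hD1, hD2, hD3⟩ := exists_invt_dec hss hc1 H hEfix (a / c) (a % c) t ⊤
        (Module.End.invtSubmodule.top_mem T)
        (by rw [finrank_top, hfin, Nat.div_add_mod, hat, mul_comm])
        (by rw [top_inf_eq, ← hmod]; exact hk)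
      have hDec : IsDec a D :=
        ⟨fun j => by rw [(hD1 j).2, Nat.div_add_mod], hD2, hD3⟩
      exact ⟨D, hDec, exists_perm_of_invt hTinj (fun j => (hD1 j).1)⟩
  · have hc' : ∀ w : F, w ^ r ≠ z := fun w hw => hpow ⟨w, hw⟩
    set T : Module.End F (Fin n → F) := Matrix.toLin' x with hT
    have hTr : T ^ r = z • (1 : Module.End F (Fin n → F)) := toLin'_pow_eq_smul x hx
    obtain ⟨H, hss⟩ := hasBlocks_of_pow_eq_smul T r hr z hc' hTr
    have hTinj : Function.Injective T := injective_of_pow_eq_smul hr.pos hz hTr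
    obtain ⟨s, hs⟩ := finrank_eq_add_mul hss hr.one_le H (Module.End.invtSubmodule.bot_mem T)
    rw [hfin, finrank_bot, zero_add] at hs
    have hrn : r ∣ a * t := by rw [← hat, hs]; exact dvd_mul_right _ _
    rcases (Nat.Prime.dvd_mul hr).1 hrn with ⟨a', ha'⟩ | ⟨t', ht'⟩
    · obtain ⟨D, hD1, hD2, hD3⟩ := exists_invt_dec hss hr.one_le H (E := ⊥)
        (fun v hv => by rw [(Submodule.mem_bot F).1 hv, map_zero]) a' 0 t ⊤
        (Module.End.invtSubmodule.top_mem T)
        (by rw [finrank_top, hfin, hat, ha', add_zero, mul_comm])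
        (by simp)
      have hDec : IsDec a D :=
        ⟨fun j => by rw [(hD1 j).2, ha', add_zero], hD2, hD3⟩
      exact ⟨D, hDec, exists_perm_of_invt hTinj (fun j => (hD1 j).1)⟩
    · subst ht'
      exact exists_dec_of_blocks hss hr H hz hTr a t' (by rw [hfin, hat])

omit [Fintype F] in
theorem aeval_toLin' {n : ℕ} (y : Matrix (Fin n) (Fin n) F) (Q : F[X]) (h : aeval y Q = 0) :
    aeval (Matrix.toLin' y : Module.End F (Fin n → F)) Q = 0 := by
  have h1 : aeval (Matrix.toLinAlgEquiv' y) Q = Matrix.toLinAlgEquiv' (aeval y Q) :=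
    aeval_algHom_apply (Matrix.toLinAlgEquiv' (R := F) (n := Fin n)).toAlgHom y Q
  rw [h, map_zero] at h1
  exact h1

/-- necessity, when the order of `q` modulo `r` is at least `2`. -/
theorem nec (n a t : ℕ) (hat : n = a * t) (ha : 1 ≤ a) {r : ℕ} (hr : r.Prime)
    (hrp : r ≠ p)
    (hΩ : r ∣ Nat.card (Decs F (Fin n → F) t a) / Nat.factorial t)
    (hc2 : 2 ≤ orderOf ((Fintype.card F : ℕ) : ZMod r))
    (h : ∀ y : Matrix.SpecialLinearGroup (Fin n) F, (y : Matrix (Fin n) (Fin n) F) ^ r = 1 →
      finrank F (Module.End.eigenspace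
        (Matrix.toLin' (y : Matrix (Fin n) (Fin n) F) : Module.End F (Fin n → F)) 1) < n →
      ∃ D : Fin t → Submodule F (Fin n → F), IsDec a D ∧
        ∃ σ : Equiv.Perm (Fin t), ∀ j,
          (D j).map (Matrix.toLin' (y : Matrix (Fin n) (Fin n) F)) = D (σ j)) :
    (a = 1 ∧ 1 < orderOf ((Fintype.card F : ℕ) : ZMod r) ∧
        orderOf ((Fintype.card F : ℕ) : ZMod r) = r - 1 ∧
        n ≤ (n % orderOf ((Fintype.card F : ℕ) : ZMod r)) * r) ∨
      (orderOf ((Fintype.card F : ℕ) : ZMod r) ≤ a ∧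
        n % orderOf ((Fintype.card F : ℕ) : ZMod r) =
          t * (a % orderOf ((Fintype.card F : ℕ) : ZMod r))) := by
  classical
  have hp : p.Prime := Fact.out
  set c := orderOf ((Fintype.card F : ℕ) : ZMod r) with hc
  have hc1 : 1 ≤ c := by omega
  have hfin : finrank F (Fin n → F) = n := Module.finrank_fin_fun F
  have hrF : ((r : ℕ) : F) ≠ 0 := natCast_ne_zero hr hrp
  -- a decomposition exists
  have hD₀ : Nonempty (Decs F (Fin n → F) t a) := by
    have hss1 : (1 : Module.End F (Fin n → F)).IsSemisimple :=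
      isSemisimple_of_pow_eq_one 1 r hrF (one_pow r)
    have H1 : HasBlocks (1 : Module.End F (Fin n → F)) ⊤ 1 := by
      intro Z _ hZ0 hdisj
      exact absurd (eq_bot_iff.2 (hdisj le_rfl le_top)) hZ0
    obtain ⟨D, hD1, hD2, hD3⟩ := exists_invt_dec hss1 le_rfl H1 (fun v _ => rfl) a 0 t ⊤
      (Module.End.invtSubmodule.top_mem _) (by rw [finrank_top, hfin, hat]; ring) (by simp)
    exact ⟨⟨D, fun j => by rw [(hD1 j).2]; ring, hD2, hD3⟩⟩
  obtain ⟨D₀⟩ := hD₀
  have hcn : c ≤ n := orderOf_le_of_dvd n t a ha D₀ hr hrp hΩ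
  have hq0 : ((Fintype.card F : ℕ) : ZMod r) ≠ 0 := by
    rw [Ne, ZMod.natCast_eq_zero_iff]
    intro h
    obtain ⟨k, -, hk⟩ := FiniteField.card F p
    rw [hk] at h
    exact hrp ((Nat.prime_dvd_prime_iff_eq hr hp).1 (hr.dvd_of_dvd_pow h))
  have : Fact r.Prime := ⟨hr⟩
  have hedvd : c ∣ r - 1 := ZMod.orderOf_dvd_card_sub_one hq0
  have hcr1 : c ≤ r - 1 := Nat.le_of_dvd (by have := hr.two_le; omega) hedvd
  -- the extremal element
  obtain ⟨y, hyr, hyfix, g, hgm, hgdeg, hyg⟩ :=
    exists_elt (p := p) n hr hrp hc2 (n / c) (Nat.mul_div_le n c)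
  rw [← hc] at hyfix hgdeg
  set k := n % c with hk
  have hkc : k < c := Nat.mod_lt _ (by omega)
  have hkn : n - c * (n / c) = k := by
    have := Nat.div_add_mod n c
    omega
  rw [hkn] at hyfix
  obtain ⟨D, hD, σ, hσ⟩ := h y hyr (by omega)
  set T : Module.End F (Fin n → F) := Matrix.toLin' (y : Matrix (Fin n) (Fin n) F) with hT
  have hTr : T ^ r = 1 := toLin'_pow_eq_one _ hyr
  have hss : T.IsSemisimple := isSemisimple_of_pow_eq_one T r hrF hTr
  have H : HasBlocks T (Module.End.eigenspace T 1) c :=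
    hasBlocks_of_pow_eq_one (p := p) T hr hrp hTr
  set E := Module.End.eigenspace T 1 with hE
  have hEfix : ∀ v ∈ E, T v = v := by
    intro v hv
    rw [hE, Module.End.mem_eigenspace_iff, one_smul] at hv
    exact hv
  have hEi : E ∈ T.invtSubmodule := invt_of_fix hEfix
  have hne : ∀ j, D j ≠ ⊥ := by
    intro j hj
    have := hD.1 j
    rw [hj, finrank_bot] at this
    omega
  have hσr : σ ^ r = 1 :=
    perm_pow_eq_one hD.2.1 hσ hne (z := 1) one_ne_zero (by rw [one_smul]; exact hTr)
  by_cases hid : ∀ j, σ j = j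
  · right
    have hDi : ∀ j, D j ∈ T.invtSubmodule := by
      intro j
      rw [Module.End.mem_invtSubmodule_iff_map_le, hσ j, hid j]
    have hmodj : ∀ j, a % c ≤ finrank F ↥(D j ⊓ E) := by
      intro j
      have := mod_le_finrank_inf hss hc1 H hEi (hDi j)
      rwa [hD.1 j] at this
    have hsum := sum_finrank_inf_le hD.2.1 E
    have htl : t * (a % c) ≤ k := by
      have h1 : ∑ _j : Fin t, a % c ≤ ∑ j, finrank F ↥(D j ⊓ E) :=
        Finset.sum_le_sum (fun j _ => hmodj j)
      rw [Finset.sum_const, Finset.card_univ, Fintype.card_fin, smul_eq_mul] at h1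
      omega
    have hnmod : n % c = (t * (a % c)) % c := by
      rw [hat, Nat.mul_mod, Nat.mul_mod t, Nat.mod_mod, mul_comm]
    refine ⟨?_, ?_⟩
    · by_contra hca
      rw [not_le] at hca
      have hle : ∀ j, D j ≤ E := fun j =>
        le_fix_of_invt hss hc1 H hEi (hDi j) (by rw [hD.1 j]; exact hca)
      have htop : (⊤ : Submodule F (Fin n → F)) ≤ E := by
        rw [← hD.2.2]
        exact iSup_le hle
      have := Submodule.finrank_mono htop
      rw [finrank_top, hfin] at this
      omega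
    · exact hnmod.trans (Nat.mod_eq_of_lt (by omega))
  · left
    rw [not_forall] at hid
    obtain ⟨j, hj⟩ := hid
    obtain ⟨v, hvD, hv0⟩ := Submodule.exists_mem_ne_zero_of_ne_bot (hne j)
    -- `c = r - 1`
    have hcr : c = r - 1 := by
      by_contra hne'
      have hlt : c + 1 < r := by have := hr.two_le; omega
      have hX1 : ((X : F[X]) - 1) = X - C 1 := by rw [map_one]
      have hX1m : ((X : F[X]) - 1).Monic := by rw [hX1]; exact monic_X_sub_C 1
      have hQm : (((X : F[X]) - 1) * g).Monic := hX1m.mul hgm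
      have hQd : (((X : F[X]) - 1) * g).natDegree = 1 + c := by
        rw [hX1m.natDegree_mul hgm, hgdeg, hX1, natDegree_X_sub_C]
      have hQT : aeval T (((X : F[X]) - 1) * g) = 0 := aeval_toLin' _ _ hyg
      have := eq_zero_of_aeval_eq_zero hD.2.1 hD.2.2 hσ hr hTr hσr hj hvD hv0 _
        (by rw [hQd]; omega) (by rw [hQT]; rfl)
      exact hQm.ne_zero this
    -- `a ≤ k`
    have hak : a ≤ k := by
      have := card_mul_le_finrank_fix hD.2.1 hD.2.2 hσ hr hrF hTr hσr hD.1 {j}
        (by
          intro j1 hj1 j2 hj2 _ _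
          rw [Finset.mem_singleton] at hj1 hj2
          rw [hj1, hj2])
        (by
          intro j1 hj1 hfix
          rw [Finset.mem_singleton] at hj1
          rw [hj1] at hfix
          exact absurd hfix hj)
      rw [Finset.card_singleton, one_mul, hyfix] at this
      exact this
    -- `a = 1`
    have ha1 : a = 1 := by
      obtain ⟨y₁, hy₁r, hy₁fix, -⟩ := exists_elt (p := p) n hr hrp hc2 1 (by rw [← hc]; omega)
      rw [← hc, mul_one] at hy₁fix
      obtain ⟨D', hD', σ', hσ'⟩ := h y₁ hy₁r (by omega)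
      set T₁ : Module.End F (Fin n → F) := Matrix.toLin' (y₁ : Matrix (Fin n) (Fin n) F) with hT₁
      have hT₁r : T₁ ^ r = 1 := toLin'_pow_eq_one _ hy₁r
      have hss₁ : T₁.IsSemisimple := isSemisimple_of_pow_eq_one T₁ r hrF hT₁r
      have H₁ : HasBlocks T₁ (Module.End.eigenspace T₁ 1) c :=
        hasBlocks_of_pow_eq_one (p := p) T₁ hr hrp hT₁r
      set E₁ := Module.End.eigenspace T₁ 1 with hE₁
      have hE₁fix : ∀ v ∈ E₁, T₁ v = v := by
        intro v hv
        rw [hE₁, Module.End.mem_eigenspace_iff, one_smul] at hv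
        exact hv
      have hE₁i : E₁ ∈ T₁.invtSubmodule := invt_of_fix hE₁fix
      have hne' : ∀ j, D' j ≠ ⊥ := by
        intro j hj
        have := hD'.1 j
        rw [hj, finrank_bot] at this
        omega
      have hσ'r : σ' ^ r = 1 :=
        perm_pow_eq_one hD'.2.1 hσ' hne' (z := 1) one_ne_zero (by rw [one_smul]; exact hT₁r)
      by_cases hid' : ∀ j, σ' j = j
      · exfalso
        have hDi : ∀ j, D' j ∈ T₁.invtSubmodule := by
          intro j
          rw [Module.End.mem_invtSubmodule_iff_map_le, hσ' j, hid' j]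
        have hle : ∀ j, D' j ≤ E₁ := fun j =>
          le_fix_of_invt hss₁ hc1 H₁ hE₁i (hDi j) (by rw [hD'.1 j]; omega)
        have htop : (⊤ : Submodule F (Fin n → F)) ≤ E₁ := by
          rw [← hD'.2.2]
          exact iSup_le hle
        have := Submodule.finrank_mono htop
        rw [finrank_top, hfin] at this
        omega
      · rw [not_forall] at hid'
        obtain ⟨j', hj'⟩ := hid'
        have := finrank_add_le_of_moved hD'.2.1 hD'.2.2 hσ' hr hσ'r hD'.1 hj'
        rw [hfin, hy₁fix, ← hcr] at this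
        have h1 : c * a ≤ c * 1 := by omega
        have := Nat.le_of_mul_le_mul_left h1 (by omega)
        omega
    -- `n ≤ k r`
    have hnk : n ≤ k * r := by
      obtain ⟨R, hR1, hR2⟩ := exists_reps hr.pos σ hσr
      have := card_mul_le_finrank_fix hD.2.1 hD.2.2 hσ hr hrF hTr hσr hD.1 R hR1
        (by
          intro j1 _ hfix v hv
          have hDi : D j1 ∈ T.invtSubmodule := by
            rw [Module.End.mem_invtSubmodule_iff_map_le, hσ j1, hfix]
          exact hEfix v (le_fix_of_invt hss hc1 H hEi hDi (by rw [hD.1 j1]; omega) hv))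
      rw [hyfix, ha1, mul_one] at this
      have h1 : R.card * r ≤ k * r := Nat.mul_le_mul_right r this
      have h2 : n = t := by rw [hat, ha1, one_mul]
      omega
    exact ⟨ha1, by omega, hcr, hnk⟩

end finite

/-- Elements of odd prime order of PSL_n(q) and imprimitive subgroups. Here `T = PSL_n(F)` for a field `F` with `q = p^f` elements (`n ≥ 2`, `(n, q) ≠ (2, 2), (2, 3)`), `n = a·t` with `t ≥ 2`, and Ω is the set of direct-sum decompositions of `F^n` into `t` subspaces of dimension `a` (unordered; their number is the number of ordered ones divided by `t!`), whose stabilizers are the imprimitive subgroups of type GL_a(q) ≀ S_t (maximal except in some small cases; maximality is not assumed); an element of `T` of prime order `r` (a matrix `x` of determinant 1 with `x^r` scalar, `x` not scalar) fixes a point of Ω when it permutes the summands of some such decomposition. Let `r ≠ p` be an odd prime dividing the number of such decompositions, let `c` be the multiplicative order of `q`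 modulo `r`, and write `k = n mod c`, `ℓ = a mod c`. Then every element of `T` of order `r` stabilizes such a decomposition if and only if either `a = 1`, `c = r − 1 > 1` and `n ≤ k·r`, or `c ≤ a` and `k = t·ℓ`. -/
theorem result {F : Type*} [Field F] [Fintype F] {p : ℕ} [Fact p.Prime] [CharP F p] {q : ℕ} (hq : Fintype.card F = q)
    (n a t : ℕ) (hn : 2 ≤ n) (hT : (n, q) ≠ (2, 2) ∧ (n, q) ≠ (2, 3)) (hat : n = a * t) (ha : 1 ≤ a) (ht : 2 ≤ t)
    (r : ℕ) [Fact r.Prime] (hr2 : r ≠ 2) (hrp : r ≠ p) (hΩ : r ∣ Nat.card {D : Fin t → Submodule F (Fin n → F) // Cfsg.Geo.IsMDecomposition a D} / Nat.factorial t)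
    (c : ℕ) (hc : c = orderOf (q : ZMod r)) :
    (∀ x : Matrix.SpecialLinearGroup (Fin n) F,
      (∃ z : F, ((x ^ r : Matrix.SpecialLinearGroup (Fin n) F) : Matrix (Fin n) (Fin n) F) = z • (1 : Matrix (Fin n) (Fin n) F)) →
      (∀ z : F, (x : Matrix (Fin n) (Fin n) F) ≠ z • (1 : Matrix (Fin n) (Fin n) F)) →
      ∃ D : Fin t → Submodule F (Fin n → F), Cfsg.Geo.IsMDecomposition a D ∧
        ∃ σ : Equiv.Perm (Fin t), ∀ j, (D j).map (Matrix.toLin' (x : Matrix (Fin n) (Fin n) F)) = D (σ j)) ↔
    ((a = 1 ∧ 1 < c ∧ c = r - 1 ∧ n ≤ (n % c) * r) ∨ (c ≤ a ∧ n % c = t * (a % c))) := by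
  classical
  have hr : r.Prime := Fact.out
  subst hq
  subst hc
  have hfin : finrank F (Fin n → F) = n := Module.finrank_fin_fun F
  constructor
  · intro hL
    have hcpos : 0 < orderOf ((Fintype.card F : ℕ) : ZMod r) :=
      (Cfsg.Agent.Lib.Helper40_PrimeOrderClasses.exists_cyclotomic_factors (F := F) p r hr hrp).1
    by_cases hc1 : orderOf ((Fintype.card F : ℕ) : ZMod r) = 1
    · right
      rw [hc1]
      exact ⟨ha, by simp [Nat.mod_one]⟩
    · have hc2 : 2 ≤ orderOf ((Fintype.card F : ℕ) : ZMod r) := by omega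
      have hΩ' : r ∣ Nat.card (Decs F (Fin n → F) t a) / Nat.factorial t := by
        have e : {D : Fin t → Submodule F (Fin n → F) // Cfsg.Geo.IsMDecomposition a D} ≃
            Decs F (Fin n → F) t a := Equiv.subtypeEquivRight (isMDec_iff ht ha)
        rwa [Nat.card_congr e] at hΩ
      apply nec n a t hat ha hr hrp hΩ' hc2
      intro y hyr hyfix
      have hrq := not_dvd_card_sub_one hc2
      obtain ⟨D, hD, σ, hσ⟩ := hL y
        ⟨1, by rw [Matrix.SpecialLinearGroup.coe_pow, hyr, one_smul]⟩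
        (fun z => not_scalar_of_finrank _ hr hrq hyr (by omega) hyfix z)
      exact ⟨D, (isMDec_iff ht ha D).1 hD, σ, hσ⟩
  · intro hR x hx1 _
    obtain ⟨z, hz⟩ := hx1
    have hz0 : z ≠ 0 := by
      rintro rfl
      have hne : Nonempty (Fin n) := ⟨⟨0, by omega⟩⟩
      have h1 := (x ^ r).det_coe
      rw [hz, zero_smul, Matrix.det_zero] at h1
      exact zero_ne_one h1
    obtain ⟨D, hD, σ, hσ⟩ := suff (p := p) n a t hat hr hrp (x : Matrix (Fin n) (Fin n) F) z hz0
      (by rw [← Matrix.SpecialLinearGroup.coe_pow]; exact hz) hR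
    exact ⟨D, (isMDec_iff ht ha D).2 hD, σ, hσ⟩

end Cfsg.Agent.S5958
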