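import Cfsg.Statements.S5960
import Cfsg.Agent.Lib.Helper99_SympPlanes

set_option autoImplicit false
open scoped MatrixGroups
open Cfsg

namespace Cfsg.Agent.S5960

open Cfsg.Agent.Lib.Helper99_SympPlanes

variable {F : Type*} [Field F]

/-- the standard symplectic form as a bilinear form -/
noncomputable def sympB (m : ℕ) (F : Type*) [Field F] :
    LinearMap.BilinForm F (Fin m ⊕ Fin m → F) :=
  Matrix.toBilin' (Matrix.J (Fin m) F)

lemma sympB_apply (m : ℕ) (u v : Fin m ⊕ Fin m → F) :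
    sympB m F u v = Cfsg.sympForm m F u v := by
  simp [sympB, Cfsg.sympForm, Matrix.toBilin'_apply']

lemma sympB_self (m : ℕ) (u : Fin m ⊕ Fin m → F) : sympB m F u u = 0 := by
  rw [sympB_apply, Cfsg.sympForm, Matrix.J, Matrix.fromBlocks_mulVec]
  simp only [dotProduct, Fintype.sum_sum_type, Sum.elim_inl, Sum.elim_inr]
  simp only [Pi.add_apply, Matrix.zero_mulVec, Matrix.neg_mulVec, Matrix.one_mulVec, Pi.zero_apply,
    Pi.neg_apply, Function.comp_apply, zero_add, add_zero, mul_neg, Finset.sum_neg_distrib]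
  rw [neg_add_eq_zero]
  exact Finset.sum_congr rfl (fun i _ => mul_comm _ _)

lemma sympB_nonDeg (m : ℕ) : NonDeg (sympB m F) ⊤ := by
  have hnd : (sympB m F).Nondegenerate := by
    apply LinearMap.BilinForm.nondegenerate_toBilin'_of_det_ne_zero'
    intro h
    have := Matrix.J_det_mul_J_det (Fin m) F
    rw [h, mul_zero] at this
    exact zero_ne_one this
  intro w _ hw0
  by_contra hcon
  apply hw0
  apply hnd.1 w
  intro y
  by_contra h
  exact hcon ⟨y, trivial, h⟩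

lemma sympB_isometry (m : ℕ) {A : Matrix (Fin m ⊕ Fin m) (Fin m ⊕ Fin m) F}
    (hA : A ∈ Matrix.symplecticGroup (Fin m) F) (u v : Fin m ⊕ Fin m → F) :
    sympB m F (Matrix.toLin' A u) (Matrix.toLin' A v) = sympB m F u v := by
  rw [sympB_apply, sympB_apply, Matrix.toLin'_apply, Matrix.toLin'_apply]
  unfold Cfsg.sympForm
  rw [SymplecticGroup.mem_iff'] at hA
  rw [Matrix.mulVec_mulVec, ← Matrix.vecMul_transpose, Matrix.dotProduct_mulVec,
    Matrix.vecMul_vecMul, ← Matrix.mul_assoc, hA, ← Matrix.dotProduct_mulVec]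

theorem result {F : Type*} [Field F] [Fintype F] {p : ℕ} [Fact p.Prime] [CharP F p] {q : ℕ} (hq : Fintype.card F = q)
    (d : ℕ) (hd : 2 ≤ d) (hT : (d, q) ≠ (2, 2))
    (a t : ℕ) (hat : 2 * d = a * t) (ha : 2 ≤ a) (hae : Even a) (ht : 2 ≤ t) (hΩ : 2 ∣ Nat.card {D : Fin t → Submodule F (Fin d ⊕ Fin d → F) // (Cfsg.Geo.IsMDecomposition a D ∧ (∀ j, ∀ u ∈ D j, u ≠ 0 → ∃ v ∈ D j, Cfsg.sympForm d F u v ≠ 0) ∧
          (∀ j j', j ≠ j' → ∀ u ∈ D j, ∀ v ∈ D j', Cfsg.sympForm d F u v = 0))} / Nat.factorial t)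
    (x : ↥(Matrix.symplecticGroup (Fin d) F))
    (hx1 : ∃ z : F, ((x ^ 2 : ↥(Matrix.symplecticGroup (Fin d) F)) : Matrix (Fin d ⊕ Fin d) (Fin d ⊕ Fin d) F) = z • (1 : Matrix (Fin d ⊕ Fin d) (Fin d ⊕ Fin d) F))
    (hx2 : ∀ z : F, (x : Matrix (Fin d ⊕ Fin d) (Fin d ⊕ Fin d) F) ≠ z • (1 : Matrix (Fin d ⊕ Fin d) (Fin d ⊕ Fin d) F)) :
    ∃ D : Fin t → Submodule F (Fin d ⊕ Fin d → F), (Cfsg.Geo.IsMDecomposition a D ∧ (∀ j, ∀ u ∈ D j, u ≠ 0 → ∃ v ∈ D j, Cfsg.sympForm d F u v ≠ 0) ∧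
          (∀ j j', j ≠ j' → ∀ u ∈ D j, ∀ v ∈ D j', Cfsg.sympForm d F u v = 0)) ∧
        ∃ σ : Equiv.Perm (Fin t), ∀ j, (D j).map (Matrix.toLin' (x : Matrix (Fin d ⊕ Fin d) (Fin d ⊕ Fin d) F)) = D (σ j) := by
  obtain ⟨z, hz⟩ := hx1
  obtain ⟨a', ha'⟩ := hae
  have hXX : ∀ v, Matrix.toLin' (x : Matrix (Fin d ⊕ Fin d) (Fin d ⊕ Fin d) F)
      (Matrix.toLin' (x : Matrix (Fin d ⊕ Fin d) (Fin d ⊕ Fin d) F) v) = z • v := by
    intro v
    rw [Matrix.toLin'_apply, Matrix.toLin'_apply, Matrix.mulVec_mulVec, ← pow_two]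
    have : ((x : Matrix (Fin d ⊕ Fin d) (Fin d ⊕ Fin d) F)) ^ 2 =
        ((x ^ 2 : ↥(Matrix.symplecticGroup (Fin d) F)) : Matrix _ _ F) := rfl
    rw [this, hz, Matrix.smul_mulVec, Matrix.one_mulVec]
  have hz0 : z ≠ 0 := by
    rintro rfl
    have hne : Nonempty (Fin d ⊕ Fin d) := ⟨Sum.inl ⟨0, by omega⟩⟩
    obtain ⟨v, hv⟩ : ∃ v : Fin d ⊕ Fin d → F, v ≠ 0 := ⟨fun _ => 1, fun h => by
      have := congrFun h (Sum.inl ⟨0, by omega⟩)
      simp at this⟩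
    obtain ⟨w, -, hw⟩ := sympB_nonDeg (F := F) d v trivial hv
    have h1 := sympB_isometry d (x ^ 2).2 v w
    have h2 : ∀ y, Matrix.toLin' ((x ^ 2 : ↥(Matrix.symplecticGroup (Fin d) F)) :
        Matrix (Fin d ⊕ Fin d) (Fin d ⊕ Fin d) F) y = 0 := by
      intro y
      rw [hz, zero_smul, Matrix.toLin'_apply, Matrix.zero_mulVec]
    simp only [h2, map_zero] at h1
    exact hw h1.symm
  have hdim : Module.finrank F (Fin d ⊕ Fin d → F) = 2 * a' * t := by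
    rw [Module.finrank_pi, Fintype.card_sum, Fintype.card_fin]
    rw [ha'] at hat
    rw [← two_mul, hat]; ring
  obtain ⟨D, hDdim, hDind, hDtop, hDnd, hDorth, σ, hσ⟩ :=
    exists_orthogonal_decomposition (sympB d F) (sympB_self d) (sympB_nonDeg d)
      (Matrix.toLin' (x : Matrix (Fin d ⊕ Fin d) (Fin d ⊕ Fin d) F)) z hz0 hXX
      (sympB_isometry d x.2) a' t hdim
  refine ⟨D, ⟨⟨ht, by omega, ?_, hDind, hDtop⟩, ?_, ?_⟩, σ, hσ⟩
  · intro j
    rw [hDdim j, ha']; ring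
  · intro j u hu hu0
    obtain ⟨v, hv, huv⟩ := hDnd j u hu hu0
    exact ⟨v, hv, by rwa [sympB_apply] at huv⟩
  · intro j j' hjj' u hu v hv
    rw [← sympB_apply]
    exact hDorth j j' hjj' u hu v hv

end Cfsg.Agent.S5960
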