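import Cfsg.Statements.S5962
import Cfsg.Agent.Lib.Helper99_SympPlanesR
import Cfsg.Agent.S5960

set_option autoImplicit false
open scoped MatrixGroups
open Cfsg

namespace Cfsg.Agent.S5962

open Cfsg.Agent.Lib.Helper99_SympPlanes Cfsg.Agent.Lib.Helper99_SympPlanesR Cfsg.Agent.S5960

theorem result {F : Type*} [Field F] [Fintype F] {p : ℕ} [Fact p.Prime] [CharP F p] {q : ℕ} (hq : Fintype.card F = q)
    (d : ℕ) (hd : 2 ≤ d) (hT : (d, q) ≠ (2, 2)) (hodd : Odd q)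
    (hΩ : 2 ∣ Nat.card {P : Submodule F (Fin d ⊕ Fin d → F) × Submodule F (Fin d ⊕ Fin d → F) // IsCompl P.1 P.2 ∧ (∀ u ∈ P.1, ∀ v ∈ P.1, Cfsg.sympForm d F u v = 0) ∧ (∀ u ∈ P.2, ∀ v ∈ P.2, Cfsg.sympForm d F u v = 0)} / 2)
    (x : ↥(Matrix.symplecticGroup (Fin d) F))
    (hx1 : ∃ z : F, ((x ^ 2 : ↥(Matrix.symplecticGroup (Fin d) F)) : Matrix (Fin d ⊕ Fin d) (Fin d ⊕ Fin d) F) = z • (1 : Matrix (Fin d ⊕ Fin d) (Fin d ⊕ Fin d) F))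
    (hx2 : ∀ z : F, (x : Matrix (Fin d ⊕ Fin d) (Fin d ⊕ Fin d) F) ≠ z • (1 : Matrix (Fin d ⊕ Fin d) (Fin d ⊕ Fin d) F)) :
    ∃ U W : Submodule F (Fin d ⊕ Fin d → F), IsCompl U W ∧ (∀ u ∈ U, ∀ v ∈ U, Cfsg.sympForm d F u v = 0) ∧ (∀ u ∈ W, ∀ v ∈ W, Cfsg.sympForm d F u v = 0) ∧
        ((U.map (Matrix.toLin' (x : Matrix (Fin d ⊕ Fin d) (Fin d ⊕ Fin d) F)) = U ∧ W.map (Matrix.toLin' (x : Matrix (Fin d ⊕ Fin d) (Fin d ⊕ Fin d) F)) = W) ∨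
         (U.map (Matrix.toLin' (x : Matrix (Fin d ⊕ Fin d) (Fin d ⊕ Fin d) F)) = W ∧ W.map (Matrix.toLin' (x : Matrix (Fin d ⊕ Fin d) (Fin d ⊕ Fin d) F)) = U)) := by
  obtain ⟨z, hz⟩ := hx1
  have hXX : ∀ v, Matrix.toLin' (x : Matrix (Fin d ⊕ Fin d) (Fin d ⊕ Fin d) F)
      (Matrix.toLin' (x : Matrix (Fin d ⊕ Fin d) (Fin d ⊕ Fin d) F) v) = z • v := by
    intro v
    rw [Matrix.toLin'_apply, Matrix.toLin'_apply, Matrix.mulVec_mulVec, ← pow_two]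
    have : ((x : Matrix (Fin d ⊕ Fin d) (Fin d ⊕ Fin d) F)) ^ 2 =
        ((x ^ 2 : ↥(Matrix.symplecticGroup (Fin d) F)) : Matrix _ _ F) := rfl
    rw [this, hz, Matrix.smul_mulVec, Matrix.one_mulVec]
  obtain ⟨v, hv⟩ : ∃ v : Fin d ⊕ Fin d → F, v ≠ 0 := ⟨fun _ => 1, fun h => by
    have := congrFun h (Sum.inl ⟨0, by omega⟩)
    simp at this⟩
  have hz0 : z ≠ 0 := by
    rintro rfl
    obtain ⟨w, -, hw⟩ := sympB_nonDeg (F := F) d v trivial hv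
    have h1 := sympB_isometry d (x ^ 2).2 v w
    have h2 : ∀ y, Matrix.toLin' ((x ^ 2 : ↥(Matrix.symplecticGroup (Fin d) F)) :
        Matrix (Fin d ⊕ Fin d) (Fin d ⊕ Fin d) F) y = 0 := by
      intro y
      rw [hz, zero_smul, Matrix.toLin'_apply, Matrix.zero_mulVec]
    simp only [h2, map_zero] at h1
    exact hw h1.symm
  have h2 : (2 : F) ≠ 0 := by
    intro h
    have hchar : ringChar F = 2 := CharP.ringChar_of_prime_eq_zero Nat.prime_two h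
    have := FiniteField.even_card_of_char_two hchar
    rw [hq] at this
    rcases hodd with ⟨c, hc⟩
    omega
  obtain ⟨U, W, hc, hU, hW, hUW⟩ :=
    exists_lagrangian_pair (sympB d F) (sympB_self d) (sympB_nonDeg d) h2
      (Matrix.toLin' (x : Matrix (Fin d ⊕ Fin d) (Fin d ⊕ Fin d) F)) z hz0 hXX
      (sympB_isometry d x.2) ⟨v, hv⟩
  refine ⟨U, W, hc, ?_, ?_, hUW⟩
  · intro u hu v hv
    rw [← sympB_apply]
    exact hU u hu v hv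
  · intro u hu v hv
    rw [← sympB_apply]
    exact hW u hu v hv

end Cfsg.Agent.S5962
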