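import Cfsg.Statements.S5963
import Cfsg.Agent.Lib.Helper99_SpPolar

set_option autoImplicit false
open scoped MatrixGroups
open Cfsg

namespace Cfsg.Agent.S5963

open Cfsg.Agent.Lib.Helper99_SpPolar Cfsg.Agent.Lib.Helper99_SpDerange

/-- `r ∣ q ^ j + 1` with `r` odd forces `ord_r(q)` even and at most `2 j` -/
theorem order_even_of_dvd {q r j : ℕ} (hr : r.Prime) (hr2 : r ≠ 2) (hj : 1 ≤ j)
    (h : r ∣ q ^ j + 1) :
    Even (orderOf ((q : ℕ) : ZMod r)) ∧ orderOf ((q : ℕ) : ZMod r) ≤ 2 * j := by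
  have : Fact r.Prime := ⟨hr⟩
  have h1 : ((q : ℕ) : ZMod r) ^ j = -1 := by
    have := (ZMod.natCast_eq_zero_iff (q ^ j + 1) r).2 h
    push_cast at this
    exact eq_neg_of_add_eq_zero_left this
  have h2 : ((q : ℕ) : ZMod r) ^ (2 * j) = 1 := by
    rw [mul_comm, pow_mul, h1]
    norm_num
  have hne : (-1 : ZMod r) ≠ 1 := by
    intro h3
    have h4 : (2 : ZMod r) = 0 := by
      have : (1 : ZMod r) + 1 = 0 := by nth_rewrite 1 [← h3]; exact neg_add_cancel 1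
      rw [← this]; norm_num
    have h5 : ((2 : ℕ) : ZMod r) = 0 := by exact_mod_cast h4
    rw [ZMod.natCast_eq_zero_iff] at h5
    exact hr2 ((Nat.prime_dvd_prime_iff_eq hr Nat.prime_two).1 h5)
  have hd2 : orderOf ((q : ℕ) : ZMod r) ∣ 2 * j := orderOf_dvd_of_pow_eq_one h2
  have hnd : ¬ orderOf ((q : ℕ) : ZMod r) ∣ j := by
    intro h3
    have := orderOf_dvd_iff_pow_eq_one.1 h3
    rw [h1] at this
    exact hne this
  refine ⟨?_, Nat.le_of_dvd (by omega) hd2⟩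
  by_contra hodd
  rw [Nat.not_even_iff_odd] at hodd
  have hcop : Nat.Coprime (orderOf ((q : ℕ) : ZMod r)) 2 := hodd.coprime_two_right
  exact hnd (hcop.dvd_of_dvd_mul_left hd2)

/-- Derangements of odd prime order of PSp_n(q), q odd, on pairs of complementary totally isotropic subspaces. Here `T = PSp_n(q)`, `n = 2d ≥ 4`, `q` odd, realised through the symplectic matrices over the field `F` with `q` elements; Ω is the set of unordered pairs `{U, W}` of complementary totally isotropic `d`-spaces (`F^n = U ⊕ W`), whose stabilizers are the subgroups of type GL_d(q).2 (maximal except in some small cases; maximality is not assumed); an element of `T` of prime order `r` (a symplectic matrix `x` with `x^r` scalar, `x` not scalar) fixes such a pair when it fixes or interchanges `U` and `W`. For every odd prime `r ≠ p` dividing the number of such pairs, some element of `T` of order `r` fixes no such pair (the action is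 never `r`-elusive for odd `r ≠ p`). -/
theorem result {F : Type*} [Field F] [Fintype F] {p : ℕ} [Fact p.Prime] [CharP F p] {q : ℕ} (hq : Fintype.card F = q)
    (d : ℕ) (hd : 2 ≤ d) (hT : (d, q) ≠ (2, 2)) (hodd : Odd q)
    (r : ℕ) [Fact r.Prime] (hr2 : r ≠ 2) (hrp : r ≠ p) (hΩ : r ∣ Nat.card {P : Submodule F (Fin d ⊕ Fin d → F) × Submodule F (Fin d ⊕ Fin d → F) // IsCompl P.1 P.2 ∧ (∀ u ∈ P.1, ∀ v ∈ P.1, Cfsg.sympForm d F u v = 0) ∧ (∀ u ∈ P.2, ∀ v ∈ P.2, Cfsg.sympForm d F u v = 0)} / 2) :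
    ∃ x : ↥(Matrix.symplecticGroup (Fin d) F),
      (∃ z : F, ((x ^ r : ↥(Matrix.symplecticGroup (Fin d) F)) : Matrix (Fin d ⊕ Fin d) (Fin d ⊕ Fin d) F) = z • (1 : Matrix (Fin d ⊕ Fin d) (Fin d ⊕ Fin d) F)) ∧
      (∀ z : F, (x : Matrix (Fin d ⊕ Fin d) (Fin d ⊕ Fin d) F) ≠ z • (1 : Matrix (Fin d ⊕ Fin d) (Fin d ⊕ Fin d) F)) ∧
      ¬ (∃ U W : Submodule F (Fin d ⊕ Fin d → F), IsCompl U W ∧ (∀ u ∈ U, ∀ v ∈ U, Cfsg.sympForm d F u v = 0) ∧ (∀ u ∈ W, ∀ v ∈ W, Cfsg.sympForm d F u v = 0) ∧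
        ((U.map (Matrix.toLin' (x : Matrix (Fin d ⊕ Fin d) (Fin d ⊕ Fin d) F)) = U ∧ W.map (Matrix.toLin' (x : Matrix (Fin d ⊕ Fin d) (Fin d ⊕ Fin d) F)) = W) ∨
         (U.map (Matrix.toLin' (x : Matrix (Fin d ⊕ Fin d) (Fin d ⊕ Fin d) F)) = W ∧ W.map (Matrix.toLin' (x : Matrix (Fin d ⊕ Fin d) (Fin d ⊕ Fin d) F)) = U))) := by
  classical
  have hr : r.Prime := Fact.out
  have hrq : ¬ r ∣ Fintype.card F := not_dvd_card p hr hrp
  have hq2 : 2 ≤ Fintype.card F := Fintype.one_lt_card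
  -- `r` divides the number of ordered pairs
  have hΩ' : r ∣ Nat.card {P : Submodule F (Fin d ⊕ Fin d → F) × Submodule F (Fin d ⊕ Fin d → F) // IsCompl P.1 P.2 ∧ (∀ u ∈ P.1, ∀ v ∈ P.1, Cfsg.sympForm d F u v = 0) ∧ (∀ u ∈ P.2, ∀ v ∈ P.2, Cfsg.sympForm d F u v = 0)} := by
    obtain ⟨k, hk⟩ := even_card_pairs (F := F) (d := d) (by omega)
    rw [hk] at hΩ ⊢
    have : (k + k) / 2 = k := by omega
    rw [this] at hΩ
    exact Dvd.dvd.mul_right hΩ 2 |> fun h => by rwa [mul_two] at h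
  have hdvd := card_pairs_mul_dvd (F := F) (d := d)
  rw [Cfsg.Agent.Lib.Helper5_SpOrder.card_sp rfl d, Matrix.card_GL_field] at hdvd
  obtain ⟨j, hj1, hjd, hrj⟩ := exists_dvd_pow_add_one hq2 hr hrq hΩ' hdvd
  obtain ⟨hev, hle⟩ := order_even_of_dvd (q := Fintype.card F) hr hr2 hj1 hrj
  obtain ⟨x, hx1, hx2, hx3⟩ := exists_derangement p d (by omega) r hr hr2 hrp hev (by omega)
  exact ⟨x, ⟨1, by rw [hx1, one_smul]⟩, hx2, hx3⟩

end Cfsg.Agent.S5963
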