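import Cfsg.Statements.S5964
import Cfsg.Agent.Lib.Helper43_SubfieldSL2

set_option autoImplicit false
open scoped MatrixGroups
open Cfsg

namespace Cfsg.Agent.S5964

open Cfsg.Agent.Lib.Helper43_SubfieldSL Cfsg.Agent.Lib.Helper43_SubfieldSL2

/-- Involutions of PSL_n(q) and subfield subgroups. Here `T = PSL_n(F)` for a field `F` with `q = p^f` elements (`n ≥ 2`, `(n, q) ≠ (2, 2), (2, 3)`), `F₀` is the subfield with `q₀` elements where `q = q₀^k` for a prime `k`, and `H` is the subgroup of matrices of determinant 1 lying in the subfield group of `F₀` (invertible matrices over `F₀` times scalars) — a maximal subgroup of type GL_n(q₀) (the case `n = 2`, `q₀ = 2` is excluded); Ω is the set of `T`-conjugates of `H` (cosets of `H`), so an element of `T` of prime order `r` (a matrix `x` of determinant 1 with `x^r` scalar, `x` not scalar) fixes a point of Ω when some conjugate of `x` by a matrix of determinant 1 lies in `H`. Suppose the index of `H` is even. Then every involution of `T` is conjugate in `T` into `H` if and only if either `q` is even, or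 `k = 2` and `(n)_2 ≤ (q − 1)_2`. (For `q` odd and `k` odd the index of `H` is odd, so that case does not arise.) -/
theorem result {F : Type*} [Field F] [Fintype F] {p : ℕ} [Fact p.Prime] [CharP F p] {q : ℕ} (hq : Fintype.card F = q)
    (n : ℕ) (hn : 2 ≤ n) (hT : (n, q) ≠ (2, 2) ∧ (n, q) ≠ (2, 3))
    (F₀ : Subfield F) (k q₀ : ℕ) (hk : k.Prime) (hF₀ : Nat.card ↥F₀ = q₀) (hqk : q = q₀ ^ k) (hC5 : ¬ (n = 2 ∧ q₀ = 2)) (hΩ : 2 ∣ ((Cfsg.Geo.subfieldSubgroup F₀ 1).comap (Matrix.SpecialLinearGroup.toGL : Matrix.SpecialLinearGroup (Fin n) F →* GL (Fin n) F)).index) :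
    (∀ x : Matrix.SpecialLinearGroup (Fin n) F,
      (∃ z : F, ((x ^ 2 : Matrix.SpecialLinearGroup (Fin n) F) : Matrix (Fin n) (Fin n) F) = z • (1 : Matrix (Fin n) (Fin n) F)) →
      (∀ z : F, (x : Matrix (Fin n) (Fin n) F) ≠ z • (1 : Matrix (Fin n) (Fin n) F)) →
      ∃ P : Matrix.SpecialLinearGroup (Fin n) F, P⁻¹ * x * P ∈ ((Cfsg.Geo.subfieldSubgroup F₀ 1).comap (Matrix.SpecialLinearGroup.toGL : Matrix.SpecialLinearGroup (Fin n) F →* GL (Fin n) F))) ↔
    (Odd q → (k = 2 ∧ padicValNat 2 n ≤ padicValNat 2 (q - 1))) := by
  classical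
  have : Fintype F₀ := Fintype.ofFinite _
  have hcard₀ : Fintype.card F₀ = q₀ := by
    rw [← Nat.card_eq_fintype_card]
    exact hF₀
  have hcard : Fintype.card F = Fintype.card F₀ ^ k := by
    rw [hq, hqk, hcard₀]
  have hpp : p.Prime := Fact.out
  by_cases hp2 : p = 2
  · subst hp2
    have hqeven : ¬ Odd q := by
      rw [← hq, Nat.not_odd_iff_even, Nat.even_iff]
      exact FiniteField.even_card_of_char_two (ringChar.eq F 2)
    constructor
    · intro _ hodd
      exact absurd hodd hqeven
    · intro _ x hx _
      obtain ⟨z, hz⟩ := hx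
      exact exists_conj_char_two n (by omega) F₀ x z hz
  · have h2 : (2 : F) ≠ 0 := by
      intro h
      have h1 : ((2 : ℕ) : F) = 0 := by exact_mod_cast h
      rw [CharP.cast_eq_zero_iff F p] at h1
      exact hp2 ((Nat.prime_dvd_prime_iff_eq hpp Nat.prime_two).1 h1)
    have hchar := ringChar_ne_two_of_two_ne_zero h2
    have hqodd' := FiniteField.odd_card_of_char_ne_two hchar
    have hqodd : Odd q := by
      rw [← hq]
      exact Nat.odd_iff.2 hqodd'
    by_cases hk2 : k = 2
    · subst hk2
      have hsq := isSquare_of_card_sq F₀ h2 hcard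
      have hneg1 : IsSquare (-1 : F) := by
        have := hsq (-1)
        simpa using this
      obtain ⟨ι', hι'⟩ := hneg1
      constructor
      · intro hall _
        refine ⟨rfl, ?_⟩
        by_contra hlt
        push Not at hlt
        have h2n : 2 ∣ n := dvd_of_one_le_padicValNat (by omega)
        obtain ⟨j, hj⟩ := h2n
        have hj0 : j ≠ 0 := by
          rintro rfl
          omega
        have hvn : padicValNat 2 n = 1 + padicValNat 2 j := by
          rw [hj, padicValNat.mul (by norm_num) hj0]
          simp
        obtain ⟨w, hwj, hwns⟩ := exists_nonsquare_pow_eq_one h2 j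
          (by rw [hq]; omega) hj0
        have hzns : ¬ IsSquare (-w) := by
          rintro ⟨r, hr⟩
          apply hwns
          refine ⟨ι' * r, ?_⟩
          have : w = -1 * (-w) := by ring
          rw [this, hι', hr]
          ring
        obtain ⟨x, hx2, hxx, hxns⟩ := exists_elt_sq_eq (n := n) j (by omega) (by omega) (-w)
          (by rw [neg_neg]; exact hwj)
        obtain ⟨P, hP⟩ := hall x ⟨-w, hx2⟩ hxns
        exact not_conj_of_nonsquare F₀ hsq (by omega) x (-w) hzns hxx P hP
      · intro hRHS x hx _
        obtain ⟨z, hz⟩ := hx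
        obtain ⟨-, hv⟩ := hRHS hqodd
        have hxx : (x : Matrix (Fin n) (Fin n) F) * (x : Matrix (Fin n) (Fin n) F) = z • 1 := by
          rw [← pow_two, ← Matrix.SpecialLinearGroup.coe_pow, hz]
        have hz0 : z ≠ 0 := by
          rintro rfl
          have h1 := congrArg Matrix.det hxx
          have hne : Nonempty (Fin n) := ⟨⟨0, by omega⟩⟩
          rw [Matrix.det_mul, x.2, zero_smul, Matrix.det_zero] at h1
          simp at h1
        by_cases hzsq : IsSquare z
        · obtain ⟨μ, hμ⟩ := hzsq
          have hμ0 : μ ≠ 0 := by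
            rintro rfl
            exact hz0 (by rw [hμ, mul_zero])
          rw [hμ] at hxx
          exact exists_conj_of_sq h2 (by omega) F₀ x μ hμ0 hxx
        · exfalso
          obtain ⟨j, hnj, hdet⟩ := det_of_sq_nonsquare (x : Matrix (Fin n) (Fin n) F) z hxx hzsq
          rw [x.2] at hdet
          have hj0 : j ≠ 0 := by
            rintro rfl
            omega
          have hM0 : Fintype.card F / 2 ≠ 0 := by
            have := Fintype.one_lt_card (α := F)
            omega
          have h2M : 2 * (Fintype.card F / 2) = q - 1 := by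
            rw [← hq]
            omega
          have hnz0 : -z ≠ 0 := neg_ne_zero.2 hz0
          have h5 := pow_half_eq_one h2 (-z) j (Fintype.card F / 2) hj0 hM0 hdet.symm
            (by rw [h2M, ← hq]; exact FiniteField.pow_card_sub_one_eq_one _ hnz0)
            (by rw [h2M, ← hnj]; exact hv)
          obtain ⟨r, hr⟩ := (FiniteField.isSquare_iff hchar hnz0).2 h5
          apply hzsq
          refine ⟨ι' * r, ?_⟩
          have : z = -1 * (-z) := by ring
          rw [this, hι', hr]
          ring
    · have hkodd : Odd k := hk.odd_of_ne_two hk2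
      exact absurd hΩ (odd_index_of_odd h2 n (by omega) F₀ k hkodd hcard)

end Cfsg.Agent.S5964
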