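import Cfsg.Statements.S5965
import Cfsg.Agent.Lib.Helper68_SubfIdx
import Cfsg.Agent.Lib.Helper68_SubfDer
import Cfsg.Agent.Lib.Helper68_SubfSuff

set_option autoImplicit false
open scoped MatrixGroups
open Cfsg

namespace Cfsg.Agent.S5965

open Cfsg.Agent.Lib.Helper68_SubfIdx Cfsg.Agent.Lib.Helper68_SubfDer
  Cfsg.Agent.Lib.Helper68_SubfSuff Cfsg.Agent.Lib.Helper68_SubfCrit

theorem cast_pow_eq_one_iff (r a j : ℕ) (ha : 1 ≤ a) :
    ((a : ZMod r)) ^ j = 1 ↔ r ∣ a ^ j - 1 := by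
  rw [← ZMod.natCast_eq_zero_iff, Nat.cast_sub (Nat.one_le_pow _ _ ha), Nat.cast_pow, Nat.cast_one,
    sub_eq_zero]

/-- derangements in the case `r ∣ q - 1`, `r ∤ q₀ - 1`, `k` odd -/
theorem der_k_odd {F : Type*} [Field F] [Fintype F] {p : ℕ} [Fact p.Prime] [CharP F p]
    (F₀ : Subfield F) (n k r : ℕ) (hn : 2 ≤ n) (hr : r.Prime) (hr2 : r ≠ 2) (hrp : r ≠ p)
    (hkodd : Odd k)
    (hqk : Fintype.card F = Nat.card F₀ ^ k)
    (hrq : r ∣ Fintype.card F - 1) (hnrq₀ : ¬ r ∣ Nat.card F₀ - 1) :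
    ∃ x : Matrix.SpecialLinearGroup (Fin n) F,
      (x : Matrix (Fin n) (Fin n) F) ^ r = 1 ∧
      (∀ z : F, (x : Matrix (Fin n) (Fin n) F) ≠ z • (1 : Matrix (Fin n) (Fin n) F)) ∧
      ∀ P : Matrix.SpecialLinearGroup (Fin n) F, P⁻¹ * x * P ∉
        ((Cfsg.Geo.subfieldSubgroup F₀ 1).comap
          (Matrix.SpecialLinearGroup.toGL : Matrix.SpecialLinearGroup (Fin n) F →* GL (Fin n) F)) := by
  classical
  have hp : p.Prime := Fact.out
  set q₀ := Nat.card F₀ with hq₀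
  have hq₀pos : 1 ≤ q₀ := Nat.card_pos
  obtain ⟨ω, hω⟩ := exists_primitiveRoot_of_dvd r hrq
  have hω0 : ω ≠ 0 := hω.ne_zero hr.ne_zero
  have hω1 : ω ≠ 1 := hω.ne_one hr.one_lt
  have hωr : ω ^ r = 1 := hω.pow_eq_one
  have hodd : Odd r := hr.odd_of_ne_two hr2
  -- `r ∤ q₀`
  have hnrq : ¬ r ∣ q₀ := by
    intro h
    obtain ⟨e, -, he⟩ := exists_card_eq_pow p F₀
    rw [hq₀, he] at h
    exact hrp ((Nat.prime_dvd_prime_iff_eq hr hp).1 (hr.dvd_of_dvd_pow h))
  -- `r ∤ q₀ + 1`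
  have hnrq₁ : ¬ r ∣ q₀ + 1 := by
    intro h
    have h1 : q₀ + 1 ∣ q₀ ^ k + 1 ^ k := hkodd.nat_add_dvd_pow_add_pow q₀ 1
    rw [one_pow, ← hqk] at h1
    have h2 : r ∣ Fintype.card F + 1 := h.trans h1
    have h3 : r ∣ (Fintype.card F + 1) - (Fintype.card F - 1) := Nat.dvd_sub h2 hrq
    have hq1 : 1 ≤ Fintype.card F := Fintype.card_pos
    have h4 : (Fintype.card F + 1) - (Fintype.card F - 1) = 2 := by omega
    rw [h4] at h3
    exact hr2 ((Nat.prime_dvd_prime_iff_eq hr Nat.prime_two).1 h3)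
  have hωq1 : ω ^ q₀ ≠ 1 := fun h => hnrq ((hω.pow_eq_one_iff_dvd _).1 h)
  have hωqω : ω ^ q₀ ≠ ω := by
    intro h
    apply hnrq₀
    rw [← hω.pow_eq_one_iff_dvd]
    have h1 : ω ^ q₀ = ω ^ (q₀ - 1) * ω := by
      rw [← pow_succ]; congr 1; omega
    rw [h1] at h
    exact mul_right_cancel₀ hω0 (by rw [h, one_mul])
  have hωqi : ω ^ q₀ ≠ ω⁻¹ := by
    intro h
    apply hnrq₁
    rw [← hω.pow_eq_one_iff_dvd, pow_succ, h, inv_mul_cancel₀ hω0]
  have hωinv : ω⁻¹ ≠ ω := by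
    intro h
    have h1 : ω ^ 2 = 1 := by
      rw [sq]
      nth_rewrite 1 [← h]
      exact inv_mul_cancel₀ hω0
    have h2 := (hω.pow_eq_one_iff_dvd _).1 h1
    exact hr2 ((Nat.prime_dvd_prime_iff_eq hr Nat.prime_two).1 h2)
  -- `r ≠ 3`
  have hr3 : r ≠ 3 := by
    rintro rfl
    have : 3 ∣ q₀ - 1 ∨ 3 ∣ q₀ ∨ 3 ∣ q₀ + 1 := by omega
    rcases this with h | h | h
    · exact hnrq₀ h
    · exact hnrq h
    · exact hnrq₁ h
  have hr5 : 5 ≤ r := by
    have h2 := hr.two_le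
    rcases hodd with ⟨m, hm⟩
    omega
  set M₀ : Multiset F := ω ::ₘ {ω⁻¹} with hM₀
  refine exists_der_small p F₀ n r hr ω M₀ 2 ?_ ?_ ?_ ?_ ?_ hωq1 ?_ hn ?_ ?_
  · rw [hM₀]; simp
  · intro a ha
    rw [hM₀, Multiset.mem_cons, Multiset.mem_singleton] at ha
    rcases ha with rfl | rfl
    · exact hωr
    · rw [inv_pow, hωr, inv_one]
  · intro a ha
    rw [hM₀, Multiset.mem_cons, Multiset.mem_singleton] at ha
    rcases ha with rfl | rfl
    · exact hω1
    · intro h; exact hω1 (inv_eq_one.1 h)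
  · rw [hM₀]; exact Multiset.mem_cons_self _ _
  · intro h
    rw [hM₀, Multiset.mem_cons, Multiset.mem_singleton] at h
    rcases h with h | h
    · exact hωqω h
    · exact hωqi h
  · rw [hM₀, Multiset.prod_cons, Multiset.prod_singleton, mul_inv_cancel₀ hω0]
  · by_cases hrn : r ∣ n
    · right
      have := Nat.le_of_dvd (by omega) hrn
      omega
    · left; exact hrn
  · refine ⟨ω, ?_, ω⁻¹, ?_, hωinv.symm⟩
    · rw [Multiset.mem_add]; left; rw [hM₀]; exact Multiset.mem_cons_self _ _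
    · rw [Multiset.mem_add]; left; rw [hM₀]
      exact Multiset.mem_cons_of_mem (Multiset.mem_singleton_self _)

/-- derangements in the case `k = 2`, `r ∣ q₀ + 1`, outside the exceptional case -/
theorem der_k_two {F : Type*} [Field F] [Fintype F] {p : ℕ} [Fact p.Prime] [CharP F p]
    (F₀ : Subfield F) (n r : ℕ) (hn : 3 ≤ n) (hr : r.Prime) (hr2 : r ≠ 2) (hrp : r ≠ p)
    (hqk : Fintype.card F = Nat.card F₀ ^ 2)
    (hrq₁ : r ∣ Nat.card F₀ + 1)
    (hgap : ¬ (n = 6 ∧ r = 3))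
    (hex : ¬ (r = n ∧ (n = 3 ∨ n = 5) ∧ padicValNat r (Nat.card F₀ + 1) = 1)) :
    ∃ x : Matrix.SpecialLinearGroup (Fin n) F,
      (∃ z : F, (x : Matrix (Fin n) (Fin n) F) ^ r = z • (1 : Matrix (Fin n) (Fin n) F)) ∧
      (∀ z : F, (x : Matrix (Fin n) (Fin n) F) ≠ z • (1 : Matrix (Fin n) (Fin n) F)) ∧
      ∀ P : Matrix.SpecialLinearGroup (Fin n) F, P⁻¹ * x * P ∉
        ((Cfsg.Geo.subfieldSubgroup F₀ 1).comap
          (Matrix.SpecialLinearGroup.toGL : Matrix.SpecialLinearGroup (Fin n) F →* GL (Fin n) F)) := by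
  classical
  have hp : p.Prime := Fact.out
  have : Fact r.Prime := ⟨hr⟩
  set q₀ := Nat.card F₀ with hq₀
  have hq₀pos : 1 ≤ q₀ := Nat.card_pos
  have hodd : Odd r := hr.odd_of_ne_two hr2
  have hr3 : 3 ≤ r := by
    have h2 := hr.two_le
    rcases hodd with ⟨m, hm⟩
    omega
  -- `q - 1 = (q₀ - 1) (q₀ + 1)`
  have hfac : Fintype.card F - 1 = (q₀ - 1) * (q₀ + 1) := by
    rw [hqk]
    obtain ⟨m, hm⟩ : ∃ m, q₀ = m + 1 := ⟨q₀ - 1, by omega⟩
    rw [hm]
    have : (m + 1) ^ 2 - 1 = (m + 1 - 1) * (m + 1 + 1) := by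
      have h1 : (m + 1) ^ 2 = m * (m + 2) + 1 := by ring
      rw [h1]; simp
    exact this
  have hrq : r ∣ Fintype.card F - 1 := by
    rw [hfac]; exact Dvd.dvd.mul_left hrq₁ _
  by_cases hcase : r = n ∧ (n = 3 ∨ n = 5)
  · -- `r = n ∈ {3, 5}` and `r ^ 2 ∣ q₀ + 1`
    obtain ⟨hrn, hn35⟩ := hcase
    subst hrn
    have hval : padicValNat r (q₀ + 1) ≠ 1 := fun h => hex ⟨rfl, hn35, h⟩
    have hval1 : 1 ≤ padicValNat r (q₀ + 1) :=
      one_le_padicValNat_of_dvd (by omega) hrq₁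
    have hval2 : 2 ≤ padicValNat r (q₀ + 1) := by omega
    have hrr : r ^ 2 ∣ q₀ + 1 := (padicValNat_dvd_iff_le (by omega)).2 hval2
    have hrrq : r * r ∣ Fintype.card F - 1 := by
      rw [hfac, ← sq]; exact Dvd.dvd.mul_left hrr _
    obtain ⟨η, hη⟩ := exists_primitiveRoot_of_dvd (r * r) hrrq
    have hrrpos : r * r ≠ 0 := Nat.mul_ne_zero hr.ne_zero hr.ne_zero
    have hη0 : η ≠ 0 := hη.ne_zero hrrpos
    have hηq1 : η ^ (q₀ + 1) = 1 := by
      rw [hη.pow_eq_one_iff_dvd, ← sq]; exact hrr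
    have hηq : η ^ q₀ = η⁻¹ := by
      rw [pow_succ] at hηq1
      exact eq_inv_of_mul_eq_one_left hηq1
    have hηr : η ^ r ≠ 1 := by
      intro h
      have h1 := (hη.pow_eq_one_iff_dvd _).1 h
      have h2 := Nat.le_of_dvd hr.pos h1
      have h3 : r * 2 ≤ r * r := Nat.mul_le_mul_left _ hr.two_le
      have := hr.pos
      nlinarith
    have hηrr : (η ^ r) ^ r = 1 := by
      rw [← pow_mul]; exact hη.pow_eq_one
    obtain ⟨x, hx1, hx2, hx3⟩ := exists_der_sq p F₀ r hr3 hodd η hη0 hηq hηr hηrr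
    exact ⟨x, ⟨η ^ r, hx1⟩, hx2, hx3⟩
  · obtain ⟨ω, hω⟩ := exists_primitiveRoot_of_dvd r hrq
    have hω0 : ω ≠ 0 := hω.ne_zero hr.ne_zero
    have hω1 : ω ≠ 1 := hω.ne_one hr.one_lt
    have hωr : ω ^ r = 1 := hω.pow_eq_one
    have hωq1' : ω ^ (q₀ + 1) = 1 := by
      rw [hω.pow_eq_one_iff_dvd]; exact hrq₁
    have hωq : ω ^ q₀ = ω⁻¹ := by
      rw [pow_succ] at hωq1'
      exact eq_inv_of_mul_eq_one_left hωq1'
    have hωinv : ω⁻¹ ≠ ω := by
      intro h
      have h1 : ω ^ 2 = 1 := by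
        rw [sq]
        nth_rewrite 1 [← h]
        exact inv_mul_cancel₀ hω0
      have h2 := (hω.pow_eq_one_iff_dvd _).1 h1
      exact hr2 ((Nat.prime_dvd_prime_iff_eq hr Nat.prime_two).1 h2)
    have hωinv1 : ω⁻¹ ≠ 1 := fun h => hω1 (inv_eq_one.1 h)
    have hωq1 : ω ^ q₀ ≠ 1 := by rw [hωq]; exact hωinv1
    by_cases hr3' : r = 3
    · -- `r = 3`, `n ≥ 4`, `n ≠ 6`
      subst hr3'
      have hn3 : n ≠ 3 := fun h => hcase ⟨h.symm, Or.inl h⟩
      have hn6 : n ≠ 6 := fun h => hgap ⟨h, rfl⟩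
      set M₀ : Multiset F := ω ::ₘ ω ::ₘ {ω} with hM₀
      have hmem : ∀ a ∈ M₀, a = ω := by
        intro a ha
        rw [hM₀, Multiset.mem_cons, Multiset.mem_cons, Multiset.mem_singleton] at ha
        rcases ha with rfl | rfl | rfl <;> rfl
      obtain ⟨x, hx1, hx2, hx3⟩ := exists_der_small p F₀ n 3 hr ω M₀ 3 (by rw [hM₀]; simp)
        (fun a ha => by rw [hmem a ha]; exact hωr)
        (fun a ha => by rw [hmem a ha]; exact hω1)
        (by rw [hM₀]; exact Multiset.mem_cons_self _ _)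
        (fun h => hωinv (by rw [← hωq]; exact hmem _ h))
        hωq1
        (by rw [hM₀, Multiset.prod_cons, Multiset.prod_cons, Multiset.prod_singleton, ← hωr]; ring)
        (by omega)
        (by omega)
        ⟨ω, by rw [Multiset.mem_add]; left; rw [hM₀]; exact Multiset.mem_cons_self _ _,
          1, by rw [Multiset.mem_add]; right; rw [Multiset.mem_replicate]; exact ⟨by omega, rfl⟩,
          hω1⟩
      exact ⟨x, ⟨1, by rw [hx1, one_smul]⟩, hx2, hx3⟩
    · -- `r ≥ 5`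
      have hr5 : 5 ≤ r := by
        rcases hodd with ⟨m, hm⟩
        omega
      have hω3 : ω ^ 3 ≠ 1 := by
        intro h
        have h1 := (hω.pow_eq_one_iff_dvd _).1 h
        have := Nat.le_of_dvd (by norm_num) h1
        omega
      set M₀ : Multiset F := ω ::ₘ ω ::ₘ {ω⁻¹ * ω⁻¹} with hM₀
      have hmem : ∀ a ∈ M₀, a = ω ∨ a = ω⁻¹ * ω⁻¹ := by
        intro a ha
        rw [hM₀, Multiset.mem_cons, Multiset.mem_cons, Multiset.mem_singleton] at ha
        rcases ha with rfl | rfl | rfl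
        · left; rfl
        · left; rfl
        · right; rfl
      have hne2 : ω⁻¹ * ω⁻¹ ≠ 1 := by
        intro h
        have h1 : ω ^ 2 = 1 := by
          have : ω ^ 2 * (ω⁻¹ * ω⁻¹) = 1 := by
            field_simp
          rw [h, mul_one] at this
          exact this
        have h2 := (hω.pow_eq_one_iff_dvd _).1 h1
        exact hr2 ((Nat.prime_dvd_prime_iff_eq hr Nat.prime_two).1 h2)
      have hne3 : ω ≠ ω⁻¹ * ω⁻¹ := by
        intro h
        apply hω3
        have h1 : ω * ω ^ 2 = (ω⁻¹ * ω⁻¹) * ω ^ 2 := by rw [← h]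
        have h2 : (ω⁻¹ * ω⁻¹) * ω ^ 2 = 1 := by field_simp
        calc ω ^ 3 = ω * ω ^ 2 := by ring
          _ = (ω⁻¹ * ω⁻¹) * ω ^ 2 := h1
          _ = 1 := h2
      have hne4 : ω⁻¹ ≠ ω⁻¹ * ω⁻¹ := by
        intro h
        apply hωinv1
        have h1 : ω⁻¹ * 1 = ω⁻¹ * ω⁻¹ := by rw [mul_one]; exact h
        exact (mul_left_cancel₀ (inv_ne_zero hω0) h1).symm
      have hcase' : ¬ r ∣ n ∨ 2 * 3 + 1 ≤ n := by
        by_cases hrn : r ∣ n
        · right
          have h1 := Nat.le_of_dvd (by omega) hrn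
          by_contra hlt
          have hn56 : n = 5 ∨ n = 6 := by omega
          rcases hn56 with h5 | h6
          · have : r = 5 := by omega
            exact hcase ⟨by omega, Or.inr h5⟩
          · subst h6
            have h56 : r = 5 ∨ r = 6 := by omega
            rcases h56 with h | h
            · subst h; omega
            · subst h; exact absurd hr (by decide)
        · left; exact hrn
      obtain ⟨x, hx1, hx2, hx3⟩ := exists_der_small p F₀ n r hr ω M₀ 3 (by rw [hM₀]; simp)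
        (fun a ha => by
          rcases hmem a ha with rfl | rfl
          · exact hωr
          · rw [mul_pow, inv_pow, hωr, inv_one, one_mul])
        (fun a ha => by
          rcases hmem a ha with rfl | rfl
          · exact hω1
          · exact hne2)
        (by rw [hM₀]; exact Multiset.mem_cons_self _ _)
        (fun h => by
          rw [hωq] at h
          rcases hmem _ h with h | h
          · exact hωinv h
          · exact hne4 h)
        hωq1
        (by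
          rw [hM₀, Multiset.prod_cons, Multiset.prod_cons, Multiset.prod_singleton]
          field_simp)
        (by omega)
        hcase'
        ⟨ω, by rw [Multiset.mem_add]; left; rw [hM₀]; exact Multiset.mem_cons_self _ _,
          ω⁻¹ * ω⁻¹, by
            rw [Multiset.mem_add]; left; rw [hM₀]
            exact Multiset.mem_cons_of_mem (Multiset.mem_cons_of_mem (Multiset.mem_singleton_self _)),
          hne3⟩
      exact ⟨x, ⟨1, by rw [hx1, one_smul]⟩, hx2, hx3⟩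

theorem result {F : Type*} [Field F] [Fintype F] {p : ℕ} [Fact p.Prime] [CharP F p] {q : ℕ} (hq : Fintype.card F = q)
    (n : ℕ) (hn : 2 ≤ n) (hT : (n, q) ≠ (2, 2) ∧ (n, q) ≠ (2, 3))
    (F₀ : Subfield F) (k q₀ : ℕ) (hk : k.Prime) (hF₀ : Nat.card ↥F₀ = q₀) (hqk : q = q₀ ^ k) (hC5 : ¬ (n = 2 ∧ q₀ = 2)) (r : ℕ) [Fact r.Prime] (hr2 : r ≠ 2) (hrp : r ≠ p) (hgap : ¬ (n = 6 ∧ r = 3)) (hgapk : r = k → r ∣ q₀ - 1 → padicValNat r n ≤ padicValNat r (q - 1)) (hΩ : r ∣ ((Cfsg.Geo.subfieldSubgroup F₀ 1).comap (Matrix.SpecialLinearGroup.toGL : Matrix.SpecialLinearGroup (Fin n) F →* GL (Fin n) F)).index) :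
    (∀ x : Matrix.SpecialLinearGroup (Fin n) F,
      (∃ z : F, ((x ^ r : Matrix.SpecialLinearGroup (Fin n) F) : Matrix (Fin n) (Fin n) F) = z • (1 : Matrix (Fin n) (Fin n) F)) →
      (∀ z : F, (x : Matrix (Fin n) (Fin n) F) ≠ z • (1 : Matrix (Fin n) (Fin n) F)) →
      ∃ P : Matrix.SpecialLinearGroup (Fin n) F, P⁻¹ * x * P ∈ ((Cfsg.Geo.subfieldSubgroup F₀ 1).comap (Matrix.SpecialLinearGroup.toGL : Matrix.SpecialLinearGroup (Fin n) F →* GL (Fin n) F))) ↔
    (r = k ∨ (k = 2 ∧ r = n ∧ (n = 3 ∨ n = 5) ∧ padicValNat r (q₀ + 1) = 1)) := by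
  classical
  have hp : p.Prime := Fact.out
  have hr : r.Prime := Fact.out
  subst hq
  subst hF₀
  have hq₀pos : 1 ≤ Nat.card F₀ := Nat.card_pos
  have hqpos : 1 ≤ Fintype.card F := Fintype.card_pos
  constructor
  · intro hall
    by_contra hcon
    push Not at hcon
    obtain ⟨hrk, hB⟩ := hcon
    obtain ⟨j, hj2, hjn, hrj, hnrj⟩ := exists_of_dvd_index (F := F) rfl n (by omega) F₀ k _ hk rfl hqk
      r hr hrp hrk hΩ
    have hij : orderOf ((Fintype.card F : ℕ) : ZMod r) ∣ j :=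
      orderOf_dvd_of_pow_eq_one ((cast_pow_eq_one_iff r _ j hqpos).2 hrj)
    have hin : orderOf ((Fintype.card F : ℕ) : ZMod r) ≤ n :=
      (Nat.le_of_dvd (by omega) hij).trans hjn
    have key : ∃ x : Matrix.SpecialLinearGroup (Fin n) F,
        (∃ z : F, (x : Matrix (Fin n) (Fin n) F) ^ r = z • (1 : Matrix (Fin n) (Fin n) F)) ∧
        (∀ z : F, (x : Matrix (Fin n) (Fin n) F) ≠ z • (1 : Matrix (Fin n) (Fin n) F)) ∧
        ∀ P : Matrix.SpecialLinearGroup (Fin n) F, P⁻¹ * x * P ∉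
          ((Cfsg.Geo.subfieldSubgroup F₀ 1).comap
            (Matrix.SpecialLinearGroup.toGL :
              Matrix.SpecialLinearGroup (Fin n) F →* GL (Fin n) F)) := by
      by_cases hi2 : 2 ≤ orderOf ((Fintype.card F : ℕ) : ZMod r)
      · have hne : orderOf ((Nat.card F₀ : ℕ) : ZMod r) ≠
            orderOf ((Fintype.card F : ℕ) : ZMod r) := by
          intro h
          apply hnrj
          rw [← cast_pow_eq_one_iff r _ j hq₀pos]
          have h1 : orderOf ((Nat.card F₀ : ℕ) : ZMod r) ∣ j := h ▸ hij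
          exact orderOf_dvd_iff_pow_eq_one.1 h1
        obtain ⟨x, hx1, hx2, hx3⟩ := exists_derangement_block p F₀ k hqk n r hr hrp hi2 hin hne
        exact ⟨x, ⟨1, by rw [hx1, one_smul]⟩, hx2, hx3⟩
      · have hi0 : orderOf ((Fintype.card F : ℕ) : ZMod r) ≠ 0 := by
          intro h0
          rw [h0] at hij
          have := Nat.eq_zero_of_zero_dvd hij
          omega
        have hi1 : orderOf ((Fintype.card F : ℕ) : ZMod r) = 1 := by omega
        have hrq : r ∣ Fintype.card F - 1 := by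
          have h1 := (cast_pow_eq_one_iff r (Fintype.card F) 1 hqpos).1
            (by rw [pow_one]; exact orderOf_eq_one_iff.1 hi1)
          rwa [pow_one] at h1
        have hnrq₀ : ¬ r ∣ Nat.card F₀ - 1 := by
          intro h
          apply hnrj
          have h1 := Nat.sub_dvd_pow_sub_pow (Nat.card F₀) 1 j
          rw [one_pow] at h1
          exact h.trans h1
        by_cases hk2 : k = 2
        · subst hk2
          have hfac : Fintype.card F - 1 = (Nat.card F₀ - 1) * (Nat.card F₀ + 1) := by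
            rw [hqk]
            obtain ⟨m, hm⟩ : ∃ m, Nat.card F₀ = m + 1 := ⟨Nat.card F₀ - 1, by omega⟩
            rw [hm]
            have : (m + 1) ^ 2 - 1 = (m + 1 - 1) * (m + 1 + 1) := by
              have h1 : (m + 1) ^ 2 = m * (m + 2) + 1 := by ring
              rw [h1]; simp
            exact this
          have hrq₁ : r ∣ Nat.card F₀ + 1 := by
            rw [hfac] at hrq
            exact (hr.dvd_mul.1 hrq).resolve_left hnrq₀
          have hn3 : 3 ≤ n := by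
            by_contra hlt
            have hj : j = 2 := by omega
            apply hnrj
            rw [hj, ← hqk]; exact hrq
          exact der_k_two F₀ n r hn3 hr hr2 hrp hqk hrq₁ hgap
            (fun ⟨h1, h2, h3⟩ => hB rfl h1 h2 h3)
        · have hkodd : Odd k := hk.odd_of_ne_two hk2
          obtain ⟨x, hx1, hx2, hx3⟩ := der_k_odd F₀ n k r hn hr hr2 hrp hkodd hqk hrq hnrq₀
          exact ⟨x, ⟨1, by rw [hx1, one_smul]⟩, hx2, hx3⟩
    obtain ⟨x, ⟨z, hz⟩, hx2, hx3⟩ := key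
    obtain ⟨P, hP⟩ := hall x ⟨z, by rw [Matrix.SpecialLinearGroup.coe_pow]; exact hz⟩ hx2
    exact hx3 P hP
  · rintro (hrk | ⟨hk2, hrn, hn35, hval⟩)
    · subst hrk
      rintro x ⟨z, hz⟩ -
      exact conj_of_eq_k p F₀ n (by omega) r hr2 hrp hqk (hgapk rfl) x z hz
    · subst hk2
      subst hrn
      rintro x ⟨z, hz⟩ -
      exact conj_of_small p F₀ r hn35 hrp hqk hval x z hz

end Cfsg.Agent.S5965
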