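import Cfsg.Statements.S5966
import Cfsg.Agent.Lib.Helper43_SubfieldSL

set_option autoImplicit false
open scoped MatrixGroups
open Cfsg

namespace Cfsg.Agent.S5966

open Cfsg.Agent.Lib.Helper43_SubfieldSL

section aux

variable {F : Type*} [Field F]

/-- the element of order three with Jordan blocks of size two and non-square discriminant -/
theorem blockX_props [CharP F 3] {m : ℕ} (i₀ : Fin m) (t : F) :
    let T : Matrix (Fin m) (Fin m) F := Matrix.diagonal (Function.update (1 : Fin m → F) i₀ t)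
    let X : Matrix (Fin m ⊕ Fin m) (Fin m ⊕ Fin m) F := Matrix.fromBlocks 1 T 0 1
    X.det = 1 ∧ X * X * X = 1 ∧ (X - 1) * (X - 1) = 0 := by
  intro T X
  have h3 : (3 : F) = 0 := by
    have := CharP.cast_eq_zero F 3
    exact_mod_cast this
  refine ⟨?_, ?_, ?_⟩
  · rw [Matrix.det_fromBlocks_zero₂₁, Matrix.det_one, one_mul]
  · have h1 : X * X * X = Matrix.fromBlocks 1 (T + T + T) 0 1 := by
      simp only [X, Matrix.fromBlocks_multiply]
      simp [add_assoc]
    rw [h1]
    have h2 : T + T + T = 0 := by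
      have : T + T + T = (3 : F) • T := by
        rw [show (3 : F) = 1 + 1 + 1 by norm_num, add_smul, add_smul, one_smul]
      rw [this, h3, zero_smul]
    rw [h2, Matrix.fromBlocks_one]
  · have h1 : X - 1 = Matrix.fromBlocks 0 T 0 0 := by
      ext (a | a) (b | b) <;> simp [X, Matrix.one_apply]
    rw [h1, Matrix.fromBlocks_multiply]
    simp

end aux

section forward

variable {F : Type*} [Field F] [Fintype F] [CharP F 3]

/-- for even `n` and a quadratic extension there is an element of order three of `SL_n(F)` no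
conjugate of which under `SL_n(F)` lies in the subfield group -/
theorem exists_not_conj (m : ℕ) (hm : 1 ≤ m) (n : ℕ) (hn : n = m + m) (F₀ : Subfield F)
    [Fintype F₀] (hcard : Fintype.card F = Fintype.card F₀ ^ 2) :
    ∃ x : Matrix.SpecialLinearGroup (Fin n) F,
      ((x ^ 3 : Matrix.SpecialLinearGroup (Fin n) F) : Matrix (Fin n) (Fin n) F) =
        (1 : F) • (1 : Matrix (Fin n) (Fin n) F) ∧
      (∀ z : F, (x : Matrix (Fin n) (Fin n) F) ≠ z • (1 : Matrix (Fin n) (Fin n) F)) ∧
      ∀ P : Matrix.SpecialLinearGroup (Fin n) F, P⁻¹ * x * P ∉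
        ((Cfsg.Geo.subfieldSubgroup F₀ 1).comap
          (Matrix.SpecialLinearGroup.toGL : Matrix.SpecialLinearGroup (Fin n) F →* GL (Fin n) F)) := by
  classical
  have h2 : (2 : F) ≠ 0 := by
    intro h
    have h1 : ((2 : ℕ) : F) = 0 := by exact_mod_cast h
    rw [CharP.cast_eq_zero_iff F 3] at h1
    omega
  have hchar := ringChar_ne_two_of_two_ne_zero h2
  obtain ⟨t, ht⟩ := FiniteField.exists_nonsquare hchar
  have ht0 : t ≠ 0 := by
    rintro rfl
    exact ht ⟨0, by simp⟩
  set i₀ : Fin m := ⟨0, hm⟩ with hi₀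
  set T : Matrix (Fin m) (Fin m) F := Matrix.diagonal (Function.update (1 : Fin m → F) i₀ t)
    with hT
  set X : Matrix (Fin m ⊕ Fin m) (Fin m ⊕ Fin m) F := Matrix.fromBlocks 1 T 0 1 with hX
  obtain ⟨hXdet, hX3, hX2⟩ := blockX_props i₀ t
  set e : Fin m ⊕ Fin m ≃ Fin n := finSumFinEquiv.trans (finCongr hn.symm) with he
  have hxdet : (Matrix.reindex e e X).det = 1 := by
    rw [Matrix.det_reindex_self]
    exact hXdet
  set x : Matrix.SpecialLinearGroup (Fin n) F := ⟨Matrix.reindex e e X, hxdet⟩ with hx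
  have hxc : (x : Matrix (Fin n) (Fin n) F) = X.submatrix e.symm e.symm := rfl
  have hxe : (x : Matrix (Fin n) (Fin n) F).submatrix e e = X := by
    rw [hxc, Matrix.submatrix_submatrix]
    simp
  refine ⟨x, ?_, ?_, ?_⟩
  · rw [Matrix.SpecialLinearGroup.coe_pow, one_smul, pow_succ, pow_two, hxc,
      Matrix.submatrix_mul_equiv, Matrix.submatrix_mul_equiv, hX3, Matrix.submatrix_one_equiv]
  · intro z hz
    have h1 := congrArg (fun M : Matrix (Fin n) (Fin n) F => M.submatrix e e) hz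
    simp only [hxe] at h1
    have h3 := congrFun (congrFun h1 (Sum.inl i₀)) (Sum.inr i₀)
    simp [hX, hT] at h3
    exact ht0 h3
  · intro P hP
    rw [Subgroup.mem_comap, mem_subfieldSubgroup_one] at hP
    obtain ⟨h, c, hc⟩ := hP
    have hc' : ((P⁻¹ * x * P : Matrix.SpecialLinearGroup (Fin n) F) : Matrix (Fin n) (Fin n) F) =
        (c : F) • (h : Matrix (Fin n) (Fin n) F₀).map F₀.subtype := hc
    have hxP : (x : Matrix (Fin n) (Fin n) F) * (P : Matrix (Fin n) (Fin n) F) =
        (P : Matrix (Fin n) (Fin n) F) * ((c : F) • (h : Matrix (Fin n) (Fin n) F₀).map F₀.subtype) := by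
      rw [← hc', ← Matrix.SpecialLinearGroup.coe_mul, ← Matrix.SpecialLinearGroup.coe_mul]
      rw [mul_assoc, mul_inv_cancel_left]
    -- transfer to the index type `Fin m ⊕ Fin m`
    set P' : Matrix (Fin m ⊕ Fin m) (Fin m ⊕ Fin m) F :=
      (P : Matrix (Fin n) (Fin n) F).submatrix e e with hP'
    set h' : Matrix (Fin m ⊕ Fin m) (Fin m ⊕ Fin m) F₀ :=
      (h : Matrix (Fin n) (Fin n) F₀).submatrix e e with hh'
    have hP'det : P'.det = 1 := by
      rw [hP', Matrix.det_submatrix_equiv_self]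
      exact P.2
    have hXP' : X * P' = P' * ((c : F) • h'.map F₀.subtype) := by
      have h1 := congrArg (fun M : Matrix (Fin n) (Fin n) F => M.submatrix e e) hxP
      rw [← Matrix.submatrix_mul_equiv _ _ e e e, ← Matrix.submatrix_mul_equiv _ _ e e e, hxe] at h1
      rw [h1]
      rfl
    have hP'inv : P'⁻¹ * P' = 1 := Matrix.nonsing_inv_mul _ (by rw [hP'det]; exact isUnit_one)
    have hy2 : ((c : F) • h'.map F₀.subtype - 1) * ((c : F) • h'.map F₀.subtype - 1) = 0 := by
      have h1 : P' * ((c : F) • h'.map F₀.subtype - 1) = (X - 1) * P' := by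
        rw [Matrix.mul_sub, Matrix.sub_mul, hXP', Matrix.mul_one, Matrix.one_mul]
      have h3 : P' * (((c : F) • h'.map F₀.subtype - 1) * ((c : F) • h'.map F₀.subtype - 1)) = 0 := by
        rw [← Matrix.mul_assoc, h1, Matrix.mul_assoc, h1, ← Matrix.mul_assoc, hX2, Matrix.zero_mul]
      have h4 := congrArg (fun M => P'⁻¹ * M) h3
      rw [← Matrix.mul_assoc, hP'inv, Matrix.one_mul, Matrix.mul_zero] at h4
      exact h4
    have : Nonempty (Fin m ⊕ Fin m) := ⟨Sum.inl i₀⟩
    have hcm := scalar_mem_of_sq_zero F₀ h2 h' (c : F) hy2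
    set y₀ : Matrix (Fin m ⊕ Fin m) (Fin m ⊕ Fin m) F₀ := (⟨(c : F), hcm⟩ : F₀) • h' with hy₀
    have hy₀map : y₀.map F₀.subtype = (c : F) • h'.map F₀.subtype := by
      ext a b
      simp [hy₀]
    rw [← hy₀map] at hXP'
    exact not_conj_rational F₀ (isSquare_of_card_sq F₀ h2 hcard) t ht i₀ P' hP'det y₀ hXP'

end forward

section backward

variable {F : Type*} [Field F] [Fintype F] [CharP F 3]

/-- for odd `n`, or an extension of odd degree, every element of `SL_n(F)` whose cube is scalar is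
conjugate under `SL_n(F)` into the subfield group -/
theorem exists_conj (n : ℕ) (hn : 2 ≤ n) (F₀ : Subfield F) [Fintype F₀] (k : ℕ)
    (hcard : Fintype.card F = Fintype.card F₀ ^ k) (hk : Even n → Odd k)
    (x : Matrix.SpecialLinearGroup (Fin n) F) (z : F)
    (hz : ((x ^ 3 : Matrix.SpecialLinearGroup (Fin n) F) : Matrix (Fin n) (Fin n) F) =
      z • (1 : Matrix (Fin n) (Fin n) F)) :
    ∃ P : Matrix.SpecialLinearGroup (Fin n) F, P⁻¹ * x * P ∈
      ((Cfsg.Geo.subfieldSubgroup F₀ 1).comap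
        (Matrix.SpecialLinearGroup.toGL : Matrix.SpecialLinearGroup (Fin n) F →* GL (Fin n) F)) := by
  classical
  have hp3 : Fact (Nat.Prime 3) := ⟨Nat.prime_three⟩
  have h2 : (2 : F) ≠ 0 := by
    intro h
    have h1 : ((2 : ℕ) : F) = 0 := by exact_mod_cast h
    rw [CharP.cast_eq_zero_iff F 3] at h1
    omega
  have hne : Nonempty (Fin n) := ⟨⟨0, by omega⟩⟩
  -- the scalar `z` is a non-zero cube
  have hzn : z ^ n = 1 := by
    have h1 := (x ^ 3).2
    rw [hz, Matrix.det_smul, Matrix.det_one, mul_one, Fintype.card_fin] at h1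
    exact h1
  have hz0 : z ≠ 0 := by
    rintro rfl
    rw [zero_pow (by omega)] at hzn
    exact zero_ne_one hzn
  obtain ⟨μ, hμ⟩ := surjective_frobenius F 3 z
  rw [frobenius_def] at hμ
  have hμ0 : μ ≠ 0 := by
    rintro rfl
    rw [zero_pow (by norm_num)] at hμ
    exact hz0 hμ.symm
  set u : Matrix (Fin n) (Fin n) F := μ⁻¹ • (x : Matrix (Fin n) (Fin n) F) with hu
  have hxu : (x : Matrix (Fin n) (Fin n) F) = μ • u := by
    rw [hu, smul_smul, mul_inv_cancel₀ hμ0, one_smul]
  have hu3 : u ^ 3 = 1 := by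
    rw [hu, _root_.smul_pow, ← Matrix.SpecialLinearGroup.coe_pow, hz, smul_smul, inv_pow, hμ,
      inv_mul_cancel₀ hz0, one_smul]
  have hN3 : (u - 1) ^ 3 = 0 := by
    have := Matrix.charP (n := Fin n) (R := F) 3
    rw [sub_pow_char_of_commute 3 (Commute.one_right u), one_pow, hu3, sub_self]
  have hudet : u.det ≠ 0 := by
    rw [hu, Matrix.det_smul, x.2, mul_one]
    exact pow_ne_zero _ (inv_ne_zero hμ0)
  obtain ⟨t, d, hd1, hd3, e, C, hC⟩ := exists_jordanType_conj_le u 3 hN3
  have hC' : (C : Matrix (Fin n) (Fin n) F) * Matrix.reindex e e (Cfsg.jordanTypeMatrix d F) =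
      u * (C : Matrix (Fin n) (Fin n) F) := hC
  have hCdet : (C : Matrix (Fin n) (Fin n) F).det ≠ 0 :=
    ((Matrix.isUnit_iff_isUnit_det _).1 C.isUnit).ne_zero
  have hsum : ∑ k, d k = n := by
    have h1 := Fintype.card_congr e
    rw [Fintype.card_sigma, Fintype.card_fin] at h1
    simpa using h1
  -- choice of the block and of the scalars
  have hchoice : ∃ (k₀ : Fin t) (s : F) (a₀ : F₀), a₀ ≠ 0 ∧
      (C : Matrix (Fin n) (Fin n) F).det * s ^ d k₀ = (a₀ : F) := by
    by_cases h1 : ∃ k₀, d k₀ = 1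
    · obtain ⟨k₀, hk₀⟩ := h1
      refine ⟨k₀, ((C : Matrix (Fin n) (Fin n) F).det)⁻¹, 1, one_ne_zero, ?_⟩
      rw [hk₀, pow_one, mul_inv_cancel₀ hCdet]
      rfl
    by_cases h3 : ∃ k₀, d k₀ = 3
    · obtain ⟨k₀, hk₀⟩ := h3
      obtain ⟨s, hs⟩ := surjective_frobenius F 3 ((C : Matrix (Fin n) (Fin n) F).det)⁻¹
      rw [frobenius_def] at hs
      refine ⟨k₀, s, 1, one_ne_zero, ?_⟩
      rw [hk₀, hs, mul_inv_cancel₀ hCdet]
      rfl
    push Not at h1 h3
    have hall : ∀ k, d k = 2 := by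
      intro k
      have := hd1 k
      have := hd3 k
      have := h1 k
      have := h3 k
      omega
    have hnt : n = 2 * t := by
      rw [← hsum, Finset.sum_congr rfl (fun k _ => hall k)]
      simp [mul_comm]
    have hkodd : Odd k := hk ⟨t, by omega⟩
    have ht0 : 0 < t := by omega
    obtain ⟨a₀, s, ha₀, hs⟩ := exists_rational_mul_sq F₀ h2 k hkodd hcard _ hCdet
    exact ⟨⟨0, ht0⟩, s, a₀, ha₀, by rw [hall]; exact hs⟩
  obtain ⟨k₀, s, a₀, ha₀, hdet⟩ := hchoice
  have hJmap : (Matrix.reindex e e (Cfsg.jordanTypeMatrix d F₀)).map F₀.subtype =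
      Matrix.reindex e e (Cfsg.jordanTypeMatrix d F) := by
    rw [← jordanTypeMatrix_map d F₀]
    rfl
  have hDJ : Matrix.reindex e e (blockScalar d k₀ s) *
      Matrix.reindex e e (Cfsg.jordanTypeMatrix d F) =
      Matrix.reindex e e (Cfsg.jordanTypeMatrix d F) * Matrix.reindex e e (blockScalar d k₀ s) := by
    rw [Matrix.reindex_apply, Matrix.reindex_apply, Matrix.submatrix_mul_equiv,
      Matrix.submatrix_mul_equiv, blockScalar_comm]
  have hdet' : (C : Matrix (Fin n) (Fin n) F).det *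
      (Matrix.reindex e e (blockScalar d k₀ s)).det = (a₀ : F) := by
    rw [Matrix.det_reindex_self, det_blockScalar, hdet]
  obtain ⟨R, h₀, hR1, hh₀, huR⟩ := exists_sl_conj (⟨0, by omega⟩ : Fin n) F₀ u
    (C : Matrix (Fin n) (Fin n) F) _ _ _ hJmap hC' hDJ a₀ ha₀ hdet' hudet
  refine ⟨⟨R, hR1⟩, ?_⟩
  rw [Subgroup.mem_comap, mem_subfieldSubgroup_one]
  refine ⟨Matrix.GeneralLinearGroup.mkOfDetNeZero h₀ hh₀, Units.mk0 μ hμ0, ?_⟩
  set P : Matrix.SpecialLinearGroup (Fin n) F := ⟨R, hR1⟩ with hP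
  show ((P⁻¹ * x * P : Matrix.SpecialLinearGroup (Fin n) F) : Matrix (Fin n) (Fin n) F) =
    μ • h₀.map F₀.subtype
  have hxR : (x : Matrix (Fin n) (Fin n) F) * (P : Matrix (Fin n) (Fin n) F) =
      (P : Matrix (Fin n) (Fin n) F) * (μ • h₀.map F₀.subtype) := by
    show (x : Matrix (Fin n) (Fin n) F) * R = R * (μ • h₀.map F₀.subtype)
    rw [hxu, Matrix.smul_mul, huR, Matrix.mul_smul]
  rw [Matrix.SpecialLinearGroup.coe_mul, Matrix.SpecialLinearGroup.coe_mul, Matrix.mul_assoc, hxR,
    ← Matrix.mul_assoc, ← Matrix.SpecialLinearGroup.coe_mul, inv_mul_cancel,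
    Matrix.SpecialLinearGroup.coe_one, Matrix.one_mul]

end backward

/-- Elements of order 3 of PSL_n(q) in characteristic 3 and subfield subgroups. Here `T = PSL_n(F)` for a field `F` with `q` elements, `q` a power of 3 (`n ≥ 2`, `(n, q) ≠ (2, 2), (2, 3)`), `F₀` is the subfield with `q₀` elements where `q = q₀^k` for a prime `k`, and `H` is the subgroup of matrices of determinant 1 lying in the subfield group of `F₀` (invertible matrices over `F₀` times scalars) — a maximal subgroup of type GL_n(q₀) (the case `n = 2`, `q₀ = 2` is excluded); Ω is the set of `T`-conjugates of `H` (cosets of `H`), so an element of `T` of prime order `r` (a matrix `x` of determinant 1 with `x^r` scalar, `x` not scalar) fixes a point of Ω when some conjugate of `x` by a matrix of determinant 1 lies in `H`. Suppose 3 divides the index of `H`. Then every element of `T` of order 3 is conjugate in `T` into `H` if and only if `n` is odd, or `n` is even and `k > 2`. -/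
theorem result {F : Type*} [Field F] [Fintype F] [CharP F 3] {q : ℕ} (hq : Fintype.card F = q)
    (n : ℕ) (hn : 2 ≤ n) (hT : (n, q) ≠ (2, 3))
    (F₀ : Subfield F) (k q₀ : ℕ) (hk : k.Prime) (hF₀ : Nat.card ↥F₀ = q₀) (hqk : q = q₀ ^ k) (hC5 : ¬ (n = 2 ∧ q₀ = 2)) (hΩ : 3 ∣ ((Cfsg.Geo.subfieldSubgroup F₀ 1).comap (Matrix.SpecialLinearGroup.toGL : Matrix.SpecialLinearGroup (Fin n) F →* GL (Fin n) F)).index) :
    (∀ x : Matrix.SpecialLinearGroup (Fin n) F,
      (∃ z : F, ((x ^ 3 : Matrix.SpecialLinearGroup (Fin n) F) : Matrix (Fin n) (Fin n) F) = z • (1 : Matrix (Fin n) (Fin n) F)) →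
      (∀ z : F, (x : Matrix (Fin n) (Fin n) F) ≠ z • (1 : Matrix (Fin n) (Fin n) F)) →
      ∃ P : Matrix.SpecialLinearGroup (Fin n) F, P⁻¹ * x * P ∈ ((Cfsg.Geo.subfieldSubgroup F₀ 1).comap (Matrix.SpecialLinearGroup.toGL : Matrix.SpecialLinearGroup (Fin n) F →* GL (Fin n) F))) ↔
    (Odd n ∨ (Even n ∧ 2 < k)) := by
  classical
  have : Fintype F₀ := Fintype.ofFinite _
  have hcard₀ : Fintype.card F₀ = q₀ := by
    rw [← Nat.card_eq_fintype_card]
    exact hF₀
  have hcard : Fintype.card F = Fintype.card F₀ ^ k := by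
    rw [hq, hqk, hcard₀]
  constructor
  · intro hall
    by_contra hcon
    push Not at hcon
    obtain ⟨hodd, hev⟩ := hcon
    have heven : Even n := Nat.not_odd_iff_even.1 hodd
    have hk2 : k = 2 := by
      have h1 := hev heven
      have h2 := hk.two_le
      omega
    obtain ⟨m, hm⟩ := heven
    subst hk2
    obtain ⟨x, hx3, hxns, hxP⟩ := exists_not_conj (F := F) m (by omega) n hm F₀ hcard
    obtain ⟨P, hP⟩ := hall x ⟨1, hx3⟩ hxns
    exact hxP P hP
  · intro hRHS x hx _
    obtain ⟨z, hz⟩ := hx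
    refine exists_conj n hn F₀ k hcard ?_ x z hz
    intro heven
    rcases hRHS with hodd | ⟨_, hk2⟩
    · exact absurd heven (Nat.not_even_iff_odd.2 hodd)
    · exact hk.odd_of_ne_two (by omega)

end Cfsg.Agent.S5966
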