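import Cfsg.Statements.S5967
import Cfsg.Agent.Lib.Helper43_GSpConj

set_option autoImplicit false
open scoped MatrixGroups
open Cfsg

namespace Cfsg.Agent.S5967

open Cfsg.Agent.Lib.Helper43_GSpConj

/-- Involutions of PSL_n(q) and the symplectic-type subgroups. Here `T = PSL_n(F)` for a field `F` with `q` elements, `n ≥ 4` even, `f` is a nondegenerate alternating form on `F^n`, and `H` is the subgroup of matrices of determinant 1 preserving `f` up to a scalar — a maximal subgroup of type Sp_n(q); Ω is the set of `T`-conjugates of `H` (cosets of `H`), so an element of `T` of prime order `r` (a matrix `x` of determinant 1 with `x^r` scalar, `x` not scalar) fixes a point of Ω when some conjugate of `x` by a matrix of determinant 1 preserves `f` up to a scalar. Suppose the index of `H` is even. Then every involution of `T` is conjugate in `T` into `H` if and only if `(q − 1)_2 ≤ (n)_2`. -/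
theorem result {F : Type*} [Field F] [Fintype F] {p : ℕ} [Fact p.Prime] [CharP F p] {q : ℕ} (hq : Fintype.card F = q)
    (n : ℕ) (hn : 4 ≤ n) (he : Even n) (f : (Fin n → F) → (Fin n → F) → F) (hf : Cfsg.Geo.IsSymplecticForm f)
    (hΩ : 2 ∣ ((Cfsg.Geo.similarityGroup f).comap (Matrix.SpecialLinearGroup.toGL : Matrix.SpecialLinearGroup (Fin n) F →* GL (Fin n) F)).index) :
    (∀ x : Matrix.SpecialLinearGroup (Fin n) F,
      (∃ z : F, ((x ^ 2 : Matrix.SpecialLinearGroup (Fin n) F) : Matrix (Fin n) (Fin n) F) = z • (1 : Matrix (Fin n) (Fin n) F)) →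
      (∀ z : F, (x : Matrix (Fin n) (Fin n) F) ≠ z • (1 : Matrix (Fin n) (Fin n) F)) →
      ∃ P : Matrix.SpecialLinearGroup (Fin n) F, P⁻¹ * x * P ∈ ((Cfsg.Geo.similarityGroup f).comap (Matrix.SpecialLinearGroup.toGL : Matrix.SpecialLinearGroup (Fin n) F →* GL (Fin n) F))) ↔
    padicValNat 2 (q - 1) ≤ padicValNat 2 n := by
  classical
  subst hq
  have hn0 : n ≠ 0 := by omega
  have hn1 : 1 ≤ n := by omega
  by_cases h2 : (2 : F) = 0
  · -- characteristic two
    have hp2 : p = 2 := by
      have h1 : ((2 : ℕ) : F) = 0 := by exact_mod_cast h2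
      have h3 := (CharP.cast_eq_zero_iff F p 2).1 h1
      exact (Nat.prime_dvd_prime_iff_eq Fact.out Nat.prime_two).1 h3
    subst hp2
    have hodd : padicValNat 2 (Fintype.card F - 1) = 0 := by
      apply padicValNat.eq_zero_of_not_dvd
      have h1 := FiniteField.even_card_of_char_two (ringChar.eq F 2)
      have h3 := Fintype.one_lt_card (α := F)
      omega
    constructor
    · intro _
      rw [hodd]
      exact Nat.zero_le _
    · rintro - x ⟨z, hz⟩ -
      obtain ⟨m, hm⟩ := he
      exact exists_conj_gsp_char_two hm hn1 f hf x z hz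
  · -- odd characteristic
    constructor
    · intro hall
      by_contra hlt
      push Not at hlt
      obtain ⟨μ, hμ⟩ := exists_pow_eq_neg_one h2 n hn0 hlt
      have hμ0 : μ ≠ 0 := by
        rintro rfl
        rw [zero_pow hn0] at hμ
        have h1 : (1 : F) = 0 := by
          have := congrArg (fun t => -t) hμ
          simpa using this.symm
        exact one_ne_zero h1
      set i₀ : Fin n := ⟨0, by omega⟩ with hi₀
      set i₁ : Fin n := ⟨1, by omega⟩ with hi₁
      have hi01 : i₁ ≠ i₀ := by
        rw [hi₀, hi₁]
        intro h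
        have := congrArg Fin.val h
        simp at this
      have hdet : (μ • Matrix.diagonal (Function.update (1 : Fin n → F) i₀ (-1))).det = 1 := by
        rw [Matrix.det_smul, Matrix.det_diagonal, Fintype.card_fin, hμ,
          Finset.prod_update_of_mem (Finset.mem_univ _)]
        simp
      set x : Matrix.SpecialLinearGroup (Fin n) F :=
        ⟨μ • Matrix.diagonal (Function.update (1 : Fin n → F) i₀ (-1)), hdet⟩ with hx
      have hxc : (x : Matrix (Fin n) (Fin n) F) =
          μ • Matrix.diagonal (Function.update (1 : Fin n → F) i₀ (-1)) := rfl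
      have hsq : ((x ^ 2 : Matrix.SpecialLinearGroup (Fin n) F) : Matrix (Fin n) (Fin n) F) =
          (μ * μ) • (1 : Matrix (Fin n) (Fin n) F) := by
        rw [pow_two, Matrix.SpecialLinearGroup.coe_mul, hxc, Matrix.smul_mul, Matrix.mul_smul,
          Matrix.diagonal_mul_diagonal, smul_smul]
        congr 1
        rw [← Matrix.diagonal_one]
        congr 1
        funext j
        by_cases hj : j = i₀
        · rw [hj, Function.update_self]
          simp
        · rw [Function.update_of_ne hj]
          simp
      have hns : ∀ z : F, (x : Matrix (Fin n) (Fin n) F) ≠ z • (1 : Matrix (Fin n) (Fin n) F) := by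
        intro z hz
        rw [hxc] at hz
        have h0 := congrFun (congrFun hz i₀) i₀
        have h1 := congrFun (congrFun hz i₁) i₁
        rw [Matrix.smul_apply, Matrix.smul_apply, Matrix.diagonal_apply_eq, Matrix.one_apply_eq,
          Function.update_self] at h0
        rw [Matrix.smul_apply, Matrix.smul_apply, Matrix.diagonal_apply_eq, Matrix.one_apply_eq,
          Function.update_of_ne hi01] at h1
        simp only [smul_eq_mul, mul_neg, mul_one, Pi.one_apply] at h0 h1
        have h4 : (2 : F) * μ = 0 := by
          linear_combination h1 - h0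
        rcases mul_eq_zero.1 h4 with h | h
        · exact h2 h
        · exact hμ0 h
      obtain ⟨P, hP⟩ := hall x ⟨μ * μ, hsq⟩ hns
      exact not_conj_reflection h2 (by omega) f hf x μ i₀ hxc P hP
    · rintro hv x ⟨z, hz⟩ -
      have hxx : (x : Matrix (Fin n) (Fin n) F) * (x : Matrix (Fin n) (Fin n) F) = z • 1 := by
        rw [← hz, pow_two, Matrix.SpecialLinearGroup.coe_mul]
      by_cases hsq : IsSquare z
      · obtain ⟨μ, rfl⟩ := hsq
        have hμ0 : μ ≠ 0 := by
          rintro rfl
          have h1 := congrArg Matrix.det hxx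
          rw [Matrix.det_mul, x.2, mul_zero, zero_smul] at h1
          have : Nonempty (Fin n) := ⟨⟨0, by omega⟩⟩
          rw [Matrix.det_zero] at h1
          rw [one_mul] at h1
          exact one_ne_zero (α := F) h1
        exact exists_conj_gsp_of_sq h2 hn1 he f hf x μ hμ0 hxx (pow_ne_neg_one h2 n hn0 hv μ)
      · exact exists_conj_gsp_nonsquare h2 hn1 f hf x z hsq hxx

end Cfsg.Agent.S5967
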