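import Cfsg.Statements.S5968
import Cfsg.Agent.Lib.Helper68_SpDer

set_option autoImplicit false
open scoped MatrixGroups
open Cfsg

namespace Cfsg.Agent.S5968

open Cfsg.Agent.Lib.Helper68_SpIdx Cfsg.Agent.Lib.Helper68_SpDer
  Cfsg.Agent.Lib.Helper99_PrimeOrderSL

/-- Derangements of odd prime order of PSL_n(q) on the cosets of a symplectic-type subgroup. Here `T = PSL_n(F)` for a field `F` with `q` elements, `n ≥ 4` even, `f` is a nondegenerate alternating form on `F^n`, and `H` is the subgroup of matrices of determinant 1 preserving `f` up to a scalar — a maximal subgroup of type Sp_n(q); Ω is the set of `T`-conjugates of `H` (cosets of `H`), so an element of `T` of prime order `r` (a matrix `x` of determinant 1 with `x^r` scalar, `x` not scalar) fixes a point of Ω when some conjugate of `x` by a matrix of determinant 1 preserves `f` up to a scalar. For every odd prime `r` dividing the index of `H`, with `(n, r) ≠ (6, 3)`, there is an element of `T` of order `r` with no conjugate in `H`. (For `n = 6`,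 `r = 3` this can fail: when `(q − 1)_3 = 3` every element of order 3 is conjugate into `H`.) -/
theorem result {F : Type*} [Field F] [Fintype F] {p : ℕ} [Fact p.Prime] [CharP F p] {q : ℕ} (hq : Fintype.card F = q)
    (n : ℕ) (hn : 4 ≤ n) (he : Even n) (f : (Fin n → F) → (Fin n → F) → F) (hf : Cfsg.Geo.IsSymplecticForm f)
    (r : ℕ) [Fact r.Prime] (hr2 : r ≠ 2) (hgap : ¬ (n = 6 ∧ r = 3)) (hΩ : r ∣ ((Cfsg.Geo.similarityGroup f).comap (Matrix.SpecialLinearGroup.toGL : Matrix.SpecialLinearGroup (Fin n) F →* GL (Fin n) F)).index) :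
    ∃ x : Matrix.SpecialLinearGroup (Fin n) F,
      (∃ z : F, ((x ^ r : Matrix.SpecialLinearGroup (Fin n) F) : Matrix (Fin n) (Fin n) F) = z • (1 : Matrix (Fin n) (Fin n) F)) ∧
      (∀ z : F, (x : Matrix (Fin n) (Fin n) F) ≠ z • (1 : Matrix (Fin n) (Fin n) F)) ∧
      ∀ P : Matrix.SpecialLinearGroup (Fin n) F, P⁻¹ * x * P ∉ ((Cfsg.Geo.similarityGroup f).comap (Matrix.SpecialLinearGroup.toGL : Matrix.SpecialLinearGroup (Fin n) F →* GL (Fin n) F)) := by
  classical
  subst hq
  have hr : r.Prime := Fact.out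
  have hp : p.Prime := Fact.out
  obtain ⟨m, hm⟩ := he
  have hnm : n = 2 * m := by omega
  have hm2 : 2 ≤ m := by omega
  have hn0 : 0 < n := by omega
  have hr3 : 3 ≤ r := by have := hr.two_le; omega
  -- it suffices to find a suitable `X`
  suffices hX : ∃ X : Matrix.SpecialLinearGroup (Fin n) F,
      (X : Matrix (Fin n) (Fin n) F) ^ r = 1 ∧
      (∀ z : F, (X : Matrix (Fin n) (Fin n) F) ≠ z • (1 : Matrix (Fin n) (Fin n) F)) ∧
      ∀ B : LinearMap.BilinForm F (Fin n → F), B.IsAlt → B.Nondegenerate → ∀ c : F,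
        ¬ ∀ u v, B (Matrix.mulVec (X : Matrix (Fin n) (Fin n) F) u)
          (Matrix.mulVec (X : Matrix (Fin n) (Fin n) F) v) = c * B u v by
    obtain ⟨X, hXr, hXs, hXB⟩ := hX
    refine ⟨X, ⟨1, ?_⟩, hXs, fun P => not_conj_mem X hXB f hf P⟩
    rw [one_smul, Matrix.SpecialLinearGroup.coe_pow]
    exact hXr
  by_cases hrp : r = p
  · -- the unipotent case
    subst hrp
    exact exists_unip (p := r) hr3 (by omega)
  · -- `r ≠ p`
    have hrq' : ¬ r ∣ Fintype.card F := by
      intro h
      obtain ⟨k, -, hk⟩ := FiniteField.card F p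
      rw [hk] at h
      exact hrp ((Nat.prime_dvd_prime_iff_eq hr hp).1 (hr.dvd_of_dvd_pow h))
    rcases dvd_of_dvd_index rfl hnm (by omega) f hf r hr hΩ with h1 | ⟨i, hi1, him, hri⟩
    · exact absurd h1 hrq'
    · obtain ⟨e, he⟩ : ∃ e, e = orderOf ((Fintype.card F : ℕ) : ZMod r) := ⟨_, rfl⟩
      have hpow1 : ((Fintype.card F : ℕ) : ZMod r) ^ (2 * i + 1) = 1 := by
        have h0 : ((Fintype.card F ^ (2 * i + 1) - 1 : ℕ) : ZMod r) = 0 :=
          (ZMod.natCast_eq_zero_iff _ r).2 hri
        rw [Nat.cast_sub (Nat.one_le_pow _ _ Fintype.card_pos), Nat.cast_pow, Nat.cast_one,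
          sub_eq_zero] at h0
        exact h0
      have hedvd : e ∣ 2 * i + 1 := he ▸ orderOf_dvd_of_pow_eq_one hpow1
      have heodd : Odd e := Odd.of_dvd_nat ⟨i, rfl⟩ hedvd
      have hele : e ≤ 2 * i + 1 := Nat.le_of_dvd (Nat.succ_pos _) hedvd
      have hen : e ≤ n - 1 := by omega
      by_cases he1 : e = 1
      · -- the diagonal case
        have hrq1 : r ∣ Fintype.card F - 1 := by
          have h1 : ((Fintype.card F : ℕ) : ZMod r) = 1 := by
            have := pow_orderOf_eq_one ((Fintype.card F : ℕ) : ZMod r)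
            rwa [← he, he1, pow_one] at this
          rw [← ZMod.natCast_eq_zero_iff, Nat.cast_sub Fintype.card_pos, h1, Nat.cast_one,
            sub_self]
        obtain ⟨l, hl1, hlr⟩ : ∃ l : F, l ≠ 1 ∧ l ^ r = 1 := by
          have hcard : r ∣ Fintype.card Fˣ := by rw [Fintype.card_units]; exact hrq1
          obtain ⟨u, hu⟩ := exists_prime_orderOf_dvd_card r hcard
          refine ⟨(u : F), ?_, ?_⟩
          · intro h
            have h1 : u = 1 := Units.ext h
            rw [h1, orderOf_one] at hu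
            exact hr.one_lt.ne hu
          · rw [← Units.val_pow_eq_pow_val, ← hu, pow_orderOf_eq_one, Units.val_one]
        exact exists_diag hn ⟨m, hm⟩ hr hr2 hgap l hl1 hlr
      · -- the semisimple case with one irreducible block of odd dimension
        have he2 : 2 ≤ e := by have := heodd.pos; omega
        have hrq1 : ¬ r ∣ Fintype.card F - 1 := not_dvd_card_sub_one (he ▸ he2)
        obtain ⟨y, hy, hfix⟩ := exists_one_block (p := p) n hr hrp (he ▸ he2)
          (he ▸ (by omega : e ≤ n))
        rw [← he] at hfix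
        have hoddfix : Odd (n - e) := Nat.Even.sub_odd (by omega) ⟨m, hm⟩ heodd
        refine ⟨y, hy, ?_, ?_⟩
        · exact not_scalar_of_finrank _ hr hrq1 hy hn0 (by rw [hfix]; omega)
        · intro B hA hN c
          exact semis_not_sim (p := p) hr hrp hrq1 hn0 _ hy (hfix ▸ hoddfix) B hA hN c

end Cfsg.Agent.S5968
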