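import Cfsg.Statements.S5969
import Cfsg.Agent.Lib.Helper43_FieldExt2

set_option autoImplicit false
open scoped MatrixGroups
open Cfsg

namespace Cfsg.Agent.S5969

open Cfsg.Agent.Lib.Helper43_FieldExt2 Cfsg.Agent.Lib.Helper43_GSpConj
open Cfsg.Agent.Lib.Helper43_SubfieldSL

/-- Involutions of PSL_n(q) and extension-field subgroups of degree 2. Here `T = PSL_n(F)` for a field `F` with `q = p^f` elements (`n ≥ 2`, `(n, q) ≠ (2, 2), (2, 3)`), `k` is a prime dividing `n`, `K` is a subalgebra of the `n × n` matrices that is a field of degree `k` over `F` (an extension-field structure F_{q^k} on `F^n`), and `H` is the subgroup of matrices of determinant 1 normalizing `K` — a subgroup of type GL_{n/k}(q^k) (maximal except in some small cases; maximality is not assumed); Ω is the set of cosets of `H` in `T`, so an element of `T` of prime order `r` (a matrix `x` of determinant 1 with `x^r` scalar, `x` not scalar) fixes a point of Ω when some conjugate of `x` by a matrix of determinant 1 normalizes `K`. Take `k = 2` and suppose the index of `H` is even. Then every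 involution of `T` is conjugate in `T` into `H` if and only if `n = 2`, or `q` is odd and `(q − 1)_2 ≤ (n)_2`. -/
theorem result {F : Type*} [Field F] [Fintype F] {p : ℕ} [Fact p.Prime] [CharP F p] {q : ℕ} (hq : Fintype.card F = q)
    (n : ℕ) (hn : 2 ≤ n) (hT : (n, q) ≠ (2, 2) ∧ (n, q) ≠ (2, 3))
    (k : ℕ) (hk : k.Prime) (hkn : k ∣ n) (K : Subalgebra F (Matrix (Fin n) (Fin n) F)) (hK : Cfsg.Geo.IsFieldSubalgebra k K) (hk2 : k = 2) (hΩ : 2 ∣ ((Cfsg.Geo.subalgebraNormalizer K).comap (Matrix.SpecialLinearGroup.toGL : Matrix.SpecialLinearGroup (Fin n) F →* GL (Fin n) F)).index) :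
    (∀ x : Matrix.SpecialLinearGroup (Fin n) F,
      (∃ z : F, ((x ^ 2 : Matrix.SpecialLinearGroup (Fin n) F) : Matrix (Fin n) (Fin n) F) = z • (1 : Matrix (Fin n) (Fin n) F)) →
      (∀ z : F, (x : Matrix (Fin n) (Fin n) F) ≠ z • (1 : Matrix (Fin n) (Fin n) F)) →
      ∃ P : Matrix.SpecialLinearGroup (Fin n) F, P⁻¹ * x * P ∈ ((Cfsg.Geo.subalgebraNormalizer K).comap (Matrix.SpecialLinearGroup.toGL : Matrix.SpecialLinearGroup (Fin n) F →* GL (Fin n) F))) ↔
    (n = 2 ∨ (Odd q ∧ padicValNat 2 (q - 1) ≤ padicValNat 2 n)) := by
  classical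
  subst hk2
  subst hq
  have hneven : Even n := even_iff_two_dvd.2 hkn
  have hn0 : n ≠ 0 := by omega
  have hn1 : 1 ≤ n := by omega
  constructor
  · intro hall
    by_contra hcon
    push Not at hcon
    obtain ⟨hn2, hcon'⟩ := hcon
    have hn4 : 4 ≤ n := by
      obtain ⟨m, hm⟩ := hneven
      omega
    set i₀ : Fin n := ⟨0, by omega⟩ with hi₀
    set i₁ : Fin n := ⟨1, by omega⟩ with hi₁
    have hi01 : i₁ ≠ i₀ := by
      rw [hi₀, hi₁]
      intro h
      have := congrArg Fin.val h
      simp at this
    by_cases h2 : (2 : F) = 0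
    · -- characteristic two: a transvection
      have hdet : (Matrix.transvection i₀ i₁ (1 : F)).det = 1 :=
        Matrix.det_transvection_of_ne i₀ i₁ hi01.symm 1
      set x : Matrix.SpecialLinearGroup (Fin n) F := ⟨Matrix.transvection i₀ i₁ (1 : F), hdet⟩ with hx
      have hxc : (x : Matrix (Fin n) (Fin n) F) = 1 + Matrix.single i₀ i₁ (1 : F) := rfl
      have hsq : ((x ^ 2 : Matrix.SpecialLinearGroup (Fin n) F) : Matrix (Fin n) (Fin n) F) =
          (1 : F) • (1 : Matrix (Fin n) (Fin n) F) := by
        rw [pow_two, Matrix.SpecialLinearGroup.coe_mul, hxc, Matrix.add_mul, Matrix.mul_add,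
          Matrix.mul_add, Matrix.one_mul, Matrix.mul_one, Matrix.one_mul,
          Matrix.single_mul_single_of_ne _ _ _ _ hi01, one_smul, add_zero, add_assoc]
        have : Matrix.single i₀ i₁ (1 : F) + Matrix.single i₀ i₁ (1 : F) = 0 := by
          rw [← two_smul F (Matrix.single i₀ i₁ (1 : F)), h2, zero_smul]
        rw [this, add_zero]
      have hns : ∀ z : F, (x : Matrix (Fin n) (Fin n) F) ≠ z • (1 : Matrix (Fin n) (Fin n) F) := by
        intro z hz
        have h1 := congrFun (congrFun hz i₀) i₁
        rw [hxc, Matrix.add_apply, Matrix.one_apply_ne hi01.symm, Matrix.single_apply_same,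
          Matrix.smul_apply, Matrix.one_apply_ne hi01.symm, smul_zero, zero_add] at h1
        exact one_ne_zero h1
      obtain ⟨P, hP⟩ := hall x ⟨1, hsq⟩ hns
      refine not_conj_rank_one (by omega) K hK x 1 1 one_ne_zero one_ne_zero i₀ i₁ ?_ P hP
      intro v
      rw [hxc, Matrix.add_mulVec, Matrix.one_mulVec, one_smul, one_mul]
      congr 1
      funext j
      rw [Matrix.mulVec, dotProduct, Pi.smul_apply, smul_eq_mul]
      by_cases hj : j = i₀
      · subst hj
        rw [Pi.single_eq_same, mul_one, Finset.sum_eq_single i₁]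
        · rw [Matrix.single_apply_same, one_mul]
        · intro b _ hb
          rw [Matrix.single_apply_of_ne, zero_mul]
          intro h
          exact hb h.2.symm
        · intro h
          exact absurd (Finset.mem_univ _) h
      · rw [Pi.single_eq_of_ne hj, mul_zero]
        apply Finset.sum_eq_zero
        intro b _
        rw [Matrix.single_apply_of_ne, zero_mul]
        intro h
        exact hj h.1.symm
    · -- odd characteristic: a scalar multiple of a reflection
      have hodd : Odd (Fintype.card F) :=
        Nat.odd_iff.2 (FiniteField.odd_card_of_char_ne_two (ringChar_ne_two_of_two_ne_zero h2))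
      have hlt := hcon' hodd
      obtain ⟨μ, hμ⟩ := exists_pow_eq_neg_one h2 n hn0 hlt
      have hμ0 : μ ≠ 0 := by
        rintro rfl
        rw [zero_pow hn0] at hμ
        have h1 : (1 : F) = 0 := by
          have := congrArg (fun t => -t) hμ
          simpa using this.symm
        exact one_ne_zero h1
      have hdet : (μ • Matrix.diagonal (Function.update (1 : Fin n → F) i₀ (-1))).det = 1 := by
        rw [Matrix.det_smul, Matrix.det_diagonal, Fintype.card_fin, hμ,
          Finset.prod_update_of_mem (Finset.mem_univ _)]
        simp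
      set x : Matrix.SpecialLinearGroup (Fin n) F :=
        ⟨μ • Matrix.diagonal (Function.update (1 : Fin n → F) i₀ (-1)), hdet⟩ with hx
      have hxc : (x : Matrix (Fin n) (Fin n) F) =
          μ • Matrix.diagonal (Function.update (1 : Fin n → F) i₀ (-1)) := rfl
      have hsq : ((x ^ 2 : Matrix.SpecialLinearGroup (Fin n) F) : Matrix (Fin n) (Fin n) F) =
          (μ * μ) • (1 : Matrix (Fin n) (Fin n) F) := by
        rw [pow_two, Matrix.SpecialLinearGroup.coe_mul, hxc, Matrix.smul_mul, Matrix.mul_smul,
          Matrix.diagonal_mul_diagonal, smul_smul]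
        congr 1
        rw [← Matrix.diagonal_one]
        congr 1
        funext j
        by_cases hj : j = i₀
        · rw [hj, Function.update_self]
          simp
        · rw [Function.update_of_ne hj]
          simp
      have hns : ∀ z : F, (x : Matrix (Fin n) (Fin n) F) ≠ z • (1 : Matrix (Fin n) (Fin n) F) := by
        intro z hz
        rw [hxc] at hz
        have h0 := congrFun (congrFun hz i₀) i₀
        have h1 := congrFun (congrFun hz i₁) i₁
        rw [Matrix.smul_apply, Matrix.smul_apply, Matrix.diagonal_apply_eq, Matrix.one_apply_eq,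
          Function.update_self] at h0
        rw [Matrix.smul_apply, Matrix.smul_apply, Matrix.diagonal_apply_eq, Matrix.one_apply_eq,
          Function.update_of_ne hi01] at h1
        simp only [smul_eq_mul, mul_neg, mul_one, Pi.one_apply] at h0 h1
        have h4 : (2 : F) * μ = 0 := by
          linear_combination h1 - h0
        rcases mul_eq_zero.1 h4 with h | h
        · exact h2 h
        · exact hμ0 h
      obtain ⟨P, hP⟩ := hall x ⟨μ * μ, hsq⟩ hns
      refine not_conj_rank_one (by omega) K hK x μ (-(2 * μ)) hμ0
        (neg_ne_zero.2 (mul_ne_zero h2 hμ0)) i₀ i₀ ?_ P hP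
      intro v
      rw [hxc, Matrix.smul_mulVec]
      funext j
      rw [Pi.smul_apply, Matrix.mulVec_diagonal, Pi.add_apply, Pi.smul_apply, Pi.smul_apply,
        smul_eq_mul, smul_eq_mul, smul_eq_mul]
      by_cases hj : j = i₀
      · subst hj
        rw [Function.update_self, Pi.single_eq_same]
        ring
      · rw [Function.update_of_ne hj, Pi.single_eq_of_ne hj, Pi.one_apply]
        ring
  · rintro (hn2 | ⟨hodd, hv⟩) x ⟨z, hz⟩ hns
    · subst hn2
      have hxx : (x : Matrix (Fin 2) (Fin 2) F) * (x : Matrix (Fin 2) (Fin 2) F) = z • 1 := by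
        rw [← hz, pow_two, Matrix.SpecialLinearGroup.coe_mul]
      by_cases hsq : IsSquare z
      · obtain ⟨μ, rfl⟩ := hsq
        have hμ0 : μ ≠ 0 := by
          rintro rfl
          have h1 := congrArg Matrix.det hxx
          rw [Matrix.det_mul, x.2, mul_zero, zero_smul, Matrix.det_zero, one_mul] at h1
          exact one_ne_zero (α := F) h1
        exact exists_conj_normK_two K hK x μ hμ0 hxx hns
      · have h2 : (2 : F) ≠ 0 := by
          intro h
          apply hsq
          exact FiniteField.isSquare_of_char_two
            (CharP.ringChar_of_prime_eq_zero Nat.prime_two (by exact_mod_cast h)) z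
        exact exists_conj_normK_nonsquare h2 (by norm_num) K hK x z hsq hxx
    · have h2 : (2 : F) ≠ 0 := by
        intro h
        have h1 := FiniteField.even_card_of_char_two
          (CharP.ringChar_of_prime_eq_zero Nat.prime_two (by exact_mod_cast h) : ringChar F = 2)
        rw [Nat.odd_iff] at hodd
        omega
      have hxx : (x : Matrix (Fin n) (Fin n) F) * (x : Matrix (Fin n) (Fin n) F) = z • 1 := by
        rw [← hz, pow_two, Matrix.SpecialLinearGroup.coe_mul]
      by_cases hsq : IsSquare z
      · obtain ⟨μ, rfl⟩ := hsq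
        have hμ0 : μ ≠ 0 := by
          rintro rfl
          have h1 := congrArg Matrix.det hxx
          have : Nonempty (Fin n) := ⟨⟨0, by omega⟩⟩
          rw [Matrix.det_mul, x.2, mul_zero, zero_smul, Matrix.det_zero, one_mul] at h1
          exact one_ne_zero (α := F) h1
        exact exists_conj_normK_of_sq h2 hn1 hneven K hK x μ hμ0 hxx (pow_ne_neg_one h2 n hn0 hv μ)
      · exact exists_conj_normK_nonsquare h2 hn1 K hK x z hsq hxx

end Cfsg.Agent.S5969
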