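import Cfsg.Statements.S5970
import Cfsg.Agent.Lib.Helper42_SingerN

set_option autoImplicit false
open scoped MatrixGroups
open Cfsg

namespace Cfsg.Agent.S5970

open Matrix Cfsg.Agent.Helper42FieldSub Cfsg.Agent.Helper42CyclicConj Cfsg.Agent.Helper42SingerN
open Cfsg.Agent.Lib.Helper99_SingerEmb

section aux

variable {F : Type*} [Field F] [Fintype F]

theorem not_dvd_card {p : ℕ} [Fact p.Prime] [CharP F p] {n : ℕ} (hn : n.Prime) (hnp : n ≠ p) :
    ¬ n ∣ Fintype.card F := by
  obtain ⟨f, -, hf⟩ := FiniteField.card F p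
  rw [hf]
  intro h
  have h1 : n ∣ p := hn.dvd_of_dvd_pow h
  exact hnp ((Nat.prime_dvd_prime_iff_eq hn (Fact.out : p.Prime)).mp h1)

theorem cast_ne_zero' {p : ℕ} [Fact p.Prime] [CharP F p] {n : ℕ} (hn : n.Prime) (hnp : n ≠ p) :
    (n : F) ≠ 0 := by
  intro h
  have h1 : p ∣ n := (CharP.cast_eq_zero_iff F p n).mp h
  exact hnp ((Nat.prime_dvd_prime_iff_eq (Fact.out : p.Prime) hn).mp h1).symm

theorem exists_orderOf_eq (m : ℕ) (hm : m ∣ Fintype.card F - 1) :
    ∃ a : F, a ≠ 0 ∧ orderOf a = m := by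
  classical
  obtain ⟨ζ, hζ⟩ := IsCyclic.exists_generator (α := Fˣ)
  have hord : orderOf ζ = Fintype.card F - 1 := by
    rw [orderOf_eq_card_of_forall_mem_zpowers hζ, Nat.card_eq_fintype_card, Fintype.card_units]
  have hq1 : 0 < Fintype.card F - 1 := by
    have := Fintype.one_lt_card (α := F); omega
  obtain ⟨d, hd⟩ := hm
  have hd0 : d ≠ 0 := by
    rintro rfl; omega
  refine ⟨((ζ ^ d : Fˣ) : F), Units.ne_zero _, ?_⟩
  rw [orderOf_units, orderOf_pow_of_dvd hd0 (by rw [hord, hd]; exact Dvd.intro_left m rfl), hord, hd]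
  exact Nat.mul_div_cancel m (Nat.pos_of_ne_zero hd0)

end aux


/-- Elements of order `n` of PSL_n(q), `n` prime, and the normalizer of a Singer cycle. Here `T = PSL_n(F)` for a field `F` with `q = p^f` elements (`n ≥ 2`, `(n, q) ≠ (2, 2), (2, 3)`), `k` is a prime dividing `n`, `K` is a subalgebra of the `n × n` matrices that is a field of degree `k` over `F` (an extension-field structure F_{q^k} on `F^n`), and `H` is the subgroup of matrices of determinant 1 normalizing `K` — a subgroup of type GL_{n/k}(q^k) (maximal except in some small cases; maximality is not assumed); Ω is the set of cosets of `H` in `T`, so an element of `T` of prime order `r` (a matrix `x` of determinant 1 with `x^r` scalar, `x` not scalar) fixes a point of Ω when some conjugate of `x` by a matrix of determinant 1 normalizes `K`. Take `k = n > 3` prime with `n ≠ p` (so `H` is the normalizer of a Singer cycle), and suppose `n` divides the index of `H`. Then every element of `T` of order `n` is conjugate in `T` into `H` if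 and only if the multiplicative order of `q` modulo `n` is `n − 1`. -/
theorem result {F : Type*} [Field F] [Fintype F] {p : ℕ} [Fact p.Prime] [CharP F p] {q : ℕ} (hq : Fintype.card F = q)
    (n : ℕ) (hn : 2 ≤ n) (hT : (n, q) ≠ (2, 2) ∧ (n, q) ≠ (2, 3))
    (k : ℕ) (hk : k.Prime) (hkn : k ∣ n) (K : Subalgebra F (Matrix (Fin n) (Fin n) F)) (hK : Cfsg.Geo.IsFieldSubalgebra k K) (hkn' : k = n) (hn3 : 3 < n) (hnp : n ≠ p) (hΩ : n ∣ ((Cfsg.Geo.subalgebraNormalizer K).comap (Matrix.SpecialLinearGroup.toGL : Matrix.SpecialLinearGroup (Fin n) F →* GL (Fin n) F)).index) :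
    (∀ x : Matrix.SpecialLinearGroup (Fin n) F,
      (∃ z : F, ((x ^ n : Matrix.SpecialLinearGroup (Fin n) F) : Matrix (Fin n) (Fin n) F) = z • (1 : Matrix (Fin n) (Fin n) F)) →
      (∀ z : F, (x : Matrix (Fin n) (Fin n) F) ≠ z • (1 : Matrix (Fin n) (Fin n) F)) →
      ∃ P : Matrix.SpecialLinearGroup (Fin n) F, P⁻¹ * x * P ∈ ((Cfsg.Geo.subalgebraNormalizer K).comap (Matrix.SpecialLinearGroup.toGL : Matrix.SpecialLinearGroup (Fin n) F →* GL (Fin n) F))) ↔
    orderOf (q : ZMod n) = n - 1 := by
  subst hkn'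
  have hn5 : 5 ≤ k := by
    rcases Nat.lt_or_ge k 5 with h | h
    · exfalso
      have : k = 4 := by omega
      rw [this] at hk
      norm_num at hk
    · exact h
  haveI : Fact k.Prime := ⟨hk⟩
  have hqk : ¬ k ∣ Fintype.card F := not_dvd_card (p := p) hk hnp
  have hk0 : (k : F) ≠ 0 := cast_ne_zero' (p := p) hk hnp
  have hqF : ((Fintype.card F : ℕ) : ZMod k) ≠ 0 := by
    rwa [Ne, ZMod.natCast_eq_zero_iff]
  have hcoe : ∀ x : Matrix.SpecialLinearGroup (Fin k) F,
      ((x ^ k : Matrix.SpecialLinearGroup (Fin k) F) : Matrix (Fin k) (Fin k) F) =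
        (x : Matrix (Fin k) (Fin k) F) ^ k := fun x => Matrix.SpecialLinearGroup.coe_pow x k
  subst hq
  constructor
  · intro hall
    by_contra hne
    set i := orderOf ((Fintype.card F : ℕ) : ZMod k) with hi
    have hidvd : i ∣ k - 1 := ZMod.orderOf_dvd_card_sub_one hqF
    have hipos : 0 < i := Nat.pos_of_dvd_of_pos hidvd (by omega)
    have hile : i ≤ k - 2 := by
      have h1 : i ≤ k - 1 := Nat.le_of_dvd (by omega) hidvd
      have h2 : i ≠ k - 1 := hne
      omega
    have hqi : ((Fintype.card F : ℕ) : ZMod k) ^ i = 1 := pow_orderOf_eq_one _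
    have hdvdi : k ∣ Fintype.card F ^ i - 1 := by
      rw [← ZMod.natCast_eq_zero_iff, Nat.cast_sub (Nat.one_le_pow _ _ Fintype.card_pos), Nat.cast_pow, hqi]
      simp
    -- the bad block
    obtain ⟨a, c, hac, hc2, A, hAn, hAdet, hA1⟩ : ∃ (a c : ℕ) (_ : a + 0 + c = k) (_ : 2 ≤ c)
        (A : Matrix (Fin a) (Fin a) F), A ^ k = 1 ∧ A.det = 1 ∧ A ≠ 1 := by
      by_cases hi1 : i = 1
      · -- `k ∣ q - 1`
        rw [hi1, pow_one] at hdvdi
        obtain ⟨ζ, hζ0, hζ⟩ := exists_orderOf_eq k hdvdi
        have hζk : ζ ^ k = 1 := by rw [← hζ]; exact pow_orderOf_eq_one ζ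
        have hζ1 : ζ ≠ 1 := by
          intro h
          rw [h, orderOf_one] at hζ
          omega
        refine ⟨2, k - 2, by omega, by omega, Matrix.diagonal ![ζ, ζ⁻¹], ?_, ?_, ?_⟩
        · rw [Matrix.diagonal_pow, ← Matrix.diagonal_one]
          congr 1
          ext j
          fin_cases j
          · simpa using hζk
          · simp [hζk]
        · simp [Matrix.det_diagonal, Fin.prod_univ_two, hζ0]
        · intro h
          have := congrFun (congrFun h 0) 0
          simp at this
          exact hζ1 this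
      · have hco : Nat.Coprime k (Fintype.card F - 1) := by
          rw [Nat.Prime.coprime_iff_not_dvd hk]
          intro h
          apply hi1
          rw [hi, orderOf_eq_one_iff]
          have h1 : ((Fintype.card F - 1 : ℕ) : ZMod k) = 0 := (ZMod.natCast_eq_zero_iff _ _).mpr h
          rw [Nat.cast_sub Fintype.card_pos, Nat.cast_one, sub_eq_zero] at h1
          exact h1
        obtain ⟨X, hXdet, hXpow⟩ := exists_det_one_of_order (F := F) i hipos k hdvdi hco
        refine ⟨i, k - i, by omega, by omega, X, (hXpow k).mpr dvd_rfl, hXdet, ?_⟩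
        intro h
        have := (hXpow 1).mp (by rw [pow_one]; exact h)
        have := Nat.le_of_dvd one_pos this
        omega
    obtain ⟨x, hxk, hxns, hxbad⟩ := exists_bad K hk hK a c hac hc2 A hAn hAdet hA1
    obtain ⟨P, hP⟩ := hall x ⟨1, by rw [hcoe, hxk, one_smul]⟩ hxns
    exact hxbad P hP
  · intro hord x hx hns
    obtain ⟨z, hz⟩ := hx
    rw [hcoe] at hz
    have hzk : z ^ k = 1 := by
      have := congrArg Matrix.det hz
      rw [Matrix.det_pow, x.2, one_pow, Matrix.det_smul, Matrix.det_one, Fintype.card_fin, mul_one] at this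
      exact this.symm
    have hz0 : z ≠ 0 := by
      rintro rfl
      rw [zero_pow (by omega)] at hzk
      exact zero_ne_one hzk
    have hco : Nat.Coprime k (Fintype.card F - 1) := by
      rw [Nat.Prime.coprime_iff_not_dvd hk]
      intro h
      have h1 : ((Fintype.card F - 1 : ℕ) : ZMod k) = 0 := (ZMod.natCast_eq_zero_iff _ _).mpr h
      rw [Nat.cast_sub Fintype.card_pos, Nat.cast_one, sub_eq_zero] at h1
      rw [h1, orderOf_one] at hord
      omega
    have hz1 : z = 1 := by
      have h3 : z ^ (Fintype.card F - 1) = 1 := FiniteField.pow_card_sub_one_eq_one z hz0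
      have h4 : z ^ (Nat.gcd k (Fintype.card F - 1)) = 1 := pow_gcd_eq_one.2 ⟨hzk, h3⟩
      rw [hco, pow_one] at h4
      exact h4
    rw [hz1, one_smul] at hz
    have hx1 : (x : Matrix (Fin k) (Fin k) F) ≠ 1 := fun h => hns 1 (by rw [h, one_smul])
    exact exists_conj_mem K hk (by omega) hK hk0 hqk hord x hz hx1

end Cfsg.Agent.S5970
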