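import Cfsg.Statements.S5971
import Cfsg.Agent.Lib.Helper42_Singer3
import Cfsg.Agent.Lib.Helper5_SLCard

set_option autoImplicit false
open scoped MatrixGroups
open Cfsg

namespace Cfsg.Agent.S5971

open Matrix Cfsg.Agent.Helper42CubeNF Cfsg.Agent.Helper42FieldSub Cfsg.Agent.Helper42Singer3

section aux

variable {F : Type*} [Field F] [Fintype F]

theorem three_eq_zero_of_dvd {p : ℕ} [Fact p.Prime] [CharP F p] (h : 3 ∣ Fintype.card F) : (3 : F) = 0 := by
  obtain ⟨f, -, hf⟩ := FiniteField.card F p
  rw [hf] at h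
  have h3p : 3 ∣ p := Nat.Prime.dvd_of_dvd_pow Nat.prime_three h
  have hp3 : p = 3 := ((Nat.prime_dvd_prime_iff_eq Nat.prime_three (Fact.out : p.Prime)).mp h3p).symm
  subst hp3
  exact_mod_cast CharP.cast_eq_zero F 3

theorem dvd_of_three_eq_zero {p : ℕ} [Fact p.Prime] [CharP F p] (h : (3 : F) = 0) : 3 ∣ Fintype.card F := by
  obtain ⟨f, -, hf⟩ := FiniteField.card F p
  have h3 : ((3 : ℕ) : F) = 0 := by exact_mod_cast h
  have hp3 : p ∣ 3 := (CharP.cast_eq_zero_iff F p 3).mp h3
  have : p = 3 := (Nat.prime_dvd_prime_iff_eq (Fact.out : p.Prime) Nat.prime_three).mp hp3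
  rw [hf, this]
  exact dvd_pow_self 3 f.pos.ne'

theorem exists_orderOf_eq (m : ℕ) (hm : m ∣ Fintype.card F - 1) (hm0 : 0 < m) :
    ∃ a : F, a ≠ 0 ∧ orderOf a = m := by
  classical
  obtain ⟨ζ, hζ⟩ := IsCyclic.exists_generator (α := Fˣ)
  have hord : orderOf ζ = Fintype.card F - 1 := by
    rw [orderOf_eq_card_of_forall_mem_zpowers hζ, Nat.card_eq_fintype_card, Fintype.card_units]
  have hq1 : 0 < Fintype.card F - 1 := by
    have := Fintype.one_lt_card (α := F); omega
  obtain ⟨d, hd⟩ := hm
  have hd0 : d ≠ 0 := by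
    rintro rfl; omega
  refine ⟨((ζ ^ d : Fˣ) : F), Units.ne_zero _, ?_⟩
  rw [orderOf_units, orderOf_pow_of_dvd hd0 (by rw [hord, hd]; exact Dvd.intro_left m rfl), hord, hd]
  exact Nat.mul_div_cancel m (Nat.pos_of_ne_zero hd0)

theorem cube_eq_one_of (c : F) (hc9 : c ^ 9 = 1) (hq : ¬ 9 ∣ Fintype.card F - 1) : c ^ 3 = 1 := by
  have hc0 : c ≠ 0 := by
    rintro rfl; simp at hc9
  have h1 : orderOf c ∣ 9 := orderOf_dvd_of_pow_eq_one hc9
  have h2 : orderOf c ∣ Fintype.card F - 1 :=
    orderOf_dvd_of_pow_eq_one (FiniteField.pow_card_sub_one_eq_one c hc0)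
  obtain ⟨m, hm, hmo⟩ := (Nat.dvd_prime_pow Nat.prime_three (m := 2)).mp (by simpa using h1)
  have hm1 : m ≤ 1 := by
    by_contra hcon
    have : m = 2 := by omega
    subst this
    apply hq
    rw [hmo] at h2
    simpa using h2
  apply orderOf_dvd_iff_pow_eq_one.mp
  rw [hmo]
  interval_cases m <;> simp

/-- `9 ∤ |SL₃(q)|` when `q ≡ 2, 5 (mod 9)`. -/
theorem not_nine_dvd_card_SL (h : Fintype.card F % 9 = 2 ∨ Fintype.card F % 9 = 5) :
    ¬ 9 ∣ Nat.card (Matrix.SpecialLinearGroup (Fin 3) F) := by
  intro h9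
  have h1 := Cfsg.Agent.Lib.Helper5_SLCard.card_GL_eq_card_SL_mul (F := F) 3 (by norm_num)
  rw [Matrix.card_GL_field] at h1
  have h2 : 9 ∣ ∏ i : Fin 3, (Fintype.card F ^ 3 - Fintype.card F ^ (i : ℕ)) := by
    rw [h1]; exact Dvd.dvd.mul_right h9 _
  rw [Fin.prod_univ_three] at h2
  simp only [Fin.val_zero, Fin.val_one, Fin.val_two, pow_zero, pow_one] at h2
  set q := Fintype.card F with hqdef
  have hq1 : 1 ≤ q ^ 3 := Nat.one_le_pow _ _ (by have := Fintype.card_pos (α := F); omega)
  have hq2 : q ≤ q ^ 3 := by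
    calc q = q ^ 1 := (pow_one q).symm
      _ ≤ q ^ 3 := Nat.pow_le_pow_right (by have := Fintype.card_pos (α := F); omega) (by norm_num)
  have hq3 : q ^ 2 ≤ q ^ 3 := Nat.pow_le_pow_right (by have := Fintype.card_pos (α := F); omega) (by norm_num)
  have h3 := (ZMod.natCast_eq_zero_iff _ 9).mpr h2
  rw [Nat.cast_mul, Nat.cast_mul, Nat.cast_sub hq1, Nat.cast_sub hq2, Nat.cast_sub hq3] at h3
  simp only [Nat.cast_pow, Nat.cast_one] at h3
  rcases h with h | h
  · have hq : (q : ZMod 9) = 2 := by
      have : (q : ZMod 9) = ((q % 9 : ℕ) : ZMod 9) := by rw [ZMod.natCast_mod]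
      rw [this, h]; rfl
    rw [hq] at h3
    revert h3; decide
  · have hq : (q : ZMod 9) = 5 := by
      have : (q : ZMod 9) = ((q % 9 : ℕ) : ZMod 9) := by rw [ZMod.natCast_mod]
      rw [this, h]; rfl
    rw [hq] at h3
    revert h3; decide

end aux


/-- Elements of order 3 of PSL_3(q) and the normalizer of a Singer cycle. Here `T = PSL_n(F)` for a field `F` with `q = p^f` elements (`n ≥ 2`, `(n, q) ≠ (2, 2), (2, 3)`), `k` is a prime dividing `n`, `K` is a subalgebra of the `n × n` matrices that is a field of degree `k` over `F` (an extension-field structure F_{q^k} on `F^n`), and `H` is the subgroup of matrices of determinant 1 normalizing `K` — a subgroup of type GL_{n/k}(q^k) (maximal except in some small cases; maximality is not assumed); Ω is the set of cosets of `H` in `T`, so an element of `T` of prime order `r` (a matrix `x` of determinant 1 with `x^r` scalar, `x` not scalar) fixes a point of Ω when some conjugate of `x` by a matrix of determinant 1 normalizes `K`. Take `n = k = 3` and suppose 3 divides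 the index of `H`. Then every element of `T` of order 3 is conjugate in `T` into `H` if and only if `q ≡ 4, 7` or `8 (mod 9)`. -/
theorem result {F : Type*} [Field F] [Fintype F] {p : ℕ} [Fact p.Prime] [CharP F p] {q : ℕ} (hq : Fintype.card F = q)
    (n : ℕ) (hn : n = 3) (k : ℕ) (hk : k.Prime) (hkn : k ∣ n) (K : Subalgebra F (Matrix (Fin n) (Fin n) F)) (hK : Cfsg.Geo.IsFieldSubalgebra k K) (hk3 : k = 3) (hΩ : 3 ∣ ((Cfsg.Geo.subalgebraNormalizer K).comap (Matrix.SpecialLinearGroup.toGL : Matrix.SpecialLinearGroup (Fin n) F →* GL (Fin n) F)).index) :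
    (∀ x : Matrix.SpecialLinearGroup (Fin n) F,
      (∃ z : F, ((x ^ 3 : Matrix.SpecialLinearGroup (Fin n) F) : Matrix (Fin n) (Fin n) F) = z • (1 : Matrix (Fin n) (Fin n) F)) →
      (∀ z : F, (x : Matrix (Fin n) (Fin n) F) ≠ z • (1 : Matrix (Fin n) (Fin n) F)) →
      ∃ P : Matrix.SpecialLinearGroup (Fin n) F, P⁻¹ * x * P ∈ ((Cfsg.Geo.subalgebraNormalizer K).comap (Matrix.SpecialLinearGroup.toGL : Matrix.SpecialLinearGroup (Fin n) F →* GL (Fin n) F))) ↔
    (q % 9 = 4 ∨ q % 9 = 7 ∨ q % 9 = 8) := by
  subst hn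
  subst hk3
  have hcoe3 : ∀ x : Matrix.SpecialLinearGroup (Fin 3) F,
      ((x ^ 3 : Matrix.SpecialLinearGroup (Fin 3) F) : Matrix (Fin 3) (Fin 3) F) =
        (x : Matrix (Fin 3) (Fin 3) F) * (x : Matrix (Fin 3) (Fin 3) F) * (x : Matrix (Fin 3) (Fin 3) F) := by
    intro x
    rw [Matrix.SpecialLinearGroup.coe_pow, pow_succ, pow_two]
  have hq1 : 1 < q := by rw [← hq]; exact Fintype.one_lt_card
  constructor
  · intro hall
    by_cases h3 : (3 : F) = 0
    · exfalso
      -- a transvection has no conjugate in `H`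
      let x : Matrix.SpecialLinearGroup (Fin 3) F :=
        ⟨!![1, 1, 0; 0, 1, 0; 0, 0, 1], by simp [Matrix.det_fin_three]⟩
      have hxval : (x : Matrix (Fin 3) (Fin 3) F) = !![1, 1, 0; 0, 1, 0; 0, 0, 1] := rfl
      have hx3 : ((x ^ 3 : Matrix.SpecialLinearGroup (Fin 3) F) : Matrix (Fin 3) (Fin 3) F) =
          (1 : F) • (1 : Matrix (Fin 3) (Fin 3) F) := by
        rw [hcoe3, hxval, one_smul]
        ext i j
        fin_cases i <;> fin_cases j <;> simp [Matrix.mul_apply, Fin.sum_univ_three]
        linear_combination h3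
      have hns : ∀ z : F, (x : Matrix (Fin 3) (Fin 3) F) ≠ z • (1 : Matrix (Fin 3) (Fin 3) F) := by
        intro z hz
        have := congrFun (congrFun hz 0) 1
        rw [hxval] at this
        simp at this
      obtain ⟨P, hP⟩ := hall x ⟨1, hx3⟩ hns
      refine not_conj_of_double_eigen K hK x 1 (Pi.single 0 1) (Pi.single 2 1) ?_ ?_ ?_ ?_ hns P hP
      · intro h
        have := congrFun h 0
        simp at this
      · intro c h
        have := congrFun h 2
        simp at this
      · rw [hxval, Matrix.mulVec_single_one, one_smul]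
        ext i
        fin_cases i <;> simp
      · rw [hxval, Matrix.mulVec_single_one, one_smul]
        ext i
        fin_cases i <;> simp
    · have h3q : ¬ 3 ∣ q := fun h => h3 (three_eq_zero_of_dvd (p := p) (hq ▸ h))
      by_cases h1 : q % 9 = 1
      · exfalso
        have h9 : 9 ∣ Fintype.card F - 1 := by rw [hq]; omega
        obtain ⟨a, ha0, hao⟩ := exists_orderOf_eq 9 h9 (by norm_num)
        have ha9 : a ^ 9 = 1 := by rw [← hao]; exact pow_orderOf_eq_one a
        have ha3 : a ^ 3 ≠ 1 := by
          intro h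
          have := orderOf_dvd_of_pow_eq_one h
          rw [hao] at this
          omega
        let x : Matrix.SpecialLinearGroup (Fin 3) F :=
          ⟨Matrix.diagonal ![a, a, (a ^ 2)⁻¹], by
            simp [Matrix.det_diagonal, Fin.prod_univ_three]
            field_simp⟩
        have hxval : (x : Matrix (Fin 3) (Fin 3) F) = Matrix.diagonal ![a, a, (a ^ 2)⁻¹] := rfl
        have hx3 : ((x ^ 3 : Matrix.SpecialLinearGroup (Fin 3) F) : Matrix (Fin 3) (Fin 3) F) =
            (a ^ 3) • (1 : Matrix (Fin 3) (Fin 3) F) := by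
          rw [hcoe3, hxval, Matrix.diagonal_mul_diagonal, Matrix.diagonal_mul_diagonal,
            ← Matrix.diagonal_one, ← Matrix.diagonal_smul]
          congr 1
          ext i
          fin_cases i
          · simp; ring
          · simp; ring
          · simp
            field_simp
            linear_combination (-1 : F) * ha9
        have hns : ∀ z : F, (x : Matrix (Fin 3) (Fin 3) F) ≠ z • (1 : Matrix (Fin 3) (Fin 3) F) := by
          intro z hz
          have h00 := congrFun (congrFun hz 0) 0
          have h22 := congrFun (congrFun hz 2) 2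
          rw [hxval] at h00 h22
          simp at h00 h22
          apply ha3
          rw [← h00] at h22
          have h := congrArg (fun t => a ^ 2 * t) h22
          simp only [mul_inv_cancel₀ (pow_ne_zero 2 ha0)] at h
          calc a ^ 3 = a ^ 2 * a := by ring
            _ = 1 := h.symm
        obtain ⟨P, hP⟩ := hall x ⟨a ^ 3, hx3⟩ hns
        refine not_conj_of_double_eigen K hK x a (Pi.single 0 1) (Pi.single 1 1) ?_ ?_ ?_ ?_ hns P hP
        · intro h
          have := congrFun h 0
          simp at this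
        · intro c h
          have := congrFun h 1
          simp at this
        · rw [hxval, Matrix.mulVec_single_one]
          ext i
          fin_cases i <;> simp
        · rw [hxval, Matrix.mulVec_single_one]
          ext i
          fin_cases i <;> simp
      · by_cases h25 : q % 9 = 2 ∨ q % 9 = 5
        · exfalso
          obtain ⟨y, hyH, hy3, hyns⟩ := exists_std_mem K hK
          have hy1 : y ≠ 1 := by
            intro h
            apply hyns 1
            rw [h, one_smul, Matrix.SpecialLinearGroup.coe_one]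
          have hy3' : y ^ 3 = 1 := by
            apply Subtype.ext
            rw [hcoe3, hy3, Matrix.SpecialLinearGroup.coe_one]
          have hord : orderOf y = 3 := orderOf_eq_prime hy3' hy1
          have h3H : 3 ∣ Nat.card (HH K) := by
            have := orderOf_dvd_natCard (⟨y, hyH⟩ : HH K)
            rwa [Subgroup.orderOf_mk, hord] at this
          have h9 : 9 ∣ Nat.card (Matrix.SpecialLinearGroup (Fin 3) F) := by
            rw [← Subgroup.index_mul_card (HH K)]
            exact Nat.mul_dvd_mul hΩ h3H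
          exact not_nine_dvd_card_SL (by rw [hq]; exact h25) h9
        · omega
  · intro hq9 x hx hns
    obtain ⟨z, hz⟩ := hx
    have h3q : ¬ 3 ∣ q := by omega
    have h3ne : (3 : F) ≠ 0 := fun h => h3q (hq ▸ dvd_of_three_eq_zero (p := p) h)
    rw [hcoe3] at hz
    have hz3 : z ^ 3 = 1 := by
      have := congrArg Matrix.det hz
      rw [Matrix.det_mul, Matrix.det_mul, x.2, Matrix.det_smul, Matrix.det_one, Fintype.card_fin] at this
      simpa using this.symm
    have hz1 : z = 1 := by
      rcases cube_scalar_cases (x : Matrix (Fin 3) (Fin 3) F) z hz x.2 hns with h | ⟨c, hc⟩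
      · exact h
      · have hc9 : c ^ 9 = 1 := by
          rw [show 9 = 3 * 3 by norm_num, pow_mul, hc, hz3]
        rw [← hc]
        exact cube_eq_one_of c hc9 (by rw [hq]; omega)
    rw [hz1, one_smul] at hz
    exact exists_conj_mem K hK h3ne x hz hns

end Cfsg.Agent.S5971
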