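import Cfsg.Statements.S5972
import Cfsg.Agent.Lib.Helper14_POmegaSimple
import Cfsg.Agent.Lib.Helper84_OTS_OA
import Cfsg.Agent.Lib.Helper73_OTS_OW1
import Cfsg.Agent.Lib.Helper8_OTS_ON
import Cfsg.Agent.Lib.Helper8_OTS_OD
import Cfsg.Agent.Lib.Helper35_OTS_OS
import Cfsg.Agent.Lib.Helper31_OTS_OE1
import Cfsg.Agent.Lib.Helper31_OTS_OG
import Cfsg.Agent.Lib.Helper71_OTS_OE2
import Cfsg.Agent.Lib.Helper60_OTS_OC

set_option autoImplicit false
open scoped MatrixGroups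
open Cfsg

namespace Cfsg.Agent.S5972

open Module Polynomial
open Cfsg.Agent.Lib.Helper40_SpBasic Cfsg.Agent.Lib.Helper40_OConj
  Cfsg.Agent.Lib.Helper40_OConj.OData Cfsg.Agent.Lib.Helper99_SpAtoms
  Cfsg.Agent.Lib.Helper44_StdForms Cfsg.Agent.Lib.Helper84_OTSDefs

variable {F : Type*} [Field F] [Fintype F] {p : ℕ} [Fact p.Prime] [CharP F p]

theorem two_ne_zero_of_odd (p : ℕ) [Fact p.Prime] [CharP F p] (hodd : Odd (Fintype.card F)) :
    (2 : F) ≠ 0 := by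
  intro h
  have hp : p.Prime := Fact.out
  have h1 : ((2 : ℕ) : F) = 0 := by exact_mod_cast h
  rw [CharP.cast_eq_zero_iff F p] at h1
  have hp2 : p = 2 := (Nat.prime_dvd_prime_iff_eq hp Nat.prime_two).1 h1
  obtain ⟨k, -, hk⟩ := FiniteField.card F p
  rw [hk, hp2] at hodd
  have : Even (2 ^ (k : ℕ)) := (Nat.even_pow' (by exact k.ne_zero)).2 even_two
  exact (Nat.not_even_iff_odd.2 hodd) this

omit [Field F] in
theorem atomDim_even (r : ℕ) : Even (atomDim F r) := by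
  unfold atomDim
  split_ifs with h
  · exact h
  · exact even_two_mul _

/-- odd `r`, sufficiency. -/
theorem fix_of_odd {d m r : ℕ} (h2 : (2 : F) ≠ 0) (hmd : m ≤ d) (hr : r.Prime) (hr2 : r ≠ 2)
    (hrp : r ≠ p)
    (hk : 2 * (m % orderOf ((Fintype.card F : ℕ) : ZMod r)) < (2 * d + 1) % atomDim F r)
    (h3 : Odd (orderOf ((Fintype.card F : ℕ) : ZMod r)) ∨
      (r - 1) / orderOf ((Fintype.card F : ℕ) : ZMod r) +
        2 * (m / orderOf ((Fintype.card F : ℕ) : ZMod r)) ≤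
          (2 * d + 1) / orderOf ((Fintype.card F : ℕ) : ZMod r))
    (x : GL (Unit ⊕ (Fin d ⊕ Fin d)) F) (hx : x ∈ Cfsg.Geo.omegaGL (Cfsg.quadFormOdd d F))
    (hxr : orderOf x = r) :
    ∃ W : Submodule F (Unit ⊕ (Fin d ⊕ Fin d) → F), Module.finrank F ↥W = m ∧
      (∀ w ∈ W, Cfsg.quadFormOdd d F w = 0) ∧
      W.map (Matrix.toLin' (x : Matrix (Unit ⊕ (Fin d ⊕ Fin d)) (Unit ⊕ (Fin d ⊕ Fin d)) F)) ≤ W := by
  have hQ := Cfsg.Agent.Lib.Helper14_POmegaSimple.nondegenerate_qfOdd h2 d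
  have hO := Cfsg.Agent.Lib.Helper31_OTS_OG.OG d hr hr2 hrp x hx hxr
  have hipos := Cfsg.Agent.Lib.Helper99_SpTI.ord_pos (F := F) (p := p) hr hrp
  set i := orderOf ((Fintype.card F : ℕ) : ZMod r) with hidef
  set a := Matrix.toLin' (x : Matrix (Unit ⊕ (Fin d ⊕ Fin d)) (Unit ⊕ (Fin d ⊕ Fin d)) F) with ha
  obtain ⟨cnt, hsum, H⟩ := Cfsg.Agent.Lib.Helper35_OTS_OS.OS h2 hO hQ hr hr2 hrp
  simp only [← hidef] at H
  have hfr : finrank F (Unit ⊕ (Fin d ⊕ Fin d) → F) = 2 * d + 1 := by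
    rw [Module.finrank_pi, Fintype.card_sum, Fintype.card_sum, Fintype.card_fin,
      Fintype.card_unit]
    omega
  rw [hfr] at hsum
  have hCnd := Cfsg.Agent.Lib.Helper8_OTS_ON.ON hO hQ
  set e₀ := finrank F (LinearMap.ker (a - 1)) with he₀
  have hdm := Nat.div_add_mod m i
  have hmodlt := Nat.mod_lt m hipos
  -- the key: a suitable pair (s', e')
  have key : ∃ s' e' : ℕ, i * s' + e' = m ∧ 2 * e' + 1 ≤ e₀ ∧
      ((Odd i ∧ s' ≤ cnt) ∨ (Even i ∧ (s' = 0 ∨ (r - 1) / i + 2 * s' ≤ cnt + 1))) := by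
    by_cases hie : Even i
    · have hc : atomDim F r = i := by unfold atomDim; rw [if_pos hie]
      rw [hc] at hsum hk
      have h3' : (r - 1) / i + 2 * (m / i) ≤ (2 * d + 1) / i := by
        rcases h3 with h | h
        · exact absurd hie (Nat.not_even_iff_odd.2 h)
        · exact h
      have hkmod : (2 * d + 1) % i ≤ e₀ := by
        rw [← hsum, Nat.mul_add_mod]
        exact Nat.mod_le _ _
      have hdn := Nat.div_add_mod (2 * d + 1) i
      set t := (r - 1) / i with ht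
      by_cases hcase : t + 2 * (m / i) ≤ cnt + 1
      · exact ⟨m / i, m % i, hdm, by omega, Or.inr ⟨hie, Or.inr hcase⟩⟩
      · set s' := (cnt + 1 - t) / 2 with hs'
        have hs1 : s' = 0 ∨ t + 2 * s' ≤ cnt + 1 := by
          by_cases h0 : s' = 0
          · exact Or.inl h0
          · right; omega
        have hs2 : s' ≤ m / i := by omega
        have hs3 : cnt ≤ 2 * s' + t := by omega
        have hS := Nat.mul_le_mul_left i hs2
        have hS3 := Nat.mul_le_mul_left i hs3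
        have h3'' := Nat.mul_le_mul_left i h3'
        rw [mul_add] at hS3 h3''
        have hmul : i * (2 * s') = 2 * (i * s') := by ring
        have hmul2 : i * (2 * (m / i)) = 2 * (i * (m / i)) := by ring
        refine ⟨s', m - i * s', by omega, by omega, Or.inr ⟨hie, hs1⟩⟩
    · have hio : Odd i := Nat.not_even_iff_odd.1 hie
      have hc : atomDim F r = 2 * i := by unfold atomDim; rw [if_neg hie]
      rw [hc] at hsum hk
      have hkmod : (2 * d + 1) % (2 * i) ≤ e₀ := by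
        rw [← hsum, Nat.mul_add_mod]
        exact Nat.mod_le _ _
      by_cases hcase : cnt ≤ m / i
      · have hS := Nat.mul_le_mul_left i hcase
        have hmul : 2 * i * cnt = 2 * (i * cnt) := by ring
        exact ⟨cnt, m - i * cnt, by omega, by omega, Or.inl ⟨hio, le_rfl⟩⟩
      · exact ⟨m / i, m % i, hdm, by omega, Or.inl ⟨hio, by omega⟩⟩
  obtain ⟨s', e', hm, he', hs'⟩ := key
  obtain ⟨E, hEC, hEts, hEd⟩ := Cfsg.Agent.Lib.Helper73_OTS_OW1.OW1 h2 (qfOdd d F) (LinearMap.ker (a - 1)) hCnd e' he'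
  obtain ⟨W, hWinv, hWts, hWd⟩ := H s' hs' E hEC hEts
  refine ⟨W, by rw [hWd, hEd]; exact hm, fun w hw => ?_, ?_⟩
  · rw [← coe_qfOdd]
    exact hWts w hw
  · rintro _ ⟨w, hw, rfl⟩
    exact hWinv w hw

/-- odd `r`, necessity. -/
theorem nec_odd {d m r : ℕ} (h2 : (2 : F) ≠ 0) (hm : 1 ≤ m) (hmd : m ≤ d) (hr : r.Prime)
    (hr2 : r ≠ 2) (hrp : r ≠ p)
    (hrΩ : r ∣ Nat.card {W : Submodule F (Unit ⊕ (Fin d ⊕ Fin d) → F) // Module.finrank F ↥W = m ∧ (∀ w ∈ W, Cfsg.quadFormOdd d F w = 0)})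
    (hall : ∀ x : GL (Unit ⊕ (Fin d ⊕ Fin d)) F, x ∈ Cfsg.Geo.omegaGL (Cfsg.quadFormOdd d F) → orderOf x = r →
      ∃ W : Submodule F (Unit ⊕ (Fin d ⊕ Fin d) → F), Module.finrank F ↥W = m ∧ (∀ w ∈ W, Cfsg.quadFormOdd d F w = 0) ∧
        W.map (Matrix.toLin' (x : Matrix (Unit ⊕ (Fin d ⊕ Fin d)) (Unit ⊕ (Fin d ⊕ Fin d)) F)) ≤ W) :
    orderOf ((Fintype.card F : ℕ) : ZMod r) ≤ m ∧
    2 * (m % orderOf ((Fintype.card F : ℕ) : ZMod r)) < (2 * d + 1) % atomDim F r ∧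
    (Odd (orderOf ((Fintype.card F : ℕ) : ZMod r)) ∨
      (r - 1) / orderOf ((Fintype.card F : ℕ) : ZMod r) +
        2 * (m / orderOf ((Fintype.card F : ℕ) : ZMod r)) ≤
          (2 * d + 1) / orderOf ((Fintype.card F : ℕ) : ZMod r)) := by
  have hQ := Cfsg.Agent.Lib.Helper14_POmegaSimple.nondegenerate_qfOdd h2 d
  have hipos := Cfsg.Agent.Lib.Helper99_SpTI.ord_pos (F := F) (p := p) hr hrp
  set i := orderOf ((Fintype.card F : ℕ) : ZMod r) with hidef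
  set c := atomDim F r with hcdef
  have hfr : finrank F (Unit ⊕ (Fin d ⊕ Fin d) → F) = 2 * d + 1 := by
    rw [Module.finrank_pi, Fintype.card_sum, Fintype.card_sum, Fintype.card_fin,
      Fintype.card_unit]
    omega
  -- the counting hypothesis
  obtain ⟨j₀, hj₀, hdvd⟩ := Cfsg.Agent.Lib.Helper60_OTS_OC.OC2 h2 d m hm hmd r hr hrΩ
  have hidvd : i ∣ 2 * (d - j₀) := by
    rw [hidef, orderOf_dvd_iff_pow_eq_one]
    have h1 : ((Fintype.card F ^ (2 * (d - j₀)) - 1 : ℕ) : ZMod r) = 0 :=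
      (ZMod.natCast_eq_zero_iff _ _).2 hdvd
    rw [Nat.cast_sub (Nat.one_le_pow _ _ Fintype.card_pos), Nat.cast_pow, Nat.cast_one,
      sub_eq_zero] at h1
    exact h1
  have hcdvd : c ∣ 2 * (d - j₀) := by
    rw [hcdef]
    unfold atomDim
    split_ifs with hie
    · exact hidvd
    · have hio : Odd i := Nat.not_even_iff_odd.1 hie
      have h2' : 2 ∣ 2 * (d - j₀) := ⟨d - j₀, rfl⟩
      exact (Nat.Coprime.mul_dvd_of_dvd_of_dvd (Nat.coprime_two_left.2 hio) h2' hidvd)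
  have hcpos : 0 < c := atomDim_pos (F := F) (r := r) hipos
  have hcle : c ≤ 2 * (d - j₀) := Nat.le_of_dvd (by omega) hcdvd
  have hc2i : c ≤ 2 * i := by
    rw [hcdef]; unfold atomDim
    split_ifs <;> omega
  have hceven : Even c := atomDim_even r
  have hkmod : (2 * d + 1) % c = (2 * j₀ + 1) % c := by
    obtain ⟨u, hu⟩ := hcdvd
    have : 2 * d + 1 = 2 * j₀ + 1 + c * u := by omega
    rw [this, Nat.add_mul_mod_self_left]
  have hklt : (2 * d + 1) % c < c := Nat.mod_lt _ hcpos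
  have hkle : (2 * d + 1) % c ≤ 2 * j₀ + 1 := by
    rw [hkmod]
    exact Nat.mod_le _ _
  have hdn := Nat.div_add_mod (2 * d + 1) c
  -- `k` is odd
  have hkodd : (2 * d + 1) % c % 2 = 1 := by
    obtain ⟨c', hc'⟩ := hceven
    have : c * ((2 * d + 1) / c) = 2 * (c' * ((2 * d + 1) / c)) := by rw [hc']; ring
    omega
  -- the extremal element
  have hspos : 1 ≤ (2 * d + 1) / c := (Nat.one_le_div_iff hcpos).2 (by omega)
  have hsd : c * ((2 * d + 1) / c) ≤ 2 * d := by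
    obtain ⟨c', hc'⟩ := hceven
    have : c * ((2 * d + 1) / c) = 2 * (c' * ((2 * d + 1) / c)) := by rw [hc']; ring
    omega
  obtain ⟨x, hxΩ, hxr, hfix⟩ := Cfsg.Agent.Lib.Helper31_OTS_OE1.OE1 h2 d hr hr2 hrp ((2 * d + 1) / c) hspos hsd
  rw [← hcdef] at hfix
  have hfix' : finrank F (LinearMap.ker (Matrix.toLin'
      (x : Matrix (Unit ⊕ (Fin d ⊕ Fin d)) (Unit ⊕ (Fin d ⊕ Fin d)) F) - 1)) = (2 * d + 1) % c := by
    rw [hfix]
    omega
  obtain ⟨W, hWd, hWts, hWinv⟩ := hall x hxΩ hxr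
  have hO := Cfsg.Agent.Lib.Helper31_OTS_OG.OG d hr hr2 hrp x hxΩ hxr
  obtain ⟨hdec, ⟨s', hs'⟩, hle⟩ := Cfsg.Agent.Lib.Helper8_OTS_OD.OD hO hQ hr hrp (W := W) (fun w hw => hWinv ⟨w, hw, rfl⟩)
    (fun w hw => by rw [coe_qfOdd]; exact hWts w hw)
  rw [← hidef] at hs'
  rw [hWd, hs'] at hdec
  rw [hfix'] at hle
  set e' := finrank F (W ⊓ LinearMap.ker (Matrix.toLin'
      (x : Matrix (Unit ⊕ (Fin d ⊕ Fin d)) (Unit ⊕ (Fin d ⊕ Fin d)) F) - 1) : Submodule F _) with he'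
  have he'i : e' < i := by omega
  have hmod : m % i = e' := by
    rw [hdec, Nat.add_mul_mod_self_left, Nat.mod_eq_of_lt he'i]
  have hdiv : m / i = s' := by
    rw [hdec, Nat.add_mul_div_left _ _ hipos, Nat.div_eq_of_lt he'i, zero_add]
  have him : i ≤ m := by
    by_contra hlt
    push Not at hlt
    have hs0 : s' = 0 := by
      by_contra h0
      have : i * 1 ≤ i * s' := Nat.mul_le_mul_left i (by omega)
      omega
    rw [hs0, mul_zero, add_zero] at hdec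
    omega
  refine ⟨him, by rw [hmod]; omega, ?_⟩
  by_cases hie : Even i
  · right
    by_contra hneg
    obtain ⟨x₂, hx₂Ω, hx₂r, hbound⟩ := Cfsg.Agent.Lib.Helper71_OTS_OE2.OE2 h2 hr hr2 hrp hie d m hmd him hneg
    obtain ⟨W₂, hW₂d, hW₂ts, hW₂inv⟩ := hall x₂ hx₂Ω hx₂r
    exact hbound W₂ hW₂inv hW₂ts hW₂d
  · left
    exact Nat.not_even_iff_odd.1 hie

theorem result {F : Type*} [Field F] [Fintype F] {p : ℕ} [Fact p.Prime] [CharP F p] {q : ℕ} (hq : Fintype.card F = q) (hqodd : Odd q)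
    (d m : ℕ) (hd : 3 ≤ d) (hm : 1 ≤ m) (hmd : m ≤ d)
    (r : ℕ) [Fact r.Prime]
    (hrΩ : r ∣ Nat.card {W : Submodule F (Unit ⊕ (Fin d ⊕ Fin d) → F) // Module.finrank F ↥W = m ∧ (∀ w ∈ W, Cfsg.quadFormOdd d F w = 0)})
    (i c : ℕ) (hi : i = orderOf (q : ZMod r)) (hc : c = if Even i then i else 2 * i) :
    (∀ x : GL (Unit ⊕ (Fin d ⊕ Fin d)) F, x ∈ Cfsg.Geo.omegaGL (Cfsg.quadFormOdd d F) → orderOf x = r →
      ∃ W : Submodule F (Unit ⊕ (Fin d ⊕ Fin d) → F), Module.finrank F ↥W = m ∧ (∀ w ∈ W, Cfsg.quadFormOdd d F w = 0) ∧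
        W.map (Matrix.toLin' (x : Matrix (Unit ⊕ (Fin d ⊕ Fin d)) (Unit ⊕ (Fin d ⊕ Fin d)) F)) ≤ W) ↔
    ((r = 2 ∧ (m < d ∨ q % 4 = 1)) ∨
     (r ≠ p ∧ 2 < r ∧ i ≤ m ∧ 2 * (m % i) < (2 * d + 1) % c ∧ (Odd i ∨ (r - 1) / i + 2 * (m / i) ≤ (2 * d + 1) / i))) := by
  subst hq
  have hrpr : r.Prime := Fact.out
  have h2 : (2 : F) ≠ 0 := two_ne_zero_of_odd p hqodd
  have hrp : r ≠ p := by
    intro h
    subst h
    exact Cfsg.Agent.Lib.Helper60_OTS_OC.OC1 h2 d m hm hmd hrΩ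
  by_cases hr2 : r = 2
  · subst hr2
    rw [Cfsg.Agent.Lib.Helper84_OTS_OA.OA rfl hqodd d m hd hm hmd]
    constructor
    · intro h
      exact Or.inl ⟨rfl, h⟩
    · rintro (⟨-, h⟩ | ⟨-, h, -⟩)
      · exact h
      · omega
  · have hc' : c = atomDim F r := by
      rw [hc, hi]
      rfl
    subst hi
    constructor
    · intro hall
      right
      obtain ⟨h1, h3, h4⟩ := nec_odd h2 hm hmd hrpr hr2 hrp hrΩ hall
      refine ⟨hrp, lt_of_le_of_ne hrpr.two_le (Ne.symm hr2), h1, ?_, h4⟩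
      rw [hc']
      exact h3
    · rintro (⟨h, -⟩ | ⟨-, -, -, hk, h3⟩)
      · exact absurd h hr2
      · intro x hxΩ hxr
        exact fix_of_odd h2 hmd hrpr hr2 hrp (by rw [← hc']; exact hk) h3 x hxΩ hxr

end Cfsg.Agent.S5972
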