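import Cfsg.Statements.S5976
import Cfsg.Agent.Lib.Helper13_GUSpK
import Cfsg.Agent.Lib.Helper13_GUSpConj
import Cfsg.Agent.Lib.Helper3_GUSp_PC1
import Cfsg.Agent.Lib.Helper7_GUSp_PD2
import Cfsg.Agent.Lib.Helper99_GUSp_PD3
import Cfsg.Agent.Lib.Helper21_GUSp_PE1
import Cfsg.Agent.Lib.Helper10_GUSp_PE2
import Cfsg.Agent.Lib.Helper10_GUSp_PC2
import Cfsg.Agent.Lib.Helper5_PSpSimple
import Cfsg.Agent.Lib.Helper5_SpOrder

set_option autoImplicit false
open scoped MatrixGroups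
open Cfsg

namespace Cfsg.Agent.S5976

open Matrix Cfsg.Agent.Lib.Helper13_Symp Cfsg.Agent.Lib.Helper13_GUSpDefs
  Cfsg.Agent.Lib.Helper13_GUSpK Cfsg.Agent.Lib.Helper13_GUSpConj

section aux

variable {F : Type*} [Field F]

theorem relIndex_mul_card_inf' {G : Type*} [Group G] (H K : Subgroup G) :
    H.relIndex K * Nat.card ↥(H ⊓ K) = Nat.card ↥K := by
  rw [Subgroup.relIndex, ← Subgroup.inf_subgroupOf_right,
    ← Nat.card_congr (Subgroup.subgroupOfEquivOfLe (inf_le_right : H ⊓ K ≤ K)).toEquiv,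
    Subgroup.index_mul_card]

theorem card_spGL' (d : ℕ) [Fintype F] :
    Nat.card (Cfsg.spGL d F) = Nat.card (Matrix.symplecticGroup (Fin d) F) := by
  apply Nat.card_congr
  exact
    { toFun := Cfsg.Agent.Lib.Helper5_PSpSimple.fromSpGL d
      invFun := Cfsg.Agent.Lib.Helper5_PSpSimple.toSpGL d
      left_inv := Cfsg.Agent.Lib.Helper5_PSpSimple.toSpGL_fromSpGL d
      right_inv := fun g => Subtype.ext rfl }

/-- transport of commutation along a conjugation -/
theorem conj_comm {ι : Type*} [Fintype ι] [DecidableEq ι] {A Ai g θ θ' : Matrix ι ι F}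
    (h1 : A * Ai = 1) (h2 : Ai * A = 1) (hA : A * θ = θ' * A) (hg : g * θ = θ * g) :
    (A * g * Ai) * θ' = θ' * (A * g * Ai) := by
  have h3 : Ai * θ' = θ * Ai := by
    calc Ai * θ' = Ai * θ' * (A * Ai) := by rw [h1, mul_one]
      _ = Ai * (θ' * A) * Ai := by simp only [mul_assoc]
      _ = (Ai * A) * θ * Ai := by rw [← hA]; simp only [mul_assoc]
      _ = θ * Ai := by rw [h2, one_mul]
  calc (A * g * Ai) * θ' = A * g * (Ai * θ') := by simp only [mul_assoc]
    _ = A * (g * θ) * Ai := by rw [h3]; simp only [mul_assoc]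
    _ = (A * θ) * g * Ai := by rw [hg]; simp only [mul_assoc]
    _ = θ' * (A * g * Ai) := by rw [hA]; simp only [mul_assoc]

theorem conj_anticomm {ι : Type*} [Fintype ι] [DecidableEq ι] {A Ai g θ θ' : Matrix ι ι F}
    (h1 : A * Ai = 1) (h2 : Ai * A = 1) (hA : A * θ = θ' * A) (hg : g * θ = -(θ * g)) :
    (A * g * Ai) * θ' = -(θ' * (A * g * Ai)) := by
  have h3 : Ai * θ' = θ * Ai := by
    calc Ai * θ' = Ai * θ' * (A * Ai) := by rw [h1, mul_one]
      _ = Ai * (θ' * A) * Ai := by simp only [mul_assoc]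
      _ = (Ai * A) * θ * Ai := by rw [← hA]; simp only [mul_assoc]
      _ = θ * Ai := by rw [h2, one_mul]
  calc (A * g * Ai) * θ' = A * g * (Ai * θ') := by simp only [mul_assoc]
    _ = A * (g * θ) * Ai := by rw [h3]; simp only [mul_assoc]
    _ = -((A * θ) * g * Ai) := by rw [hg]; simp only [mul_assoc, mul_neg, neg_mul]
    _ = -(θ' * (A * g * Ai)) := by rw [hA]; simp only [mul_assoc]

/-- the centralisers in `Sp` of conjugate matrices have the same order -/
theorem card_cent_eq (d : ℕ) (θ θ' : Matrix (Fin d ⊕ Fin d) (Fin d ⊕ Fin d) F)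
    (P : symplecticGroup (Fin d) F)
    (hP : (P : Matrix (Fin d ⊕ Fin d) (Fin d ⊕ Fin d) F) * θ =
      θ' * (P : Matrix (Fin d ⊕ Fin d) (Fin d ⊕ Fin d) F)) :
    Nat.card {g : symplecticGroup (Fin d) F //
        (g : Matrix (Fin d ⊕ Fin d) (Fin d ⊕ Fin d) F) * θ =
          θ * (g : Matrix (Fin d ⊕ Fin d) (Fin d ⊕ Fin d) F)} =
      Nat.card {g : symplecticGroup (Fin d) F //
        (g : Matrix (Fin d ⊕ Fin d) (Fin d ⊕ Fin d) F) * θ' =
          θ' * (g : Matrix (Fin d ⊕ Fin d) (Fin d ⊕ Fin d) F)} := by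
  have h1 : (P : Matrix (Fin d ⊕ Fin d) (Fin d ⊕ Fin d) F) *
      ((P⁻¹ : symplecticGroup (Fin d) F) : Matrix (Fin d ⊕ Fin d) (Fin d ⊕ Fin d) F) = 1 := by
    have := congrArg Subtype.val (mul_inv_cancel P)
    exact this
  have h2 : ((P⁻¹ : symplecticGroup (Fin d) F) : Matrix (Fin d ⊕ Fin d) (Fin d ⊕ Fin d) F) *
      (P : Matrix (Fin d ⊕ Fin d) (Fin d ⊕ Fin d) F) = 1 := by
    have := congrArg Subtype.val (inv_mul_cancel P)
    exact this
  have hP' : ((P⁻¹ : symplecticGroup (Fin d) F) : Matrix (Fin d ⊕ Fin d) (Fin d ⊕ Fin d) F) * θ' =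
      θ * ((P⁻¹ : symplecticGroup (Fin d) F) : Matrix (Fin d ⊕ Fin d) (Fin d ⊕ Fin d) F) := by
    calc ((P⁻¹ : symplecticGroup (Fin d) F) : Matrix (Fin d ⊕ Fin d) (Fin d ⊕ Fin d) F) * θ'
        = ((P⁻¹ : symplecticGroup (Fin d) F) : Matrix (Fin d ⊕ Fin d) (Fin d ⊕ Fin d) F) * θ' *
          ((P : Matrix (Fin d ⊕ Fin d) (Fin d ⊕ Fin d) F) *
            ((P⁻¹ : symplecticGroup (Fin d) F) : Matrix (Fin d ⊕ Fin d) (Fin d ⊕ Fin d) F)) := by
          rw [h1, mul_one]
      _ = ((P⁻¹ : symplecticGroup (Fin d) F) : Matrix (Fin d ⊕ Fin d) (Fin d ⊕ Fin d) F) *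
          (θ' * (P : Matrix (Fin d ⊕ Fin d) (Fin d ⊕ Fin d) F)) *
            ((P⁻¹ : symplecticGroup (Fin d) F) : Matrix (Fin d ⊕ Fin d) (Fin d ⊕ Fin d) F) := by
          simp only [mul_assoc]
      _ = θ * ((P⁻¹ : symplecticGroup (Fin d) F) : Matrix (Fin d ⊕ Fin d) (Fin d ⊕ Fin d) F) := by
          rw [← hP, ← mul_assoc, h2, one_mul]
  apply Nat.card_congr
  refine
    { toFun := fun g => ⟨P * g.1 * P⁻¹, conj_comm h1 h2 hP g.2⟩
      invFun := fun g => ⟨P⁻¹ * g.1 * P, conj_comm h2 h1 hP' g.2⟩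
      left_inv := fun g => ?_
      right_inv := fun g => ?_ }
  · apply Subtype.ext
    show P⁻¹ * (P * g.1 * P⁻¹) * P = g.1
    group
  · apply Subtype.ext
    show P * (P⁻¹ * g.1 * P) * P⁻¹ = g.1
    group

end aux

/-- Elements of prime order of PSp_n(q), q odd, and the subgroups of type GU_{n/2}(q). Here `T = PSp_{2d}(F)` for a field `F` with `q` elements, `q` odd, `d ≥ 2`, realised through the matrices preserving the standard alternating form `f`; `K` is a subalgebra of the `2d × 2d` matrices that is a field of degree 2 over `F`, closed under taking adjoints for `f` but not consisting of self-adjoint elements (so `F^{2d}` becomes a `d`-dimensional space over `K ≅ F_{q²}` on which `f` is the trace of a multiple of a non-degenerate hermitian form); `H` is the subgroup of `T` normalizing `K` — the symplectic maps that are `K`-linear or `K`-semilinear, a subgroup of type GU_d(q) (maximality is not assumed). Ω is the set of cosets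 of `H` in `T`, so an element of `T` of prime order `r` (`x ∈ T` with `x^r` scalar, `x` not scalar) fixes a point of Ω exactly when some `T`-conjugate of `x` normalizes `K`. Let `r` be a prime dividing the index of `H`. Then every element of `T` of order `r` fixes a point of Ω if and only if `r = 2`. -/
theorem result {F : Type*} [Field F] [Fintype F] {p : ℕ} [Fact p.Prime] [CharP F p] {q : ℕ} (hq : Fintype.card F = q)
    (hodd : Odd q) (d : ℕ) (hd : 2 ≤ d)
    (K : Subalgebra F (Matrix (Fin d ⊕ Fin d) (Fin d ⊕ Fin d) F)) (hK : Cfsg.Geo.IsFieldSubalgebra 2 K)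
    (hKf : Cfsg.Geo.IsAdjointClosedFor (Cfsg.sympForm d F) K) (hKns : ¬ Cfsg.Geo.IsSelfAdjointFor (Cfsg.sympForm d F) K)
    (r : ℕ) [Fact r.Prime]
    (hΩ : r ∣ (Cfsg.Geo.subalgebraNormalizer K).relIndex (Cfsg.spGL d F)) :
    (∀ x ∈ Cfsg.spGL d F, (∃ z : F, ((x ^ r : GL (Fin d ⊕ Fin d) F) : Matrix (Fin d ⊕ Fin d) (Fin d ⊕ Fin d) F) = z • (1 : Matrix (Fin d ⊕ Fin d) (Fin d ⊕ Fin d) F)) →
      (∀ z : F, (x : Matrix (Fin d ⊕ Fin d) (Fin d ⊕ Fin d) F) ≠ z • (1 : Matrix (Fin d ⊕ Fin d) (Fin d ⊕ Fin d) F)) →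
      ∃ g ∈ Cfsg.spGL d F, g⁻¹ * x * g ∈ Cfsg.Geo.subalgebraNormalizer K) ↔ r = 2 := by
  classical
  subst hq
  have hd1 : 1 ≤ d := by omega
  have hrprime : r.Prime := Fact.out
  have hpprime : p.Prime := Fact.out
  have h2 : (2 : F) ≠ 0 := by
    intro h
    have h3 : ringChar F = 2 := CharP.ringChar_of_prime_eq_zero Nat.prime_two (by exact_mod_cast h)
    have := FiniteField.even_card_iff_char_two.1 h3
    rcases hodd with ⟨k, hk⟩
    omega
  obtain ⟨θ, Δ, hθK, hΔ, hθ, hgen, hskew⟩ := exists_theta h2 d hd1 K hK hKf hKns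
  have hΔ0 : Δ ≠ 0 := by
    rintro rfl
    exact hΔ ⟨0, by simp⟩
  constructor
  · intro hall
    by_contra hr2
    have hrodd : Odd r := hrprime.odd_of_ne_two hr2
    -- a derangement
    have hA : ∃ A : Matrix (Fin d ⊕ Fin d) (Fin d ⊕ Fin d) F, A ∈ symplecticGroup (Fin d) F ∧ A ^ r = 1 ∧
        ∀ θ' : Matrix (Fin d ⊕ Fin d) (Fin d ⊕ Fin d) F,
          θ' * θ' = Δ • (1 : Matrix (Fin d ⊕ Fin d) (Fin d ⊕ Fin d) F) → IsSkew d θ' → A * θ' ≠ θ' * A := by
      by_cases hrp : r = p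
      · subst hrp
        obtain ⟨A, hA, hAp, hAc⟩ := PD1 r d hd1 Δ hΔ
        exact ⟨A, hA, hAp, fun θ' h _ => hAc θ' h⟩
      · have hrq : ¬ r ∣ Fintype.card F := by
          obtain ⟨n, hp, hn⟩ := FiniteField.card F p
          rw [hn]
          intro h
          exact hrp ((Nat.prime_dvd_prime_iff_eq hrprime hp).1 (hrprime.dvd_of_dvd_pow h))
        -- the centraliser of `θ`
        let θgl : GL (Fin d ⊕ Fin d) F :=
          ⟨θ, Δ⁻¹ • θ, by rw [mul_smul_comm, hθ, smul_smul, inv_mul_cancel₀ hΔ0, one_smul],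
            by rw [smul_mul_assoc, hθ, smul_smul, inv_mul_cancel₀ hΔ0, one_smul]⟩
        set C : Subgroup (GL (Fin d ⊕ Fin d) F) :=
          Subgroup.centralizer {θgl} ⊓ Cfsg.spGL d F with hC
        have hmemC : ∀ g : GL (Fin d ⊕ Fin d) F, g ∈ C ↔
            ((g : Matrix (Fin d ⊕ Fin d) (Fin d ⊕ Fin d) F) * θ =
              θ * (g : Matrix (Fin d ⊕ Fin d) (Fin d ⊕ Fin d) F) ∧ g ∈ Cfsg.spGL d F) := by
          intro g
          rw [hC, Subgroup.mem_inf, Subgroup.mem_centralizer_iff]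
          constructor
          · rintro ⟨h1, h3⟩
            refine ⟨?_, h3⟩
            have := congrArg Units.val (h1 θgl rfl)
            exact this.symm
          · rintro ⟨h1, h3⟩
            refine ⟨?_, h3⟩
            intro h hh
            rw [Set.mem_singleton_iff] at hh
            subst hh
            apply Units.ext
            exact h1.symm
        have hCle : C ≤ Cfsg.Geo.subalgebraNormalizer K ⊓ Cfsg.spGL d F := by
          intro g hg
          rw [hmemC] at hg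
          exact ⟨mem_normalizer_of_comm K hK hd1 hΔ hθK hθ hgen g (Or.inl hg.1), hg.2⟩
        have hcardC : Nat.card C = Nat.card {g : symplecticGroup (Fin d) F //
            (g : Matrix (Fin d ⊕ Fin d) (Fin d ⊕ Fin d) F) * θ =
              θ * (g : Matrix (Fin d ⊕ Fin d) (Fin d ⊕ Fin d) F)} := by
          apply Nat.card_congr
          refine
            { toFun := fun c => ⟨Cfsg.Agent.Lib.Helper5_PSpSimple.fromSpGL d ⟨c.1, ((hmemC c.1).1 c.2).2⟩,
                ((hmemC c.1).1 c.2).1⟩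
              invFun := fun g => ⟨(Cfsg.Agent.Lib.Helper5_PSpSimple.toSpGL d g.1).1,
                (hmemC _).2 ⟨g.2, (Cfsg.Agent.Lib.Helper5_PSpSimple.toSpGL d g.1).2⟩⟩
              left_inv := fun c => ?_
              right_inv := fun g => ?_ }
          · apply Subtype.ext
            apply Units.ext
            rfl
          · apply Subtype.ext
            apply Subtype.ext
            rfl
        obtain ⟨P, hPmem, hP⟩ := PB p h2 d Δ hΔ θ (Theta0 d Δ) hθ (Theta0_mul_self d Δ) hskew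
          (Theta0_isSkew d Δ)
        have hcard2 := card_cent_eq d θ (Theta0 d Δ) ⟨P, hPmem⟩ hP
        have hGU := Cfsg.Agent.Lib.Helper3_GUSp_PC1.PC1 (F := F) rfl h2 d Δ hΔ
        rw [← hcard2, ← hcardC] at hGU
        obtain ⟨n₂, hn₂⟩ := hGU
        obtain ⟨n₁, hn₁⟩ := Subgroup.card_dvd_of_le hCle
        have hidx := relIndex_mul_card_inf' (Cfsg.Geo.subalgebraNormalizer K) (Cfsg.spGL d F)
        rw [card_spGL', Cfsg.Agent.Lib.Helper5_SpOrder.card_sp rfl d, hn₁, hn₂] at hidx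
        have hq2 : 2 ≤ Fintype.card F := Fintype.one_lt_card
        rcases Cfsg.Agent.Lib.Helper10_GUSp_PC2.PC2 (q := Fintype.card F) (d := d) (r := r)
          (M := (Cfsg.Geo.subalgebraNormalizer K).relIndex (Cfsg.spGL d F)) (N := n₂ * n₁)
          hq2 hrprime hr2 hrq hΩ (by rw [← hidx]; ring) with ⟨he, hed⟩ | ⟨he, hed⟩
        · obtain ⟨A, hA, hAr, hAc⟩ := Cfsg.Agent.Lib.Helper7_GUSp_PD2.PD2 (F := F) p d r hrprime hr2 hrp
            he hed Δ hΔ
          exact ⟨A, hA, hAr, fun θ' h _ => hAc θ' h⟩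
        · exact Cfsg.Agent.Lib.Helper99_GUSp_PD3.PD3 (F := F) p h2 d r hrprime hr2 hrp he hed Δ hΔ
    obtain ⟨A, hAmem, hAr, hAc⟩ := hA
    -- the derangement as an element of `spGL`
    set x : ↥(Cfsg.spGL d F) := Cfsg.Agent.Lib.Helper5_PSpSimple.toSpGL d ⟨A, hAmem⟩ with hx
    have hxval : ((x : GL (Fin d ⊕ Fin d) F) : Matrix (Fin d ⊕ Fin d) (Fin d ⊕ Fin d) F) = A := rfl
    have hxr : ((x : GL (Fin d ⊕ Fin d) F) ^ r : GL (Fin d ⊕ Fin d) F) = 1 := by
      apply Units.ext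
      rw [Units.val_pow_eq_pow_val, hxval, hAr]
      rfl
    have hxns : ∀ z : F, ((x : GL (Fin d ⊕ Fin d) F) : Matrix (Fin d ⊕ Fin d) (Fin d ⊕ Fin d) F) ≠
        z • (1 : Matrix (Fin d ⊕ Fin d) (Fin d ⊕ Fin d) F) := by
      intro z hz
      apply hAc θ hθ hskew
      rw [← hxval, hz, smul_mul_assoc, one_mul, mul_smul_comm, mul_one]
    obtain ⟨g, hg, hgx⟩ := hall (x : GL (Fin d ⊕ Fin d) F) x.2
      ⟨1, by rw [hxr, one_smul]; rfl⟩ hxns
    set G : Matrix (Fin d ⊕ Fin d) (Fin d ⊕ Fin d) F := (g : Matrix (Fin d ⊕ Fin d) (Fin d ⊕ Fin d) F)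
      with hG
    set Gi : Matrix (Fin d ⊕ Fin d) (Fin d ⊕ Fin d) F :=
      ((g⁻¹ : GL (Fin d ⊕ Fin d) F) : Matrix (Fin d ⊕ Fin d) (Fin d ⊕ Fin d) F) with hGi
    have hGGi : G * Gi = 1 := by rw [hG, hGi]; exact Units.mul_inv g
    have hGiG : Gi * G = 1 := by rw [hG, hGi]; exact Units.inv_mul g
    have hyr : ((g⁻¹ * (x : GL (Fin d ⊕ Fin d) F) * g : GL (Fin d ⊕ Fin d) F) :
        Matrix (Fin d ⊕ Fin d) (Fin d ⊕ Fin d) F) ^ r =
        (1 : F) • (1 : Matrix (Fin d ⊕ Fin d) (Fin d ⊕ Fin d) F) := by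
      rw [← Units.val_pow_eq_pow_val, one_smul]
      have : (g⁻¹ * (x : GL (Fin d ⊕ Fin d) F) * g) ^ r = 1 := by
        have h1 : g⁻¹ * (x : GL (Fin d ⊕ Fin d) F) * g = g⁻¹ * (x : GL (Fin d ⊕ Fin d) F) * g⁻¹⁻¹ := by
          rw [inv_inv]
        rw [h1, conj_pow, hxr, mul_one, inv_inv, inv_mul_cancel]
      rw [this]
      rfl
    have hcomm := comm_of_odd_pow K hK h2 hd1 hΔ hθK hθ hgen _ hgx r hrodd 1 hyr
    have hyval : ((g⁻¹ * (x : GL (Fin d ⊕ Fin d) F) * g : GL (Fin d ⊕ Fin d) F) :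
        Matrix (Fin d ⊕ Fin d) (Fin d ⊕ Fin d) F) = Gi * A * G := by
      rw [Units.val_mul, Units.val_mul, hxval]
    rw [hyval] at hcomm
    have hGmem : G ∈ symplecticGroup (Fin d) F :=
      mem_symplecticGroup_of_preserves d (fun u v => hg u v)
    apply hAc (G * θ * Gi)
    · calc G * θ * Gi * (G * θ * Gi) = G * θ * (Gi * G) * θ * Gi := by simp only [mul_assoc]
        _ = Δ • (1 : Matrix (Fin d ⊕ Fin d) (Fin d ⊕ Fin d) F) := by
          rw [hGiG, mul_one, mul_assoc G, hθ, mul_smul_comm, mul_one, smul_mul_assoc, hGGi]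
    · exact hskew.conj hGmem hGGi
    · have h1 : A = G * (Gi * A * G) * Gi := by
        calc A = (G * Gi) * A * (G * Gi) := by rw [hGGi, one_mul, mul_one]
          _ = G * (Gi * A * G) * Gi := by simp only [mul_assoc]
      have h3 := conj_comm (A := G) (Ai := Gi) (θ := θ) (θ' := G * θ * Gi) hGGi hGiG
        (by rw [mul_assoc, mul_assoc, hGiG, mul_one]) hcomm
      rw [← h1] at h3
      exact h3
  · intro hr2
    subst hr2
    intro x hx hz hns
    obtain ⟨z, hz⟩ := hz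
    set X : Matrix (Fin d ⊕ Fin d) (Fin d ⊕ Fin d) F := (x : Matrix (Fin d ⊕ Fin d) (Fin d ⊕ Fin d) F)
      with hX
    have hXmem : X ∈ symplecticGroup (Fin d) F :=
      mem_symplecticGroup_of_preserves d (fun u v => hx u v)
    have hXX : X * X = z • (1 : Matrix (Fin d ⊕ Fin d) (Fin d ⊕ Fin d) F) := by
      rw [← hz, Units.val_pow_eq_pow_val, pow_two]
    -- `z = ± 1`
    have hzz : z * z = 1 := by
      have hmem : X * X ∈ symplecticGroup (Fin d) F := mul_mem hXmem hXmem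
      rw [hXX] at hmem
      obtain ⟨u, hu⟩ : ∃ u : Fin d ⊕ Fin d → F, u ≠ 0 := by
        refine ⟨Pi.single (Sum.inl ⟨0, by omega⟩) 1, ?_⟩
        intro h
        have := congrFun h (Sum.inl ⟨0, by omega⟩)
        simp at this
      obtain ⟨w, hw⟩ := Cfsg.Agent.Lib.Helper13_SympTrans.exists_sympForm_ne_zero d hu
      have := sympForm_mulVec_mulVec_of_mem d hmem u w
      rw [Matrix.smul_mulVec, Matrix.smul_mulVec, Matrix.one_mulVec, Matrix.one_mulVec,
        sympForm_smul_left, sympForm_smul_right, ← mul_assoc] at this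
      have h3 : (z * z - 1) * Cfsg.sympForm d F u w = 0 := by linear_combination this
      rcases mul_eq_zero.1 h3 with h | h
      · linear_combination h
      · exact absurd h hw
    have hθ' : ∃ θ' : Matrix (Fin d ⊕ Fin d) (Fin d ⊕ Fin d) F,
        θ' * θ' = Δ • (1 : Matrix (Fin d ⊕ Fin d) (Fin d ⊕ Fin d) F) ∧ IsSkew d θ' ∧
          (X * θ' = θ' * X ∨ X * θ' = -(θ' * X)) := by
      have hz1 : (z - 1) * (z + 1) = 0 := by linear_combination hzz
      rcases mul_eq_zero.1 hz1 with h | h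
      · have hz1 : z = 1 := by linear_combination h
        rw [hz1, one_smul] at hXX
        obtain ⟨θ', h1, h3, h4⟩ := Cfsg.Agent.Lib.Helper21_GUSp_PE1.PE1 (F := F) p h2 d Δ X hXmem hXX
        exact ⟨θ', h1, h3, Or.inl h4⟩
      · have hz1 : z = -1 := by linear_combination h
        rw [hz1, neg_one_smul] at hXX
        obtain ⟨θ', h1, h3, h4⟩ := Cfsg.Agent.Lib.Helper10_GUSp_PE2.PE2 (F := F) p h2 d Δ X hXmem hXX
        exact ⟨θ', h1, h3, Or.inr h4⟩
    obtain ⟨θ', hθ'sq, hθ'skew, hcomm⟩ := hθ'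
    obtain ⟨P, hPmem, hP⟩ := PB p h2 d Δ hΔ θ' θ hθ'sq hθ hθ'skew hskew
    set Pgl : ↥(Cfsg.spGL d F) := Cfsg.Agent.Lib.Helper5_PSpSimple.toSpGL d ⟨P, hPmem⟩ with hPgl
    have hPval : ((Pgl : GL (Fin d ⊕ Fin d) F) : Matrix (Fin d ⊕ Fin d) (Fin d ⊕ Fin d) F) = P := rfl
    set Pi : Matrix (Fin d ⊕ Fin d) (Fin d ⊕ Fin d) F :=
      (((Pgl : GL (Fin d ⊕ Fin d) F)⁻¹ : GL (Fin d ⊕ Fin d) F) : Matrix (Fin d ⊕ Fin d) (Fin d ⊕ Fin d) F)
      with hPi
    have hPPi : P * Pi = 1 := by rw [← hPval, hPi]; exact Units.mul_inv _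
    have hPiP : Pi * P = 1 := by rw [← hPval, hPi]; exact Units.inv_mul _
    refine ⟨(Pgl : GL (Fin d ⊕ Fin d) F)⁻¹, inv_mem Pgl.2, ?_⟩
    rw [inv_inv]
    apply mem_normalizer_of_comm K hK hd1 hΔ hθK hθ hgen
    have hval : (((Pgl : GL (Fin d ⊕ Fin d) F) * x * (Pgl : GL (Fin d ⊕ Fin d) F)⁻¹ :
        GL (Fin d ⊕ Fin d) F) : Matrix (Fin d ⊕ Fin d) (Fin d ⊕ Fin d) F) = P * X * Pi := by
      rw [Units.val_mul, Units.val_mul, hPval]
    rw [hval]
    rcases hcomm with h | h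
    · exact Or.inl (conj_comm hPPi hPiP hP h)
    · exact Or.inr (conj_anticomm hPPi hPiP hP h)

end Cfsg.Agent.S5976
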