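import Cfsg.Statements.S5975
import Cfsg.Agent.S5976
import Cfsg.Agent.Lib.Helper13_SpExtBase
import Cfsg.Agent.Lib.Helper20_SpExt_QB3
import Cfsg.Agent.Lib.Helper24_SpExt_QE
import Cfsg.Agent.Lib.Helper10_SpExt_QF2
import Cfsg.Agent.Lib.Helper20_SpExt_QB2
import Cfsg.Agent.Lib.Helper34_SpExt_QC2
import Cfsg.Agent.Lib.Helper10_SpExt_QD
import Cfsg.Agent.Lib.Helper31_SpExt_QF1
import Cfsg.Agent.Lib.Helper10_SpExt_QF3
import Cfsg.Agent.Lib.Helper43_SpTensor4
import Cfsg.Agent.Lib.Helper75_SpAtomOdd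

set_option autoImplicit false
open scoped MatrixGroups
open scoped Matrix
open Cfsg

namespace Cfsg.Agent.S5975

open Matrix Cfsg.Agent.Lib.Helper13_Symp Cfsg.Agent.Lib.Helper13_GUSpDefs
  Cfsg.Agent.Lib.Helper13_SpExtDefs Cfsg.Agent.Lib.Helper13_SpExtBase Cfsg.Agent.Lib.Helper13_GUSpK

section aux

variable {F : Type*} [Field F]

/-- a matrix centralising `K` normalises it -/
theorem mem_normalizer_of_centralizes {ι : Type} [Fintype ι] [DecidableEq ι]
    (K : Subalgebra F (Matrix ι ι F)) (g : GL ι F)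
    (hc : ∀ a ∈ K, (g : Matrix ι ι F) * a = a * (g : Matrix ι ι F)) :
    g ∈ Cfsg.Geo.subalgebraNormalizer K := by
  have hgi : (g : Matrix ι ι F) * ((g⁻¹ : GL ι F) : Matrix ι ι F) = 1 := Units.mul_inv g
  have hig : ((g⁻¹ : GL ι F) : Matrix ι ι F) * (g : Matrix ι ι F) = 1 := Units.inv_mul g
  intro a
  show a ∈ K ↔ (g : Matrix ι ι F) * a * ((g⁻¹ : GL ι F) : Matrix ι ι F) ∈ K
  constructor
  · intro ha
    rw [hc a ha, mul_assoc, hgi, mul_one]
    exact ha
  · intro ha
    have h1 := hc _ ha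
    have h3 : a = (g : Matrix ι ι F) * a * ((g⁻¹ : GL ι F) : Matrix ι ι F) := by
      calc a = (((g⁻¹ : GL ι F) : Matrix ι ι F) * (g : Matrix ι ι F)) * a *
            (((g⁻¹ : GL ι F) : Matrix ι ι F) * (g : Matrix ι ι F)) := by rw [hig, one_mul, mul_one]
        _ = ((g⁻¹ : GL ι F) : Matrix ι ι F) *
            (((g : Matrix ι ι F) * a * ((g⁻¹ : GL ι F) : Matrix ι ι F)) * (g : Matrix ι ι F)) := by
            simp only [mul_assoc]
        _ = ((g⁻¹ : GL ι F) : Matrix ι ι F) *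
            ((g : Matrix ι ι F) * ((g : Matrix ι ι F) * a * ((g⁻¹ : GL ι F) : Matrix ι ι F))) := by
            rw [h1]
        _ = (g : Matrix ι ι F) * a * ((g⁻¹ : GL ι F) : Matrix ι ι F) := by
            rw [← mul_assoc, hig, one_mul]
    rw [h3]
    exact ha

/-- the rank of `y - 1` is invariant under conjugation -/
theorem rank_conj_sub_one {ι : Type} [Fintype ι] [DecidableEq ι] (g : GL ι F) (A : Matrix ι ι F) :
    (((g⁻¹ : GL ι F) : Matrix ι ι F) * A * (g : Matrix ι ι F) - 1).rank = (A - 1).rank := by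
  have hig : ((g⁻¹ : GL ι F) : Matrix ι ι F) * (g : Matrix ι ι F) = 1 := Units.inv_mul g
  have h1 : ((g⁻¹ : GL ι F) : Matrix ι ι F) * A * (g : Matrix ι ι F) - 1 =
      ((g⁻¹ : GL ι F) : Matrix ι ι F) * (A - 1) * (g : Matrix ι ι F) := by
    rw [mul_sub, sub_mul, mul_one, hig]
  have hdet : IsUnit (g : Matrix ι ι F).det := (Matrix.isUnit_iff_isUnit_det _).1 (Units.isUnit g)
  have hdet' : IsUnit ((g⁻¹ : GL ι F) : Matrix ι ι F).det :=
    (Matrix.isUnit_iff_isUnit_det _).1 (Units.isUnit g⁻¹)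
  rw [h1, Matrix.rank_mul_eq_left_of_isUnit_det _ _ hdet, Matrix.rank_mul_eq_right_of_isUnit_det _ _ hdet']

end aux

/-- Elements of prime order of PSp_n(q) and the field-extension subgroups of type Sp_{n/k}(q^k). Here `T = PSp_{2d}(F)` for a field `F` with `q` elements (`d ≥ 2`, `(d, q) ≠ (2, 2)`), realised through the matrices preserving the standard alternating form `f`; `k` is a prime and `K` is a subalgebra of the `2d × 2d` matrices that is a field of degree `k` over `F` whose elements are self-adjoint for `f` and satisfy `f(a v, v) = 0` (so `F^{2d}` becomes a vector space over `K ≅ F_{q^k}` on which `f` is the trace of a `K`-bilinear alternating form); `H` is the subgroup of `T` normalizing `K` — the symplectic maps that are `K`-linear or `K`-semilinear, a subgroup of type Sp_{2d/k}(q^k) (maximality is not assumed). Ω is the set of cosets of `H` in `T`, so an element of `T` of prime order `r` (`x ∈ T` with `x^r` scalar, `x` not scalar)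 fixes a point of Ω exactly when some `T`-conjugate of `x` normalizes `K`. Let `r` be a prime dividing the index of `H`. Then every element of `T` of order `r` fixes a point of Ω if and only if `r = 2`, `d = 2`, `k = 2` and `q` is odd. -/
theorem result {F : Type*} [Field F] [Fintype F] {p : ℕ} [Fact p.Prime] [CharP F p] {q : ℕ} (hq : Fintype.card F = q)
    (d : ℕ) (hd : 2 ≤ d) (hT : (d, q) ≠ (2, 2)) (k : ℕ) (hk : k.Prime)
    (K : Subalgebra F (Matrix (Fin d ⊕ Fin d) (Fin d ⊕ Fin d) F)) (hK : Cfsg.Geo.IsFieldSubalgebra k K)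
    (hKf : Cfsg.Geo.IsSelfAdjointFor (Cfsg.sympForm d F) K) (hKalt : ∀ a ∈ K, ∀ v : Fin d ⊕ Fin d → F, Cfsg.sympForm d F (a *ᵥ v) v = 0)
    (r : ℕ) [Fact r.Prime]
    (hΩ : r ∣ (Cfsg.Geo.subalgebraNormalizer K).relIndex (Cfsg.spGL d F)) :
    (∀ x ∈ Cfsg.spGL d F, (∃ z : F, ((x ^ r : GL (Fin d ⊕ Fin d) F) : Matrix (Fin d ⊕ Fin d) (Fin d ⊕ Fin d) F) = z • (1 : Matrix (Fin d ⊕ Fin d) (Fin d ⊕ Fin d) F)) →
      (∀ z : F, (x : Matrix (Fin d ⊕ Fin d) (Fin d ⊕ Fin d) F) ≠ z • (1 : Matrix (Fin d ⊕ Fin d) (Fin d ⊕ Fin d) F)) →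
      ∃ g ∈ Cfsg.spGL d F, g⁻¹ * x * g ∈ Cfsg.Geo.subalgebraNormalizer K) ↔
    (r = 2 ∧ d = 2 ∧ k = 2 ∧ Odd q) := by
  classical
  subst hq
  have hd1 : 1 ≤ d := by omega
  have hrprime : r.Prime := Fact.out
  have hpprime : p.Prime := Fact.out
  have hk2 : 2 ≤ k := hk.two_le
  have hne : Nonempty (Fin d ⊕ Fin d) := ⟨Sum.inl ⟨0, by omega⟩⟩
  have hcardι : Fintype.card (Fin d ⊕ Fin d) = 2 * d := by
    rw [Fintype.card_sum, Fintype.card_fin]; ring
  constructor
  · intro hall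
    -- `k ∣ d`
    have hkd : k ∣ d := by
      have h1 := Cfsg.Agent.Lib.Helper20_SpExt_QB2.QB2 d k hd1 K hK hKf hKalt ⊤ (fun _ _ _ _ => Submodule.mem_top) (by
        intro w _ hw
        by_contra hw0
        obtain ⟨y, hy⟩ := Cfsg.Agent.Lib.Helper13_SympTrans.exists_sympForm_ne_zero d hw0
        exact hy (hw y Submodule.mem_top))
      rw [finrank_top, Module.finrank_fintype_fun_eq_card, hcardι] at h1
      exact (Nat.mul_dvd_mul_iff_left (by norm_num)).1 h1
    obtain ⟨m, hm⟩ := hkd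
    have hm1 : 1 ≤ m := by
      rcases Nat.eq_zero_or_pos m with h | h
      · subst h; omega
      · exact h
    -- the common argument: a conjugate in the normaliser
    have hkey : ∀ (x : GL (Fin d ⊕ Fin d) F), x ∈ Cfsg.spGL d F → ∀ s : ℕ, s.Prime → ((s : ℕ) : F) ≠ 0 →
        (x : Matrix (Fin d ⊕ Fin d) (Fin d ⊕ Fin d) F) ^ s = 1 →
        ∀ g ∈ Cfsg.spGL d F, g⁻¹ * x * g ∈ Cfsg.Geo.subalgebraNormalizer K →
        2 * k ∣ ((x : Matrix (Fin d ⊕ Fin d) (Fin d ⊕ Fin d) F) - 1).rank ∨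
          (s = k ∧ k * (2 * d - ((x : Matrix (Fin d ⊕ Fin d) (Fin d ⊕ Fin d) F) - 1).rank) ≤ 2 * d) := by
      intro x hx s hs hsF hxs g hg hgx
      set y : GL (Fin d ⊕ Fin d) F := g⁻¹ * x * g with hy
      have hyval : (y : Matrix (Fin d ⊕ Fin d) (Fin d ⊕ Fin d) F) =
          ((g⁻¹ : GL (Fin d ⊕ Fin d) F) : Matrix (Fin d ⊕ Fin d) (Fin d ⊕ Fin d) F) *
            (x : Matrix (Fin d ⊕ Fin d) (Fin d ⊕ Fin d) F) *
            (g : Matrix (Fin d ⊕ Fin d) (Fin d ⊕ Fin d) F) := by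
        rw [hy, Units.val_mul, Units.val_mul]
      have hrank : ((y : Matrix (Fin d ⊕ Fin d) (Fin d ⊕ Fin d) F) - 1).rank =
          ((x : Matrix (Fin d ⊕ Fin d) (Fin d ⊕ Fin d) F) - 1).rank := by
        rw [hyval, rank_conj_sub_one]
      have hymem : y ∈ Cfsg.spGL d F := by
        rw [hy]
        exact mul_mem (mul_mem (inv_mem hg) hx) hg
      have hys : (y : Matrix (Fin d ⊕ Fin d) (Fin d ⊕ Fin d) F) ^ s = 1 := by
        have hxs' : x ^ s = 1 := by
          apply Units.ext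
          rw [Units.val_pow_eq_pow_val, hxs]
          rfl
        have h1 : y ^ s = 1 := by
          have h3 : y = g⁻¹ * x * g⁻¹⁻¹ := by rw [inv_inv]
          rw [h3, conj_pow, hxs', mul_one, inv_inv, inv_mul_cancel]
        rw [← Units.val_pow_eq_pow_val, h1]
        rfl
      by_cases hc : ∀ a ∈ K, (y : Matrix (Fin d ⊕ Fin d) (Fin d ⊕ Fin d) F) * a =
          a * (y : Matrix (Fin d ⊕ Fin d) (Fin d ⊕ Fin d) F)
      · left
        rw [← hrank]
        exact Cfsg.Agent.Lib.Helper20_SpExt_QB3.QB3 d k hd1 K hK hKf hKalt _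
          (Cfsg.Agent.Lib.Helper43_SpTensor4.mem_symplecticGroup_of_mem_spGL d hymem) s hs.pos hsF hys hc
      · right
        have hsk : s = k := by
          by_contra hsk
          exact hc (Cfsg.Agent.Lib.Helper34_SpExt_QC1.QC1 k hk K hK y hgx s hs hsk 1 (by rw [hys, one_smul]))
        refine ⟨hsk, ?_⟩
        have := Cfsg.Agent.Lib.Helper34_SpExt_QC2.QC2 k hk K hK y hgx hc
        rwa [hcardι, hrank] at this
    -- centralising scalars
    have hscal : ∀ (x : GL (Fin d ⊕ Fin d) F) (z : F),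
        (x : Matrix (Fin d ⊕ Fin d) (Fin d ⊕ Fin d) F) = z • (1 : Matrix (Fin d ⊕ Fin d) (Fin d ⊕ Fin d) F) →
        ∀ a ∈ K, (x : Matrix (Fin d ⊕ Fin d) (Fin d ⊕ Fin d) F) * a =
          a * (x : Matrix (Fin d ⊕ Fin d) (Fin d ⊕ Fin d) F) := by
      intro x z hz a _
      rw [hz, smul_mul_assoc, one_mul, mul_smul_comm, mul_one]
    -- `r ≠ p`
    have hrp : r ≠ p := by
      intro hrp
      subst hrp
      set v : Fin d ⊕ Fin d → F := Pi.single (Sum.inl ⟨0, by omega⟩) 1 with hv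
      have hv0 : v ≠ 0 := by
        intro h
        have := congrFun h (Sum.inl ⟨0, by omega⟩)
        simp [hv] at this
      obtain ⟨t, ht, htA⟩ := Cfsg.Agent.Lib.Helper43_SpTensor4.exists_spGL_of_mem d _
        (sympTransvection_mem d v (1 : F))
      have htr : ((t ^ r : GL (Fin d ⊕ Fin d) F) : Matrix (Fin d ⊕ Fin d) (Fin d ⊕ Fin d) F) =
          (1 : F) • (1 : Matrix (Fin d ⊕ Fin d) (Fin d ⊕ Fin d) F) := by
        rw [Units.val_pow_eq_pow_val, one_smul]
        apply Matrix.toLin'.injective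
        apply LinearMap.ext
        intro x
        have htA' : (t : Matrix (Fin d ⊕ Fin d) (Fin d ⊕ Fin d) F) = Cfsg.sympTransvection d v 1 := htA
        rw [Matrix.toLin'_apply, htA', Cfsg.Agent.Lib.Helper13_GUSpConj.transvection_pow_mulVec,
          CharP.cast_eq_zero F r, zero_mul, zero_smul, add_zero, Matrix.toLin'_one, LinearMap.id_apply]
      have htns : ∀ z : F, (t : Matrix (Fin d ⊕ Fin d) (Fin d ⊕ Fin d) F) ≠
          z • (1 : Matrix (Fin d ⊕ Fin d) (Fin d ⊕ Fin d) F) := by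
        intro z hz
        apply not_conj_transvection d hd hk2 K hK v hv0 t 1 htA
        rw [inv_one, one_mul, mul_one]
        exact mem_normalizer_of_centralizes K t (hscal t z hz)
      obtain ⟨g, hg, hgx⟩ := hall t ht ⟨1, htr⟩ htns
      exact not_conj_transvection d hd hk2 K hK v hv0 t g htA hgx
    have hrF : ((r : ℕ) : F) ≠ 0 := by
      rw [Ne, CharP.cast_eq_zero_iff F p]
      intro h
      exact hrp ((Nat.prime_dvd_prime_iff_eq hpprime hrprime).1 h).symm
    -- `r = 2`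
    have hr2 : r = 2 := by
      by_contra hr2
      have hrq : ¬ r ∣ Fintype.card F := by
        obtain ⟨n, hp, hn⟩ := FiniteField.card F p
        rw [hn]
        intro h
        exact hrp ((Nat.prime_dvd_prime_iff_eq hrprime hp).1 (hrprime.dvd_of_dvd_pow h))
      -- the arithmetic of the index
      obtain ⟨N', hN'⟩ := Cfsg.Agent.Lib.Helper24_SpExt_QE.QE (F := F) rfl d k m hd1 hk hm K hK hKf hKalt
      have hidx := Cfsg.Agent.S5976.relIndex_mul_card_inf' (Cfsg.Geo.subalgebraNormalizer K) (Cfsg.spGL d F)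
      rw [Cfsg.Agent.S5976.card_spGL', Cfsg.Agent.Lib.Helper5_SpOrder.card_sp rfl d, hN'] at hidx
      obtain ⟨M, hM⟩ : ∃ M : ℕ, M = (Cfsg.Geo.subalgebraNormalizer K).relIndex (Cfsg.spGL d F) := ⟨_, rfl⟩
      rw [← hM] at hidx
      have hΩ' : r ∣ M := by rw [hM]; exact hΩ
      have hidx' : M * (((Fintype.card F ^ k) ^ m ^ 2 *
          ∏ j ∈ Finset.range m, ((Fintype.card F ^ k) ^ (2 * (j + 1)) - 1)) * N') =
          Fintype.card F ^ (k * m) ^ 2 *
            ∏ i ∈ Finset.range (k * m), (Fintype.card F ^ (2 * (i + 1)) - 1) := by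
        rw [← hm]; exact hidx
      have hq2 : 2 ≤ Fintype.card F := Fintype.one_lt_card
      obtain ⟨i, hi1, hikm, hki, hri⟩ := Cfsg.Agent.Lib.Helper10_SpExt_QD.QD (q := Fintype.card F) (k := k) (m := m) (r := r)
        (M := M) (N := N')
        hq2 (by omega) hrprime hrq hΩ' (by rw [← hidx']; ring)
      set e := orderOf ((Fintype.card F : ℕ) : ZMod r) with he
      have hq0 : ((Fintype.card F : ℕ) : ZMod r) ≠ 0 := by
        rwa [Ne, ZMod.natCast_eq_zero_iff]
      have he2i : e ∣ 2 * i := by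
        apply orderOf_dvd_of_pow_eq_one
        have h1 : 1 ≤ Fintype.card F ^ (2 * i) := Nat.one_le_pow _ _ (by omega)
        have h3 := (ZMod.natCast_eq_zero_iff _ r).2 hri
        rw [Nat.cast_sub h1, Nat.cast_pow, Nat.cast_one, sub_eq_zero] at h3
        exact h3
      have hedvd : e ∣ r - 1 := ZMod.orderOf_dvd_card_sub_one hq0
      have hepos : 0 < e := Nat.pos_of_dvd_of_pos hedvd (by have := hrprime.two_le; omega)
      have hrodd : Odd r := hrprime.odd_of_ne_two hr2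
      -- the element
      have hex : ∃ (A : Matrix (Fin d ⊕ Fin d) (Fin d ⊕ Fin d) F) (ρ : ℕ),
          A ∈ Matrix.symplecticGroup (Fin d) F ∧ A ^ r = 1 ∧ (A - 1).rank = ρ ∧
          (2 * k ∣ ρ → k ∣ i) ∧ ρ ≤ r - 1 := by
        rcases Nat.even_or_odd e with hev | hodd
        · obtain ⟨A, hA, hAr, hrank⟩ := Cfsg.Agent.Lib.Helper43_SpTensor4.exists_atom_elt_even (p := p)
            (F := F) d hrprime hr2 hrp hev (by
              have := Nat.le_of_dvd (by omega) he2i
              rw [hm]; omega)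
          refine ⟨A, e, hA, hAr, hrank, ?_, Nat.le_of_dvd (by have := hrprime.two_le; omega) hedvd⟩
          rintro ⟨t, ht⟩
          have h1 : 2 * (k * t) ∣ 2 * i := by
            rw [← mul_assoc, ← ht]; exact he2i
          have h3 : k * t ∣ i := (Nat.mul_dvd_mul_iff_left (by norm_num)).1 h1
          exact (Dvd.intro t rfl).trans h3
        · have hei : e ∣ i := (Nat.Coprime.dvd_of_dvd_mul_left hodd.coprime_two_right he2i)
          obtain ⟨A, hA, hAr, hrank, -⟩ := Cfsg.Agent.Lib.Helper75_SpAtomOdd.exists_atom_elt_odd (p := p)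
            (F := F) d hrprime hr2 hrp hodd (by
              have := Nat.le_of_dvd (by omega) hei
              rw [hm]; omega)
          refine ⟨A, 2 * e, hA, hAr, hrank, ?_, ?_⟩
          · intro h
            have h3 : k ∣ e := (Nat.mul_dvd_mul_iff_left (by norm_num)).1 h
            exact h3.trans hei
          · have h1 : 2 ∣ r - 1 := by
              obtain ⟨j, hj⟩ := hrodd
              exact ⟨j, by omega⟩
            have h3 : 2 * e ∣ r - 1 :=
              Nat.Coprime.mul_dvd_of_dvd_of_dvd hodd.coprime_two_left h1 hedvd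
            exact Nat.le_of_dvd (by have := hrprime.two_le; omega) h3
      obtain ⟨A, ρ, hA, hAr, hrank, hρ1, hρ2⟩ := hex
      obtain ⟨x, hx, hxA⟩ := Cfsg.Agent.Lib.Helper43_SpTensor4.exists_spGL_of_mem d A hA
      have hxA' : (x : Matrix (Fin d ⊕ Fin d) (Fin d ⊕ Fin d) F) = A := hxA
      have hxr : (x : Matrix (Fin d ⊕ Fin d) (Fin d ⊕ Fin d) F) ^ r = 1 := by rw [hxA', hAr]
      -- the two contradictions
      have hfin : ∀ g ∈ Cfsg.spGL d F, g⁻¹ * x * g ∈ Cfsg.Geo.subalgebraNormalizer K → False := by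
        intro g hg hgx
        rcases hkey x hx r hrprime hrF hxr g hg hgx with h | ⟨hrk, h⟩
        · rw [hxA', hrank] at h
          exact hki (hρ1 h)
        · rw [hxA', hrank] at h
          -- `r = k`, `ρ ≤ k - 1`, `d = k m`
          subst hrk
          have h1 : r * (2 * d - (r - 1)) ≤ 2 * d := le_trans (Nat.mul_le_mul_left r (by omega)) h
          have hdr : r ≤ d := by
            rw [hm]
            exact Nat.le_mul_of_pos_right r hm1
          have hr2' : 2 ≤ r := hrprime.two_le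
          have h3 : 2 * d - (r - 1) ≥ d + 1 := by omega
          have h4 : r * (d + 1) ≤ 2 * d := le_trans (Nat.mul_le_mul_left r h3) h1
          nlinarith
      have hxns : ∀ z : F, (x : Matrix (Fin d ⊕ Fin d) (Fin d ⊕ Fin d) F) ≠
          z • (1 : Matrix (Fin d ⊕ Fin d) (Fin d ⊕ Fin d) F) := by
        intro z hz
        apply hfin 1 (one_mem _)
        rw [inv_one, one_mul, mul_one]
        exact mem_normalizer_of_centralizes K x (hscal x z hz)
      obtain ⟨g, hg, hgx⟩ := hall x hx ⟨1, by rw [Units.val_pow_eq_pow_val, hxr, one_smul]⟩ hxns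
      exact hfin g hg hgx
    subst hr2
    have hp2 : p ≠ 2 := fun h => hrp h.symm
    have h2 : (2 : F) ≠ 0 := by exact_mod_cast hrF
    refine ⟨rfl, ?_⟩
    -- the involution `[-I_2, I]`
    obtain ⟨x, hx, hxx, hrank⟩ := Cfsg.Agent.Lib.Helper43_SpTensor4.exists_neg_block_sp d hd1 h2
    have hxx' : (x : Matrix (Fin d ⊕ Fin d) (Fin d ⊕ Fin d) F) ^ 2 = 1 := by rw [pow_two]; exact hxx
    have hfin : ∀ g ∈ Cfsg.spGL d F, g⁻¹ * x * g ∈ Cfsg.Geo.subalgebraNormalizer K → d = 2 ∧ k = 2 := by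
      intro g hg hgx
      rcases hkey x hx 2 Nat.prime_two hrF hxx' g hg hgx with h | ⟨hrk, h⟩
      · exfalso
        have hrank' : ((x : Matrix (Fin d ⊕ Fin d) (Fin d ⊕ Fin d) F) - 1).rank = 2 := hrank
        rw [hrank'] at h
        have := Nat.le_of_dvd (by norm_num) h
        omega
      · have hrank' : ((x : Matrix (Fin d ⊕ Fin d) (Fin d ⊕ Fin d) F) - 1).rank = 2 := hrank
        rw [hrank', ← hrk] at h
        refine ⟨by omega, hrk.symm⟩
    have hxns : ∀ z : F, (x : Matrix (Fin d ⊕ Fin d) (Fin d ⊕ Fin d) F) ≠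
        z • (1 : Matrix (Fin d ⊕ Fin d) (Fin d ⊕ Fin d) F) := by
      intro z hz
      have hmem : (1 : GL (Fin d ⊕ Fin d) F)⁻¹ * x * 1 ∈ Cfsg.Geo.subalgebraNormalizer K := by
        rw [inv_one, one_mul, mul_one]
        exact mem_normalizer_of_centralizes K x (hscal x z hz)
      rcases hkey x hx 2 Nat.prime_two hrF hxx' 1 (one_mem _) hmem with h | ⟨hrk, h⟩
      · have hrank' : ((x : Matrix (Fin d ⊕ Fin d) (Fin d ⊕ Fin d) F) - 1).rank = 2 := hrank
        rw [hrank'] at h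
        have := Nat.le_of_dvd (by norm_num) h
        omega
      · -- a scalar centralises `K`, so the second alternative gives the same contradiction
        have hc := hscal x z hz
        have h1 := Cfsg.Agent.Lib.Helper20_SpExt_QB3.QB3 d k hd1 K hK hKf hKalt _
          (Cfsg.Agent.Lib.Helper43_SpTensor4.mem_symplecticGroup_of_mem_spGL d hx) 2 (by norm_num) hrF hxx' hc
        have hrank' : ((x : Matrix (Fin d ⊕ Fin d) (Fin d ⊕ Fin d) F) - 1).rank = 2 := hrank
        rw [hrank'] at h1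
        have := Nat.le_of_dvd (by norm_num) h1
        omega
    obtain ⟨g, hg, hgx⟩ := hall x hx ⟨1, by rw [Units.val_pow_eq_pow_val, hxx', one_smul]⟩ hxns
    obtain ⟨hd2, hk2'⟩ := hfin g hg hgx
    refine ⟨hd2, hk2', ?_⟩
    obtain ⟨n, hp, hn⟩ := FiniteField.card F p
    rw [hn]
    exact (hpprime.odd_of_ne_two hp2).pow
  · rintro ⟨hr2, hd2, hk2', hodd⟩
    subst hr2
    subst hd2
    subst hk2'
    have h2 : (2 : F) ≠ 0 := by
      intro h
      have h3 : ringChar F = 2 := CharP.ringChar_of_prime_eq_zero Nat.prime_two (by exact_mod_cast h)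
      have := FiniteField.even_card_iff_char_two.1 h3
      rcases hodd with ⟨j, hj⟩
      omega
    obtain ⟨θ, Δ, hθK, hΔ, hθ, hgen, hsa⟩ := exists_theta_sa h2 2 hd1 K hK hKf
    intro x hx hz hns
    obtain ⟨z, hz⟩ := hz
    set X : Matrix (Fin 2 ⊕ Fin 2) (Fin 2 ⊕ Fin 2) F := (x : Matrix (Fin 2 ⊕ Fin 2) (Fin 2 ⊕ Fin 2) F)
      with hX
    have hXmem : X ∈ symplecticGroup (Fin 2) F :=
      mem_symplecticGroup_of_preserves 2 (fun u v => hx u v)
    have hXX : X * X = z • (1 : Matrix (Fin 2 ⊕ Fin 2) (Fin 2 ⊕ Fin 2) F) := by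
      rw [← hz, Units.val_pow_eq_pow_val, pow_two]
    have hzz : z * z = 1 := by
      have hmem : X * X ∈ symplecticGroup (Fin 2) F := mul_mem hXmem hXmem
      rw [hXX] at hmem
      obtain ⟨u, hu⟩ : ∃ u : Fin 2 ⊕ Fin 2 → F, u ≠ 0 := by
        refine ⟨Pi.single (Sum.inl 0) 1, ?_⟩
        intro h
        have := congrFun h (Sum.inl 0)
        simp at this
      obtain ⟨w, hw⟩ := Cfsg.Agent.Lib.Helper13_SympTrans.exists_sympForm_ne_zero 2 hu
      have := sympForm_mulVec_mulVec_of_mem 2 hmem u w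
      rw [Matrix.smul_mulVec, Matrix.smul_mulVec, Matrix.one_mulVec, Matrix.one_mulVec,
        sympForm_smul_left, sympForm_smul_right, ← mul_assoc] at this
      have h3 : (z * z - 1) * Cfsg.sympForm 2 F u w = 0 := by linear_combination this
      rcases mul_eq_zero.1 h3 with h | h
      · linear_combination h
      · exact absurd h hw
    have hθ' : ∃ θ' : Matrix (Fin 2 ⊕ Fin 2) (Fin 2 ⊕ Fin 2) F,
        θ' * θ' = Δ • (1 : Matrix (Fin 2 ⊕ Fin 2) (Fin 2 ⊕ Fin 2) F) ∧ IsSelfAdj 2 θ' ∧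
          (X * θ' = θ' * X ∨ X * θ' = -(θ' * X)) := by
      have hz1 : (z - 1) * (z + 1) = 0 := by linear_combination hzz
      rcases mul_eq_zero.1 hz1 with h | h
      · have hz1 : z = 1 := by linear_combination h
        rw [hz1, one_smul] at hXX
        obtain ⟨θ', h1, h3, h4⟩ := Cfsg.Agent.Lib.Helper10_SpExt_QF2.QF2 (F := F) p h2 Δ X hXmem hXX hns
        exact ⟨θ', h1, h3, Or.inr h4⟩
      · have hz1 : z = -1 := by linear_combination h
        rw [hz1, neg_one_smul] at hXX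
        obtain ⟨θ', h1, h3, h4⟩ := Cfsg.Agent.Lib.Helper10_SpExt_QF3.QF3 (F := F) p h2 Δ X hXmem hXX
        exact ⟨θ', h1, h3, Or.inl h4⟩
    obtain ⟨θ', hθ'sq, hθ'sa, hcomm⟩ := hθ'
    obtain ⟨P, hPmem, hP⟩ := Cfsg.Agent.Lib.Helper31_SpExt_QF1.QF1 h2 Δ hΔ θ' θ hθ'sq hθ hθ'sa hsa
    obtain ⟨Pgl, hPglmem, hPval⟩ := Cfsg.Agent.Lib.Helper43_SpTensor4.exists_spGL_of_mem 2 P hPmem
    have hPval' : (Pgl : Matrix (Fin 2 ⊕ Fin 2) (Fin 2 ⊕ Fin 2) F) = P := hPval
    set Pi : Matrix (Fin 2 ⊕ Fin 2) (Fin 2 ⊕ Fin 2) F :=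
      ((Pgl⁻¹ : GL (Fin 2 ⊕ Fin 2) F) : Matrix (Fin 2 ⊕ Fin 2) (Fin 2 ⊕ Fin 2) F) with hPi
    have hPPi : P * Pi = 1 := by rw [← hPval', hPi]; exact Units.mul_inv _
    have hPiP : Pi * P = 1 := by rw [← hPval', hPi]; exact Units.inv_mul _
    refine ⟨Pgl⁻¹, inv_mem hPglmem, ?_⟩
    rw [inv_inv]
    apply mem_normalizer_of_comm K hK hd1 hΔ hθK hθ hgen
    have hval : ((Pgl * x * Pgl⁻¹ : GL (Fin 2 ⊕ Fin 2) F) :
        Matrix (Fin 2 ⊕ Fin 2) (Fin 2 ⊕ Fin 2) F) = P * X * Pi := by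
      rw [Units.val_mul, Units.val_mul, hPval']
    rw [hval]
    rcases hcomm with h | h
    · exact Or.inl (Cfsg.Agent.S5976.conj_comm hPPi hPiP hP h)
    · exact Or.inr (Cfsg.Agent.S5976.conj_anticomm hPPi hPiP hP h)

end Cfsg.Agent.S5975
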