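import Cfsg.Statements.S5978
import Cfsg.Agent.Lib.Helper43_OrthExtMain
import Cfsg.Agent.Lib.Helper43_OrthExtDp
import Cfsg.Agent.Lib.Helper70_OrthExt_OC2
import Cfsg.Agent.Lib.Helper70_OrthExt_OD2
import Cfsg.Agent.Lib.Helper22_OrthExt_OD3
import Cfsg.Agent.Lib.Helper40_QuadStd
import Cfsg.Agent.S0288

set_option autoImplicit false
open scoped MatrixGroups
open Cfsg

namespace Cfsg.Agent.S5978

/-- Elements of prime order of PΩ⁻_n(q), q odd, and the field-extension subgroups of degree 2 (orthogonal type over F_{q²}). Here `T = PΩ⁻_{2d}(F)` for a field `F` with `q` elements, `q` odd, `d ≥ 4`, realised through `Ω⁻_{2d}(q)`, the commutator subgroup of the isometry group of `Q = Σ_{i<d−1} xᵢyᵢ + z₁² + a z₁z₂ + b z₂²` with `z₁² + a z₁z₂ + b z₂²` anisotropic, with polar form `B`; `K` is a subalgebra of the `2d × 2d` matrices that is a field of degree 2 over `F` whose elements are self-adjoint for `B` (so `F^{2d}`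 becomes a `d`-dimensional space over `K ≅ F_{q²}` on which `B` is the trace of a `K`-bilinear symmetric form); `H` is the subgroup of `Ω⁻_{2d}(q)` normalizing `K` — the elements of `Ω⁻_{2d}(q)` that are `K`-linear or `K`-semilinear, a subgroup of orthogonal type over the quadratic extension (maximality is not assumed). Ω is the set of cosets of `H`, so an element of `T` of prime order `r` (`x ∈ Ω⁻_{2d}(q)` with `x^r` scalar, `x` not scalar) fixes a point of Ω exactly when some `Ω⁻_{2d}(q)`-conjugate of `x` normalizes `K`. Let `r` be a prime dividing the index of `H`. Then every element of `T` of order `r` fixes a point of Ω if and only if `r = 2`. -/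
theorem result {F : Type*} [Field F] [Fintype F] {p : ℕ} [Fact p.Prime] [CharP F p] {q : ℕ} (hq : Fintype.card F = q)
    (hodd : Odd q) (d : ℕ) (hd : 4 ≤ d) (a b : F) (hab : ∀ x y : F, x ^ 2 + a * x * y + b * y ^ 2 = 0 → x = 0 ∧ y = 0)
    (K : Subalgebra F (Matrix ((Fin (d - 1) ⊕ Fin (d - 1)) ⊕ Fin 2) ((Fin (d - 1) ⊕ Fin (d - 1)) ⊕ Fin 2) F)) (hK : Cfsg.Geo.IsFieldSubalgebra 2 K)
    (hKf : Cfsg.Geo.IsSelfAdjointFor (QuadraticMap.polar (Cfsg.quadFormMinus (d - 1) F a b)) K)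
    (r : ℕ) [Fact r.Prime]
    (hΩ : r ∣ (Cfsg.Geo.subalgebraNormalizer K).relIndex (Cfsg.Geo.omegaGL (Cfsg.quadFormMinus (d - 1) F a b))) :
    (∀ x ∈ Cfsg.Geo.omegaGL (Cfsg.quadFormMinus (d - 1) F a b), (∃ z : F, ((x ^ r : GL ((Fin (d - 1) ⊕ Fin (d - 1)) ⊕ Fin 2) F) : Matrix ((Fin (d - 1) ⊕ Fin (d - 1)) ⊕ Fin 2) ((Fin (d - 1) ⊕ Fin (d - 1)) ⊕ Fin 2) F) = z • (1 : Matrix ((Fin (d - 1) ⊕ Fin (d - 1)) ⊕ Fin 2) ((Fin (d - 1) ⊕ Fin (d - 1)) ⊕ Fin 2) F)) →
      (∀ z : F, (x : Matrix ((Fin (d - 1) ⊕ Fin (d - 1)) ⊕ Fin 2) ((Fin (d - 1) ⊕ Fin (d - 1)) ⊕ Fin 2) F) ≠ z • (1 : Matrix ((Fin (d - 1) ⊕ Fin (d - 1)) ⊕ Fin 2) ((Fin (d - 1) ⊕ Fin (d - 1)) ⊕ Fin 2) F)) →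
      ∃ g ∈ Cfsg.Geo.omegaGL (Cfsg.quadFormMinus (d - 1) F a b), g⁻¹ * x * g ∈ Cfsg.Geo.subalgebraNormalizer K) ↔ r = 2 := by
  classical
  subst hq
  have hrp : r.Prime := Fact.out
  have hpp : p.Prime := Fact.out
  have h2 : (2 : F) ≠ 0 := by
    apply Ring.two_ne_zero
    intro hc
    have h1 := FiniteField.even_card_of_char_two hc
    rw [Nat.odd_iff] at hodd
    omega
  have hcard : Fintype.card ((Fin (d - 1) ⊕ Fin (d - 1)) ⊕ Fin 2) = 2 * d := by
    rw [Fintype.card_sum, Fintype.card_sum, Fintype.card_fin, Fintype.card_fin]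
    omega
  have hcoe := Cfsg.Agent.Lib.Helper44_StdForms.coe_qfMinus (d - 1) F a b
  have hQ := Cfsg.Agent.Lib.Helper43_OrthGen.nondegenerate_qfMinus' h2 (d - 1) a b hab
  rw [← hcoe] at hKf hΩ
  constructor
  · intro hall
    by_contra hr2
    have hrodd : Odd r := hrp.odd_of_ne_two hr2
    rw [← hcoe] at hall
    apply Cfsg.Agent.Lib.Helper43_OrthExtMain.fwd h2 d (by omega) hcard
      (Cfsg.Agent.Lib.Helper44_StdForms.qfMinus (d - 1) F a b) K hK hKf r hrodd ?_ hall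
    intro Δ hΔ
    by_cases hrp' : r = p
    · subst hrp'
      obtain ⟨x, hx, hxr, hxc⟩ := Cfsg.Agent.Lib.Helper43_OrthExtDp.Dp r hrodd
        (Cfsg.Agent.Lib.Helper44_StdForms.qfMinus (d - 1) F a b) hQ (by rw [hcard]; omega) Δ hΔ
      exact ⟨x, hx, hxr, fun θ hθ _ => hxc θ hθ⟩
    · have hrq : ¬ r ∣ Fintype.card F := by
        intro h
        obtain ⟨n, -, hn⟩ := FiniteField.card F p
        rw [hn] at h
        exact hrp' ((Nat.prime_dvd_prime_iff_eq hrp hpp).1 (hrp.dvd_of_dvd_pow h))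
      have hq2 : 2 ≤ Fintype.card F := Fintype.one_lt_card
      have hO := Cfsg.Agent.S0288.result (F := F) rfl d (by omega) a b hab
      rw [hcoe]
      rcases Nat.even_or_odd' d with ⟨m, rfl | rfl⟩
      · obtain ⟨M, N, hrM, hMN⟩ := (Cfsg.Agent.Lib.Helper43_OrthExtMain.order_even rfl h2 m
          (by omega) hcard (Cfsg.Agent.Lib.Helper44_StdForms.qfMinus (2 * m - 1) F a b) hQ K hK
          hKf r hrp hr2 hΩ).2 (Cfsg.Agent.Lib.Helper40_QuadStd.not_isHyp_qfMinus _ a b hab)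
        rw [hcoe, hO] at hMN
        rcases Cfsg.Agent.Lib.Helper70_OrthExt_OC2.OC2_minus_even hq2 (by omega) hrp hr2 hrq hrM
          hMN with ⟨he, hed⟩ | ⟨f, hef, hf, hfd⟩
        · obtain ⟨x, hx, hxr, hxc⟩ := Cfsg.Agent.Lib.Helper70_OrthExt_OD2.OD2_minus p h2 (2 * m)
            (by omega) a b hab r hrp hr2 hrp' he hed Δ hΔ
          exact ⟨x, hx, hxr, fun θ hθ _ => hxc θ hθ⟩
        · exact Cfsg.Agent.Lib.Helper22_OrthExt_OD3.OD3_minus p h2 (2 * m) (by omega) a b hab r hrp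
            hr2 hrp' f hf hef hfd Δ hΔ
      · obtain ⟨M, N, hrM, hMN⟩ := Cfsg.Agent.Lib.Helper43_OrthExtMain.order_odd rfl h2 m
          hcard (Cfsg.Agent.Lib.Helper44_StdForms.qfMinus (2 * m + 1 - 1) F a b) hQ K hK hKf r hrp
          hr2 hΩ
        rw [hcoe, hO] at hMN
        rcases Cfsg.Agent.Lib.Helper70_OrthExt_OC2.OC2_minus_odd hq2 hrp hr2 hrq hrM
          hMN with ⟨he, hed⟩ | ⟨f, hef, hf, hfd⟩
        · obtain ⟨x, hx, hxr, hxc⟩ := Cfsg.Agent.Lib.Helper70_OrthExt_OD2.OD2_minus p h2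
            (2 * m + 1) (by omega) a b hab r hrp hr2 hrp' he hed Δ hΔ
          exact ⟨x, hx, hxr, fun θ hθ _ => hxc θ hθ⟩
        · exact Cfsg.Agent.Lib.Helper22_OrthExt_OD3.OD3_minus p h2 (2 * m + 1) (by omega) a b hab r
            hrp hr2 hrp' f hf hef hfd Δ hΔ
  · rintro rfl
    intro x hx hz hns
    rw [← hcoe] at hx ⊢
    exact Cfsg.Agent.Lib.Helper43_OrthExtMain.back h2 d (by omega) hcard
      (Cfsg.Agent.Lib.Helper44_StdForms.qfMinus (d - 1) F a b) hQ K hK hKf x hx hz hns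

end Cfsg.Agent.S5978
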