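import Cfsg.Statements.S5979
import Cfsg.Agent.Lib.Helper43_Kron3

set_option autoImplicit false
open scoped MatrixGroups

namespace Cfsg.Agent.S5979

open Cfsg.Agent.Lib.Helper43_Kron1 Cfsg.Agent.Lib.Helper43_Kron2 Cfsg.Agent.Lib.Helper43_Kron3
  Cfsg.Agent.Lib.Helper43_PolarPair4

/-- a matrix with `0 < rank (X - l) < n` is not scalar -/
theorem not_scalar_of_rank_sub {F : Type*} [Field F] {n : ℕ} (X : Matrix (Fin n) (Fin n) F)
    (l : F) (k : ℕ) (hX : (X - l • (1 : Matrix (Fin n) (Fin n) F)).rank = k) (hk0 : 0 < k)
    (hkn : k < n) (z : F) : X ≠ z • (1 : Matrix (Fin n) (Fin n) F) := by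
  intro hz
  have h1 : X - l • (1 : Matrix (Fin n) (Fin n) F) = (z - l) • (1 : Matrix (Fin n) (Fin n) F) := by
    rw [hz, sub_smul]
  rw [h1] at hX
  by_cases hzl : z = l
  · rw [hzl, sub_self, zero_smul, Matrix.rank_zero] at hX
    omega
  · have hunit : IsUnit ((z - l) • (1 : Matrix (Fin n) (Fin n) F)) := by
      rw [Matrix.isUnit_iff_isUnit_det, Matrix.det_smul, Matrix.det_one, mul_one]
      exact (isUnit_iff_ne_zero.2 (sub_ne_zero.2 hzl)).pow _
    rw [Matrix.rank_of_isUnit _ hunit, Fintype.card_fin] at hX
    omega

/-- Elements of prime order of PSL_n(q) and the stabilizers of tensor decompositions with factors of different dimensions. Here `T = PSL_n(F)` for a field `F` with `q` elements and `n = a·b` with `2 ≤ a < b`; a tensor decomposition `F^n ≅ F^a ⊗ F^b` is given by a bijection `e` of index sets and a change of basis `P`, and `H` is the subgroup of matrices of determinant 1 in its stabilizer (the conjugate by `P` of the group of Kronecker products `g₁ ⊗ g₂`) — a subgroup of type GL_a(q) ⊗ GL_b(q) (maximality is not assumed); Ω is the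 set of cosets of `H` in `T`, so an element of `T` of prime order `r` (a matrix `x` of determinant 1 with `x^r` scalar, `x` not scalar) fixes a point of Ω exactly when some conjugate of `x` by a matrix of determinant 1 lies in `H`. Let `r` be a prime dividing the index of `H`. Then every element of `T` of order `r` fixes a point of Ω if and only if `r = 2`, `a = 2`, `q` is odd and `(q − 1)_2 ≤ (n)_2` (2-parts). -/
theorem result {F : Type*} [Field F] [Fintype F] {p : ℕ} [Fact p.Prime] [CharP F p] {q : ℕ} (hq : Fintype.card F = q)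
    (n a b : ℕ) (hab : n = a * b) (ha : 2 ≤ a) (hlt : a < b) (e : Fin n ≃ Fin a × Fin b) (P : GL (Fin n) F)
    (r : ℕ) [Fact r.Prime]
    (hΩ : r ∣ (Cfsg.Geo.tensorProductSubgroup a b e P).relIndex (Cfsg.Geo.specialLinear (Fin n) F)) :
    (∀ x ∈ Cfsg.Geo.specialLinear (Fin n) F, (∃ z : F, ((x ^ r : GL (Fin n) F) : Matrix (Fin n) (Fin n) F) = z • (1 : Matrix (Fin n) (Fin n) F)) →
      (∀ z : F, (x : Matrix (Fin n) (Fin n) F) ≠ z • (1 : Matrix (Fin n) (Fin n) F)) →
      ∃ g ∈ Cfsg.Geo.specialLinear (Fin n) F, g⁻¹ * x * g ∈ Cfsg.Geo.tensorProductSubgroup a b e P) ↔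
    (r = 2 ∧ a = 2 ∧ Odd q ∧ padicValNat 2 (q - 1) ≤ padicValNat 2 n) := by
  subst hq
  have hrprime : r.Prime := Fact.out
  have hpprime : p.Prime := Fact.out
  have hn6 : 6 ≤ n := by
    rw [hab]
    nlinarith
  have hadvd : a ∣ n := ⟨b, hab⟩
  constructor
  · intro hall
    have key : ∀ x : GL (Fin n) F, x.1.det = 1 →
        (∃ z : F, ((x ^ r : GL (Fin n) F) : Matrix (Fin n) (Fin n) F) =
          z • (1 : Matrix (Fin n) (Fin n) F)) →
        (∀ z : F, (x : Matrix (Fin n) (Fin n) F) ≠ z • (1 : Matrix (Fin n) (Fin n) F)) →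
        (∀ g : GL (Fin n) F, g⁻¹ * x * g ∉ Cfsg.Geo.tensorProductSubgroup a b e P) → False := by
      intro x hxdet hxr hxns hno
      have hxSL : x ∈ Cfsg.Geo.specialLinear (Fin n) F := by
        show Matrix.GeneralLinearGroup.det x = 1
        apply Units.ext
        rw [Matrix.GeneralLinearGroup.val_det_apply, hxdet, Units.val_one]
      obtain ⟨g, -, hgx⟩ := hall x hxSL hxr hxns
      exact hno g hgx
    have hnot1 : ¬ a ∣ 1 := by
      intro h
      have := Nat.le_of_dvd one_pos h
      omega
    by_cases hrp : r = p
    · exfalso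
      obtain ⟨x, h1, h2, h3⟩ := exists_transvection_sl (F := F) (p := p) (n := n) (by omega)
      apply key x h1 ⟨1, by rw [hrp, Units.val_pow_eq_pow_val, h2, one_smul]⟩
        (not_scalar_of_rank x.1 1 h3 one_pos (by omega))
      intro g
      apply not_conj_of_rank e P x g x.1 1 one_ne_zero (by rw [one_smul]) (by rw [h3]; omega) 1
      rw [one_smul, h3]
      exact hnot1
    · by_cases hr2 : r = 2
      · have hp2 : p ≠ 2 := fun h => hrp (hr2.trans h.symm)
        have h2F : (2 : F) ≠ 0 := by
          intro h0
          have h1 : ((2 : ℕ) : F) = 0 := by rw [Nat.cast_ofNat]; exact h0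
          rw [CharP.cast_eq_zero_iff F p 2] at h1
          exact hp2 ((Nat.prime_dvd_prime_iff_eq hpprime Nat.prime_two).1 h1)
        have hqodd : Odd (Fintype.card F) := by
          rw [Nat.odd_iff]
          exact FiniteField.odd_card_of_char_ne_two
            (Cfsg.Agent.Lib.Helper43_SubfieldSL.ringChar_ne_two_of_two_ne_zero h2F)
        have ha2 : a = 2 := by
          by_contra hne
          have ha3 : 3 ≤ a := by omega
          obtain ⟨x, h1, h2, h3⟩ := exists_neg_block (F := F) (n := n) (by omega) h2F
          apply key x h1 ⟨1, by rw [hr2, pow_two, Units.val_mul, h2, one_smul]⟩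
            (not_scalar_of_rank x.1 2 h3 (by omega) (by omega))
          intro g
          apply not_conj_of_rank e P x g x.1 1 one_ne_zero (by rw [one_smul]) (by rw [h3]; omega) 1
          rw [one_smul, h3]
          intro h
          have := Nat.le_of_dvd (by omega) h
          omega
        refine ⟨hr2, ha2, hqodd, ?_⟩
        by_contra hv
        push Not at hv
        obtain ⟨ζ, hζ⟩ := Cfsg.Agent.Lib.Helper43_GSpConj.exists_pow_eq_neg_one h2F n (by omega) hv
        obtain ⟨x, x₀, hζ0, hxx₀, h1, h2, h3⟩ := exists_quasi_refl (F := F) (n := n) (by omega)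
          h2F ζ hζ
        apply key x h1 ⟨ζ * ζ, by rw [hr2, pow_two, Units.val_mul, h2]⟩
        · intro z hz
          apply not_scalar_of_rank x₀ 1 h3 one_pos (by omega) (ζ⁻¹ * z)
          rw [hxx₀] at hz
          calc x₀ = ζ⁻¹ • (ζ • x₀) := by rw [smul_smul, inv_mul_cancel₀ hζ0, one_smul]
            _ = (ζ⁻¹ * z) • 1 := by rw [hz, smul_smul]
        · intro g
          apply not_conj_of_rank e P x g x₀ ζ hζ0 hxx₀ (by rw [h3]; omega) 1
          rw [one_smul, h3]
          exact hnot1
      · exfalso
        have hdvd : r ∣ Nat.card (Cfsg.Geo.specialLinear (Fin n) F) :=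
          hΩ.trans (Subgroup.relIndex_dvd_card _ _)
        obtain ⟨he1, hen⟩ := order_le_of_dvd_card (p := p) (n := n) hrprime hrp hdvd
        by_cases he : orderOf ((Fintype.card F : ℕ) : ZMod r) = 1
        · -- `r ∣ q - 1`
          have hq1 : ((Fintype.card F : ℕ) : ZMod r) = 1 := orderOf_eq_one_iff.1 he
          have hrq : r ∣ Fintype.card F - 1 := by
            rw [← ZMod.natCast_eq_zero_iff, Nat.cast_sub Fintype.card_pos, hq1, Nat.cast_one,
              sub_self]
          have hcardU : r ∣ Nat.card Fˣ := by
            rw [Nat.card_units, Nat.card_eq_fintype_card]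
            exact hrq
          obtain ⟨u, hu⟩ := exists_prime_orderOf_dvd_card' (G := Fˣ) r hcardU
          have hur : (u : F) ^ r = 1 := by
            rw [← Units.val_pow_eq_pow_val, ← hu, pow_orderOf_eq_one, Units.val_one]
          have hu1 : (u : F) ≠ 1 := by
            intro h
            have : u = 1 := Units.ext h
            rw [this, orderOf_one] at hu
            exact hrprime.one_lt.ne hu
          have hu2 : (u : F) * (u : F) ≠ 1 := by
            intro h
            have h1 : u ^ 2 = 1 := by
              apply Units.ext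
              rw [Units.val_pow_eq_pow_val, pow_two, h, Units.val_one]
            have h2 := orderOf_dvd_of_pow_eq_one h1
            rw [hu] at h2
            exact hr2 ((Nat.prime_dvd_prime_iff_eq hrprime Nat.prime_two).1 h2)
          obtain ⟨x, h1, h2, h3, h4⟩ := exists_diag_pair (F := F) (n := n) (by omega) (u : F)
            u.ne_zero r hur hu1 hu2
          apply key x h1 ⟨1, by rw [Units.val_pow_eq_pow_val, h2, one_smul]⟩
            (not_scalar_of_rank_sub x.1 (u : F) (n - 1) h4 (by omega) (by omega))
          intro g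
          apply not_conj_of_rank e P x g x.1 1 one_ne_zero (by rw [one_smul]) (by omega) (u : F)
          rw [h4]
          intro h
          have h5 : a ∣ n - (n - 1) := Nat.dvd_sub hadvd h
          have h6 : n - (n - 1) = 1 := by omega
          rw [h6] at h5
          exact hnot1 h5
        · have he2 : 2 ≤ orderOf ((Fintype.card F : ℕ) : ZMod r) := by omega
          obtain ⟨x, h1, h2, h3⟩ := exists_block_elt (F := F) (p := p) (n := n) hrprime hrp he2 hen
          have hrq := Cfsg.Agent.Lib.Helper99_PrimeOrderSL.not_dvd_card_sub_one he2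
          apply key x h1 ⟨1, by rw [Units.val_pow_eq_pow_val, h2, one_smul]⟩
          · intro z hz
            have hzr : z ^ r = 1 := by
              have h4 : (z • (1 : Matrix (Fin n) (Fin n) F)) ^ r = 1 := by rw [← hz, h2]
              rw [smul_pow, one_pow] at h4
              have h5 := congrFun (congrFun h4 ⟨0, by omega⟩) ⟨0, by omega⟩
              rw [Matrix.smul_apply, Matrix.one_apply_eq, smul_eq_mul, mul_one] at h5
              exact h5
            have hz1 : z = 1 :=
              Cfsg.Agent.Lib.Helper99_PrimeOrderSL.eq_one_of_pow_eq_one hrprime hrq hzr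
            rw [hz, hz1, one_smul, sub_self, Matrix.rank_zero] at h3
            omega
          · intro g
            exact not_conj_of_block (p := p) ha hlt e P x g hrprime hrp he2 h2 h3
  · rintro ⟨hr2, ha2, hqodd, hv⟩ x hx ⟨z, hz⟩ _
    subst ha2
    have hxdet : x.1.det = 1 := by
      have h : Matrix.GeneralLinearGroup.det x = 1 := hx
      have h' := congrArg Units.val h
      rwa [Matrix.GeneralLinearGroup.val_det_apply, Units.val_one] at h'
    have h2F : (2 : F) ≠ 0 := by
      apply Ring.two_ne_zero
      intro hc
      have h1 := FiniteField.even_card_of_char_two hc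
      rw [Nat.odd_iff] at hqodd
      omega
    rw [hr2, pow_two, Units.val_mul] at hz
    exact exists_conj_into_tensor h2F hab (by omega) hv e P x hxdet z hz

end Cfsg.Agent.S5979
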