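import Cfsg.Statements.S5980
import Cfsg.Agent.Lib.Helper43_SpTensor6
import Cfsg.Agent.Lib.Helper75_SpAtomOdd

set_option autoImplicit false
open scoped MatrixGroups
open Cfsg

namespace Cfsg.Agent.S5980

open Cfsg.Agent.Lib.Helper43_SpTensor2 Cfsg.Agent.Lib.Helper43_SpTensor3
  Cfsg.Agent.Lib.Helper43_SpTensor4 Cfsg.Agent.Lib.Helper43_SpTensor6
  Cfsg.Agent.Lib.Helper99_SpAtoms

/-- a matrix with `0 < rank (X - l) < card` is not scalar -/
theorem not_scalar_of_rank_sub' {F : Type*} [Field F] {κ : Type*} [Fintype κ] [DecidableEq κ]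
    (X : Matrix κ κ F) (l : F) (k : ℕ) (hX : (X - l • (1 : Matrix κ κ F)).rank = k) (hk0 : 0 < k)
    (hkn : k < Fintype.card κ) (z : F) : X ≠ z • (1 : Matrix κ κ F) := by
  intro hz
  have h1 : X - l • (1 : Matrix κ κ F) = (z - l) • (1 : Matrix κ κ F) := by
    rw [hz, sub_smul]
  rw [h1] at hX
  by_cases hzl : z = l
  · rw [hzl, sub_self, zero_smul, Matrix.rank_zero] at hX
    omega
  · have hunit : IsUnit ((z - l) • (1 : Matrix κ κ F)) := by
      rw [Matrix.isUnit_iff_isUnit_det, Matrix.det_smul, Matrix.det_one, mul_one]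
      exact (isUnit_iff_ne_zero.2 (sub_ne_zero.2 hzl)).pow _
    rw [Matrix.rank_of_isUnit _ hunit] at hX
    omega

/-- Elements of prime order of PSp_n(q), q odd, and the stabilizers of tensor decompositions Sp_a(q) ⊗ O_b(q). Here `T = PSp_{2d}(F)` for a field `F` with `q` elements, `q` odd, `d ≥ 2`, realised through the matrices preserving the standard alternating form `f`; `2d = a·b` with `a` even, `b ≥ 3`, and the bijection `e` and change of basis `P` exhibit `f` as a non-zero scalar multiple of the tensor product of a non-degenerate alternating form `f₁` on `F^a` and a non-degenerate symmetric bilinear form `f₂` on `F^b`; `H` is the subgroup of `T` stabilizing this tensor decomposition (the elements of `T` in the conjugate by `P` of the group of Kronecker products) — a subgroup of type Sp_a(q) ⊗ O^ε_b(q) (maximality is not assumed). Ω is the set of cosets of `H` in `T`, so an element of `T` of prime order `r` (`x ∈ T` with `x^r` scalar, `x` not scalar) fixes a point of Ω exactly when some `T`-conjugate of `x` lies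 in `H`. Let `r` be a prime dividing the index of `H`. Then every element of `T` of order `r` fixes a point of Ω if and only if `r = 2` and `a = 2`. -/
theorem result {F : Type*} [Field F] [Fintype F] {p : ℕ} [Fact p.Prime] [CharP F p] {q : ℕ} (hq : Fintype.card F = q)
    (hodd : Odd q) (d : ℕ) (hd : 2 ≤ d) (a b : ℕ) (hab : 2 * d = a * b) (ha : Even a) (ha2 : 2 ≤ a) (hb : 3 ≤ b)
    (e : (Fin d ⊕ Fin d) ≃ Fin a × Fin b) (P : GL (Fin d ⊕ Fin d) F)
    (f₁ : (Fin a → F) → (Fin a → F) → F) (f₂ : (Fin b → F) → (Fin b → F) → F)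
    (hf₁ : Cfsg.Geo.IsSymplecticForm f₁) (hf₂ : Cfsg.Geo.IsSymmetricForm f₂)
    (hS : Cfsg.Geo.IsTensorFormStructure id (Cfsg.sympForm d F) f₁ f₂ e P)
    (r : ℕ) [Fact r.Prime]
    (hΩ : r ∣ (Cfsg.Geo.tensorProductSubgroup a b e P).relIndex (Cfsg.spGL d F)) :
    (∀ x ∈ Cfsg.spGL d F, (∃ z : F, ((x ^ r : GL (Fin d ⊕ Fin d) F) : Matrix (Fin d ⊕ Fin d) (Fin d ⊕ Fin d) F) = z • (1 : Matrix (Fin d ⊕ Fin d) (Fin d ⊕ Fin d) F)) →
      (∀ z : F, (x : Matrix (Fin d ⊕ Fin d) (Fin d ⊕ Fin d) F) ≠ z • (1 : Matrix (Fin d ⊕ Fin d) (Fin d ⊕ Fin d) F)) →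
      ∃ g ∈ Cfsg.spGL d F, g⁻¹ * x * g ∈ Cfsg.Geo.tensorProductSubgroup a b e P) ↔ (r = 2 ∧ a = 2) := by
  classical
  subst hq
  have hrprime : r.Prime := Fact.out
  have hpprime : p.Prime := Fact.out
  have h2F : (2 : F) ≠ 0 := by
    apply Ring.two_ne_zero
    intro hc
    have h1 := FiniteField.even_card_of_char_two hc
    rw [Nat.odd_iff] at hodd
    omega
  have hp2 : p ≠ 2 := by
    intro hp2
    apply h2F
    have h1 : ((2 : ℕ) : F) = 0 := by
      rw [CharP.cast_eq_zero_iff F p 2, hp2]
    rw [Nat.cast_ofNat] at h1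
    exact h1
  have hcard : Fintype.card (Fin d ⊕ Fin d) = 2 * d := by
    rw [Fintype.card_sum, Fintype.card_fin, two_mul]
  constructor
  · intro hall
    have key : ∀ x : GL (Fin d ⊕ Fin d) F, x ∈ Cfsg.spGL d F →
        (∃ z : F, ((x ^ r : GL (Fin d ⊕ Fin d) F) : Matrix (Fin d ⊕ Fin d) (Fin d ⊕ Fin d) F) =
          z • (1 : Matrix (Fin d ⊕ Fin d) (Fin d ⊕ Fin d) F)) →
        (∀ z : F, (x : Matrix (Fin d ⊕ Fin d) (Fin d ⊕ Fin d) F) ≠
          z • (1 : Matrix (Fin d ⊕ Fin d) (Fin d ⊕ Fin d) F)) →
        (∀ g : GL (Fin d ⊕ Fin d) F, g⁻¹ * x * g ∉ Cfsg.Geo.tensorProductSubgroup a b e P) →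
        False := by
      intro x hx hxr hxns hno
      obtain ⟨g, -, hgx⟩ := hall x hx hxr hxns
      exact hno g hgx
    have hnota1 : ¬ a ∣ 1 := by
      intro h
      have := Nat.le_of_dvd one_pos h
      omega
    have hnotb1 : ¬ b ∣ 1 := by
      intro h
      have := Nat.le_of_dvd one_pos h
      omega
    by_cases hrp : r = p
    · exfalso
      obtain ⟨x, hx, hxp, hxrank⟩ := exists_transvection_sp (F := F) d (by omega) p
      apply key x hx ⟨1, by rw [hrp, Units.val_pow_eq_pow_val, hxp, one_smul]⟩
      · apply not_scalar_of_rank_sub' x.1 1 1 (by rw [one_smul]; exact hxrank) one_pos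
        rw [hcard]
        omega
      · intro g
        exact not_conj_of_rank' e P x g 1 1 (by rw [one_smul]; exact hxrank) (Or.inl (by omega))
          hnota1 hnotb1
    · by_cases hr2 : r = 2
      · refine ⟨hr2, ?_⟩
        by_contra hane
        exfalso
        have ha4 : 4 ≤ a := by
          obtain ⟨k, hk⟩ := ha
          omega
        obtain ⟨x, hx, hxx, hxrank⟩ := exists_neg_block_sp (F := F) d (by omega) h2F
        apply key x hx ⟨1, by rw [hr2, pow_two, Units.val_mul, hxx, one_smul]⟩
        · apply not_scalar_of_rank_sub' x.1 1 2 (by rw [one_smul]; exact hxrank) (by omega)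
          rw [hcard]
          omega
        · intro g
          apply not_conj_of_rank' e P x g 1 2 (by rw [one_smul]; exact hxrank)
            (Or.inl (by omega))
          · intro h
            have := Nat.le_of_dvd (by omega) h
            omega
          · intro h
            have := Nat.le_of_dvd (by omega) h
            omega
      · exfalso
        have hrodd : Odd r := hrprime.odd_of_ne_two hr2
        have hdvd : r ∣ Nat.card (Cfsg.spGL d F) :=
          hΩ.trans (Subgroup.relIndex_dvd_card _ _)
        have hcn := atomDim_le_of_dvd_card (p := p) d hrprime hrp hdvd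
        have hi1 : 1 ≤ orderOf ((Fintype.card F : ℕ) : ZMod r) :=
          (Cfsg.Agent.Lib.Helper40_PrimeOrderClasses.exists_cyclotomic_factors
            (F := F) p r hrprime hrp).1
        unfold atomDim at hcn
        by_cases hie : Even (orderOf ((Fintype.card F : ℕ) : ZMod r))
        · rw [if_pos hie] at hcn
          obtain ⟨A, hA, hAr, hArank⟩ :=
            exists_atom_elt_even (p := p) (F := F) d hrprime hr2 hrp hie hcn
          obtain ⟨x, hx, hxA⟩ := exists_spGL_of_mem d A hA
          have hxr : x.1 ^ r = 1 := by rw [hxA]; exact hAr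
          have hxrank : (x.1 - 1).rank = orderOf ((Fintype.card F : ℕ) : ZMod r) := by
            rw [hxA]; exact hArank
          apply key x hx ⟨1, by rw [Units.val_pow_eq_pow_val, hxr, one_smul]⟩
          · apply not_scalar_of_odd_pow d (by omega) x hx hrodd hxr
            intro h1
            rw [h1, sub_self, Matrix.rank_zero] at hxrank
            omega
          · intro g
            exact not_conj_of_atom (p := p) ha2 ha hb e P x g hrprime hrp hxr _ hxrank
              (Or.inl ⟨hie, rfl⟩)
        · rw [if_neg hie] at hcn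
          have hio : Odd (orderOf ((Fintype.card F : ℕ) : ZMod r)) :=
            Nat.not_even_iff_odd.1 hie
          obtain ⟨A, hA, hAr, hArank, w, hw⟩ :=
            Cfsg.Agent.Lib.Helper75_SpAtomOdd.exists_atom_elt_odd (p := p) (F := F) d hrprime
              hr2 hrp hio hcn
          obtain ⟨x, hx, hxA⟩ := exists_spGL_of_mem d A hA
          have hxr : x.1 ^ r = 1 := by rw [hxA]; exact hAr
          have hxrank : (x.1 - 1).rank = 2 * orderOf ((Fintype.card F : ℕ) : ZMod r) := by
            rw [hxA]; exact hArank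
          apply key x hx ⟨1, by rw [Units.val_pow_eq_pow_val, hxr, one_smul]⟩
          · apply not_scalar_of_odd_pow d (by omega) x hx hrodd hxr
            intro h1
            rw [h1, sub_self, Matrix.rank_zero] at hxrank
            omega
          · intro g
            exact not_conj_of_atom (p := p) ha2 ha hb e P x g hrprime hrp hxr _ hxrank
              (Or.inr ⟨hio, rfl, w, by rw [hxA]; exact hw⟩)
  · rintro ⟨hr2, ha2⟩ x hx ⟨z, hz⟩ _
    subst ha2
    have hdb : d = b := by omega
    rw [hr2, pow_two, Units.val_mul] at hz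
    exact exists_conj_into_tensor_sp h2F d b (by omega) hdb e P f₁ f₂ hf₁ hf₂ hS x hx z hz

end Cfsg.Agent.S5980
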