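import Cfsg.Statements.S5981
import Cfsg.Agent.Lib.Helper13_OrthC8Defs
import Cfsg.Agent.Lib.Helper88_OrthC8_RA
import Cfsg.Agent.Lib.Helper72_OrthC8_RB
import Cfsg.Agent.Lib.Helper82_OrthC8_IDX
import Cfsg.Agent.Lib.Helper88_OrthC8_DP
import Cfsg.Agent.Lib.Helper85_OrthC8_DONE
import Cfsg.Agent.Lib.Helper13_OrthC8_DEVEN
import Cfsg.Agent.Lib.Helper25_OrthC8_DODD
import Cfsg.Agent.Lib.Helper25_OrthC8_EX
import Cfsg.Agent.Lib.Helper40_SemisimpleCentralizer
import Cfsg.Agent.Lib.Helper40_SylowLarge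

set_option autoImplicit false
open scoped MatrixGroups
open Cfsg

namespace Cfsg.Agent.S5981

open Matrix Polynomial Cfsg.Agent.Lib.Helper13_OrthC8Defs
  Cfsg.Agent.Lib.Helper40_SemisimpleGL Cfsg.Agent.Lib.Helper40_SemisimpleCentralizer

section aux

variable {F : Type*} [Field F]

/-- a matrix of determinant one as an element of `GL` -/
noncomputable def mkGL {n : ℕ} (x : Matrix (Fin n) (Fin n) F) (h : x.det = 1) : GL (Fin n) F :=
  Matrix.GeneralLinearGroup.mk'' x (by rw [h]; exact isUnit_one)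

theorem coe_mkGL {n : ℕ} (x : Matrix (Fin n) (Fin n) F) (h : x.det = 1) :
    ((mkGL x h : GL (Fin n) F) : Matrix (Fin n) (Fin n) F) = x := rfl

theorem mem_specialLinear_iff {n : ℕ} (g : GL (Fin n) F) :
    g ∈ Cfsg.Geo.specialLinear (Fin n) F ↔ (g : Matrix (Fin n) (Fin n) F).det = 1 := by
  unfold Cfsg.Geo.specialLinear
  rw [MonoidHom.mem_ker]
  constructor
  · intro h
    have := congrArg Units.val h
    simpa using this
  · intro h
    apply Units.ext
    simpa using h

theorem mkGL_mem {n : ℕ} (x : Matrix (Fin n) (Fin n) F) (h : x.det = 1) :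
    mkGL x h ∈ Cfsg.Geo.specialLinear (Fin n) F := by
  rw [mem_specialLinear_iff, coe_mkGL, h]

theorem coe_conj {n : ℕ} (g x : GL (Fin n) F) :
    ((g⁻¹ * x * g : GL (Fin n) F) : Matrix (Fin n) (Fin n) F)
      = ((g⁻¹ : GL (Fin n) F) : Matrix (Fin n) (Fin n) F) * (x : Matrix (Fin n) (Fin n) F)
        * (g : Matrix (Fin n) (Fin n) F) := rfl

/-- a "universal" derangement contradicts the left-hand side -/
theorem derangement_glue {n : ℕ} (h2 : (2 : F) ≠ 0) (Q : (Fin n → F) → F)
    (hQ : Cfsg.Geo.IsNondegenerateQuadraticForm Q) (r : ℕ)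
    (hall : ∀ x ∈ Cfsg.Geo.specialLinear (Fin n) F,
      (∃ z : F, ((x ^ r : GL (Fin n) F) : Matrix (Fin n) (Fin n) F) = z • (1 : Matrix (Fin n) (Fin n) F)) →
      (∀ z : F, (x : Matrix (Fin n) (Fin n) F) ≠ z • (1 : Matrix (Fin n) (Fin n) F)) →
      ∃ g ∈ Cfsg.Geo.specialLinear (Fin n) F, g⁻¹ * x * g ∈ Cfsg.Geo.quadSimilarityGroup Q)
    (x : Matrix (Fin n) (Fin n) F) (hdet : x.det = 1) (hxr : ∃ z : F, x ^ r = z • 1)
    (hns : ∀ z : F, x ≠ z • 1)
    (hd : ∀ A : Matrix (Fin n) (Fin n) F, Aᵀ = A → A.det ≠ 0 →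
      (∃ d : F, d ≠ 0 ∧ A.det = (gram Q).det * (d * d)) → ¬ SimM A x) : False := by
  obtain ⟨g, -, hg⟩ := hall (mkGL x hdet) (mkGL_mem x hdet)
    (by rw [Units.val_pow_eq_pow_val, coe_mkGL]; exact hxr) (by rw [coe_mkGL]; exact hns)
  rw [mem_quadSimilarityGroup_iff Q hQ h2, coe_conj, coe_mkGL] at hg
  have h1 : (g : Matrix (Fin n) (Fin n) F) * ((g⁻¹ : GL (Fin n) F) : Matrix (Fin n) (Fin n) F) = 1 := by
    rw [← Units.val_mul, mul_inv_cancel, Units.val_one]
  have h2' : ((g⁻¹ : GL (Fin n) F) : Matrix (Fin n) (Fin n) F) * (g : Matrix (Fin n) (Fin n) F) = 1 := by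
    rw [← Units.val_mul, inv_mul_cancel, Units.val_one]
  rw [simM_conj (gram Q) x _ _ h1 h2'] at hg
  refine hd _ (conj_symm _ _ (gram_transpose Q)) ?_ ?_ hg
  · rw [conj_det]
    have hd0 : ((g⁻¹ : GL (Fin n) F) : Matrix (Fin n) (Fin n) F).det ≠ 0 := by
      intro h0
      have := congrArg Matrix.det h2'
      rw [Matrix.det_mul, h0, zero_mul, Matrix.det_one] at this
      exact zero_ne_one this
    exact mul_ne_zero (gram_det_ne_zero Q hQ) (mul_ne_zero hd0 hd0)
  · have hd0 : ((g⁻¹ : GL (Fin n) F) : Matrix (Fin n) (Fin n) F).det ≠ 0 := by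
      intro h0
      have := congrArg Matrix.det h2'
      rw [Matrix.det_mul, h0, zero_mul, Matrix.det_one] at this
      exact zero_ne_one this
    exact ⟨_, hd0, conj_det _ _⟩

/-- semisimplicity of a matrix with `x^r` a non-zero scalar, `r` invertible in `F` -/
theorem isSS_of_pow_eq_smul {n : ℕ} (x : Matrix (Fin n) (Fin n) F) (r : ℕ) (hr : (r : F) ≠ 0)
    (z : F) (hz : z ≠ 0) (hx : x ^ r = z • 1) : IsSS x := by
  apply isSS_of_squarefree_aeval_eq_zero x (X ^ r - C z) (separable_X_pow_sub_C z hr hz).squarefree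
  rw [map_sub, map_pow, aeval_X, aeval_C, hx, Algebra.algebraMap_eq_smul_one, sub_self]

/-- conjugating into the similarity group via equal characteristic polynomials -/
theorem conj_glue [Finite F] {n : ℕ} (h2 : (2 : F) ≠ 0) (Q : (Fin n → F) → F)
    (hQ : Cfsg.Geo.IsNondegenerateQuadraticForm Q) (x : GL (Fin n) F)
    (hx : x ∈ Cfsg.Geo.specialLinear (Fin n) F) (x' : Matrix (Fin n) (Fin n) F)
    (hc : x'.charpoly = (x : Matrix (Fin n) (Fin n) F).charpoly)
    (hss : IsSS (x : Matrix (Fin n) (Fin n) F)) (hss' : IsSS x') (hsim : SimM (gram Q) x') :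
    ∃ g ∈ Cfsg.Geo.specialLinear (Fin n) F, g⁻¹ * x * g ∈ Cfsg.Geo.quadSimilarityGroup Q := by
  have hdx : (x : Matrix (Fin n) (Fin n) F).det = 1 := (mem_specialLinear_iff x).1 hx
  have hdx' : x'.det = 1 := by
    rw [Matrix.det_eq_sign_charpoly_coeff, hc, ← Matrix.det_eq_sign_charpoly_coeff, hdx]
  let gS : Matrix.SpecialLinearGroup (Fin n) F := ⟨(x : Matrix (Fin n) (Fin n) F), hdx⟩
  let hS : Matrix.SpecialLinearGroup (Fin n) F := ⟨x', hdx'⟩
  have hconj : IsConj gS hS := sl_isConj_of_charpoly_eq gS hS hss hss' hc.symm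
  obtain ⟨c, hc'⟩ := isConj_iff.1 hconj
  let G : GL (Fin n) F := Matrix.SpecialLinearGroup.toGL c
  have hG : G ∈ Cfsg.Geo.specialLinear (Fin n) F := by
    rw [mem_specialLinear_iff]
    exact c.2
  refine ⟨G⁻¹, inv_mem hG, ?_⟩
  rw [inv_inv, mem_quadSimilarityGroup_iff Q hQ h2]
  have hxg : x = Matrix.SpecialLinearGroup.toGL gS := Units.ext rfl
  have : G * x * G⁻¹ = Matrix.SpecialLinearGroup.toGL hS := by
    rw [hxg, ← hc', map_mul, map_mul, map_inv]
  rw [this]
  exact hsim

end aux

/-- Elements of prime order of PSL_n(q), q odd, and the subgroups of orthogonal type. Here `T = PSL_n(F)` for a field `F` with `q` elements, `q` odd, `n ≥ 3`; `Q` is a non-degenerate quadratic form on `F^n` (of either type when `n` is even) and `H` is the subgroup of matrices of determinant 1 that preserve `Q` up to a scalar — a subgroup of type O^ε_n(q) (maximality is not assumed); Ω is the set of cosets of `H` in `T`, so an element of `T` of prime order `r` (a matrix `x` of determinant 1 with `x^r`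 scalar, `x` not scalar) fixes a point of Ω exactly when some conjugate of `x` by a matrix of determinant 1 preserves `Q` up to a scalar. Let `r` be a prime dividing the index of `H`, with `(n, r) ≠ (6, 3)`. Then every element of `T` of order `r` fixes a point of Ω if and only if `r = 2`, or `r ∈ {3, 5}`, `n = r` and `(q − 1)_r = r` (the `r`-part of `q − 1` is exactly `r`). The case `(n, r) = (6, 3)` is not covered by this statement. -/
theorem result {F : Type*} [Field F] [Fintype F] {p : ℕ} [Fact p.Prime] [CharP F p] {q : ℕ} (hq : Fintype.card F = q)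
    (hodd : Odd q) (n : ℕ) (hn : 3 ≤ n) (Q : (Fin n → F) → F) (hQ : Cfsg.Geo.IsNondegenerateQuadraticForm Q)
    (r : ℕ) [Fact r.Prime] (hgap : ¬ (n = 6 ∧ r = 3))
    (hΩ : r ∣ (Cfsg.Geo.quadSimilarityGroup Q).relIndex (Cfsg.Geo.specialLinear (Fin n) F)) :
    (∀ x ∈ Cfsg.Geo.specialLinear (Fin n) F, (∃ z : F, ((x ^ r : GL (Fin n) F) : Matrix (Fin n) (Fin n) F) = z • (1 : Matrix (Fin n) (Fin n) F)) →
      (∀ z : F, (x : Matrix (Fin n) (Fin n) F) ≠ z • (1 : Matrix (Fin n) (Fin n) F)) →
      ∃ g ∈ Cfsg.Geo.specialLinear (Fin n) F, g⁻¹ * x * g ∈ Cfsg.Geo.quadSimilarityGroup Q) ↔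
    (r = 2 ∨ ((r = 3 ∨ r = 5) ∧ n = r ∧ padicValNat r (q - 1) = 1)) := by
  classical
  have hrP : r.Prime := Fact.out
  have hpP : p.Prime := Fact.out
  subst hq
  have hp2 : p ≠ 2 := by
    rintro rfl
    obtain ⟨k, -, hk⟩ := FiniteField.card F 2
    rw [hk] at hodd
    have : Even ((2 : ℕ) ^ (k : ℕ)) := (Nat.even_pow.2 ⟨even_two, k.ne_zero⟩)
    exact (Nat.not_even_iff_odd.2 hodd) this
  have h2 : (2 : F) ≠ 0 := by
    intro h
    have : ((2 : ℕ) : F) = 0 := by exact_mod_cast h
    rw [CharP.cast_eq_zero_iff F p] at this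
    exact hp2 ((Nat.prime_dvd_prime_iff_eq hpP Nat.prime_two).1 this)
  have hq1 : 1 ≤ Fintype.card F := Fintype.card_pos
  constructor
  · -- (⇒)
    intro hall
    by_contra hR
    push Not at hR
    obtain ⟨hr2, hex⟩ := hR
    have hex' : ¬ ((r = 3 ∨ r = 5) ∧ n = r ∧ padicValNat r (Fintype.card F - 1) = 1) := by
      rintro ⟨h35, hnr, hv⟩
      exact hex h35 hnr hv
    -- a universal derangement gives a contradiction
    have fin : ∀ x : Matrix (Fin n) (Fin n) F, x.det = 1 → (∃ z : F, x ^ r = z • 1) →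
        (∀ z : F, x ≠ z • 1) →
        (∀ A : Matrix (Fin n) (Fin n) F, Aᵀ = A → A.det ≠ 0 → ¬ SimM A x) → False :=
      fun x hdet hxr hns hd =>
        derangement_glue h2 Q hQ r hall x hdet hxr hns (fun A hA hAd _ => hd A hA hAd)
    by_cases hrp : r = p
    · -- r = p : transvection
      obtain ⟨x, hdet, hxp, hns, hd⟩ := Cfsg.Agent.Lib.Helper88_OrthC8_DP.DP (F := F) p hp2 (n := n) (by omega)
      exact fin x hdet ⟨1, by rw [hrp, hxp, one_smul]⟩ hns hd
    · set i := orderOf ((Fintype.card F : ℕ) : ZMod r) with hi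
      have hdvd : ∀ j : ℕ, r ∣ Fintype.card F ^ j - 1 ↔ i ∣ j :=
        fun j => Cfsg.Agent.Lib.Helper40_SylowLarge.dvd_pow_sub_one_iff r hq1 j
      -- the odd-order cases
      have hoddcase : Odd i → i ≤ n → False := by
        intro hio hin
        by_cases hi1 : i = 1
        · have hrq : r ∣ Fintype.card F - 1 := by
            have := (hdvd 1).2 (by rw [hi1])
            simpa using this
          obtain ⟨x, hdet, hxr, hns, hd⟩ := Cfsg.Agent.Lib.Helper85_OrthC8_DONE.DONE (F := F) hrP hr2 hrq hn hgap hex'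
          exact fin x hdet hxr hns hd
        · have hi3 : 3 ≤ i := by
            obtain ⟨k, hk⟩ := hio
            have hi0 : i ≠ 0 := by omega
            omega
          obtain ⟨x, hdet, hxr, hns, hd⟩ := Cfsg.Agent.Lib.Helper25_OrthC8_DODD.DODD (F := F) p hrP hrp hio hi3 hin
          exact fin x hdet ⟨1, by rw [hxr, one_smul]⟩ hns hd
      -- the even-order case
      have hevencase : Even i → ∀ t : ℕ, n = i * t →
          ¬ (IsSquare ((-1 : F) ^ (n / 2) * (gram Q).det) ↔ Even t) → False := by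
        intro hie t hnt hmis
        have ht : 1 ≤ t := by
          rcases Nat.eq_zero_or_pos t with h | h
          · rw [h, mul_zero] at hnt; omega
          · exact h
        obtain ⟨x, hdet, hxr, hns, hd⟩ := Cfsg.Agent.Lib.Helper13_OrthC8_DEVEN.DEVEN (F := F) p h2 hrP hr2 hrp hie hnt ht
        refine derangement_glue h2 Q hQ r hall x hdet ⟨1, by rw [hxr, one_smul]⟩ hns ?_
        rintro A hA hAd ⟨d, hd0, hdd⟩ hsim
        have h1 := hd A hA hAd hsim
        apply hmis
        rw [← h1, hdd]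
        constructor
        · rintro ⟨s, hs⟩
          exact ⟨s * d, by rw [← mul_assoc, hs]; ring⟩
        · rintro ⟨s, hs⟩
          refine ⟨s / d, ?_⟩
          field_simp
          rw [← mul_assoc] at hs
          linear_combination hs
      rcases Cfsg.Agent.Lib.Helper82_OrthC8_IDX.IDX (F := F) p h2 hn Q hQ hrP hrp hΩ with ⟨k, hko, hk3, hkn, hrk⟩ | ⟨m, hnm, hsq, hrm⟩ |
        ⟨m, hnm, hsq, hrm⟩
      · -- r ∣ q^k - 1, k odd
        have hik : i ∣ k := (hdvd k).1 hrk
        have hio : Odd i := by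
          obtain ⟨c, hc⟩ := hik
          rw [hc] at hko
          exact (Nat.odd_mul.1 hko).1
        have hk0 : 0 < k := by omega
        exact hoddcase hio (le_trans (Nat.le_of_dvd hk0 hik) hkn)
      · -- plus type, r ∣ q^m + 1
        have hm0 : 0 < m := by omega
        have h2m : r ∣ Fintype.card F ^ (2 * m) - 1 := by
          have : Fintype.card F ^ (2 * m) - 1 = (Fintype.card F ^ m + 1) * (Fintype.card F ^ m - 1) := by
            have h1 := Nat.sq_sub_sq (Fintype.card F ^ m) 1
            rw [one_pow] at h1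
            rw [pow_mul', h1]
          rw [this]
          exact Dvd.dvd.mul_right hrm _
        have hi2m : i ∣ 2 * m := (hdvd _).1 h2m
        have him : ¬ i ∣ m := by
          intro him
          have h1 : r ∣ Fintype.card F ^ m - 1 := (hdvd m).2 him
          have h1' : 1 ≤ Fintype.card F ^ m := Nat.one_le_pow _ _ hq1
          have : r ∣ 2 := by
            have h3 : (Fintype.card F ^ m + 1) - (Fintype.card F ^ m - 1) = 2 := by omega
            rw [← h3]
            exact Nat.dvd_sub hrm h1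
          exact hr2 ((Nat.prime_dvd_prime_iff_eq hrP Nat.prime_two).1 this)
        have hie : Even i := by
          by_contra hno
          have hio : Odd i := Nat.not_even_iff_odd.1 hno
          exact him ((Nat.Coprime.dvd_of_dvd_mul_left (Nat.coprime_two_right.2 hio)) hi2m)
        obtain ⟨t, ht⟩ := hi2m
        have hto : ¬ Even t := by
          rintro ⟨s, hs⟩
          apply him
          refine ⟨s, ?_⟩
          rw [hs] at ht
          have : 2 * m = 2 * (i * s) := by rw [ht]; ring
          omega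
        refine hevencase hie t (by rw [hnm, ht]) ?_
        intro hiff
        apply hto
        have hn2 : n / 2 = m := by omega
        rw [← hiff, hn2]
        exact hsq
      · -- minus type, r ∣ q^m - 1
        have hm0 : 0 < m := by omega
        have him : i ∣ m := (hdvd m).1 hrm
        rcases Nat.even_or_odd i with hie | hio
        · obtain ⟨s, hs⟩ := him
          refine hevencase hie (2 * s) (by rw [hnm, hs]; ring) ?_
          intro hiff
          apply hsq
          have hn2 : n / 2 = m := by omega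
          have := hiff.2 ⟨s, by ring⟩
          rwa [hn2] at this
        · exact hoddcase hio (le_trans (Nat.le_of_dvd hm0 him) (by omega))
  · -- (⇐)
    rintro (hr2 | ⟨h35, hnr, hv⟩)
    · -- r = 2
      intro x hx ⟨z, hz⟩ _
      rw [hr2, Units.val_pow_eq_pow_val, pow_two] at hz
      have hdx : (x : Matrix (Fin n) (Fin n) F).det = 1 := (mem_specialLinear_iff x).1 hx
      have hz0 : z ≠ 0 := by
        rintro rfl
        have := congrArg Matrix.det hz
        rw [Matrix.det_mul, hdx, zero_smul, @Matrix.det_zero (Fin n) _ _ F _ ⟨⟨0, by omega⟩⟩, one_mul] at this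
        exact (one_ne_zero : (1 : F) ≠ 0) this
      have key : ∃ x' : Matrix (Fin n) (Fin n) F,
          x'.charpoly = (x : Matrix (Fin n) (Fin n) F).charpoly ∧ x' * x' = z • 1 ∧
            SimM (gram Q) x' := by
        by_cases hsq : IsSquare z
        · obtain ⟨c, rfl⟩ := hsq
          have hc0 : c ≠ 0 := by
            rintro rfl
            exact hz0 (by ring)
          exact Cfsg.Agent.Lib.Helper88_OrthC8_RA.RA h2 (gram Q) (gram_transpose Q) (gram_det_ne_zero Q hQ) _ c hc0 hz
        · exact Cfsg.Agent.Lib.Helper72_OrthC8_RB.RB h2 (gram Q) (gram_transpose Q) (gram_det_ne_zero Q hQ) _ z hsq hz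
      obtain ⟨x', hc, hx', hsim⟩ := key
      have hss : ∀ y : Matrix (Fin n) (Fin n) F, y * y = z • 1 → IsSS y := fun y hy =>
        isSS_of_pow_eq_smul y 2 (by exact_mod_cast h2) z hz0 (by rw [pow_two, hy])
      exact conj_glue h2 Q hQ x hx x' hc (hss _ hz) (hss _ hx') hsim
    · -- exceptional
      subst hnr
      intro x hx ⟨z, hz⟩ _
      rw [Units.val_pow_eq_pow_val] at hz
      have hdx : (x : Matrix (Fin n) (Fin n) F).det = 1 := (mem_specialLinear_iff x).1 hx
      have hz0 : z ≠ 0 := by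
        rintro rfl
        have := congrArg Matrix.det hz
        rw [Matrix.det_pow, hdx, zero_smul, @Matrix.det_zero (Fin n) _ _ F _ ⟨⟨0, by omega⟩⟩, one_pow] at this
        exact (one_ne_zero : (1 : F) ≠ 0) this
      have hrq : n ∣ Fintype.card F - 1 := by
        by_contra hno
        rw [padicValNat.eq_zero_of_not_dvd hno] at hv
        exact zero_ne_one hv
      have hrF : ((n : ℕ) : F) ≠ 0 := by
        intro h0
        rw [CharP.cast_eq_zero_iff F p] at h0
        have hpn : p = n := (Nat.prime_dvd_prime_iff_eq hpP hrP).1 h0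
        obtain ⟨k, -, hk⟩ := FiniteField.card F p
        have hpq : p ∣ Fintype.card F := by
          rw [hk]
          exact dvd_pow_self p k.ne_zero
        have : p ∣ 1 := by
          have h3 : Fintype.card F - (Fintype.card F - 1) = 1 := by omega
          rw [← h3]
          exact Nat.dvd_sub hpq (hpn ▸ hrq)
        exact hpP.one_lt.ne' (Nat.dvd_one.1 this)
      obtain ⟨x', hc, hx', hsim⟩ := Cfsg.Agent.Lib.Helper25_OrthC8_EX.EX h2 h35 hv (gram Q) (gram_transpose Q)
        (gram_det_ne_zero Q hQ) _ hdx z hz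
      exact conj_glue h2 Q hQ x hx x' hc (isSS_of_pow_eq_smul _ n hrF z hz0 hz)
        (isSS_of_pow_eq_smul _ n hrF z hz0 hx') hsim

end Cfsg.Agent.S5981
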