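import Cfsg.Statements.S5982
import Cfsg.Agent.Lib.Helper58_S5982Defs
import Cfsg.Agent.Lib.Helper58_S5982_Crit
import Cfsg.Agent.Lib.Helper58_S5982_Asm
import Cfsg.Agent.Lib.Helper89_S5982_POSB
import Cfsg.Agent.Lib.Helper89_S5982_POSC1
import Cfsg.Agent.Lib.Helper68_S5982_NEGC3
import Cfsg.Agent.Lib.Helper5_S5982_IDX
import Cfsg.Agent.Lib.Helper68_S5982_D1
import Cfsg.Agent.Lib.Helper68_S5982_D3
import Cfsg.Agent.Lib.Helper31_S5982_V0
import Cfsg.Agent.Lib.Helper31_S5982_A
import Cfsg.Agent.Lib.Helper17_S5982_NEGB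
import Cfsg.Agent.Lib.Helper40_UPrimeOrder

set_option autoImplicit false
open scoped MatrixGroups
open Cfsg

namespace Cfsg.Agent.S5982

open Polynomial Cfsg.Agent.Lib.Helper58_S5982Defs Cfsg.Agent.Lib.Helper58_S5982_Crit
  Cfsg.Agent.Lib.Helper58_S5982_Asm Cfsg.Agent.Lib.Helper89_S5982_POSB
  Cfsg.Agent.Lib.Helper89_S5982_POSC1 Cfsg.Agent.Lib.Helper68_S5982_NEGC3
  Cfsg.Agent.Lib.Helper5_S5982_IDX Cfsg.Agent.Lib.Helper68_S5982_D1 Cfsg.Agent.Lib.Helper68_S5982_D3
  Cfsg.Agent.Lib.Helper31_S5982_V0 Cfsg.Agent.Lib.Helper31_S5982_A Cfsg.Agent.Lib.Helper17_S5982_NEGB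
  Cfsg.Agent.Lib.Helper94_Herm Cfsg.Agent.Lib.Helper94_HermBridge

theorem result {F : Type*} [Field F] [Fintype F] {p : ℕ} [Fact p.Prime] [CharP F p] {q : ℕ} (hq : Fintype.card F = q)
    (q₀ : ℕ) (hq₀ : q = q₀ ^ 2) (n : ℕ) (hn : 3 ≤ n) (f : (Fin n → F) → (Fin n → F) → F) (hf : Cfsg.Geo.IsUnitaryFormPow q₀ f)
    (r : ℕ) [Fact r.Prime] (hr : r = 2 ∨ r ≠ p) (hgap : ¬ (n = 6 ∧ r = 3))
    (hΩ : r ∣ (Cfsg.Geo.similarityGroup f).relIndex (Cfsg.Geo.specialLinear (Fin n) F)) :
    (∀ x ∈ Cfsg.Geo.specialLinear (Fin n) F, (∃ z : F, ((x ^ r : GL (Fin n) F) : Matrix (Fin n) (Fin n) F) = z • (1 : Matrix (Fin n) (Fin n) F)) →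
      (∀ z : F, (x : Matrix (Fin n) (Fin n) F) ≠ z • (1 : Matrix (Fin n) (Fin n) F)) →
      ∃ g ∈ Cfsg.Geo.specialLinear (Fin n) F, g⁻¹ * x * g ∈ Cfsg.Geo.similarityGroup f) ↔
    ((r = 2 ∧ (p = 2 ∨ padicValNat 2 n ≤ padicValNat 2 (q - 1))) ∨ ((r = 3 ∨ r = 5) ∧ n = r ∧ padicValNat r (q₀ - 1) = 1)) := by
  subst hq₀
  have hK : Fintype.card F = q₀ ^ 2 := hq
  have hp : p.Prime := Fact.out
  have hrP : r.Prime := Fact.out
  obtain ⟨σ, hσq, hσ⟩ := exists_frob hK
  obtain ⟨P, hP⟩ := V0 hK n f hf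
  have hn0 : 0 < n := by omega
  obtain ⟨m, hqm⟩ := Cfsg.Agent.Lib.Helper40_UPrimeOrder.exists_q_eq_pow (K := F) p hK
  have hq1 : 1 ≤ q₀ := by
    rw [hqm]
    exact Nat.one_le_pow _ _ hp.pos
  rw [lhs_iff f P hP r]
  have hΩ' : r ∣ q₀ ^ (n * (n - 1) / 2) *
      ∏ j ∈ Finset.Icc 2 n, (if Even j then q₀ ^ j + 1 else q₀ ^ j - 1) := by
    rw [relIndex_eq f P hP] at hΩ
    exact hΩ.trans (IDX hK n (by omega))
  by_cases hr2 : r = 2
  · subst hr2
    by_cases hp2 : p = 2
    · subst hp2
      constructor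
      · intro _
        exact Or.inl ⟨rfl, Or.inl rfl⟩
      · rintro - x ⟨hx, ⟨z, hz⟩, -⟩
        exact A hK n x hx z hz
    · have h2F : (2 : F) ≠ 0 := by
        intro h
        have h1 : ((2 : ℕ) : F) = 0 := by exact_mod_cast h
        rw [CharP.cast_eq_zero_iff F p] at h1
        exact hp2 ((Nat.prime_dvd_prime_iff_eq hp Nat.prime_two).1 h1)
      rw [cand_iff σ hσq hK hσ hn0 2 (by exact_mod_cast h2F)]
      constructor
      · intro H
        by_contra hR
        have hlt : padicValNat 2 (q₀ ^ 2 - 1) < padicValNat 2 n := by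
          by_contra hle
          exact hR (Or.inl ⟨rfl, Or.inr (not_lt.1 hle)⟩)
        obtain ⟨c, hc, hns⟩ := NEGB hK σ hσq h2F n hlt
        exact hns (H c hc)
      · rintro (⟨-, h | h⟩ | ⟨h | h, -⟩) c hc
        · exact absurd h hp2
        · exact POSB hK σ hσq h2F n hn0 h c hc
        · omega
        · omega
  · have hrp : r ≠ p := hr.resolve_left hr2
    have hrF : (r : F) ≠ 0 := by
      intro h
      rw [CharP.cast_eq_zero_iff F p] at h
      exact hrp ((Nat.prime_dvd_prime_iff_eq hp hrP).1 h).symm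
    have hrq0 : ¬ r ∣ q₀ := by
      intro h
      rw [hqm] at h
      exact hrp ((Nat.prime_dvd_prime_iff_eq hrP hp).1 (hrP.dvd_of_dvd_pow h))
    rw [cand_iff σ hσq hK hσ hn0 r hrF]
    obtain ⟨j, hj2, hjn, hj⟩ := exists_j_of_dvd r hrP hrq0 hq1 hΩ'
    have h4 : orderOf ((q₀ : ℕ) : ZMod r) % 4 ≠ 2 := mod4_ne_two r hr2 _ j hj
    have hin : orderOf ((q₀ ^ 2 : ℕ) : ZMod r) ≤ n := by
      rw [Nat.cast_pow]
      exact orderOf_sq_le r _ j hj2 hjn hj
    have hone : orderOf ((q₀ : ℕ) : ZMod r) = 1 ↔ r ∣ q₀ - 1 := by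
      rw [orderOf_eq_one_iff, ← ZMod.natCast_eq_zero_iff, Nat.cast_sub hq1, Nat.cast_one,
        sub_eq_zero]
    have hRHS : ((r = 2 ∧ (p = 2 ∨ padicValNat 2 n ≤ padicValNat 2 (q₀ ^ 2 - 1))) ∨
        ((r = 3 ∨ r = 5) ∧ n = r ∧ padicValNat r (q₀ - 1) = 1)) ↔
        ((r = 3 ∨ r = 5) ∧ n = r ∧ padicValNat r (q₀ - 1) = 1) := by
      constructor
      · rintro (⟨h, -⟩ | h)
        · exact absurd h hr2
        · exact h
      · exact Or.inr
    rw [hRHS]
    by_cases h1 : orderOf ((q₀ : ℕ) : ZMod r) = 1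
    · have hrq : r ∣ q₀ - 1 := hone.1 h1
      have hq0 : q₀ - 1 ≠ 0 := by
        intro h0
        -- `q₀ = 1` is impossible: `|F| ≥ 2`
        have : Fintype.card F = 1 := by rw [hK]; have : q₀ = 1 := by omega
                                        rw [this]; norm_num
        have h2 := Fintype.one_lt_card (α := F)
        omega
      obtain ⟨l, hl, hl1⟩ := exists_root hK hq1 r hrq
      by_cases hcase : (r = 3 ∨ r = 5) ∧ n = r
      · obtain ⟨h35, hnr⟩ := hcase
        by_cases hv : padicValNat r (q₀ - 1) = 1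
        · constructor
          · intro _
            exact ⟨h35, hnr, hv⟩
          · rintro - c hc
            rw [hnr] at hc
            exact POSC1 hK σ hσq r h35 hv c hc
        · constructor
          · intro H
            exfalso
            have hsq : r ^ 2 ∣ q₀ - 1 := by
              have hv1 : 1 ≤ padicValNat r (q₀ - 1) :=
                one_le_padicValNat_of_dvd hq0 hrq
              have hv2 : 2 ≤ padicValNat r (q₀ - 1) := by omega
              exact (padicValNat_dvd_iff_le hq0).2 hv2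
            obtain ⟨l', w, hl', hl1', hw⟩ := exists_w_of_sq_dvd hK hq1 r hrP hsq
            rw [← hnr] at hw
            obtain ⟨hadm, hns⟩ := D1 hK σ hσq r hrP hr2 hrq n hn l' w hl' hl1' hw
            exact hns (H _ hadm)
          · rintro ⟨-, -, h⟩
            exact absurd h hv
      · constructor
        · intro H
          exfalso
          by_cases hrn : r ∣ n
          · -- `n ≥ 6`
            have hn6 : 6 ≤ n := by
              obtain ⟨k, hk⟩ := hrn
              have hr3 : 3 ≤ r := by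
                have := hrP.two_le
                omega
              rcases Nat.lt_or_ge k 2 with hk2 | hk2
              · have hk1 : k = 1 := by
                  rcases Nat.eq_zero_or_pos k with h0 | h0
                  · rw [h0, mul_zero] at hk
                    omega
                  · omega
                rw [hk1, mul_one] at hk
                -- `n = r`, so `r ∉ {3, 5}` and `r ≥ 7`
                have hr35 : ¬ (r = 3 ∨ r = 5) := fun h => hcase ⟨h, hk⟩
                have hr4 : r ≠ 4 := by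
                  rintro rfl
                  exact absurd hrP (by norm_num)
                have hr6 : r ≠ 6 := by
                  rintro rfl
                  exact absurd hrP (by norm_num)
                omega
              · have : r * 2 ≤ r * k := Nat.mul_le_mul_left r hk2
                omega
            have hgap' : ¬ (n = 6 ∧ r = 3) := hgap
            obtain ⟨hadm, hns⟩ := D3 hK σ hσq r hrP hr2 hrq n hn6 hgap' l hl hl1
            exact hns (H _ hadm)
          · obtain ⟨w, hw⟩ := exists_w_of_not_dvd r hrP hrn l hl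
            obtain ⟨hadm, hns⟩ := D1 hK σ hσq r hrP hr2 hrq n hn l w hl hl1 hw
            exact hns (H _ hadm)
        · rintro ⟨h35, hnr, -⟩
          exact absurd ⟨h35, hnr⟩ hcase
    · constructor
      · intro H
        exfalso
        obtain ⟨c, hc, hns⟩ := NEGC3 hK σ hσq r hrP hr2 hrp h1 h4 n hin
        exact hns (H c hc)
      · rintro ⟨-, -, hv⟩
        exfalso
        apply h1
        rw [hone]
        exact dvd_of_one_le_padicValNat (by omega)

end Cfsg.Agent.S5982
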