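import Cfsg.Statements.S5984
import Cfsg.Agent.Lib.Helper43_PolarPair5

set_option autoImplicit false
open scoped MatrixGroups
open Cfsg

namespace Cfsg.Agent.S5984

open Cfsg.Agent.Lib.Helper13_Herm Cfsg.Agent.Lib.Helper43_PolarPair3
  Cfsg.Agent.Lib.Helper43_PolarPair4 Cfsg.Agent.Lib.Helper43_PolarPair5

/-- a prime dividing `q` is the characteristic -/
theorem eq_char_of_dvd {F : Type*} [Field F] [Fintype F] {p : ℕ} [Fact p.Prime] [CharP F p] {q : ℕ}
    (hq : Fintype.card F = q ^ 2) (r : ℕ) (hr : r.Prime) (hrq : r ∣ q) : r = p := by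
  obtain ⟨k, hp, hk⟩ := FiniteField.card F p
  have h1 : r ∣ p ^ (k : ℕ) := by
    rw [← hk, hq]
    exact Dvd.dvd.pow hrq (by norm_num)
  exact (Nat.prime_dvd_prime_iff_eq hr hp).1 (hr.dvd_of_dvd_pow h1)

/-- Elements of prime order of PSU_n(q) and the stabilizers of pairs of complementary totally singular subspaces. Here `T = PSU_n(q)` is realised through `SU_n(q)`, the matrices of determinant 1 over the field `F` with `q²` elements preserving the hermitian form `Σ uᵢ vᵢ^q`, with `n ≥ 4` even; `D` is a pair of complementary subspaces of dimension `n/2` on each of which the form vanishes identically, and `H` is the subgroup of `SU_n(q)` fixing or interchanging the two members — a subgroup of type GL_{n/2}(q²).2 (maximality is not assumed). Ω is the set of cosets of `H`, so an element of `T` of prime order `r` (`x ∈ SU_n(q)` with `x^r` scalar, `x` not scalar) fixes a point of Ω exactly when some `SU_n(q)`-conjugate of `x` lies in `H`. Let `r` be a prime dividing the index of `H`. Then every element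 of `T` of order `r` fixes a point of Ω if and only if `r = 2`, `q` is odd and `(q + 1)_2 ≤ (n)_2` (2-parts). -/
theorem result {F : Type*} [Field F] [Fintype F] {p : ℕ} [Fact p.Prime] [CharP F p] {q : ℕ} (hq : Fintype.card F = q ^ 2)
    (n : ℕ) (hn : 4 ≤ n) (he : Even n) (D : Fin 2 → Submodule F (Fin n → F)) (hD : Cfsg.Geo.IsMDecomposition (n / 2) D)
    (hDs : ∀ i, Cfsg.Geo.IsTotallySingularFor (Cfsg.hermForm n F q) (D i))
    (r : ℕ) [Fact r.Prime]
    (hΩ : r ∣ (Cfsg.Geo.decompositionStabilizer D).relIndex (Cfsg.GU n F q ⊓ Cfsg.Geo.specialLinear (Fin n) F)) :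
    (∀ x ∈ Cfsg.GU n F q ⊓ Cfsg.Geo.specialLinear (Fin n) F, (∃ z : F, ((x ^ r : GL (Fin n) F) : Matrix (Fin n) (Fin n) F) = z • (1 : Matrix (Fin n) (Fin n) F)) →
      (∀ z : F, (x : Matrix (Fin n) (Fin n) F) ≠ z • (1 : Matrix (Fin n) (Fin n) F)) →
      ∃ g ∈ Cfsg.GU n F q ⊓ Cfsg.Geo.specialLinear (Fin n) F, g⁻¹ * x * g ∈ Cfsg.Geo.decompositionStabilizer D) ↔
    (r = 2 ∧ Odd q ∧ padicValNat 2 (q + 1) ≤ padicValNat 2 n) := by
  obtain ⟨m, rfl⟩ := he
  have hm2 : 2 ≤ m := by omega
  have hdiv : (m + m) / 2 = m := by omega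
  rw [hdiv] at hD
  have hrprime : r.Prime := Fact.out
  have hpprime : p.Prime := Fact.out
  have hq2 := two_le_q hq
  constructor
  · intro hall
    have key : ∀ x : GL (Fin (m + m)) F, x ∈ Cfsg.GU (m + m) F q → x.1.det = 1 →
        (∃ z : F, ((x ^ r : GL (Fin (m + m)) F) : Matrix (Fin (m + m)) (Fin (m + m)) F) =
          z • (1 : Matrix (Fin (m + m)) (Fin (m + m)) F)) →
        (∀ z : F, (x : Matrix (Fin (m + m)) (Fin (m + m)) F) ≠
          z • (1 : Matrix (Fin (m + m)) (Fin (m + m)) F)) →
        (∀ g ∈ Cfsg.GU (m + m) F q, g⁻¹ * x * g ∉ Cfsg.Geo.decompositionStabilizer D) →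
        False := by
      intro x hxGU hxdet hxr hxns hno
      have hxSL : x ∈ Cfsg.Geo.specialLinear (Fin (m + m)) F := by
        show Matrix.GeneralLinearGroup.det x = 1
        apply Units.ext
        rw [Matrix.GeneralLinearGroup.val_det_apply, hxdet, Units.val_one]
      obtain ⟨g, hg, hgx⟩ := hall x ⟨hxGU, hxSL⟩ hxr hxns
      exact hno g hg.1 hgx
    by_cases hrp : r = p
    · exfalso
      obtain ⟨x, h1, h2, h3, h4, h5⟩ := exists_transvection' hq p (m + m) (by omega)
      apply key x h1 h2 ⟨1, by rw [hrp, h3, Units.val_one, one_smul]⟩ h5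
      intro g hg
      exact not_conj_of_rank_small hq hD hDs x h1 (by rw [h4]; decide) (by rw [h4]; omega) g hg
    · by_cases hr2 : r = 2
      · have hp2 : p ≠ 2 := fun h => hrp (hr2.trans h.symm)
        have h2F : (2 : F) ≠ 0 := by
          intro h0
          have h1 : ((2 : ℕ) : F) = 0 := by rw [Nat.cast_ofNat]; exact h0
          rw [CharP.cast_eq_zero_iff F p 2] at h1
          exact hp2 ((Nat.prime_dvd_prime_iff_eq hpprime Nat.prime_two).1 h1)
        have hqodd : Odd q := by
          rw [← Nat.not_even_iff_odd]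
          intro hev
          exact hp2 (eq_char_of_dvd hq 2 Nat.prime_two hev.two_dvd).symm
        refine ⟨hr2, hqodd, ?_⟩
        by_contra hv
        push Not at hv
        obtain ⟨x, x₀, ζ, hζ, hxx₀, hx₀GU, hxGU, hxdet, hxx, hrank, hxns⟩ :=
          exists_quasi_reflection' hq h2F (m + m) (by omega) hv
        apply key x hxGU hxdet ⟨ζ * ζ, by rw [hr2, pow_two, Units.val_mul]; exact hxx⟩ hxns
        intro g hg
        exact not_conj_of_smul hq hD hDs x x₀ ζ hζ hxx₀ hx₀GU (by rw [hrank]; decide)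
          (by rw [hrank]; omega) g hg
      · exfalso
        rcases dvd_of_dvd_relIndex hq (by omega) hD hDs r hrprime hΩ with hrq | ⟨j, hj, hdvd⟩
        · exact hrp (eq_char_of_dvd hq r hrprime hrq)
        · obtain ⟨x, h1, h2, h3, h4, h5⟩ :=
            exists_odd_rank hq p r hrprime hr2 hrp j (m + m) (by omega) (by omega) hdvd
          apply key x h1 h2 ⟨1, by rw [h3, Units.val_one, one_smul]⟩ h5
          intro g hg
          exact not_conj_of_odd_order hq hD hDs x h1 r (hrprime.odd_of_ne_two hr2) h3 h4 g hg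
  · rintro ⟨hr2, hqodd, hv⟩ x hx ⟨z, hz⟩ _
    have hxdet : x.1.det = 1 := by
      have h : Matrix.GeneralLinearGroup.det x = 1 := hx.2
      have h' := congrArg Units.val h
      rwa [Matrix.GeneralLinearGroup.val_det_apply, Units.val_one] at h'
    rw [hr2, pow_two, Units.val_mul] at hz
    exact exists_conj_into_stab hq (by omega) hqodd hv hD hDs x hx.1 hxdet z hz

end Cfsg.Agent.S5984
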