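import Cfsg.Statements.S5987
import Cfsg.Agent.Lib.Helper99_OrthTS_Model
import Cfsg.Agent.Lib.Helper44_OmegaAll
import Cfsg.Agent.Lib.Helper31_OrthTS_RED
import Cfsg.Agent.Lib.Helper73_OrthTS_ARITH_odd
import Cfsg.Agent.Lib.Helper99_OrthTS_ArithEven
import Cfsg.Agent.Lib.Helper99_OrthTS_R2
import Cfsg.Agent.Lib.Helper60_OrthTS_OCOUNT

set_option autoImplicit false
open scoped MatrixGroups
open Cfsg
open Cfsg.Agent.Lib.Helper44_StdForms Cfsg.Agent.Lib.Helper40_OConj Cfsg.Agent.Lib.Helper40_QuadIso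
  Cfsg.Agent.Lib.Helper40_SpBasic Cfsg.Agent.Lib.Helper40_OClasses Cfsg.Agent.Lib.Helper99_OrthTSDefs

open Cfsg.Agent.Lib.Helper31_OrthTS_RED (RED)
open Cfsg.Agent.Lib.Helper73_OrthTS_ARITH_odd (ARITH_odd_minus)
open Cfsg.Agent.Lib.Helper99_OrthTS_ArithEven (ARITH_even_minus)
open Cfsg.Agent.Lib.Helper60_OrthTS_OCOUNT (OCOUNT)

namespace Cfsg.Agent.S5987



/-- Elements of prime order of PΩ⁻_n(q) with no fixed totally singular `m`-space. Here `T = PΩ⁻_n(F)`, `n = 2d ≥ 8`, realised through `Ω⁻_n(q)`, the commutator subgroup of the isometry group of `Q = Σ_{i<d−1} xᵢyᵢ + z₁² + a z₁z₂ + b z₂²` with `z₁² + a z₁z₂ + b z₂²` anisotropic, over the field `F` with `q` elements; an element of `T` of prime order `r` is an element `x` of `Ω⁻_n(q)` with `x^r` scalar and `x` not scalar. Let `1 ≤ m ≤ d − 1` and let `r` be a prime dividing the number of totally singular `m`-spaces (subspaces of dimension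 `m` on which `Q` vanishes); for `r ≠ p` let `i` be the multiplicative order of `q` modulo `r`, `c = i` for `i` even and `c = 2i` for `i` odd, and write `k = n mod c`, `ℓ = m mod i`, `n' = ⌊n/i⌋`, `m' = ⌊m/i⌋`, `t = (r−1)/i`. Then every element of `T` of order `r` fixes some totally singular `m`-space if and only if one of: (i) `r = 2 ≠ p` and (`n ≡ 0 (mod 4)`, or `m` is even, or `q ≢ 7 (mod 8)`); (ii) `r ≠ p` odd, `i` odd, `i ≤ m` and (`k = 0` or `k > 2ℓ`); (iii) `r ≠ p` odd, `i` even, `i ≤ m`, `n' − 2m' ≥ t`, and one of: (a) `i ≥ 2ℓ`, `k = 0`, `n/i` even and `n' − 2m' > t` (all four); (b) `k ≥ 2ℓ` and `n'` odd; (c) `k > 2ℓ` and `n'` even. -/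
theorem result {F : Type*} [Field F] [Fintype F] {p : ℕ} [Fact p.Prime] [CharP F p] {q : ℕ} (hq : Fintype.card F = q)
    (d m : ℕ) (hd : 4 ≤ d) (hm : 1 ≤ m) (hmd : m + 1 ≤ d) (a b : F) (hab : ∀ x y : F, x ^ 2 + a * x * y + b * y ^ 2 = 0 → x = 0 ∧ y = 0)
    (r : ℕ) [Fact r.Prime]
    (hrΩ : r ∣ Nat.card {W : Submodule F ((Fin (d - 1) ⊕ Fin (d - 1)) ⊕ Fin 2 → F) // Module.finrank F ↥W = m ∧ Cfsg.Geo.IsTotallySingularQuad (Cfsg.quadFormMinus (d - 1) F a b) W})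
    (i c : ℕ) (hi : i = orderOf (q : ZMod r)) (hc : c = if Even i then i else 2 * i) :
    (∀ x : GL ((Fin (d - 1) ⊕ Fin (d - 1)) ⊕ Fin 2) F, x ∈ Cfsg.Geo.omegaGL (Cfsg.quadFormMinus (d - 1) F a b) →
      (∃ z : F, ((x ^ r : GL ((Fin (d - 1) ⊕ Fin (d - 1)) ⊕ Fin 2) F) : Matrix ((Fin (d - 1) ⊕ Fin (d - 1)) ⊕ Fin 2) ((Fin (d - 1) ⊕ Fin (d - 1)) ⊕ Fin 2) F) = z • (1 : Matrix ((Fin (d - 1) ⊕ Fin (d - 1)) ⊕ Fin 2) ((Fin (d - 1) ⊕ Fin (d - 1)) ⊕ Fin 2) F)) →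
      (∀ z : F, (x : Matrix ((Fin (d - 1) ⊕ Fin (d - 1)) ⊕ Fin 2) ((Fin (d - 1) ⊕ Fin (d - 1)) ⊕ Fin 2) F) ≠ z • (1 : Matrix ((Fin (d - 1) ⊕ Fin (d - 1)) ⊕ Fin 2) ((Fin (d - 1) ⊕ Fin (d - 1)) ⊕ Fin 2) F)) →
      ∃ W : Submodule F ((Fin (d - 1) ⊕ Fin (d - 1)) ⊕ Fin 2 → F), (Module.finrank F ↥W = m ∧ Cfsg.Geo.IsTotallySingularQuad (Cfsg.quadFormMinus (d - 1) F a b) W) ∧ W.map (Matrix.toLin' (x : Matrix ((Fin (d - 1) ⊕ Fin (d - 1)) ⊕ Fin 2) ((Fin (d - 1) ⊕ Fin (d - 1)) ⊕ Fin 2) F)) ≤ W) ↔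
    ((r = 2 ∧ p ≠ 2 ∧ (Even d ∨ Even m ∨ q % 8 ≠ 7)) ∨
     (r ≠ p ∧ 2 < r ∧ Odd i ∧ i ≤ m ∧ ((2 * d) % c = 0 ∨ 2 * (m % i) < (2 * d) % c)) ∨
     (r ≠ p ∧ 2 < r ∧ Even i ∧ i ≤ m ∧ (r - 1) / i + 2 * (m / i) ≤ (2 * d) / i ∧
       ((2 * (m % i) ≤ i ∧ (2 * d) % c = 0 ∧ Even ((2 * d) / i) ∧ (r - 1) / i + 2 * (m / i) < (2 * d) / i) ∨
        (2 * (m % i) ≤ (2 * d) % c ∧ Odd ((2 * d) / i)) ∨
        (2 * (m % i) < (2 * d) % c ∧ Even ((2 * d) / i))))) := by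
  classical
  have hp : p.Prime := Fact.out
  have hr : r.Prime := Fact.out
  subst hq
  have hcoe : ⇑(qfMinus (d - 1) F a b) = Cfsg.quadFormMinus (d - 1) F a b := coe_qfMinus (d - 1) F a b
  have hQ₀ : (pol (qfMinus (d - 1) F a b)).Nondegenerate :=
    Cfsg.Agent.Lib.Helper14_POmegaSimple.nondegenerate_qfMinus (d - 1) a b hab
  have hcard : Fintype.card ((Fin (d - 1) ⊕ Fin (d - 1)) ⊕ Fin 2) = 2 * d := by
    rw [Fintype.card_sum, Fintype.card_sum, Fintype.card_fin, Fintype.card_fin]; omega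
  have hplus : (false = true) ↔ IsHyp (qfMinus (d - 1) F a b) :=
    ⟨fun h => Bool.noConfusion h,
      fun h => absurd h (Cfsg.Agent.Lib.Helper40_QuadStd.not_isHyp_qfMinus (d - 1) a b hab)⟩
  simp only [Cfsg.Geo.IsTotallySingularQuad, and_assoc] at hrΩ ⊢
  rw [← hcoe] at hrΩ ⊢
  -- counting
  have hcnt := OCOUNT (qfMinus (d - 1) F a b) hQ₀ d hcard false hplus m hm (by rw [owitt_false]; omega)
  have hprod : r ∣ ∏ j ∈ Finset.range m, osing false (Fintype.card F) (d - j) := by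
    rw [← hcnt]; exact hrΩ.mul_right _
  obtain ⟨j, hj, hjd⟩ := (Prime.dvd_finsetProd_iff hr.prime _).1 hprod
  rw [Finset.mem_range] at hj
  have hpq : p ∣ Fintype.card F := by
    obtain ⟨k, -, hk⟩ := FiniteField.card F p
    rw [hk]; exact dvd_pow_self p k.ne_zero
  have hq1 : 1 ≤ Fintype.card F := Fintype.card_pos
  have hrp : r ≠ p := by
    rintro rfl
    rw [osing_false] at hjd
    have hk2 : 2 ≤ d - j := by omega
    rcases (Nat.Prime.dvd_mul hr).1 hjd with h | h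
    · have h1 : r ∣ Fintype.card F ^ (d - j) := dvd_pow hpq (by omega)
      have h3 : r ∣ 1 := by
        have := (Nat.dvd_sub h h1)
        rwa [Nat.add_sub_cancel_left] at this
      exact hr.one_lt.ne' (Nat.dvd_one.1 h3)
    · have h1 : r ∣ Fintype.card F ^ (d - j - 1) := dvd_pow hpq (by omega)
      have h2 : 1 ≤ Fintype.card F ^ (d - j - 1) := Nat.one_le_pow _ _ hq1
      have h3 : r ∣ 1 := by
        have := (Nat.dvd_sub h1 h)
        rwa [Nat.sub_sub_self h2] at this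
      exact hr.one_lt.ne' (Nat.dvd_one.1 h3)
  have hrq : ¬ r ∣ Fintype.card F := by
    intro h
    obtain ⟨k, -, hk⟩ := FiniteField.card F p
    rw [hk] at h
    exact hrp ((Nat.prime_dvd_prime_iff_eq hr hp).1 (hr.dvd_of_dvd_pow h))
  by_cases h2 : r = 2
  · subst h2
    have hp2 : p ≠ 2 := fun h => hrp h.symm
    have hR2 := Cfsg.Agent.Lib.Helper99_OrthTS_R2.R2minus (F := F) rfl d m hd hm hmd a b hab hp2
    simp only [Cfsg.Geo.IsTotallySingularQuad, and_assoc] at hR2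
    rw [← hcoe] at hR2
    rw [hR2]
    constructor
    · intro h
      exact Or.inl ⟨rfl, hp2, h⟩
    · rintro (⟨-, -, h⟩ | ⟨-, h, -⟩ | ⟨-, h, -⟩)
      · exact h
      · omega
      · omega
  · have h2r : 2 < r := by
      have := hr.two_le
      omega
    have hex : Fintype.card F ≠ 2 ∨ Fintype.card ((Fin (d - 1) ⊕ Fin (d - 1)) ⊕ Fin 2) ≠ 4 := by
      right; rw [hcard]; omega
    rw [RED (qfMinus (d - 1) F a b) hQ₀ hex (by rw [hcard]; omega) hr h2 m]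
    by_cases hio : Odd i
    · have hc' : c = 2 * i := by
        rw [hc, if_neg (by rw [Nat.not_even_iff_odd]; exact hio)]
      rw [Cfsg.Agent.Lib.Helper99_OrthTS_Model.MODEL_odd (qfMinus (d - 1) F a b) hQ₀ d hcard false hplus hr h2 hrp i hi hio m,
        ARITH_odd_minus (Fintype.card F) r d m i c hr h2 hd hm hmd hrq hi hio hc' ⟨j, hj, hjd⟩]
      constructor
      · rintro ⟨h1, h3⟩
        exact Or.inr (Or.inl ⟨hrp, h2r, hio, h1, h3⟩)
      · rintro (⟨h, -⟩ | ⟨-, -, -, h1, h3⟩ | ⟨-, -, h, -⟩)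
        · exact absurd h h2
        · exact ⟨h1, h3⟩
        · exact absurd hio (by rw [Nat.not_odd_iff_even]; exact h)
    · have hie : Even i := by rwa [Nat.not_odd_iff_even] at hio
      have hc' : c = i := by rw [hc, if_pos hie]
      rw [Cfsg.Agent.Lib.Helper99_OrthTS_Model.MODEL_even (qfMinus (d - 1) F a b) hQ₀ d hcard false hplus hr h2 hrp i hi hie m,
        ARITH_even_minus (Fintype.card F) r d m i c hr h2 hd hm hmd hrq hi hie hc' ⟨j, hj, hjd⟩]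
      constructor
      · rintro ⟨h1, h3, h4⟩
        exact Or.inr (Or.inr ⟨hrp, h2r, hie, h1, h3, h4⟩)
      · rintro (⟨h, -⟩ | ⟨-, -, h, -⟩ | ⟨-, -, -, h1, h3, h4⟩)
        · exact absurd h h2
        · exact absurd h hio
        · exact ⟨h1, h3, h4⟩


end Cfsg.Agent.S5987
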