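import Cfsg.Statements.S5992
import Cfsg.Agent.Lib.Helper84_OrthOdd_Main
import Cfsg.Agent.Lib.Helper84_OrthOdd_Arith

set_option autoImplicit false
open scoped MatrixGroups
open Cfsg

namespace Cfsg.Agent.S5992

/-- Elements of prime order r ≠ p of Ω_n(q), nq odd, with no fixed hyperbolic `m`-space. Here `T = Ω_n(F)`, `n = 2d+1 ≥ 7`, `q` odd, realised as the commutator subgroup of the isometry group of `Q = x₀² + Σ xᵢyᵢ` over the field `F` with `q` elements (trivial centre, so its elements of prime order `r` are used directly); a nondegenerate `m`-space (even `m`) is a subspace on which the polar form of `Q` is nondegenerate; it is hyperbolic if it contains an `m/2`-dimensional subspace on which `Q` vanishes, elliptic otherwise. Let `m` be even with `2 ≤ m ≤ n − 1` (no restriction `m < n/2`) and let `r ≠ p` be a prime dividing the number of hyperbolic `m`-spaces; for `r ≠ p` let `i` be the multiplicative order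 of `q` modulo `r`, `c = i` for `i` even and `c = 2i` for `i` odd, and write `k = n mod c`, `ℓ' = m mod c`. Then every element of `T` of order `r` fixes some hyperbolic `m`-space if and only if `r = 2`, or `r` is odd and one of: (i) `i` odd, `c ≤ m` and either `k > ℓ' > 0` or `ℓ' = 0`; (ii) `i` even, `i ≤ m`, `k > ℓ'`, and `m/i` even whenever `ℓ' = 0`. (`r = p` is not covered by this statement.) -/
theorem result {F : Type*} [Field F] [Fintype F] {p : ℕ} [Fact p.Prime] [CharP F p] {q : ℕ} (hq : Fintype.card F = q) (hqodd : Odd q)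
    (d m : ℕ) (hd : 3 ≤ d) (hm : 2 ≤ m) (hme : Even m) (hmn : m ≤ 2 * d)
    (r : ℕ) [Fact r.Prime] (hrp : r ≠ p)
    (hrΩ : r ∣ Nat.card {W : Submodule F (Unit ⊕ (Fin d ⊕ Fin d) → F) // Module.finrank F ↥W = m ∧ Cfsg.Geo.IsNondegenerateOn (QuadraticMap.polar (Cfsg.quadFormOdd d F)) W ∧ Cfsg.Geo.IsPlusTypeOn (Cfsg.quadFormOdd d F) W})
    (i c : ℕ) (hi : i = orderOf (q : ZMod r)) (hc : c = if Even i then i else 2 * i) :
    (∀ x : GL (Unit ⊕ (Fin d ⊕ Fin d)) F, x ∈ Cfsg.Geo.omegaGL (Cfsg.quadFormOdd d F) → orderOf x = r →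
      ∃ W : Submodule F (Unit ⊕ (Fin d ⊕ Fin d) → F), (Module.finrank F ↥W = m ∧ Cfsg.Geo.IsNondegenerateOn (QuadraticMap.polar (Cfsg.quadFormOdd d F)) W ∧ Cfsg.Geo.IsPlusTypeOn (Cfsg.quadFormOdd d F) W) ∧ W.map (Matrix.toLin' (x : Matrix (Unit ⊕ (Fin d ⊕ Fin d)) (Unit ⊕ (Fin d ⊕ Fin d)) F)) ≤ W) ↔
    (r = 2 ∨
     (2 < r ∧ Odd i ∧ c ≤ m ∧ (m % c = 0 ∨ (0 < m % c ∧ m % c < (2 * d + 1) % c))) ∨
     (2 < r ∧ Even i ∧ i ≤ m ∧ m % c < (2 * d + 1) % c ∧ (0 < m % c ∨ Even (m / i)))) := by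
  classical
  subst hq
  have hr : r.Prime := Fact.out
  have hipos : 0 < i := by
    rw [hi]
    exact Cfsg.Agent.Lib.Helper99_SpTI.ord_pos (F := F) (p := p) hr hrp
  have hcc : Cfsg.Agent.Lib.Helper99_SpAtoms.atomDim F r = c := by
    unfold Cfsg.Agent.Lib.Helper99_SpAtoms.atomDim
    rw [← hi, hc]
  have hcls : ∀ W : Submodule F (Unit ⊕ (Fin d ⊕ Fin d) → F),
      Cfsg.Agent.Lib.Helper84_OrthOdd_Row.Cls d m True W ↔
        (Module.finrank F ↥W = m ∧
          Cfsg.Geo.IsNondegenerateOn (QuadraticMap.polar (Cfsg.quadFormOdd d F)) W ∧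
          Cfsg.Geo.IsPlusTypeOn (Cfsg.quadFormOdd d F) W) := by
    intro W
    unfold Cfsg.Agent.Lib.Helper84_OrthOdd_Row.Cls
    rw [iff_true]
  have hdvd : r ∣ Nat.card {W : Submodule F (Unit ⊕ (Fin d ⊕ Fin d) → F) //
      Cfsg.Agent.Lib.Helper84_OrthOdd_Row.Cls d m True W} := by
    rw [Nat.card_congr (Equiv.subtypeEquivRight hcls)]
    exact hrΩ
  have key := Cfsg.Agent.Lib.Helper84_OrthOdd_Main.main_ne_p (F := F) (p := p) hqodd d m (by omega)
    hm hme hmn r hr hrp True hdvd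
  rw [hcc, ← hi] at key
  have hL : (∀ x : GL (Unit ⊕ (Fin d ⊕ Fin d)) F, x ∈ Cfsg.Geo.omegaGL (Cfsg.quadFormOdd d F) →
      orderOf x = r →
      ∃ W : Submodule F (Unit ⊕ (Fin d ⊕ Fin d) → F), (Module.finrank F ↥W = m ∧
        Cfsg.Geo.IsNondegenerateOn (QuadraticMap.polar (Cfsg.quadFormOdd d F)) W ∧
        Cfsg.Geo.IsPlusTypeOn (Cfsg.quadFormOdd d F) W) ∧
        W.map (Matrix.toLin' (x : Matrix (Unit ⊕ (Fin d ⊕ Fin d)) (Unit ⊕ (Fin d ⊕ Fin d)) F)) ≤ W) ↔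
      (∀ x : GL (Unit ⊕ (Fin d ⊕ Fin d)) F, x ∈ Cfsg.Geo.omegaGL (Cfsg.quadFormOdd d F) →
      orderOf x = r →
      ∃ W : Submodule F (Unit ⊕ (Fin d ⊕ Fin d) → F),
        Cfsg.Agent.Lib.Helper84_OrthOdd_Row.Cls d m True W ∧
        W.map (Matrix.toLin' (x : Matrix (Unit ⊕ (Fin d ⊕ Fin d)) (Unit ⊕ (Fin d ⊕ Fin d)) F)) ≤ W) := by
    constructor
    · intro H x hx hxo
      obtain ⟨W, hW, hinv⟩ := H x hx hxo
      exact ⟨W, (hcls W).2 hW, hinv⟩
    · intro H x hx hxo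
      obtain ⟨W, hW, hinv⟩ := H x hx hxo
      exact ⟨W, (hcls W).1 hW, hinv⟩
  refine hL.trans (key.trans ?_)
  constructor
  · rintro (h | ⟨h2r, hcm, H⟩)
    · exact Or.inl h
    · rcases Cfsg.Agent.Lib.Helper84_OrthOdd_Arith.A5992_mp i c d m hipos hc hme hmn hcm H with
        h | h
      · exact Or.inr (Or.inl ⟨h2r, h⟩)
      · exact Or.inr (Or.inr ⟨h2r, h⟩)
  · rintro (h | ⟨h2r, h⟩ | ⟨h2r, h⟩)
    · exact Or.inl h
    · refine Or.inr ⟨h2r, h.2.1, ?_⟩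
      exact Cfsg.Agent.Lib.Helper84_OrthOdd_Arith.A5992_mpr i c d m hipos hc hme hmn (Or.inl h)
    · refine Or.inr ⟨h2r, ?_, ?_⟩
      · rw [hc, if_pos h.1]
        exact h.2.1
      · exact Cfsg.Agent.Lib.Helper84_OrthOdd_Arith.A5992_mpr i c d m hipos hc hme hmn (Or.inr h)

end Cfsg.Agent.S5992
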