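import Cfsg.Statements.S5994
import Cfsg.Agent.Lib.Helper43_OrthGen
import Cfsg.Agent.Lib.Helper43_OrthRestrict

set_option autoImplicit false
open scoped MatrixGroups
open Cfsg

namespace Cfsg.Agent.S5994

/-- the sum of a multiset supported on two values -/
theorem sum_of_two_values (ν : Multiset ℕ) (a b : ℕ) (hab : a ≠ b)
    (h : ∀ x ∈ ν, x = a ∨ x = b) : ν.sum = ν.count a * a + ν.count b * b := by
  classical
  have hsub : ν.toFinset ⊆ {a, b} := by
    intro x hx
    rw [Multiset.mem_toFinset] at hx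
    rcases h x hx with rfl | rfl <;> simp
  rw [Finset.sum_multiset_count_of_subset ν {a, b} hsub, Finset.sum_pair hab]
  simp [smul_eq_mul]

/-- the sum of a multiset supported on three values -/
theorem sum_of_three_values (ν : Multiset ℕ) (a b c : ℕ) (hab : a ≠ b) (hac : a ≠ c) (hbc : b ≠ c)
    (h : ∀ x ∈ ν, x = a ∨ x = b ∨ x = c) :
    ν.sum = ν.count a * a + ν.count b * b + ν.count c * c := by
  classical
  have hsub : ν.toFinset ⊆ {a, b, c} := by
    intro x hx
    rw [Multiset.mem_toFinset] at hx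
    rcases h x hx with rfl | rfl | rfl <;> simp
  rw [Finset.sum_multiset_count_of_subset ν {a, b, c} hsub,
    Finset.sum_insert (by simp [hab, hac]), Finset.sum_pair hbc]
  simp [smul_eq_mul, add_assoc]

/-- parity of the sum of a multiset whose odd members are `k + 1` or `k - 1`, `k` even -/
theorem sum_parity (k : ℕ) (hk : Even k) (hk2 : 2 ≤ k) (s : Multiset ℕ)
    (h : ∀ a ∈ s, Even a ∨ a = k + 1 ∨ a = k - 1) :
    s.sum % 2 = (s.count (k + 1) + s.count (k - 1)) % 2 := by
  induction s using Multiset.induction_on with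
  | empty => simp
  | cons a s ih =>
    have ih' := ih (fun b hb => h b (Multiset.mem_cons_of_mem hb))
    rw [Multiset.sum_cons, Multiset.count_cons, Multiset.count_cons]
    obtain ⟨j, hj⟩ := hk
    rcases h a (Multiset.mem_cons_self a s) with ⟨i, hi⟩ | rfl | rfl
    · rw [if_neg (by omega), if_neg (by omega)]
      omega
    · rw [if_pos rfl, if_neg (by omega)]
      omega
    · rw [if_neg (by omega), if_pos rfl]
      omega

theorem le_of_le_add_of_notMem (ν t μ₀ : Multiset ℕ) (h : ν ≤ t + μ₀) (hd : ∀ a ∈ t, a ∉ ν) :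
    ν ≤ μ₀ := by
  classical
  rw [Multiset.le_iff_count]
  intro a
  by_cases ha : a ∈ ν
  · have h1 := Multiset.count_le_of_le a h
    rw [Multiset.count_add] at h1
    have h2 : Multiset.count a t = 0 := by
      apply Multiset.count_eq_zero_of_notMem
      intro hat
      exact hd a hat ha
    omega
  · rw [Multiset.count_eq_zero_of_notMem ha]
    exact Nat.zero_le _

/-- partitions without odd parts are handled through partitions with odd parts -/
theorem reduce_all_even (p m : ℕ) (hp : Odd p) (hme : Even m) (μ : Multiset ℕ)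
    (hμ : ∀ e ∈ μ, 0 < e ∧ e ≤ p) (hcnt : ∀ e, Even e → Even (μ.count e))
    (hall : ∀ a ∈ μ, Even a) (hne : μ ≠ 0) :
    ∃ μ' : Multiset ℕ, (∀ e ∈ μ', 0 < e ∧ e ≤ p) ∧ (∀ e, Even e → Even (μ'.count e)) ∧
      μ'.sum = μ.sum ∧ (∃ a ∈ μ', Odd a) ∧
      ((∃ ν' : Multiset ℕ, ν' ≤ μ' ∧ ν'.sum = m ∧ ∀ e, Even e → Even (ν'.count e)) →
        ∃ ν : Multiset ℕ, ν ≤ μ ∧ ν.sum = m ∧ ∀ e, Even e → Even (ν.count e)) := by
  classical
  obtain ⟨k, hk⟩ := Multiset.exists_mem_of_ne_zero hne
  have hkE : Even k := hall k hk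
  have hk0 := (hμ k hk).1
  have hkp := (hμ k hk).2
  obtain ⟨j, hj⟩ := hkE
  obtain ⟨r, hr⟩ := hp
  have hk2 : 2 ≤ k := by omega
  have hkp' : k + 1 ≤ p := by omega
  have hc2 : 2 ≤ μ.count k := by
    have h1 : 1 ≤ μ.count k := Multiset.one_le_count_iff_mem.2 hk
    obtain ⟨s, hs⟩ := hcnt k ⟨j, hj⟩
    omega
  have hk' : k ∈ μ.erase k := by
    rw [← Multiset.count_pos, Multiset.count_erase_self]
    omega
  set μ₀ : Multiset ℕ := (μ.erase k).erase k with hμ₀
  have hM : μ = {k, k} + μ₀ := by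
    show μ = (k ::ₘ {k}) + (μ.erase k).erase k
    rw [Multiset.cons_add, Multiset.singleton_add, Multiset.cons_erase hk', Multiset.cons_erase hk]
  have hμ₀le : μ₀ ≤ μ := by
    rw [hM]
    exact Multiset.le_add_left _ _
  have hcμ : ∀ e, μ.count e = (if e = k then 2 else 0) + μ₀.count e := by
    intro e
    conv_lhs => rw [hM]
    rw [Multiset.count_add]
    congr 1
    show Multiset.count e (k ::ₘ {k}) = _
    rw [Multiset.count_cons, Multiset.count_singleton]
    split_ifs <;> rfl
  have hodd₀ : ∀ a, Odd a → a ∉ μ₀ := by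
    intro a ha ha'
    exact (Nat.not_even_iff_odd.2 ha) (hall a (Multiset.mem_of_le hμ₀le ha'))
  have hkp1 : Odd (k + 1) := ⟨j, by omega⟩
  have hkm1 : Odd (k - 1) := ⟨j - 1, by omega⟩
  set μ' : Multiset ℕ := {k + 1, k - 1} + μ₀ with hμ'
  have hcμ' : ∀ e, μ'.count e =
      ((if e = k + 1 then 1 else 0) + (if e = k - 1 then 1 else 0)) + μ₀.count e := by
    intro e
    rw [hμ', Multiset.count_add]
    congr 1
    show Multiset.count e ((k + 1) ::ₘ {k - 1}) = _
    rw [Multiset.count_cons, Multiset.count_singleton, add_comm]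
  have hmem' : ∀ e ∈ μ', e = k + 1 ∨ e = k - 1 ∨ e ∈ μ₀ := by
    intro e he
    rw [hμ', Multiset.mem_add] at he
    rcases he with he | he
    · have : e ∈ ((k + 1) ::ₘ {k - 1} : Multiset ℕ) := he
      rw [Multiset.mem_cons, Multiset.mem_singleton] at this
      rcases this with h | h
      · exact Or.inl h
      · exact Or.inr (Or.inl h)
    · exact Or.inr (Or.inr he)
  refine ⟨μ', ?_, ?_, ?_, ⟨k + 1, ?_, hkp1⟩, ?_⟩
  · intro e he
    rcases hmem' e he with rfl | rfl | he
    · omega
    · omega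
    · exact hμ e (Multiset.mem_of_le hμ₀le he)
  · intro e he
    rw [hcμ', if_neg, if_neg, zero_add, zero_add]
    · have h1 := hcnt e he
      rw [hcμ] at h1
      split_ifs at h1 with hek
      · obtain ⟨s, hs⟩ := h1
        exact ⟨s - 1, by omega⟩
      · rwa [zero_add] at h1
    · rintro rfl
      exact (Nat.not_even_iff_odd.2 hkm1) he
    · rintro rfl
      exact (Nat.not_even_iff_odd.2 hkp1) he
  · rw [hμ', hM, Multiset.sum_add, Multiset.sum_add]
    congr 1
    show ((k + 1) ::ₘ {k - 1} : Multiset ℕ).sum = (k ::ₘ {k} : Multiset ℕ).sum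
    rw [Multiset.sum_cons, Multiset.sum_singleton, Multiset.sum_cons, Multiset.sum_singleton]
    omega
  · rw [hμ', Multiset.mem_add]
    left
    show k + 1 ∈ ((k + 1) ::ₘ {k - 1} : Multiset ℕ)
    exact Multiset.mem_cons_self _ _
  · rintro ⟨ν', hν'le, hν'sum, hν'cnt⟩
    have hcp : ν'.count (k + 1) ≤ 1 := by
      have := Multiset.count_le_of_le (k + 1) hν'le
      rw [hcμ', if_pos rfl, if_neg (by omega),
        Multiset.count_eq_zero_of_notMem (hodd₀ _ hkp1)] at this
      omega
    have hcm : ν'.count (k - 1) ≤ 1 := by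
      have := Multiset.count_le_of_le (k - 1) hν'le
      rw [hcμ', if_neg (by omega), if_pos rfl,
        Multiset.count_eq_zero_of_notMem (hodd₀ _ hkm1)] at this
      omega
    have hpar := sum_parity k ⟨j, hj⟩ hk2 ν' (by
      intro a ha
      rcases hmem' a (Multiset.mem_of_le hν'le ha) with h | h | h
      · exact Or.inr (Or.inl h)
      · exact Or.inr (Or.inr h)
      · exact Or.inl (hall a (Multiset.mem_of_le hμ₀le h)))
    obtain ⟨i, hi⟩ := hme
    rw [hν'sum] at hpar
    have hcases : (ν'.count (k + 1) = 0 ∧ ν'.count (k - 1) = 0) ∨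
        (ν'.count (k + 1) = 1 ∧ ν'.count (k - 1) = 1) := by omega
    rcases hcases with ⟨h0p, h0m⟩ | ⟨h1p, h1m⟩
    · refine ⟨ν', ?_, hν'sum, hν'cnt⟩
      refine le_trans (le_of_le_add_of_notMem ν' {k + 1, k - 1} μ₀ hν'le ?_) hμ₀le
      intro a ha
      have : a ∈ ((k + 1) ::ₘ {k - 1} : Multiset ℕ) := ha
      rw [Multiset.mem_cons, Multiset.mem_singleton] at this
      rcases this with rfl | rfl
      · exact Multiset.count_eq_zero.1 h0p
      · exact Multiset.count_eq_zero.1 h0m
    · -- replace `k + 1, k - 1` by `k, k`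
      have hle2 : ({k + 1, k - 1} : Multiset ℕ) ≤ ν' := by
        rw [Multiset.le_iff_count]
        intro a
        show Multiset.count a ((k + 1) ::ₘ {k - 1}) ≤ _
        rw [Multiset.count_cons, Multiset.count_singleton]
        split_ifs with h1 h2 h2
        · omega
        · subst h1
          omega
        · subst h2
          omega
        · omega
      set ν₀ : Multiset ℕ := ν' - {k + 1, k - 1} with hν₀
      have hν' : ν' = {k + 1, k - 1} + ν₀ := (add_tsub_cancel_of_le hle2).symm
      have hν₀le : ν₀ ≤ μ₀ := by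
        rw [hν₀, tsub_le_iff_right, add_comm]
        exact hν'le
      refine ⟨{k, k} + ν₀, ?_, ?_, ?_⟩
      · rw [hM]
        exact add_le_add_right hν₀le _
      · rw [Multiset.sum_add]
        have h1 : ν'.sum = ({k + 1, k - 1} : Multiset ℕ).sum + ν₀.sum := by
          conv_lhs => rw [hν']
          rw [Multiset.sum_add]
        have h2 : ({k + 1, k - 1} : Multiset ℕ).sum = k + 1 + (k - 1) := by
          show ((k + 1) ::ₘ {k - 1} : Multiset ℕ).sum = _
          rw [Multiset.sum_cons, Multiset.sum_singleton]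
        have h3 : ({k, k} : Multiset ℕ).sum = k + k := by
          show (k ::ₘ {k} : Multiset ℕ).sum = _
          rw [Multiset.sum_cons, Multiset.sum_singleton]
        rw [h3]
        rw [h2] at h1
        omega
      · intro e he
        have h1 := hν'cnt e he
        have h2 : ν'.count e = ν₀.count e := by
          conv_lhs => rw [hν']
          rw [Multiset.count_add]
          have : Multiset.count e ({k + 1, k - 1} : Multiset ℕ) = 0 := by
            show Multiset.count e ((k + 1) ::ₘ {k - 1}) = 0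
            rw [Multiset.count_cons, Multiset.count_singleton, if_neg, if_neg]
            · rintro rfl
              exact (Nat.not_even_iff_odd.2 hkp1) he
            · rintro rfl
              exact (Nat.not_even_iff_odd.2 hkm1) he
          rw [this, zero_add]
        rw [Multiset.count_add]
        have h3 : Multiset.count e ({k, k} : Multiset ℕ) = if e = k then 2 else 0 := by
          show Multiset.count e (k ::ₘ {k}) = _
          rw [Multiset.count_cons, Multiset.count_singleton]
          split_ifs <;> rfl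
        rw [h3, ← h2]
        obtain ⟨s, hs⟩ := h1
        split_ifs
        · exact ⟨s + 1, by omega⟩
        · exact ⟨s, by omega⟩

/-- A necessary condition for every element of order p of PΩ⁻_n(q), q odd, to fix an elliptic `m`-space. Here `T = PΩ⁻_n(F)`, `n = 2d ≥ 8`, realised through `Ω⁻_n(q)`, the commutator subgroup of the isometry group of `Q = Σ_{i<d−1} xᵢyᵢ + z₁² + a z₁z₂ + b z₂²` with `z₁² + a z₁z₂ + b z₂²` anisotropic, over the field `F` with `q` elements; an element of `T` of prime order `r` is an element `x` of `Ω⁻_n(q)` with `x^r` scalar and `x` not scalar; `q` is odd; a nondegenerate `m`-space (even `m`) is a subspace on which the polar form of `Q` is nondegenerate; it is hyperbolic if it contains an `m/2`-dimensional subspace on which `Q` vanishes, elliptic otherwise. Let `m` be even with `2 ≤ m ≤ n − 2` and suppose `p` divides the number of elliptic `m`-spaces. If every element of `T` of order `p` fixes some elliptic `m`-space, then `n ≡ m (mod 4)` and every partition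 of `n` into parts of size at most `p` in which every even part has even multiplicity contains (as a sub-multiset) a partition of `m` in which every even part has even multiplicity. -/
theorem result {F : Type*} [Field F] [Fintype F] {p : ℕ} [Fact p.Prime] [CharP F p] {q : ℕ} (hq : Fintype.card F = q) (hqodd : Odd q)
    (d m : ℕ) (hd : 4 ≤ d) (hm : 2 ≤ m) (hme : Even m) (hmn : m + 2 ≤ 2 * d) (a b : F) (hab : ∀ x y : F, x ^ 2 + a * x * y + b * y ^ 2 = 0 → x = 0 ∧ y = 0)
    (hpΩ : p ∣ Nat.card {W : Submodule F ((Fin (d - 1) ⊕ Fin (d - 1)) ⊕ Fin 2 → F) // Module.finrank F ↥W = m ∧ Cfsg.Geo.IsNondegenerateOn (QuadraticMap.polar (Cfsg.quadFormMinus (d - 1) F a b)) W ∧ ¬ Cfsg.Geo.IsPlusTypeOn (Cfsg.quadFormMinus (d - 1) F a b) W}) :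
    (∀ x : GL ((Fin (d - 1) ⊕ Fin (d - 1)) ⊕ Fin 2) F, x ∈ Cfsg.Geo.omegaGL (Cfsg.quadFormMinus (d - 1) F a b) →
      (∃ z : F, ((x ^ p : GL ((Fin (d - 1) ⊕ Fin (d - 1)) ⊕ Fin 2) F) : Matrix ((Fin (d - 1) ⊕ Fin (d - 1)) ⊕ Fin 2) ((Fin (d - 1) ⊕ Fin (d - 1)) ⊕ Fin 2) F) = z • (1 : Matrix ((Fin (d - 1) ⊕ Fin (d - 1)) ⊕ Fin 2) ((Fin (d - 1) ⊕ Fin (d - 1)) ⊕ Fin 2) F)) →
      (∀ z : F, (x : Matrix ((Fin (d - 1) ⊕ Fin (d - 1)) ⊕ Fin 2) ((Fin (d - 1) ⊕ Fin (d - 1)) ⊕ Fin 2) F) ≠ z • (1 : Matrix ((Fin (d - 1) ⊕ Fin (d - 1)) ⊕ Fin 2) ((Fin (d - 1) ⊕ Fin (d - 1)) ⊕ Fin 2) F)) →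
      ∃ W : Submodule F ((Fin (d - 1) ⊕ Fin (d - 1)) ⊕ Fin 2 → F), (Module.finrank F ↥W = m ∧ Cfsg.Geo.IsNondegenerateOn (QuadraticMap.polar (Cfsg.quadFormMinus (d - 1) F a b)) W ∧ ¬ Cfsg.Geo.IsPlusTypeOn (Cfsg.quadFormMinus (d - 1) F a b) W) ∧ W.map (Matrix.toLin' (x : Matrix ((Fin (d - 1) ⊕ Fin (d - 1)) ⊕ Fin 2) ((Fin (d - 1) ⊕ Fin (d - 1)) ⊕ Fin 2) F)) ≤ W) →
    ((2 * d) % 4 = m % 4 ∧ (∀ μ : Multiset ℕ, (∀ e ∈ μ, 0 < e ∧ e ≤ p) → (∀ e : ℕ, Even e → Even (μ.count e)) → μ.sum = 2 * d →
        ∃ ν : Multiset ℕ, ν ≤ μ ∧ ν.sum = m ∧ ∀ e : ℕ, Even e → Even (ν.count e))) := by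
  classical
  intro H
  have hpp : p.Prime := Fact.out
  have hp : Odd p := by
    rcases hpp.eq_two_or_odd' with h | h
    · exfalso
      subst h
      have hdvd : (2 : ℕ) ∣ Fintype.card F := by
        obtain ⟨n, _, hn⟩ := FiniteField.card F 2
        rw [hn]
        exact dvd_pow_self 2 n.ne_zero
      rw [hq] at hdvd
      exact (Nat.not_even_iff_odd.2 hqodd) (even_iff_two_dvd.2 hdvd)
    · exact h
  have hp2 : p ≠ 2 := by
    rintro rfl
    exact absurd hp (by decide)
  have hp3 : 3 ≤ p := by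
    have := hpp.two_le
    omega
  have h2 : (2 : F) ≠ 0 := by
    intro h
    have h1 : ((2 : ℕ) : F) = 0 := by
      rw [Nat.cast_ofNat]
      exact h
    rw [CharP.cast_eq_zero_iff F p] at h1
    exact hp2 ((Nat.prime_dvd_prime_iff_eq hpp Nat.prime_two).1 h1)
  -- realisation and restriction
  have key : ∀ μ : Multiset ℕ, (∀ e ∈ μ, 0 < e ∧ e ≤ p) →
      (∀ e : ℕ, Even e → Even (μ.count e)) → μ.sum = 2 * d → (∃ a ∈ μ, Odd a) →
      (∃ e ∈ μ, e ≠ 1) →
      ∃ (W : Submodule F ((Fin (d - 1) ⊕ Fin (d - 1)) ⊕ Fin 2 → F))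
        (g : Module.End F ((Fin (d - 1) ⊕ Fin (d - 1)) ⊕ Fin 2 → F))
        (hNW : ∀ w ∈ W, (g - 1) w ∈ W),
        (∀ v, Cfsg.Agent.Lib.Helper44_StdForms.qfMinus (d - 1) F a b (g v) =
          Cfsg.Agent.Lib.Helper44_StdForms.qfMinus (d - 1) F a b v) ∧
        Module.finrank F W = m ∧
        ¬ Cfsg.Geo.IsPlusTypeOn (Cfsg.quadFormMinus (d - 1) F a b) W ∧
        IsNilpotent ((g - 1).restrict hNW) ∧
        Cfsg.Agent.Lib.Helper43_Jordan.jtype ((g - 1).restrict hNW) ≤ μ ∧
        (Cfsg.Agent.Lib.Helper43_Jordan.jtype ((g - 1).restrict hNW)).sum = m ∧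
        ∀ e, Even e →
          Even ((Cfsg.Agent.Lib.Helper43_Jordan.jtype ((g - 1).restrict hNW)).count e) := by
    intro μ hμ hcnt hsum hodd hnot1
    obtain ⟨e0, he0, he01⟩ := hnot1
    obtain ⟨x, hxΩ, hxp, hxiso, hxnil, hxj⟩ :=
      Cfsg.Agent.Lib.Helper43_OrthGen.exists_unipotent_omega_of_form (F := F) p hp
        (Cfsg.Agent.Lib.Helper44_StdForms.qfMinus (d - 1) F a b)
        (Cfsg.Agent.Lib.Helper43_OrthGen.nondegenerate_qfMinus' h2 (d - 1) a b hab) μ hμ hcnt
        (by
          rw [hsum, Fintype.card_sum, Fintype.card_sum, Fintype.card_fin, Fintype.card_fin]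
          omega)
        (by
          intro hall
          exfalso
          obtain ⟨a0, ha0, ha0odd⟩ := hodd
          exact (Nat.not_even_iff_odd.2 ha0odd) (hall a0 ha0))
    rw [Cfsg.Agent.Lib.Helper44_StdForms.coe_qfMinus] at hxΩ
    have hns : ∀ z : F, (x : Matrix ((Fin (d - 1) ⊕ Fin (d - 1)) ⊕ Fin 2)
        ((Fin (d - 1) ⊕ Fin (d - 1)) ⊕ Fin 2) F) ≠
        z • (1 : Matrix ((Fin (d - 1) ⊕ Fin (d - 1)) ⊕ Fin 2)
          ((Fin (d - 1) ⊕ Fin (d - 1)) ⊕ Fin 2) F) := by
      intro z hz
      have hN : (x : Matrix ((Fin (d - 1) ⊕ Fin (d - 1)) ⊕ Fin 2)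
          ((Fin (d - 1) ⊕ Fin (d - 1)) ⊕ Fin 2) F) - 1 =
          (z - 1) • (1 : Matrix ((Fin (d - 1) ⊕ Fin (d - 1)) ⊕ Fin 2)
            ((Fin (d - 1) ⊕ Fin (d - 1)) ⊕ Fin 2) F) := by
        rw [hz, sub_smul, one_smul]
      have hz1 : z - 1 = 0 := by
        obtain ⟨k, hk⟩ := hxnil
        rw [hN, _root_.smul_pow, one_pow] at hk
        have := congrFun (congrFun hk (Sum.inr 0)) (Sum.inr 0)
        rw [Matrix.smul_apply, Matrix.one_apply_eq, Matrix.zero_apply, smul_eq_mul, mul_one] at this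
        exact pow_eq_zero_iff (n := k) (by
          rintro rfl
          rw [pow_zero] at this
          exact one_ne_zero this) |>.1 this
      have hN0 : Matrix.toLin' ((x : Matrix ((Fin (d - 1) ⊕ Fin (d - 1)) ⊕ Fin 2)
          ((Fin (d - 1) ⊕ Fin (d - 1)) ⊕ Fin 2) F) - 1) ^ 1 = 0 := by
        rw [pow_one, hN, hz1, zero_smul, map_zero]
      rw [Cfsg.Agent.Lib.Helper43_Jordan.pow_eq_zero_iff_jtype _
        (Cfsg.Agent.Lib.Helper43_SympJordan.isNilpotent_toLin' hxnil), hxj] at hN0
      have h1 := hN0 e0 he0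
      have h2' := (hμ e0 he0).1
      omega
    obtain ⟨W, ⟨hWdim, hWnd, hWminus⟩, hWx⟩ := H x hxΩ ⟨1, by rw [hxp, one_smul]; rfl⟩ hns
    set g : Module.End F ((Fin (d - 1) ⊕ Fin (d - 1)) ⊕ Fin 2 → F) :=
      Matrix.toLin' (x : Matrix ((Fin (d - 1) ⊕ Fin (d - 1)) ⊕ Fin 2)
        ((Fin (d - 1) ⊕ Fin (d - 1)) ⊕ Fin 2) F) with hg
    set g' : Module.End F ((Fin (d - 1) ⊕ Fin (d - 1)) ⊕ Fin 2 → F) :=
      Matrix.toLin' ((x⁻¹ : GL ((Fin (d - 1) ⊕ Fin (d - 1)) ⊕ Fin 2) F) :
        Matrix ((Fin (d - 1) ⊕ Fin (d - 1)) ⊕ Fin 2)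
          ((Fin (d - 1) ⊕ Fin (d - 1)) ⊕ Fin 2) F) with hg'
    have hgg' : g * g' = 1 := by
      rw [hg, hg', Module.End.mul_eq_comp, ← Matrix.toLin'_mul, ← Units.val_mul,
        mul_inv_cancel, Units.val_one, Matrix.toLin'_one]
      rfl
    have hg'g : g' * g = 1 := by
      rw [hg, hg', Module.End.mul_eq_comp, ← Matrix.toLin'_mul, ← Units.val_mul,
        inv_mul_cancel, Units.val_one, Matrix.toLin'_one]
      rfl
    have hsub : g - 1 = Matrix.toLin'
        ((x : Matrix ((Fin (d - 1) ⊕ Fin (d - 1)) ⊕ Fin 2)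
          ((Fin (d - 1) ⊕ Fin (d - 1)) ⊕ Fin 2) F) - 1) := by
      rw [hg, map_sub, Matrix.toLin'_one]
      rfl
    have hgnil : IsNilpotent (g - 1) := by
      rw [hsub]
      exact Cfsg.Agent.Lib.Helper43_SympJordan.isNilpotent_toLin' hxnil
    have hgiso : ∀ v, Cfsg.Agent.Lib.Helper44_StdForms.qfMinus (d - 1) F a b (g v) =
        Cfsg.Agent.Lib.Helper44_StdForms.qfMinus (d - 1) F a b v := by
      intro v
      rw [hg, Matrix.toLin'_apply]
      exact hxiso v
    obtain ⟨hNW, hnilW, hle, hsumW, hcntW⟩ :=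
      Cfsg.Agent.Lib.Helper43_OrthRestrict.sub_type_spec h2
        (Cfsg.Agent.Lib.Helper44_StdForms.qfMinus (d - 1) F a b) g g' hgg' hg'g hgiso
        hgnil W
        (by
          intro w hw
          exact hWx (Submodule.mem_map_of_mem hw))
        (by
          intro w hw hw0
          rw [Cfsg.Agent.Lib.Helper44_StdForms.coe_qfMinus]
          exact (hWnd w hw hw0).1)
    refine ⟨W, g, hNW, hgiso, hWdim, hWminus, hnilW, ?_, ?_, hcntW⟩
    · rw [← hxj, ← hsub]
      exact hle
    · rw [hsumW, hWdim]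
  -- partitions with an odd part
  have main1 : ∀ μ : Multiset ℕ, (∀ e ∈ μ, 0 < e ∧ e ≤ p) →
      (∀ e : ℕ, Even e → Even (μ.count e)) → μ.sum = 2 * d → (∃ a ∈ μ, Odd a) →
      ∃ ν : Multiset ℕ, ν ≤ μ ∧ ν.sum = m ∧ ∀ e : ℕ, Even e → Even (ν.count e) := by
    intro μ hμ hcnt hsum hodd
    by_cases hones : ∀ e ∈ μ, e = 1
    · have hμ1 : μ = Multiset.replicate (Multiset.card μ) 1 := Multiset.eq_replicate_card.2 hones
      have hcard : Multiset.card μ = 2 * d := by
        rw [hμ1, Multiset.sum_replicate, smul_eq_mul, mul_one] at hsum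
        exact hsum
      refine ⟨Multiset.replicate m 1, ?_, ?_, ?_⟩
      · rw [hμ1, hcard, Multiset.replicate_le_replicate]
        omega
      · rw [Multiset.sum_replicate, smul_eq_mul, mul_one]
      · intro e he
        rw [Multiset.count_replicate, if_neg]
        · exact Even.zero
        · rintro rfl
          exact absurd he (by decide)
    · push Not at hones
      obtain ⟨W, g, hNW, -, -, -, -, hle, hsumW, hcntW⟩ := key μ hμ hcnt hsum hodd hones
      exact ⟨_, hle, hsumW, hcntW⟩
  have main : ∀ μ : Multiset ℕ, (∀ e ∈ μ, 0 < e ∧ e ≤ p) →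
      (∀ e : ℕ, Even e → Even (μ.count e)) → μ.sum = 2 * d →
      ∃ ν : Multiset ℕ, ν ≤ μ ∧ ν.sum = m ∧ ∀ e : ℕ, Even e → Even (ν.count e) := by
    intro μ hμ hcnt hsum
    by_cases hodd : ∃ a ∈ μ, Odd a
    · exact main1 μ hμ hcnt hsum hodd
    · push Not at hodd
      have hall : ∀ a ∈ μ, Even a := fun a ha => Nat.not_odd_iff_even.1 (hodd a ha)
      have hne : μ ≠ 0 := by
        rintro rfl
        rw [Multiset.sum_zero] at hsum
        omega
      obtain ⟨μ', hμ', hcnt', hsum', hodd', hconv⟩ := reduce_all_even p m hp hme μ hμ hcnt hall hne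
      exact hconv (main1 μ' hμ' hcnt' (by rw [hsum', hsum]) hodd')
  refine ⟨?_, main⟩
  by_contra hne
  obtain ⟨i, hi⟩ := hme
  rcases Nat.even_or_odd d with hdE | hdO
  · -- `2d ≡ 0`, `m ≡ 2 (mod 4)`: the partition `(3, 2^(d-2), 1)`
    have hd2 : Even (d - 2) := by
      obtain ⟨k, hk⟩ := hdE
      exact ⟨k - 1, by omega⟩
    obtain ⟨ν, hνle, hνsum, hνcnt⟩ := main ({3} + (Multiset.replicate (d - 2) 2 + {1}))
      (by
        intro e he
        rw [Multiset.mem_add, Multiset.mem_add, Multiset.mem_replicate, Multiset.mem_singleton,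
          Multiset.mem_singleton] at he
        rcases he with rfl | ⟨-, rfl⟩ | rfl <;> omega)
      (by
        intro e he
        rw [Multiset.count_add, Multiset.count_add, Multiset.count_replicate,
          Multiset.count_singleton, Multiset.count_singleton]
        have he3 : e ≠ 3 := by
          rintro rfl
          exact absurd he (by decide)
        have he1 : e ≠ 1 := by
          rintro rfl
          exact absurd he (by decide)
        rw [if_neg he3, if_neg he1, zero_add, add_zero]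
        split_ifs
        · exact hd2
        · exact Even.zero)
      (by
        rw [Multiset.sum_add, Multiset.sum_add, Multiset.sum_replicate, Multiset.sum_singleton,
          Multiset.sum_singleton, smul_eq_mul]
        omega)
    have hmem : ∀ x ∈ ν, x = 3 ∨ x = 2 ∨ x = 1 := by
      intro x hx
      have := Multiset.mem_of_le hνle hx
      rw [Multiset.mem_add, Multiset.mem_add, Multiset.mem_replicate, Multiset.mem_singleton,
        Multiset.mem_singleton] at this
      rcases this with rfl | ⟨-, rfl⟩ | rfl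
      · exact Or.inl rfl
      · exact Or.inr (Or.inl rfl)
      · exact Or.inr (Or.inr rfl)
    have hs := sum_of_three_values ν 3 2 1 (by norm_num) (by norm_num) (by norm_num) hmem
    have hc3 : ν.count 3 ≤ 1 := by
      have := Multiset.count_le_of_le 3 hνle
      rw [Multiset.count_add, Multiset.count_add, Multiset.count_replicate,
        Multiset.count_singleton_self, Multiset.count_singleton, if_neg (by norm_num),
        if_neg (by norm_num)] at this
      omega
    have hc1 : ν.count 1 ≤ 1 := by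
      have := Multiset.count_le_of_le 1 hνle
      rw [Multiset.count_add, Multiset.count_add, Multiset.count_replicate,
        Multiset.count_singleton_self, Multiset.count_singleton, if_neg (by norm_num),
        if_neg (by norm_num)] at this
      omega
    obtain ⟨k, hk⟩ := hνcnt 2 (by decide)
    obtain ⟨k', hk'⟩ := hdE
    have hd4 : (2 * d) % 4 = 0 := by omega
    have hm4 : m % 4 = 2 := by omega
    have h3 : ν.count 3 = 0 ∨ ν.count 3 = 1 := by omega
    have h1 : ν.count 1 = 0 ∨ ν.count 1 = 1 := by omega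
    rcases h3 with h3 | h3 <;> rcases h1 with h1 | h1 <;> omega
  · -- `2d ≡ 2`, `m ≡ 0 (mod 4)`: an element of type `(2^(d-1), 1, 1)`
    have hd1 : Even (d - 1) := by
      obtain ⟨k, hk⟩ := hdO
      exact ⟨k, by omega⟩
    obtain ⟨W, g, hNW, hgiso, hWdim, hWminus, hnilW, hle, hsumW, hcntW⟩ :=
      key (Multiset.replicate (d - 1) 2 + {1, 1})
      (by
        intro e he
        rw [Multiset.mem_add, Multiset.mem_replicate] at he
        rcases he with ⟨-, rfl⟩ | he
        · omega
        · have : e ∈ ((1 : ℕ) ::ₘ {1} : Multiset ℕ) := he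
          rw [Multiset.mem_cons, Multiset.mem_singleton] at this
          rcases this with rfl | rfl <;> omega)
      (by
        intro e he
        rw [Multiset.count_add, Multiset.count_replicate]
        have he1 : e ≠ 1 := by
          rintro rfl
          exact absurd he (by decide)
        have h0 : Multiset.count e ({1, 1} : Multiset ℕ) = 0 := by
          show Multiset.count e ((1 : ℕ) ::ₘ {1}) = 0
          rw [Multiset.count_cons, Multiset.count_singleton, if_neg he1]
        rw [h0, add_zero]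
        split_ifs
        · exact hd1
        · exact Even.zero)
      (by
        rw [Multiset.sum_add, Multiset.sum_replicate, smul_eq_mul]
        show (d - 1) * 2 + ((1 : ℕ) ::ₘ {1} : Multiset ℕ).sum = 2 * d
        rw [Multiset.sum_cons, Multiset.sum_singleton]
        omega)
      ⟨1, by
        rw [Multiset.mem_add]
        right
        show (1 : ℕ) ∈ ((1 : ℕ) ::ₘ {1} : Multiset ℕ)
        exact Multiset.mem_cons_self _ _, by decide⟩
      ⟨2, by
        rw [Multiset.mem_add, Multiset.mem_replicate]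
        left
        exact ⟨by omega, rfl⟩, by norm_num⟩
    set ν := Cfsg.Agent.Lib.Helper43_Jordan.jtype ((g - 1).restrict hNW) with hν
    have hmem : ∀ x ∈ ν, x = 2 ∨ x = 1 := by
      intro x hx
      have := Multiset.mem_of_le hle hx
      rw [Multiset.mem_add, Multiset.mem_replicate] at this
      rcases this with ⟨-, rfl⟩ | h
      · exact Or.inl rfl
      · have : x ∈ ((1 : ℕ) ::ₘ {1} : Multiset ℕ) := h
        rw [Multiset.mem_cons, Multiset.mem_singleton] at this
        rcases this with rfl | rfl <;> exact Or.inr rfl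
    have hs := sum_of_two_values ν 2 1 (by norm_num) hmem
    have hc1 : ν.count 1 ≤ 2 := by
      have := Multiset.count_le_of_le 1 hle
      rw [Multiset.count_add, Multiset.count_replicate, if_neg (by norm_num)] at this
      have h0 : Multiset.count 1 ({1, 1} : Multiset ℕ) = 2 := by
        show Multiset.count 1 ((1 : ℕ) ::ₘ {1}) = 2
        rw [Multiset.count_cons_self, Multiset.count_singleton_self]
      omega
    obtain ⟨k, hk⟩ := hcntW 2 (by decide)
    obtain ⟨k', hk'⟩ := hdO
    have hc10 : ν.count 1 = 0 := by omega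
    have htwo : ∀ x ∈ ν, x = 2 := by
      intro x hx
      rcases hmem x hx with h | h
      · exact h
      · subst h
        exact absurd (Multiset.count_pos.2 hx) (by omega)
    obtain ⟨U, hUW, hUs, hUdim⟩ :=
      Cfsg.Agent.Lib.Helper43_OrthRestrict.totallySingular_of_twos h2
        (Cfsg.Agent.Lib.Helper44_StdForms.qfMinus (d - 1) F a b) g hgiso W hNW hnilW htwo
    apply hWminus
    refine ⟨U, hUW, ?_, hUdim⟩
    intro w hw
    rw [← Cfsg.Agent.Lib.Helper44_StdForms.coe_qfMinus]
    exact hUs w hw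

end Cfsg.Agent.S5994
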