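import Cfsg.Statements.S5995
import Cfsg.Agent.Lib.Helper43_OrthGen
import Cfsg.Agent.Lib.Helper43_OrthRestrict

set_option autoImplicit false
open scoped MatrixGroups
open Cfsg

namespace Cfsg.Agent.S5995

/-- the sum of a multiset supported on two values -/
theorem sum_of_two_values (ν : Multiset ℕ) (a b : ℕ) (hab : a ≠ b)
    (h : ∀ x ∈ ν, x = a ∨ x = b) : ν.sum = ν.count a * a + ν.count b * b := by
  classical
  have hsub : ν.toFinset ⊆ {a, b} := by
    intro x hx
    rw [Multiset.mem_toFinset] at hx
    rcases h x hx with rfl | rfl <;> simp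
  rw [Finset.sum_multiset_count_of_subset ν {a, b} hsub, Finset.sum_pair hab]
  simp [smul_eq_mul]

/-- A necessary condition for every element of order p of Ω_n(q), nq odd, to fix a hyperbolic `m`-space. Here `T = Ω_n(F)`, `n = 2d+1 ≥ 7`, `q` odd, realised as the commutator subgroup of the isometry group of `Q = x₀² + Σ xᵢyᵢ` over the field `F` with `q` elements (trivial centre, so its elements of prime order `r` are used directly); a nondegenerate `m`-space (even `m`) is a subspace on which the polar form of `Q` is nondegenerate; it is hyperbolic if it contains an `m/2`-dimensional subspace on which `Q` vanishes, elliptic otherwise. Let `m` be even with `2 ≤ m ≤ n − 1` and suppose `p` divides the number of hyperbolic `m`-spaces. If every element of `T` of order `p` fixes some hyperbolic `m`-space, then `m ≡ 0 (mod 4)` and every partition of `n` into parts of size at most `p` in which every even part has even multiplicity contains (as a sub-multiset) a partition of `m` in which every even part has even multiplicity. -/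
theorem result {F : Type*} [Field F] [Fintype F] {p : ℕ} [Fact p.Prime] [CharP F p] {q : ℕ} (hq : Fintype.card F = q) (hqodd : Odd q)
    (d m : ℕ) (hd : 3 ≤ d) (hm : 2 ≤ m) (hme : Even m) (hmn : m ≤ 2 * d)
    (hpΩ : p ∣ Nat.card {W : Submodule F (Unit ⊕ (Fin d ⊕ Fin d) → F) // Module.finrank F ↥W = m ∧ Cfsg.Geo.IsNondegenerateOn (QuadraticMap.polar (Cfsg.quadFormOdd d F)) W ∧ Cfsg.Geo.IsPlusTypeOn (Cfsg.quadFormOdd d F) W}) :
    (∀ x : GL (Unit ⊕ (Fin d ⊕ Fin d)) F, x ∈ Cfsg.Geo.omegaGL (Cfsg.quadFormOdd d F) → orderOf x = p →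
      ∃ W : Submodule F (Unit ⊕ (Fin d ⊕ Fin d) → F), (Module.finrank F ↥W = m ∧ Cfsg.Geo.IsNondegenerateOn (QuadraticMap.polar (Cfsg.quadFormOdd d F)) W ∧ Cfsg.Geo.IsPlusTypeOn (Cfsg.quadFormOdd d F) W) ∧ W.map (Matrix.toLin' (x : Matrix (Unit ⊕ (Fin d ⊕ Fin d)) (Unit ⊕ (Fin d ⊕ Fin d)) F)) ≤ W) →
    (m % 4 = 0 ∧ (∀ μ : Multiset ℕ, (∀ e ∈ μ, 0 < e ∧ e ≤ p) → (∀ e : ℕ, Even e → Even (μ.count e)) → μ.sum = 2 * d + 1 →
        ∃ ν : Multiset ℕ, ν ≤ μ ∧ ν.sum = m ∧ ∀ e : ℕ, Even e → Even (ν.count e))) := by
  classical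
  intro H
  have hpp : p.Prime := Fact.out
  have hp : Odd p := by
    rcases hpp.eq_two_or_odd' with h | h
    · exfalso
      subst h
      have hdvd : (2 : ℕ) ∣ Fintype.card F := by
        obtain ⟨n, _, hn⟩ := FiniteField.card F 2
        rw [hn]
        exact dvd_pow_self 2 n.ne_zero
      rw [hq] at hdvd
      exact (Nat.not_even_iff_odd.2 hqodd) (even_iff_two_dvd.2 hdvd)
    · exact h
  have hp2 : p ≠ 2 := by
    rintro rfl
    exact absurd hp (by decide)
  have hp3 : 3 ≤ p := by
    have := hpp.two_le
    omega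
  have h2 : (2 : F) ≠ 0 := by
    intro h
    have h1 : ((2 : ℕ) : F) = 0 := by
      rw [Nat.cast_ofNat]
      exact h
    rw [CharP.cast_eq_zero_iff F p] at h1
    exact hp2 ((Nat.prime_dvd_prime_iff_eq hpp Nat.prime_two).1 h1)
  have main : ∀ μ : Multiset ℕ, (∀ e ∈ μ, 0 < e ∧ e ≤ p) →
      (∀ e : ℕ, Even e → Even (μ.count e)) → μ.sum = 2 * d + 1 →
      ∃ ν : Multiset ℕ, ν ≤ μ ∧ ν.sum = m ∧ ∀ e : ℕ, Even e → Even (ν.count e) := by
    intro μ hμ hcnt hsum
    by_cases hones : ∀ e ∈ μ, e = 1
    · have hμ1 : μ = Multiset.replicate (Multiset.card μ) 1 := Multiset.eq_replicate_card.2 hones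
      have hcard : Multiset.card μ = 2 * d + 1 := by
        rw [hμ1, Multiset.sum_replicate, smul_eq_mul, mul_one] at hsum
        exact hsum
      refine ⟨Multiset.replicate m 1, ?_, ?_, ?_⟩
      · rw [hμ1, hcard, Multiset.replicate_le_replicate]
        omega
      · rw [Multiset.sum_replicate, smul_eq_mul, mul_one]
      · intro e he
        rw [Multiset.count_replicate, if_neg]
        · exact Even.zero
        · rintro rfl
          exact absurd he (by decide)
    · push Not at hones
      obtain ⟨e0, he0, he01⟩ := hones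
      obtain ⟨x, hxΩ, hxp, hxiso, hxnil, hxj⟩ :=
        Cfsg.Agent.Lib.Helper43_OrthGen.exists_unipotent_omega_of_form (F := F) p hp
          (Cfsg.Agent.Lib.Helper44_StdForms.qfOdd d F)
          (Cfsg.Agent.Lib.Helper43_OrthGen.nondegenerate_qfOdd' h2 d) μ hμ hcnt
          (by
            rw [hsum, Fintype.card_sum, Fintype.card_sum, Fintype.card_fin, Fintype.card_unit]
            ring)
          (by
            intro hall
            exfalso
            have hdvd : 2 ∣ μ.sum := Multiset.dvd_sum (fun a ha => even_iff_two_dvd.1 (hall a ha))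
            omega)
      rw [Cfsg.Agent.Lib.Helper44_StdForms.coe_qfOdd] at hxΩ
      have hx1 : x ≠ 1 := by
        rintro rfl
        have hN0 : Matrix.toLin' (((1 : GL (Unit ⊕ (Fin d ⊕ Fin d)) F) :
            Matrix (Unit ⊕ (Fin d ⊕ Fin d)) (Unit ⊕ (Fin d ⊕ Fin d)) F) - 1) ^ 1 = 0 := by
          rw [pow_one, Units.val_one, sub_self, map_zero]
        rw [Cfsg.Agent.Lib.Helper43_Jordan.pow_eq_zero_iff_jtype _
          (Cfsg.Agent.Lib.Helper43_SympJordan.isNilpotent_toLin' hxnil), hxj] at hN0
        have h1 := hN0 e0 he0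
        have h2' := (hμ e0 he0).1
        omega
      have hord : orderOf x = p := orderOf_eq_prime hxp hx1
      obtain ⟨W, ⟨hWdim, hWnd, -⟩, hWx⟩ := H x hxΩ hord
      set g : Module.End F (Unit ⊕ (Fin d ⊕ Fin d) → F) :=
        Matrix.toLin' (x : Matrix (Unit ⊕ (Fin d ⊕ Fin d)) (Unit ⊕ (Fin d ⊕ Fin d)) F) with hg
      set g' : Module.End F (Unit ⊕ (Fin d ⊕ Fin d) → F) :=
        Matrix.toLin' ((x⁻¹ : GL (Unit ⊕ (Fin d ⊕ Fin d)) F) :
          Matrix (Unit ⊕ (Fin d ⊕ Fin d)) (Unit ⊕ (Fin d ⊕ Fin d)) F) with hg'
      have hgg' : g * g' = 1 := by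
        rw [hg, hg', Module.End.mul_eq_comp, ← Matrix.toLin'_mul, ← Units.val_mul,
          mul_inv_cancel, Units.val_one, Matrix.toLin'_one]
        rfl
      have hg'g : g' * g = 1 := by
        rw [hg, hg', Module.End.mul_eq_comp, ← Matrix.toLin'_mul, ← Units.val_mul,
          inv_mul_cancel, Units.val_one, Matrix.toLin'_one]
        rfl
      have hsub : g - 1 = Matrix.toLin'
          ((x : Matrix (Unit ⊕ (Fin d ⊕ Fin d)) (Unit ⊕ (Fin d ⊕ Fin d)) F) - 1) := by
        rw [hg, map_sub, Matrix.toLin'_one]
        rfl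
      have hgnil : IsNilpotent (g - 1) := by
        rw [hsub]
        exact Cfsg.Agent.Lib.Helper43_SympJordan.isNilpotent_toLin' hxnil
      obtain ⟨ν, hνle, hνsum, hνcnt⟩ :=
        Cfsg.Agent.Lib.Helper43_OrthRestrict.exists_sub_type h2
          (Cfsg.Agent.Lib.Helper44_StdForms.qfOdd d F) g g' hgg' hg'g
          (by
            intro v
            rw [hg, Matrix.toLin'_apply]
            exact hxiso v)
          hgnil W
          (by
            intro w hw
            exact hWx (Submodule.mem_map_of_mem hw))
          (by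
            intro w hw hw0
            rw [Cfsg.Agent.Lib.Helper44_StdForms.coe_qfOdd]
            exact (hWnd w hw hw0).1)
      refine ⟨ν, ?_, ?_, hνcnt⟩
      · rw [← hxj, ← hsub]
        exact hνle
      · rw [hνsum, hWdim]
  refine ⟨?_, main⟩
  rcases Nat.even_or_odd d with hdE | hdO
  · -- `μ = (2^d, 1)`
    obtain ⟨ν, hνle, hνsum, hνcnt⟩ := main (Multiset.replicate d 2 + {1})
      (by
        intro e he
        rw [Multiset.mem_add, Multiset.mem_replicate, Multiset.mem_singleton] at he
        rcases he with ⟨-, rfl⟩ | rfl <;> omega)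
      (by
        intro e he
        rw [Multiset.count_add, Multiset.count_replicate, Multiset.count_singleton]
        have he1 : e ≠ 1 := by
          rintro rfl
          exact absurd he (by decide)
        rw [if_neg he1, add_zero]
        split_ifs
        · exact hdE
        · exact Even.zero)
      (by
        rw [Multiset.sum_add, Multiset.sum_replicate, Multiset.sum_singleton, smul_eq_mul]
        ring)
    have hmem : ∀ a ∈ ν, a = 2 ∨ a = 1 := by
      intro a ha
      have := Multiset.mem_of_le hνle ha
      rw [Multiset.mem_add, Multiset.mem_replicate, Multiset.mem_singleton] at this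
      rcases this with ⟨-, rfl⟩ | rfl
      · exact Or.inl rfl
      · exact Or.inr rfl
    have hs := sum_of_two_values ν 2 1 (by norm_num) hmem
    have hc1 : ν.count 1 ≤ 1 := by
      have := Multiset.count_le_of_le 1 hνle
      rw [Multiset.count_add, Multiset.count_replicate, Multiset.count_singleton_self,
        if_neg (by norm_num)] at this
      omega
    obtain ⟨k, hk⟩ := hνcnt 2 (by decide)
    obtain ⟨j, hj⟩ := hme
    omega
  · -- `μ = (3, 2^(d-1))`
    have hd1 : Even (d - 1) := by
      obtain ⟨k, hk⟩ := hdO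
      exact ⟨k, by omega⟩
    obtain ⟨ν, hνle, hνsum, hνcnt⟩ := main ({3} + Multiset.replicate (d - 1) 2)
      (by
        intro e he
        rw [Multiset.mem_add, Multiset.mem_replicate, Multiset.mem_singleton] at he
        rcases he with rfl | ⟨-, rfl⟩ <;> omega)
      (by
        intro e he
        rw [Multiset.count_add, Multiset.count_replicate, Multiset.count_singleton]
        have he3 : e ≠ 3 := by
          rintro rfl
          exact absurd he (by decide)
        rw [if_neg he3, zero_add]
        split_ifs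
        · exact hd1
        · exact Even.zero)
      (by
        rw [Multiset.sum_add, Multiset.sum_replicate, Multiset.sum_singleton, smul_eq_mul]
        omega)
    have hmem : ∀ a ∈ ν, a = 2 ∨ a = 3 := by
      intro a ha
      have := Multiset.mem_of_le hνle ha
      rw [Multiset.mem_add, Multiset.mem_replicate, Multiset.mem_singleton] at this
      rcases this with rfl | ⟨-, rfl⟩
      · exact Or.inr rfl
      · exact Or.inl rfl
    have hs := sum_of_two_values ν 2 3 (by norm_num) hmem
    have hc3 : ν.count 3 ≤ 1 := by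
      have := Multiset.count_le_of_le 3 hνle
      rw [Multiset.count_add, Multiset.count_replicate, Multiset.count_singleton_self,
        if_neg (by norm_num)] at this
      omega
    obtain ⟨k, hk⟩ := hνcnt 2 (by decide)
    obtain ⟨j, hj⟩ := hme
    omega

end Cfsg.Agent.S5995
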