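import Cfsg.Statements.S5996
import Cfsg.Agent.Lib.Helper43_OrthReal
import Cfsg.Agent.Lib.Helper43_OrthRestrict

set_option autoImplicit false
open scoped MatrixGroups
open Cfsg

namespace Cfsg.Agent.S5996

/-- A necessary condition for every element of order p of PΩ⁺_n(q), q odd, to fix a hyperbolic `m`-space. Here `T = PΩ⁺_n(F)`, `n = 2d ≥ 8`, realised through `Ω⁺_n(q)`, the commutator subgroup of the isometry group of `Q = Σ xᵢyᵢ` over the field `F` with `q` elements; an element of `T` of prime order `r` is an element `x` of `Ω⁺_n(q)` with `x^r` scalar and `x` not scalar; `q` is odd; a nondegenerate `m`-space (even `m`) is a subspace on which the polar form of `Q` is nondegenerate; it is hyperbolic if it contains an `m/2`-dimensional subspace on which `Q` vanishes, elliptic otherwise. Let `m` be even with `2 ≤ m < n/2` and suppose `p` divides the number of hyperbolic `m`-spaces. If every element of `T` of order `p` fixes some hyperbolic `m`-space, then every partition of `n`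 into parts of size at most `p` in which every even part has even multiplicity contains (as a sub-multiset) a partition of `m` in which every even part has even multiplicity. -/
theorem result {F : Type*} [Field F] [Fintype F] {p : ℕ} [Fact p.Prime] [CharP F p] {q : ℕ} (hq : Fintype.card F = q) (hqodd : Odd q)
    (d m : ℕ) (hd : 4 ≤ d) (hm : 2 ≤ m) (hme : Even m) (hmd : m < d)
    (hpΩ : p ∣ Nat.card {W : Submodule F (Fin d ⊕ Fin d → F) // Module.finrank F ↥W = m ∧ Cfsg.Geo.IsNondegenerateOn (QuadraticMap.polar (Cfsg.quadFormPlus d F)) W ∧ Cfsg.Geo.IsPlusTypeOn (Cfsg.quadFormPlus d F) W}) :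
    (∀ x : GL (Fin d ⊕ Fin d) F, x ∈ Cfsg.Geo.omegaGL (Cfsg.quadFormPlus d F) →
      (∃ z : F, ((x ^ p : GL (Fin d ⊕ Fin d) F) : Matrix (Fin d ⊕ Fin d) (Fin d ⊕ Fin d) F) = z • (1 : Matrix (Fin d ⊕ Fin d) (Fin d ⊕ Fin d) F)) →
      (∀ z : F, (x : Matrix (Fin d ⊕ Fin d) (Fin d ⊕ Fin d) F) ≠ z • (1 : Matrix (Fin d ⊕ Fin d) (Fin d ⊕ Fin d) F)) →
      ∃ W : Submodule F (Fin d ⊕ Fin d → F), (Module.finrank F ↥W = m ∧ Cfsg.Geo.IsNondegenerateOn (QuadraticMap.polar (Cfsg.quadFormPlus d F)) W ∧ Cfsg.Geo.IsPlusTypeOn (Cfsg.quadFormPlus d F) W) ∧ W.map (Matrix.toLin' (x : Matrix (Fin d ⊕ Fin d) (Fin d ⊕ Fin d) F)) ≤ W) →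
    (∀ μ : Multiset ℕ, (∀ e ∈ μ, 0 < e ∧ e ≤ p) → (∀ e : ℕ, Even e → Even (μ.count e)) → μ.sum = 2 * d →
        ∃ ν : Multiset ℕ, ν ≤ μ ∧ ν.sum = m ∧ ∀ e : ℕ, Even e → Even (ν.count e)) := by
  classical
  intro H μ hμ hcnt hsum
  have hpp : p.Prime := Fact.out
  have hp : Odd p := by
    rcases hpp.eq_two_or_odd' with h | h
    · exfalso
      subst h
      have hdvd : (2 : ℕ) ∣ Fintype.card F := by
        obtain ⟨n, _, hn⟩ := FiniteField.card F 2
        rw [hn]
        exact dvd_pow_self 2 n.ne_zero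
      rw [hq] at hdvd
      exact (Nat.not_even_iff_odd.2 hqodd) (even_iff_two_dvd.2 hdvd)
    · exact h
  have hp2 : p ≠ 2 := by
    rintro rfl
    exact absurd hp (by decide)
  have h2 : (2 : F) ≠ 0 := by
    intro h
    have h1 : ((2 : ℕ) : F) = 0 := by
      rw [Nat.cast_ofNat]
      exact h
    rw [CharP.cast_eq_zero_iff F p] at h1
    exact hp2 ((Nat.prime_dvd_prime_iff_eq hpp Nat.prime_two).1 h1)
  by_cases hones : ∀ e ∈ μ, e = 1
  · -- all parts equal to one
    have hμ1 : μ = Multiset.replicate (Multiset.card μ) 1 := Multiset.eq_replicate_card.2 hones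
    have hcard : Multiset.card μ = 2 * d := by
      rw [hμ1, Multiset.sum_replicate, smul_eq_mul, mul_one] at hsum
      exact hsum
    refine ⟨Multiset.replicate m 1, ?_, ?_, ?_⟩
    · rw [hμ1, hcard, Multiset.replicate_le_replicate]
      omega
    · rw [Multiset.sum_replicate, smul_eq_mul, mul_one]
    · intro e he
      rw [Multiset.count_replicate, if_neg]
      · exact Even.zero
      · rintro rfl
        exact absurd he (by decide)
  · push Not at hones
    obtain ⟨e0, he0, he01⟩ := hones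
    obtain ⟨x, hxΩ, hxp, hxiso, hxnil, hxj⟩ :=
      Cfsg.Agent.Lib.Helper43_OrthReal.exists_unipotent_omega (F := F) p hp d μ hμ hcnt hsum
    -- `x` is not scalar
    have hns : ∀ z : F, (x : Matrix (Fin d ⊕ Fin d) (Fin d ⊕ Fin d) F) ≠
        z • (1 : Matrix (Fin d ⊕ Fin d) (Fin d ⊕ Fin d) F) := by
      intro z hz
      have hN : (x : Matrix (Fin d ⊕ Fin d) (Fin d ⊕ Fin d) F) - 1 =
          (z - 1) • (1 : Matrix (Fin d ⊕ Fin d) (Fin d ⊕ Fin d) F) := by
        rw [hz, sub_smul, one_smul]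
      have hz1 : z - 1 = 0 := by
        obtain ⟨k, hk⟩ := hxnil
        rw [hN, _root_.smul_pow, one_pow] at hk
        have hd0 : (⟨0, by omega⟩ : Fin d) = ⟨0, by omega⟩ := rfl
        have := congrFun (congrFun hk (Sum.inl ⟨0, by omega⟩)) (Sum.inl ⟨0, by omega⟩)
        rw [Matrix.smul_apply, Matrix.one_apply_eq, Matrix.zero_apply, smul_eq_mul, mul_one] at this
        exact pow_eq_zero_iff (n := k) (by
          rintro rfl
          rw [pow_zero] at this
          exact one_ne_zero this) |>.1 this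
      have hN0 : Matrix.toLin' ((x : Matrix (Fin d ⊕ Fin d) (Fin d ⊕ Fin d) F) - 1) ^ 1 = 0 := by
        rw [pow_one, hN, hz1, zero_smul, map_zero]
      rw [Cfsg.Agent.Lib.Helper43_Jordan.pow_eq_zero_iff_jtype _
        (Cfsg.Agent.Lib.Helper43_SympJordan.isNilpotent_toLin' hxnil), hxj] at hN0
      have h1 := hN0 e0 he0
      have h2' := (hμ e0 he0).1
      omega
    obtain ⟨W, ⟨hWdim, hWnd, -⟩, hWx⟩ := H x hxΩ ⟨1, by rw [hxp, one_smul]; rfl⟩ hns
    -- apply the restriction lemma
    set g : Module.End F (Fin d ⊕ Fin d → F) :=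
      Matrix.toLin' (x : Matrix (Fin d ⊕ Fin d) (Fin d ⊕ Fin d) F) with hg
    set g' : Module.End F (Fin d ⊕ Fin d → F) :=
      Matrix.toLin' ((x⁻¹ : GL (Fin d ⊕ Fin d) F) : Matrix (Fin d ⊕ Fin d) (Fin d ⊕ Fin d) F)
      with hg'
    have hgg' : g * g' = 1 := by
      rw [hg, hg', Module.End.mul_eq_comp, ← Matrix.toLin'_mul, ← Units.val_mul, mul_inv_cancel,
        Units.val_one, Matrix.toLin'_one]
      rfl
    have hg'g : g' * g = 1 := by
      rw [hg, hg', Module.End.mul_eq_comp, ← Matrix.toLin'_mul, ← Units.val_mul, inv_mul_cancel,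
        Units.val_one, Matrix.toLin'_one]
      rfl
    have hsub : g - 1 = Matrix.toLin' ((x : Matrix (Fin d ⊕ Fin d) (Fin d ⊕ Fin d) F) - 1) := by
      rw [hg, map_sub, Matrix.toLin'_one]
      rfl
    have hgnil : IsNilpotent (g - 1) := by
      rw [hsub]
      exact Cfsg.Agent.Lib.Helper43_SympJordan.isNilpotent_toLin' hxnil
    obtain ⟨ν, hνle, hνsum, hνcnt⟩ :=
      Cfsg.Agent.Lib.Helper43_OrthRestrict.exists_sub_type h2
        (Cfsg.Agent.Lib.Helper44_StdForms.qfPlus d F) g g' hgg' hg'g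
        (by
          intro v
          rw [Cfsg.Agent.Lib.Helper44_StdForms.coe_qfPlus, hg, Matrix.toLin'_apply]
          exact hxiso v)
        hgnil W
        (by
          intro w hw
          exact hWx (Submodule.mem_map_of_mem hw))
        (by
          intro w hw hw0
          rw [Cfsg.Agent.Lib.Helper44_StdForms.coe_qfPlus]
          exact (hWnd w hw hw0).1)
    refine ⟨ν, ?_, ?_, hνcnt⟩
    · rw [← hxj, ← hsub]
      exact hνle
    · rw [hνsum, hWdim]

end Cfsg.Agent.S5996
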