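import Cfsg.Statements.S5997
import Cfsg.Agent.Lib.Helper41_SL2Conj
import Cfsg.Agent.Lib.Helper6_Q8GL2
import Cfsg.Agent.Lib.Helper6_Q8GL2b
import Cfsg.Agent.Lib.Helper6_Q8GL2c

set_option autoImplicit false
open scoped MatrixGroups
open Cfsg

namespace Cfsg.Agent.S5997

/-- Elements of prime order of PSL_2(p) and the normalizer of a quaternion subgroup. Here `T = PSL_2(F)` for the field `F` with `p` elements, `p ≥ 5` prime; `R` is a subgroup of GL_2(F) isomorphic to the quaternion group of order 8 (an absolutely irreducible 2-group of symplectic type), and `H` is the subgroup of matrices of determinant 1 normalizing `R` — a subgroup of type 2^{1+2}.O₂⁻(2), isomorphic modulo scalars to A₄ or S₄ (maximality is not assumed). Ω is the set of cosets of `H` in `T`, so an element of `T` of prime order `r` (a matrix `x` of determinant 1 with `x^r` scalar, `x` not scalar) fixes a point of Ω exactly when some conjugate of `x` by a matrix of determinant 1 normalizes `R`. Let `r` be a prime dividing the index of `H`. Then every element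 of `T` of order `r` fixes a point of Ω if and only if `r = 2` or `r = 3`. -/
theorem result {F : Type*} [Field F] [Fintype F] {p : ℕ} [Fact p.Prime] [CharP F p] (hF : Fintype.card F = p) (hp : 5 ≤ p)
    (R : Subgroup (GL (Fin 2) F)) (hR : Nonempty (↥R ≃* QuaternionGroup 2))
    (r : ℕ) [Fact r.Prime]
    (hΩ : r ∣ (Cfsg.Geo.subgroupNormalizer R).relIndex (Cfsg.Geo.specialLinear (Fin 2) F)) :
    (∀ x ∈ Cfsg.Geo.specialLinear (Fin 2) F, (∃ z : F, ((x ^ r : GL (Fin 2) F) : Matrix (Fin 2) (Fin 2) F) = z • (1 : Matrix (Fin 2) (Fin 2) F)) →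
      (∀ z : F, (x : Matrix (Fin 2) (Fin 2) F) ≠ z • (1 : Matrix (Fin 2) (Fin 2) F)) →
      ∃ g ∈ Cfsg.Geo.specialLinear (Fin 2) F, g⁻¹ * x * g ∈ Cfsg.Geo.subgroupNormalizer R) ↔ (r = 2 ∨ r = 3) := by
  classical
  have hpprime : p.Prime := Fact.out
  have hrprime : r.Prime := Fact.out
  have hcast : ∀ n : ℕ, 0 < n → n < p → ((n : ℕ) : F) ≠ 0 := by
    intro n hn0 hnp h0
    rw [CharP.cast_eq_zero_iff F p] at h0
    exact absurd (Nat.le_of_dvd hn0 h0) (by omega)
  have h2F : (2 : F) ≠ 0 := by simpa using hcast 2 (by norm_num) (by omega)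
  have h3F : (3 : F) ≠ 0 := by simpa using hcast 3 (by norm_num) (by omega)
  have h4F : (4 : F) ≠ 0 := by simpa using hcast 4 (by norm_num) (by omega)
  obtain ⟨eR⟩ := hR
  obtain ⟨I, J, a, b, c, e', f, g, D⟩ := Cfsg.Agent.Lib.Helper6_Q8GL2.exists_qdata h2F R eR
  have hh : (2 : F) * (2 : F)⁻¹ = 1 := mul_inv_cancel₀ h2F
  -- membership in the special linear group
  have hmemS : ∀ x : GL (Fin 2) F, x ∈ Cfsg.Geo.specialLinear (Fin 2) F ↔
      (x : Matrix (Fin 2) (Fin 2) F).det = 1 := by
    intro x
    unfold Cfsg.Geo.specialLinear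
    rw [MonoidHom.mem_ker]
    constructor
    · intro h
      have := congrArg Units.val h
      simpa using this
    · intro h
      apply Units.ext
      simpa using h
  -- conjugating a determinant-one matrix with given trace into the normalizer
  have conj_into : ∀ (x T : GL (Fin 2) F), (x : Matrix (Fin 2) (Fin 2) F).det = 1 →
      (T : Matrix (Fin 2) (Fin 2) F).det = 1 →
      (T : Matrix (Fin 2) (Fin 2) F).trace = (x : Matrix (Fin 2) (Fin 2) F).trace →
      (x : Matrix (Fin 2) (Fin 2) F).trace ^ 2 ≠ 4 →
      T ∈ Cfsg.Geo.subgroupNormalizer R →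
      ∃ g ∈ Cfsg.Geo.specialLinear (Fin 2) F, g⁻¹ * x * g ∈ Cfsg.Geo.subgroupNormalizer R := by
    intro x T hx hT htr hne hTN
    obtain ⟨U, hU⟩ := Cfsg.Agent.Lib.Helper41_SL2Conj.conj_of_trace_eq
      (⟨(T : Matrix (Fin 2) (Fin 2) F), hT⟩ : Matrix.SpecialLinearGroup (Fin 2) F)
      (⟨(x : Matrix (Fin 2) (Fin 2) F), hx⟩ : Matrix.SpecialLinearGroup (Fin 2) F) htr hne
    refine ⟨(Matrix.SpecialLinearGroup.toGL U)⁻¹, ?_, ?_⟩
    · rw [hmemS, ← map_inv, Matrix.SpecialLinearGroup.coe_GL_coe_matrix]
      exact (U⁻¹).2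
    · have hconj : (Matrix.SpecialLinearGroup.toGL U)⁻¹⁻¹ * x * (Matrix.SpecialLinearGroup.toGL U)⁻¹
          = T := by
        rw [inv_inv]
        apply Units.ext
        rw [Units.val_mul, Units.val_mul, ← map_inv, Matrix.SpecialLinearGroup.coe_GL_coe_matrix,
          Matrix.SpecialLinearGroup.coe_GL_coe_matrix]
        have := congrArg (fun V : Matrix.SpecialLinearGroup (Fin 2) F =>
          (V : Matrix (Fin 2) (Fin 2) F)) hU
        simp only [Matrix.SpecialLinearGroup.coe_mul] at this
        exact this.symm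
      rw [hconj]
      exact hTN
  constructor
  · intro Hyp
    by_contra hr23
    rw [not_or] at hr23
    have hr5 : 5 ≤ r := by
      have h2 := hrprime.two_le
      rcases Nat.lt_or_ge r 5 with hlt | hge
      · interval_cases r
        · exact absurd rfl hr23.1
        · exact absurd rfl hr23.2
        · norm_num at hrprime
      · exact hge
    have hfin : Finite (GL (Fin 2) F) := inferInstance
    have hdvd : r ∣ Nat.card (Cfsg.Geo.specialLinear (Fin 2) F) :=
      dvd_trans hΩ (Subgroup.relIndex_dvd_card _ _)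
    obtain ⟨x, hx⟩ := exists_prime_orderOf_dvd_card' r hdvd
    have hxr : (x : GL (Fin 2) F) ^ r = 1 := by
      have : x ^ r = 1 := by rw [← hx]; exact pow_orderOf_eq_one x
      have := congrArg Subtype.val this
      simpa using this
    have hxdet : ((x : GL (Fin 2) F) : Matrix (Fin 2) (Fin 2) F).det = 1 := (hmemS _).1 x.2
    have hns : ∀ z : F, ((x : GL (Fin 2) F) : Matrix (Fin 2) (Fin 2) F) ≠
        z • (1 : Matrix (Fin 2) (Fin 2) F) := by
      intro z hz
      have hzz : z * z = 1 := by
        rw [hz, Matrix.det_smul, Matrix.det_one] at hxdet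
        simpa [pow_two] using hxdet
      have hx2 : x ^ 2 = 1 := by
        apply Subtype.ext
        apply Units.ext
        rw [Subgroup.coe_pow, Units.val_pow_eq_pow_val, hz, pow_two, Matrix.smul_mul,
          Matrix.mul_smul, mul_one, smul_smul, hzz, one_smul]
        rfl
      have := orderOf_dvd_of_pow_eq_one hx2
      rw [hx] at this
      have := Nat.le_of_dvd (by norm_num) this
      omega
    obtain ⟨g', hgS, hgN⟩ := Hyp x.1 x.2 ⟨1, by rw [hxr, one_smul]; rfl⟩ hns
    have hyr : (g'⁻¹ * (x : GL (Fin 2) F) * g') ^ r = 1 := by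
      have := conj_pow (a := g'⁻¹) (b := (x : GL (Fin 2) F)) (i := r)
      rw [inv_inv] at this
      rw [this, hxr, mul_one, inv_mul_cancel]
    obtain ⟨s, hs⟩ := D.scalar_of_pow eR h2F hgN hr5 hyr
    apply hns s
    have hxeq : (x : GL (Fin 2) F) = g' * (g'⁻¹ * (x : GL (Fin 2) F) * g') * g'⁻¹ := by group
    rw [hxeq, Units.val_mul, Units.val_mul, hs, Matrix.mul_smul, mul_one, Matrix.smul_mul,
      ← Units.val_mul, mul_inv_cancel, Units.val_one]
  · rintro (rfl | rfl)
    · -- r = 2
      intro x hxS hz hns
      obtain ⟨z, hz⟩ := hz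
      have hxdet := (hmemS x).1 hxS
      have hsq : (x : Matrix (Fin 2) (Fin 2) F) * (x : Matrix (Fin 2) (Fin 2) F) = z • 1 := by
        rw [← hz, Units.val_pow_eq_pow_val, pow_two]
      obtain ⟨htr, -⟩ := Cfsg.Agent.Lib.Helper6_Q8GL2.trace_det_of_sq hns hsq
      apply conj_into x I hxdet D.det_I (by rw [D.trace_I, htr])
      · rw [htr]
        intro h
        apply h4F
        rw [← h]; ring
      · exact Subgroup.le_normalizer D.memI
    · -- r = 3
      intro x hxS hz hns
      obtain ⟨z, hz⟩ := hz
      have hxdet := (hmemS x).1 hxS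
      set X : Matrix (Fin 2) (Fin 2) F := (x : Matrix (Fin 2) (Fin 2) F) with hX
      have hcube : X * X * X = z • 1 := by
        rw [← hz, Units.val_pow_eq_pow_val, pow_succ, pow_two]
      have ch := Cfsg.Agent.Lib.Helper6_Q8GL2.ch2 X
      rw [hxdet, one_smul] at ch
      have hlin : (X.trace * X.trace - 1) • X = (z + X.trace) • (1 : Matrix (Fin 2) (Fin 2) F) := by
        have h1 : X * X * X = (X.trace * X.trace - 1) • X - X.trace • 1 := by
          rw [ch, sub_mul, Matrix.smul_mul, one_mul, ch, smul_sub, smul_smul, sub_smul, one_smul]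
          abel
        rw [h1] at hcube
        rw [add_smul, ← hcube]
        abel
      have ht2 : X.trace * X.trace - 1 = 0 := by
        by_contra hne
        apply hns ((X.trace * X.trace - 1)⁻¹ * (z + X.trace))
        rw [mul_smul, ← hlin, smul_smul, inv_mul_cancel₀ hne, one_smul]
      have ht : X.trace = 1 ∨ X.trace = -1 := by
        have : (X.trace - 1) * (X.trace + 1) = 0 := by linear_combination ht2
        rcases mul_eq_zero.1 this with h | h
        · left; linear_combination h
        · right; linear_combination h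
      rcases ht with ht | ht
      · apply conj_into x (I ^ 2 * D.hurU hh) hxdet (D.det_negHur hh)
          (by rw [D.trace_negHur hh, ht])
        · rw [ht]
          intro h
          apply h3F
          linear_combination -h
        · exact D.negHur_mem_normalizer hh
      · apply conj_into x (D.hurU hh) hxdet (D.det_hurU hh) (by rw [D.trace_hurU hh, ht])
        · rw [ht]
          intro h
          apply h3F
          linear_combination -h
        · exact D.hurU_mem_normalizer hh

end Cfsg.Agent.S5997
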