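import Cfsg.Statements.S5998
import Cfsg.Agent.Lib.Helper42_Heis3Grp

set_option autoImplicit false
open scoped MatrixGroups
open Cfsg

namespace Cfsg.Agent.S5998

namespace aux

open Matrix Cfsg.Agent.Helper42CubeNF Cfsg.Agent.Helper42Heis3 Cfsg.Agent.Helper42QuadNF
  Cfsg.Agent.Helper42Heis3Grp

variable {F : Type*} [Field F] [Fintype F]

theorem exists_prim_cube_root (h : 3 ∣ Fintype.card F - 1) : ∃ w : F, w ^ 2 + w + 1 = 0 := by
  have : Fact (Nat.Prime 3) := ⟨by norm_num⟩
  have hcard : Nat.card Fˣ = Fintype.card F - 1 := by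
    rw [Nat.card_units, Nat.card_eq_fintype_card]
  obtain ⟨u, hu⟩ := exists_prime_orderOf_dvd_card' (G := Fˣ) 3 (by rw [hcard]; exact h)
  refine ⟨(u : F), ?_⟩
  have h3 : u ^ 3 = 1 := by rw [← hu]; exact pow_orderOf_eq_one u
  have hne : u ≠ 1 := by
    intro e
    rw [e, orderOf_one] at hu
    norm_num at hu
  have h3' : (u : F) ^ 3 = 1 := by
    have := congrArg Units.val h3
    simpa using this
  have hne' : (u : F) ≠ 1 := by
    intro e
    apply hne
    exact Units.ext e
  have : ((u : F) - 1) * ((u : F) ^ 2 + u + 1) = 0 := by linear_combination h3'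
  rcases mul_eq_zero.mp this with e | e
  · exact absurd (sub_eq_zero.mp e) hne'
  · exact e

theorem exists_cube_root (h3ne : (3 : F) ≠ 0) (h : 9 ∣ Fintype.card F - 1) (z : F)
    (hz : z ^ 2 + z + 1 = 0) : ∃ a : F, a ^ 3 = z := by
  have hcard : Nat.card Fˣ = Fintype.card F - 1 := by
    rw [Nat.card_units, Nat.card_eq_fintype_card]
  obtain ⟨g, hg⟩ := IsCyclic.exists_ofOrder_eq_natCard (α := Fˣ)
  obtain ⟨m, hm⟩ := h
  have hm0 : m ≠ 0 := by
    rintro rfl
    have : 1 < Fintype.card F := Fintype.one_lt_card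
    omega
  set u : Fˣ := g ^ m with hu
  have hou : orderOf u = 9 := by
    rw [hu, orderOf_pow_of_dvd hm0 (by rw [hg, hcard, hm]; exact Dvd.intro_left 9 rfl), hg, hcard,
      hm]
    exact Nat.mul_div_cancel _ (Nat.pos_of_ne_zero hm0)
  have h9 : u ^ 9 = 1 := by rw [← hou]; exact pow_orderOf_eq_one u
  have hne : u ^ 3 ≠ 1 := by
    intro e
    have := orderOf_dvd_of_pow_eq_one e
    rw [hou] at this
    norm_num at this
  set t : F := ((u ^ 3 : Fˣ) : F) with ht
  have ht3 : t ^ 3 = 1 := by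
    have : (u ^ 3) ^ 3 = 1 := by rw [← pow_mul]; exact h9
    rw [ht]
    have := congrArg Units.val this
    simpa using this
  have htne : t ≠ 1 := by
    intro e
    apply hne
    exact Units.ext e
  have htp : t ^ 2 + t + 1 = 0 := by
    have : (t - 1) * (t ^ 2 + t + 1) = 0 := by linear_combination ht3
    rcases mul_eq_zero.mp this with e | e
    · exact absurd (sub_eq_zero.mp e) htne
    · exact e
  have hcases : (t - z) * (t - z ^ 2) = 0 := by
    linear_combination htp - t * hz + (z - 1) * hz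
  have hz3 : z ^ 3 = 1 := by linear_combination (z - 1) * hz
  rcases mul_eq_zero.mp hcases with e | e
  · refine ⟨(u : F), ?_⟩
    have : t = z := sub_eq_zero.mp e
    rw [← this, ht]
    push_cast
    rfl
  · refine ⟨((u ^ 2 : Fˣ) : F), ?_⟩
    have e2 : t = z ^ 2 := sub_eq_zero.mp e
    have : (((u ^ 2 : Fˣ) : F)) ^ 3 = t ^ 2 := by
      rw [ht]
      push_cast
      ring
    rw [this, e2]
    linear_combination z * hz3

theorem card_specialLinear_mul :
    Nat.card (Cfsg.Geo.specialLinear (Fin 3) F) * (Fintype.card F - 1) =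
      Nat.card (GL (Fin 3) F) := by
  classical
  let d : GL (Fin 3) F →* Fˣ := Matrix.GeneralLinearGroup.det
  have hsurj : Function.Surjective d := by
    intro u
    refine ⟨Matrix.GeneralLinearGroup.mkOfDetNeZero
      (Matrix.diagonal (fun i : Fin 3 => if i = 0 then (u : F) else 1)) ?_, ?_⟩
    · rw [Matrix.det_diagonal]
      simp [Finset.prod_ite_eq']
    · ext
      simp [d, Matrix.GeneralLinearGroup.mkOfDetNeZero, Matrix.det_diagonal, Finset.prod_ite_eq']
  have h1 := Subgroup.card_mul_index d.ker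
  rw [Subgroup.index_ker, MonoidHom.range_eq_top.mpr hsurj, Subgroup.card_top] at h1
  rw [← h1, Nat.card_units, Nat.card_eq_fintype_card (α := F)]
  rfl

set_option maxRecDepth 100000 in
theorem not_81_dvd_card_SL (h : Fintype.card F % 9 = 4 ∨ Fintype.card F % 9 = 7) :
    ¬ 81 ∣ Nat.card (Cfsg.Geo.specialLinear (Fin 3) F) := by
  intro h81
  have h1 := card_specialLinear_mul (F := F)
  rw [Matrix.card_GL_field] at h1
  set q := Fintype.card F with hqdef
  have h3 : 3 ∣ q - 1 := by omega
  have h2 : 243 ∣ ∏ i : Fin 3, (q ^ 3 - q ^ (i : ℕ)) := by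
    rw [← h1]
    have : (243 : ℕ) = 81 * 3 := by norm_num
    rw [this]
    exact Nat.mul_dvd_mul h81 h3
  rw [Fin.prod_univ_three] at h2
  simp only [Fin.val_zero, Fin.val_one, Fin.val_two, pow_zero, pow_one] at h2
  have hqpos : 1 ≤ q := by have := Fintype.card_pos (α := F); omega
  have hq1 : 1 ≤ q ^ 3 := Nat.one_le_pow _ _ hqpos
  have hq2 : q ≤ q ^ 3 := by
    calc q = q ^ 1 := (pow_one q).symm
      _ ≤ q ^ 3 := Nat.pow_le_pow_right hqpos (by norm_num)
  have hq3 : q ^ 2 ≤ q ^ 3 := Nat.pow_le_pow_right hqpos (by norm_num)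
  have h4 := (ZMod.natCast_eq_zero_iff _ 243).mpr h2
  rw [Nat.cast_mul, Nat.cast_mul, Nat.cast_sub hq1, Nat.cast_sub hq2, Nat.cast_sub hq3] at h4
  simp only [Nat.cast_pow, Nat.cast_one] at h4
  have hqm : (q : ZMod 243) = ((q % 243 : ℕ) : ZMod 243) := by rw [ZMod.natCast_mod]
  have hlt : q % 243 < 243 := Nat.mod_lt _ (by norm_num)
  have hm9 : q % 243 % 9 = 4 ∨ q % 243 % 9 = 7 := by omega
  rw [hqm] at h4
  generalize q % 243 = m at h4 hlt hm9
  have key : ∀ m : ℕ, m < 243 → (m % 9 = 4 ∨ m % 9 = 7) →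
      (((m : ZMod 243) ^ 3 - 1) * ((m : ZMod 243) ^ 3 - (m : ZMod 243)) *
        ((m : ZMod 243) ^ 3 - (m : ZMod 243) ^ 2) ≠ 0) := by
    decide
  exact key m hlt hm9 h4

/-- packaging: a determinant-one conjugating matrix gives the conclusion -/
theorem conj_mem_of_matrix (N : Subgroup (GL (Fin 3) F)) (x n : GL (Fin 3) F)
    (S : Matrix (Fin 3) (Fin 3) F) (hS : det S = 1) (hn : n ∈ N)
    (hc : (x : Matrix (Fin 3) (Fin 3) F) * S = S * (n : Matrix (Fin 3) (Fin 3) F)) :
    ∃ g ∈ Cfsg.Geo.specialLinear (Fin 3) F, g⁻¹ * x * g ∈ N := by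
  have hS0 : det S ≠ 0 := by rw [hS]; exact one_ne_zero
  let g : GL (Fin 3) F := Matrix.GeneralLinearGroup.mkOfDetNeZero S hS0
  have hg : (g : Matrix (Fin 3) (Fin 3) F) = S := rfl
  refine ⟨g, ?_, ?_⟩
  · apply MonoidHom.mem_ker.mpr
    apply Units.ext
    rw [Matrix.GeneralLinearGroup.val_det_apply, hg, hS]
    rfl
  · have e : x * g = g * n := Units.ext (by simp only [Units.val_mul, hg]; exact hc)
    have : g⁻¹ * x * g = n := by rw [mul_assoc, e, inv_mul_cancel_left]
    rw [this]; exact hn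

end aux

/-- Elements of prime order of PSL_3(p), p ≡ 1 (mod 3), and the normalizer of an extraspecial subgroup of order 27. Here `T = PSL_3(F)` for the field `F` with `p` elements, `p` a prime with `p ≡ 1 (mod 3)`; `R` is a non-abelian subgroup of GL_3(F) of order 27 and exponent 3 (an extraspecial group 3^{1+2}, acting absolutely irreducibly), and `H` is the subgroup of matrices of determinant 1 normalizing `R` — a subgroup of type 3^{1+2}.Sp₂(3) (maximality is not assumed). Ω is the set of cosets of `H` in `T`, so an element of `T` of prime order `r` (a matrix `x` of determinant 1 with `x^r` scalar, `x` not scalar) fixes a point of Ω exactly when some conjugate of `x` by a matrix of determinant 1 normalizes `R`. Let `r` be a prime dividing the index of `H`. Then every element of `T` of order `r` fixes a point of Ω if and only if `r = 2`, or `r = 3` and `p ≡ 1 (mod 9)`. -/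
theorem result {F : Type*} [Field F] [Fintype F] {p : ℕ} [Fact p.Prime] [CharP F p] (hF : Fintype.card F = p) (hp3 : p % 3 = 1)
    (R : Subgroup (GL (Fin 3) F)) (hR : Nat.card R = 27) (hRe : Monoid.exponent R = 3) (hRna : ¬ IsMulCommutative R)
    (r : ℕ) [Fact r.Prime]
    (hΩ : r ∣ (Cfsg.Geo.subgroupNormalizer R).relIndex (Cfsg.Geo.specialLinear (Fin 3) F)) :
    (∀ x ∈ Cfsg.Geo.specialLinear (Fin 3) F, (∃ z : F, ((x ^ r : GL (Fin 3) F) : Matrix (Fin 3) (Fin 3) F) = z • (1 : Matrix (Fin 3) (Fin 3) F)) →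
      (∀ z : F, (x : Matrix (Fin 3) (Fin 3) F) ≠ z • (1 : Matrix (Fin 3) (Fin 3) F)) →
      ∃ g ∈ Cfsg.Geo.specialLinear (Fin 3) F, g⁻¹ * x * g ∈ Cfsg.Geo.subgroupNormalizer R) ↔ (r = 2 ∨ (r = 3 ∧ p % 9 = 1)) := by
  classical
  have hp : p.Prime := Fact.out
  have hr : r.Prime := Fact.out
  have hp3ne : p ≠ 3 := by rintro rfl; norm_num at hp3
  have hp2ne : p ≠ 2 := by rintro rfl; norm_num at hp3
  have h3ne : (3 : F) ≠ 0 := by
    intro h
    have h' : ((3 : ℕ) : F) = 0 := by exact_mod_cast h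
    rw [CharP.cast_eq_zero_iff F p] at h'
    exact hp3ne ((Nat.prime_dvd_prime_iff_eq hp Nat.prime_three).mp h')
  have h2ne : (2 : F) ≠ 0 := by
    intro h
    have h' : ((2 : ℕ) : F) = 0 := by exact_mod_cast h
    rw [CharP.cast_eq_zero_iff F p] at h'
    exact hp2ne ((Nat.prime_dvd_prime_iff_eq hp Nat.prime_two).mp h')
  have h3dvd : 3 ∣ Fintype.card F - 1 := by rw [hF]; omega
  obtain ⟨w, hw⟩ := aux.exists_prim_cube_root h3dvd
  obtain ⟨μ, Q, hstd⟩ := Cfsg.Agent.Helper42Heis3Grp.exists_std w hw h3ne R hR hRe hRna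
  have hNQ : ∀ m, m ∈ Cfsg.Geo.subgroupNormalizer (Cfsg.Agent.Helper42Heis3Grp.conjSub R Q) →
      Q * m * Q⁻¹ ∈ Cfsg.Geo.subgroupNormalizer R :=
    fun m hm => Cfsg.Agent.Helper42Heis3Grp.mem_normalizer_conjSub.mp hm
  have hdetOf : ∀ x ∈ Cfsg.Geo.specialLinear (Fin 3) F,
      Matrix.det (x : Matrix (Fin 3) (Fin 3) F) = 1 := by
    intro x hx
    have h1 := MonoidHom.mem_ker.mp hx
    have h2 := congrArg Units.val h1
    rwa [Matrix.GeneralLinearGroup.val_det_apply] at h2
  constructor
  · intro hL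
    by_contra hne
    push Not at hne
    obtain ⟨hr2, hr3⟩ := hne
    by_cases hr3' : r = 3
    · -- `r = 3`, `p ≢ 1 (mod 9)`: the index is prime to 3
      subst hr3'
      have hp9 : p % 9 = 4 ∨ p % 9 = 7 := by
        have := hr3 rfl
        omega
      apply aux.not_81_dvd_card_SL (F := F) (by rw [hF]; exact hp9)
      have hRSL : R ≤ Cfsg.Geo.specialLinear (Fin 3) F := by
        intro x hx
        have hx0 : Q⁻¹ * x * Q ∈ Cfsg.Agent.Helper42Heis3Grp.conjSub R Q := by
          rw [Cfsg.Agent.Helper42Heis3Grp.mem_conjSub]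
          have e : Q * (Q⁻¹ * x * Q) * Q⁻¹ = x := by group
          rw [e]; exact hx
        have h1 := hstd.le_specialLinear h3ne hx0
        rw [Cfsg.Geo.specialLinear, MonoidHom.mem_ker] at h1 ⊢
        rw [map_mul, map_mul, map_inv] at h1
        rwa [mul_comm, ← mul_assoc, mul_inv_cancel, one_mul] at h1
      have hRN : R ≤ Cfsg.Geo.subgroupNormalizer R := Subgroup.le_normalizer
      have hle : R ≤ Cfsg.Geo.subgroupNormalizer R ⊓ Cfsg.Geo.specialLinear (Fin 3) F :=
        le_inf hRN hRSL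
      have h27 : 27 ∣ Nat.card
          ↥(Cfsg.Geo.subgroupNormalizer R ⊓ Cfsg.Geo.specialLinear (Fin 3) F) :=
        hR ▸ Subgroup.card_dvd_of_le hle
      have hmul := Subgroup.relIndex_mul_relIndex ⊥
        (Cfsg.Geo.subgroupNormalizer R ⊓ Cfsg.Geo.specialLinear (Fin 3) F)
        (Cfsg.Geo.specialLinear (Fin 3) F) bot_le inf_le_right
      rw [Subgroup.relIndex_bot_left, Subgroup.relIndex_bot_left, Subgroup.inf_relIndex_right]
        at hmul
      rw [← hmul]
      exact Nat.mul_dvd_mul h27 hΩ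
    · -- `r ≥ 5`
      have hr5 : 5 ≤ r := by
        have h2le := hr.two_le
        by_contra hlt
        push Not at hlt
        interval_cases r
        · exact hr2 rfl
        · exact hr3' rfl
        · norm_num at hr
      have hdvd : r ∣ Nat.card (Cfsg.Geo.specialLinear (Fin 3) F) :=
        hΩ.trans (Subgroup.relIndex_dvd_card _ _)
      obtain ⟨x, hx⟩ := exists_prime_orderOf_dvd_card'
        (G := Cfsg.Geo.specialLinear (Fin 3) F) r hdvd
      have hxr : (x : GL (Fin 3) F) ^ r = 1 := by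
        have h1 := pow_orderOf_eq_one x
        rw [hx] at h1
        have h2 := congrArg Subtype.val h1
        simpa using h2
      have hxns : ∀ z : F, ((x : GL (Fin 3) F) : Matrix (Fin 3) (Fin 3) F) ≠
          z • (1 : Matrix (Fin 3) (Fin 3) F) := by
        intro z hz
        have hdet := hdetOf x x.2
        have hz3 : z ^ 3 = 1 := by
          rw [hz, Matrix.det_smul, Matrix.det_one] at hdet
          simpa using hdet
        have hx3 : (x : GL (Fin 3) F) ^ 3 = 1 := by
          apply Units.ext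
          rw [Units.val_pow_eq_pow_val, hz, smul_pow, hz3]
          simp
        have h1 : orderOf (x : GL (Fin 3) F) ∣ 3 := orderOf_dvd_of_pow_eq_one hx3
        rw [Subgroup.orderOf_coe, hx] at h1
        have := Nat.le_of_dvd (by norm_num) h1
        omega
      obtain ⟨g, hg, hgN⟩ := hL x x.2 ⟨1, by rw [hxr]; simp⟩ hxns
      set a : GL (Fin 3) F := (g * Q)⁻¹ with ha
      have hm_eq : Q⁻¹ * (g⁻¹ * x * g) * Q = a * x * a⁻¹ := by rw [ha]; group
      have hm : a * x * a⁻¹ ∈
          Cfsg.Geo.subgroupNormalizer (Cfsg.Agent.Helper42Heis3Grp.conjSub R Q) := by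
        rw [Cfsg.Agent.Helper42Heis3Grp.mem_normalizer_conjSub, ← hm_eq]
        have e : Q * (Q⁻¹ * (g⁻¹ * x * g) * Q) * Q⁻¹ = g⁻¹ * x * g := by group
        rw [e]; exact hgN
      have hmr : (a * x * a⁻¹) ^ r = 1 := by
        rw [conj_pow, hxr]; group
      have hsc := hstd.scalar_of_pow_scalar h3ne r hr hr5 _ hm 1 (by rw [hmr]; simp)
      exact hxns _ (Cfsg.Agent.Helper42Heis3Grp.scalar_of_conj_scalar a x _ hsc)
  · rintro (hr2 | ⟨hr3, hp9⟩)
    · -- `r = 2`
      subst hr2
      intro x hx ⟨z, hz⟩ hns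
      have hdetX := hdetOf x hx
      have hXX : (x : Matrix (Fin 3) (Fin 3) F) * (x : Matrix (Fin 3) (Fin 3) F) =
          z • (1 : Matrix (Fin 3) (Fin 3) F) := by
        rw [← hz, pow_two, Units.val_mul]
      have hz3 : z ^ 3 = 1 := by
        have h1 := congrArg Matrix.det hXX
        rw [Matrix.det_mul, hdetX, Matrix.det_smul, Matrix.det_one] at h1
        simpa using h1.symm
      have hz0 : z ≠ 0 := by
        rintro rfl
        simp at hz3
      have hMM : (z • (x : Matrix (Fin 3) (Fin 3) F)) * (z • (x : Matrix (Fin 3) (Fin 3) F)) = 1 := by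
        rw [Matrix.smul_mul, Matrix.mul_smul, hXX, smul_smul, smul_smul]
        have : z * z * z = 1 := by rw [← hz3]; ring
        rw [this, one_smul]
      have hdM : Matrix.det (z • (x : Matrix (Fin 3) (Fin 3) F)) = 1 := by
        rw [Matrix.det_smul, hdetX]
        simpa using hz3
      have hnsM : ∀ c : F, z • (x : Matrix (Fin 3) (Fin 3) F) ≠
          c • (1 : Matrix (Fin 3) (Fin 3) F) := by
        intro c hc
        apply hns (z⁻¹ * c)
        have h1 : (x : Matrix (Fin 3) (Fin 3) F) = z⁻¹ • (z • (x : Matrix (Fin 3) (Fin 3) F)) := by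
          rw [smul_smul, inv_mul_cancel₀ hz0, one_smul]
        rw [h1, hc, smul_smul]
      set t : GL (Fin 3) F := Q * Cfsg.Agent.Helper42Heis3Grp.gT * Q⁻¹ with ht
      have htN : t ∈ Cfsg.Geo.subgroupNormalizer R := hNQ _ (hstd.gT_mem_normalizer h3ne)
      have htt : (t : Matrix (Fin 3) (Fin 3) F) * (t : Matrix (Fin 3) (Fin 3) F) = 1 := by
        have h1 : t * t = 1 := by
          have : t * t = Q * (Cfsg.Agent.Helper42Heis3Grp.gT * Cfsg.Agent.Helper42Heis3Grp.gT) * Q⁻¹ := by
            rw [ht]; group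
          rw [this, Cfsg.Agent.Helper42Heis3Grp.gT_mul_gT]; group
        rw [← Units.val_mul, h1]; rfl
      have hdt : Matrix.det (t : Matrix (Fin 3) (Fin 3) F) = 1 := by
        rw [ht, Cfsg.Agent.Helper42Heis3Grp.det_conj]
        exact Cfsg.Agent.Helper42Heis3Grp.det_Tmat
      have hnst : ∀ c : F, (t : Matrix (Fin 3) (Fin 3) F) ≠ c • (1 : Matrix (Fin 3) (Fin 3) F) := by
        intro c hc
        have h1 := Cfsg.Agent.Helper42Heis3Grp.scalar_of_conj_scalar Q _ c hc
        have e := congrFun (congrFun h1 1) 2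
        simp [Cfsg.Agent.Helper42Heis3Grp.Tmat] at e
      obtain ⟨S, hS, hMS⟩ := Cfsg.Agent.Helper42QuadNF.exists_sl_conj_involution h2ne _ _
        hMM hdM hnsM htt hdt hnst
      refine aux.conj_mem_of_matrix _ x
        (Cfsg.Agent.Helper42Heis3Grp.gZ z⁻¹ (inv_ne_zero hz0) * t) S hS
        (Subgroup.mul_mem _ (Cfsg.Agent.Helper42Heis3Grp.Std.gZ_mem_normalizer R _ _) htN) ?_
      simp only [Units.val_mul, Cfsg.Agent.Helper42Heis3Grp.coe_gZ]
      rw [Matrix.smul_mul, Matrix.one_mul, Matrix.mul_smul, ← hMS, Matrix.smul_mul, smul_smul,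
        inv_mul_cancel₀ hz0, one_smul]
    · -- `r = 3`, `p ≡ 1 (mod 9)`
      subst hr3
      intro x hx ⟨z, hz⟩ hns
      have hdetX := hdetOf x hx
      have hXXX : (x : Matrix (Fin 3) (Fin 3) F) * (x : Matrix (Fin 3) (Fin 3) F) *
          (x : Matrix (Fin 3) (Fin 3) F) = z • (1 : Matrix (Fin 3) (Fin 3) F) := by
        rw [← hz, pow_succ, pow_two, Units.val_mul, Units.val_mul]
      have hz3 : z ^ 3 = 1 := by
        have h1 := congrArg Matrix.det hXXX
        rw [Matrix.det_mul, Matrix.det_mul, hdetX, Matrix.det_smul, Matrix.det_one] at h1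
        simpa using h1.symm
      have hz0 : z ≠ 0 := by
        rintro rfl
        simp at hz3
      by_cases hz1 : z = 1
      · subst hz1
        rw [one_smul] at hXXX
        set a : GL (Fin 3) F := Q * Cfsg.Agent.Helper42Heis3Grp.gD μ hstd.cube * Q⁻¹ with ha
        have haR : a ∈ R := Cfsg.Agent.Helper42Heis3Grp.mem_conjSub.mp (hstd.memD _)
        have haN : a ∈ Cfsg.Geo.subgroupNormalizer R :=
          (Subgroup.le_normalizer : R ≤ Subgroup.normalizer (R : Set (GL (Fin 3) F))) haR
        have ha3 : (a : Matrix (Fin 3) (Fin 3) F) * (a : Matrix (Fin 3) (Fin 3) F) *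
            (a : Matrix (Fin 3) (Fin 3) F) = 1 := by
          have h1 : a * a * a = 1 := by
            have : a * a * a = Q * (Cfsg.Agent.Helper42Heis3Grp.gD μ hstd.cube *
                Cfsg.Agent.Helper42Heis3Grp.gD μ hstd.cube *
                Cfsg.Agent.Helper42Heis3Grp.gD μ hstd.cube) * Q⁻¹ := by
              rw [ha]; group
            rw [this, Cfsg.Agent.Helper42Heis3Grp.gD_cube]; group
          rw [← Units.val_mul, ← Units.val_mul, h1]; rfl
        have hda : Matrix.det (a : Matrix (Fin 3) (Fin 3) F) = 1 := by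
          rw [ha, Cfsg.Agent.Helper42Heis3Grp.det_conj]
          exact Cfsg.Agent.Helper42Heis3Grp.det_nfD μ hstd.cube
        have hnsa : ∀ c : F, (a : Matrix (Fin 3) (Fin 3) F) ≠
            c • (1 : Matrix (Fin 3) (Fin 3) F) := by
          intro c hc
          have h1 := Cfsg.Agent.Helper42Heis3Grp.scalar_of_conj_scalar Q _ c hc
          have e0 := congrFun (congrFun h1 0) 0
          have e1 := congrFun (congrFun h1 1) 1
          simp [Cfsg.Agent.Helper42CubeNF.nfD] at e0 e1
          exact hstd.ne_one h3ne (by rw [e1, ← e0])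
        obtain ⟨S, hS, hXS⟩ := Cfsg.Agent.Helper42CubeNF.exists_sl_conj_of_cube_one h3ne _ _
          hXXX hdetX hns ha3 hda hnsa
        exact aux.conj_mem_of_matrix _ x a S hS haN hXS
      · have hzp : z ^ 2 + z + 1 = 0 := by
          have h1 : (z - 1) * (z ^ 2 + z + 1) = 0 := by linear_combination hz3
          rcases mul_eq_zero.mp h1 with e | e
          · exact absurd (sub_eq_zero.mp e) hz1
          · exact e
        have h9 : 9 ∣ Fintype.card F - 1 := by rw [hF]; omega
        have hζp : (z ^ 2) ^ 2 + z ^ 2 + 1 = 0 := by linear_combination (z ^ 2 - z + 1) * hzp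
        obtain ⟨a9, ha9⟩ := aux.exists_cube_root h3ne h9 (z ^ 2) hζp
        have ha0 : a9 ≠ 0 := by
          rintro rfl
          have : z ^ 2 = 0 := by rw [← ha9]; ring
          exact hz0 (pow_eq_zero_iff (by norm_num) |>.mp this)
        have hM3 : (a9 • (x : Matrix (Fin 3) (Fin 3) F)) * (a9 • (x : Matrix (Fin 3) (Fin 3) F)) *
            (a9 • (x : Matrix (Fin 3) (Fin 3) F)) = 1 := by
          simp only [Matrix.smul_mul, Matrix.mul_smul, smul_smul, hXXX]
          have h1 : a9 * (a9 * a9 * z) = 1 := by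
            have h2 : a9 * (a9 * a9 * z) = a9 ^ 3 * z := by ring
            rw [h2, ha9, ← hz3]; ring
          rw [h1, one_smul]
        have hdM : Matrix.det (a9 • (x : Matrix (Fin 3) (Fin 3) F)) = z ^ 2 := by
          rw [Matrix.det_smul, hdetX]
          simpa using ha9
        obtain ⟨e, he, P₁, hP₁, hMP⟩ := Cfsg.Agent.Helper42QuadNF.exists_nf_cube_det h3ne (z ^ 2) hζp _
          hM3 hdM
        have hstdζ := hstd.of_prim (z ^ 2) hζp
        have hζ0 : z ^ 2 ≠ 0 := hstdζ.ne_zero
        have he0 : e ≠ 0 := by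
          rintro rfl
          simp at he
        set n₀ : GL (Fin 3) F := Cfsg.Agent.Helper42Heis3Grp.gZ e he0 *
          Cfsg.Agent.Helper42Heis3Grp.gE (z ^ 2) hζ0 with hn₀
        have hn₀N : n₀ ∈ Cfsg.Geo.subgroupNormalizer (Cfsg.Agent.Helper42Heis3Grp.conjSub R Q) :=
          Subgroup.mul_mem _ (Cfsg.Agent.Helper42Heis3Grp.Std.gZ_mem_normalizer _ _ _)
            (hstdζ.gE_mem_normalizer h3ne)
        set n : GL (Fin 3) F := Q * n₀ * Q⁻¹ with hn
        have hnN : n ∈ Cfsg.Geo.subgroupNormalizer R := hNQ _ hn₀N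
        have hnQ : (n : Matrix (Fin 3) (Fin 3) F) * (Q : Matrix (Fin 3) (Fin 3) F) =
            (Q : Matrix (Fin 3) (Fin 3) F) * Matrix.diagonal ![e * z ^ 2, e, e] := by
          have h1 : n * Q = Q * n₀ := by rw [hn]; group
          have h2 := congrArg Units.val h1
          simp only [Units.val_mul, hn₀, Cfsg.Agent.Helper42Heis3Grp.coe_gZ,
            Cfsg.Agent.Helper42Heis3Grp.coe_gE] at h2
          rw [h2]
          congr 1
          ext i j
          fin_cases i <;> fin_cases j <;>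
            simp [Cfsg.Agent.Helper42Heis3Grp.Emat, Matrix.diagonal_apply]
        obtain ⟨S, hS, hMS⟩ := Cfsg.Agent.Helper42CubeNF.exists_sl_conj
          (Matrix.diagonal ![e * z ^ 2, e, e])
          (fun α => Cfsg.Agent.Helper42QuadNF.zd_mul_diagonal α _) _ _ P₁ _ hP₁
          (Cfsg.Agent.Helper42Heis3Grp.det_coe_ne_zero Q) hMP hnQ
        refine aux.conj_mem_of_matrix _ x
          (Cfsg.Agent.Helper42Heis3Grp.gZ a9⁻¹ (inv_ne_zero ha0) * n) S hS
          (Subgroup.mul_mem _ (Cfsg.Agent.Helper42Heis3Grp.Std.gZ_mem_normalizer R _ _) hnN) ?_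
        simp only [Units.val_mul, Cfsg.Agent.Helper42Heis3Grp.coe_gZ]
        rw [Matrix.smul_mul, Matrix.one_mul, Matrix.mul_smul, ← hMS, Matrix.smul_mul, smul_smul,
          inv_mul_cancel₀ ha0, one_smul]

end Cfsg.Agent.S5998
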