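import Cfsg.Statements.S5999
import Cfsg.Agent.Lib.Helper42_Heis3U

set_option autoImplicit false
open scoped MatrixGroups
open Cfsg

namespace Cfsg.Agent.S5999

namespace aux

open Matrix Cfsg.Agent.Helper42CubeNF Cfsg.Agent.Helper42Heis3 Cfsg.Agent.Helper42QuadNF
  Cfsg.Agent.Helper42Heis3Grp Cfsg.Agent.Helper42Heis3U Cfsg.Agent.Lib.Helper13_HermBridge
  Cfsg.Agent.Lib.Helper43_HermRoot

variable {F : Type*} [Field F] [Fintype F]

theorem exists_prim_cube_root (h : 3 ∣ Fintype.card F - 1) : ∃ w : F, w ^ 2 + w + 1 = 0 := by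
  have : Fact (Nat.Prime 3) := ⟨by norm_num⟩
  have hcard : Nat.card Fˣ = Fintype.card F - 1 := by
    rw [Nat.card_units, Nat.card_eq_fintype_card]
  obtain ⟨u, hu⟩ := exists_prime_orderOf_dvd_card' (G := Fˣ) 3 (by rw [hcard]; exact h)
  refine ⟨(u : F), ?_⟩
  have h3 : u ^ 3 = 1 := by rw [← hu]; exact pow_orderOf_eq_one u
  have hne : u ≠ 1 := by
    intro e
    rw [e, orderOf_one] at hu
    norm_num at hu
  have h3' : (u : F) ^ 3 = 1 := by
    have := congrArg Units.val h3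
    simpa using this
  have hne' : (u : F) ≠ 1 := by
    intro e
    apply hne
    exact Units.ext e
  have : ((u : F) - 1) * ((u : F) ^ 2 + u + 1) = 0 := by linear_combination h3'
  rcases mul_eq_zero.mp this with e | e
  · exact absurd (sub_eq_zero.mp e) hne'
  · exact e

/-- a cube root of a primitive cube root of unity, of order dividing `9` -/
theorem exists_cube_root (h : 9 ∣ Fintype.card F - 1) (z : F)
    (hz : z ^ 2 + z + 1 = 0) : ∃ a : F, a ^ 3 = z ∧ a ^ 9 = 1 := by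
  have hcard : Nat.card Fˣ = Fintype.card F - 1 := by
    rw [Nat.card_units, Nat.card_eq_fintype_card]
  obtain ⟨g, hg⟩ := IsCyclic.exists_ofOrder_eq_natCard (α := Fˣ)
  obtain ⟨m, hm⟩ := h
  have hm0 : m ≠ 0 := by
    rintro rfl
    have : 1 < Fintype.card F := Fintype.one_lt_card
    omega
  set u : Fˣ := g ^ m with hu
  have hou : orderOf u = 9 := by
    rw [hu, orderOf_pow_of_dvd hm0 (by rw [hg, hcard, hm]; exact Dvd.intro_left 9 rfl), hg, hcard,
      hm]
    exact Nat.mul_div_cancel _ (Nat.pos_of_ne_zero hm0)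
  have h9 : u ^ 9 = 1 := by rw [← hou]; exact pow_orderOf_eq_one u
  have h9' : (u : F) ^ 9 = 1 := by
    have := congrArg Units.val h9
    simpa using this
  have hne : u ^ 3 ≠ 1 := by
    intro e
    have := orderOf_dvd_of_pow_eq_one e
    rw [hou] at this
    norm_num at this
  set t : F := ((u ^ 3 : Fˣ) : F) with ht
  have ht' : t = (u : F) ^ 3 := by rw [ht]; simp
  have ht3 : t ^ 3 = 1 := by
    rw [ht', ← pow_mul]; exact h9'
  have htne : t ≠ 1 := by
    intro e
    apply hne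
    exact Units.ext e
  have htp : t ^ 2 + t + 1 = 0 := by
    have : (t - 1) * (t ^ 2 + t + 1) = 0 := by linear_combination ht3
    rcases mul_eq_zero.mp this with e | e
    · exact absurd (sub_eq_zero.mp e) htne
    · exact e
  have hcases : (t - z) * (t - z ^ 2) = 0 := by
    linear_combination htp - t * hz + (z - 1) * hz
  have hz3 : z ^ 3 = 1 := by linear_combination (z - 1) * hz
  rcases mul_eq_zero.mp hcases with e | e
  · refine ⟨(u : F), ?_, h9'⟩
    have : t = z := sub_eq_zero.mp e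
    rw [← this, ht']
  · refine ⟨(u : F) ^ 2, ?_, ?_⟩
    · have e2 : t = z ^ 2 := sub_eq_zero.mp e
      have : ((u : F) ^ 2) ^ 3 = t ^ 2 := by rw [ht']; ring
      rw [this, e2]
      linear_combination z * hz3
    · rw [← pow_mul, mul_comm, pow_mul, h9', one_pow]

set_option maxRecDepth 100000 in
theorem not_81_dvd_card_SU {p : ℕ} (hF : Fintype.card F = p ^ 2) (h : p % 9 = 2 ∨ p % 9 = 5) :
    ¬ 81 ∣ Nat.card ↥(Cfsg.GU 3 F p ⊓ Cfsg.Geo.specialLinear (Fin 3) F) := by
  intro h81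
  rw [card_GU_inf_SL] at h81
  have h1 := Cfsg.Agent.Lib.Helper5_SUOrder.card_SU hF 3 (by norm_num)
  have h3 : 3 ∣ p + 1 := by omega
  have h2 : 243 ∣ (p + 1) * Nat.card (Cfsg.SU 3 F p) := by
    have : (243 : ℕ) = 3 * 81 := by norm_num
    rw [this]
    exact Nat.mul_dvd_mul h3 h81
  rw [h1] at h2
  simp only [Finset.prod_range_succ, Finset.prod_range_zero, one_mul] at h2
  norm_num at h2
  have hp1 : 1 ≤ p := by omega
  have hp2 : 1 ≤ p ^ 2 := Nat.one_le_pow _ _ hp1
  have h4 := (ZMod.natCast_eq_zero_iff _ 243).mpr h2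
  push_cast [Nat.cast_sub hp2] at h4
  have hqm : (p : ZMod 243) = ((p % 243 : ℕ) : ZMod 243) := by rw [ZMod.natCast_mod]
  have hlt : p % 243 < 243 := Nat.mod_lt _ (by norm_num)
  have hm9 : p % 243 % 9 = 2 ∨ p % 243 % 9 = 5 := by omega
  rw [hqm] at h4
  generalize p % 243 = m at h4 hlt hm9
  have key : ∀ m : ℕ, m < 243 → (m % 9 = 2 ∨ m % 9 = 5) →
      ((m : ZMod 243) ^ 3 * (((m : ZMod 243) + 1) * ((m : ZMod 243) ^ 2 - 1) *
        ((m : ZMod 243) ^ 3 + 1)) ≠ 0) := by
    decide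
  exact key m hlt hm9 h4

theorem zd_mul_Tmat (α : F) : zd α * (Tmat : Matrix (Fin 3) (Fin 3) F) = Tmat * zd α := by
  ext i j
  fin_cases i <;> fin_cases j <;>
    simp [zd, Tmat, Matrix.mul_apply, Fin.sum_univ_three, Matrix.diagonal_apply]

/-- packaging: from a `GL`-conjugacy of `c • x` to `Q n₀ Q⁻¹` to the conclusion -/
theorem su_conj_mem {p : ℕ} (hF : Fintype.card F = p ^ 2) (R : Subgroup (GL (Fin 3) F))
    (Q : GL (Fin 3) F) (hQU : Q ∈ Cfsg.GU 3 F p) (x : GL (Fin 3) F)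
    (hx : x ∈ Cfsg.GU 3 F p ⊓ Cfsg.Geo.specialLinear (Fin 3) F)
    (c : F) (hc0 : c ≠ 0) (hcn : frobQ hF c * c = 1)
    (n₀ : GL (Fin 3) F) (hn₀U : n₀ ∈ Cfsg.GU 3 F p)
    (hn₀N : Q * n₀ * Q⁻¹ ∈ Cfsg.Geo.subgroupNormalizer R)
    (hZ : ∀ α : F, zd α * (n₀ : Matrix (Fin 3) (Fin 3) F) = (n₀ : Matrix (Fin 3) (Fin 3) F) * zd α)
    (P : Matrix (Fin 3) (Fin 3) F) (hP : P.det ≠ 0)
    (hconj : (c • (x : Matrix (Fin 3) (Fin 3) F)) * P =
      P * ((Q * n₀ * Q⁻¹ : GL (Fin 3) F) : Matrix (Fin 3) (Fin 3) F)) :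
    ∃ g ∈ Cfsg.GU 3 F p ⊓ Cfsg.Geo.specialLinear (Fin 3) F,
      g⁻¹ * x * g ∈ Cfsg.Geo.subgroupNormalizer R := by
  have hXun : IsUn (frobQ hF) (x : Matrix (Fin 3) (Fin 3) F) := (mem_GU_iff_isUn hF x).mp hx.1
  have hMun : IsUn (frobQ hF) (c • (x : Matrix (Fin 3) (Fin 3) F)) := isUn_smul _ c hcn hXun
  have hnU : Q * n₀ * Q⁻¹ ∈ Cfsg.GU 3 F p :=
    Subgroup.mul_mem _ (Subgroup.mul_mem _ hQU hn₀U) (Subgroup.inv_mem _ hQU)
  have hM2un := (mem_GU_iff_isUn hF _).mp hnU
  have hQun := (mem_GU_iff_isUn hF _).mp hQU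
  have hM2Q : ((Q * n₀ * Q⁻¹ : GL (Fin 3) F) : Matrix (Fin 3) (Fin 3) F) *
      (Q : Matrix (Fin 3) (Fin 3) F) = (Q : Matrix (Fin 3) (Fin 3) F) *
      (n₀ : Matrix (Fin 3) (Fin 3) F) := by
    rw [← Units.val_mul, ← Units.val_mul]
    congr 1
    group
  obtain ⟨S, hSun, hS, hMS⟩ := exists_su_conj (frobQ hF) (frobQ_frobQ hF) (frob_ne hF) _ _ _ _ P
    hMun hM2un hQun hZ hM2Q hP hconj
  have hS0 : det S ≠ 0 := by rw [hS]; exact one_ne_zero
  let g : GL (Fin 3) F := Matrix.GeneralLinearGroup.mkOfDetNeZero S hS0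
  have hg : (g : Matrix (Fin 3) (Fin 3) F) = S := rfl
  refine ⟨g, Subgroup.mem_inf.mpr ⟨?_, ?_⟩, ?_⟩
  · rw [mem_GU_iff_isUn hF, hg]; exact hSun
  · apply MonoidHom.mem_ker.mpr
    apply Units.ext
    rw [Matrix.GeneralLinearGroup.val_det_apply, hg, hS]
    rfl
  · have hN : ((gZ c⁻¹ (inv_ne_zero hc0) * (Q * n₀ * Q⁻¹) : GL (Fin 3) F) :
        Matrix (Fin 3) (Fin 3) F) =
        c⁻¹ • ((Q * n₀ * Q⁻¹ : GL (Fin 3) F) : Matrix (Fin 3) (Fin 3) F) := by
      rw [Units.val_mul, coe_gZ, Matrix.smul_mul, Matrix.one_mul]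
    have e : x * g = g * (gZ c⁻¹ (inv_ne_zero hc0) * (Q * n₀ * Q⁻¹)) := by
      apply Units.ext
      rw [Units.val_mul, Units.val_mul, hN, hg, Matrix.mul_smul, ← hMS, Matrix.smul_mul, smul_smul,
        inv_mul_cancel₀ hc0, one_smul]
    have : g⁻¹ * x * g = gZ c⁻¹ (inv_ne_zero hc0) * (Q * n₀ * Q⁻¹) := by
      rw [mul_assoc, e, inv_mul_cancel_left]
    rw [this]
    exact Subgroup.mul_mem _ (Std.gZ_mem_normalizer R _ _) hn₀N

end aux

/-- Elements of prime order of PSU_3(p), p ≡ 2 (mod 3), and the normalizer of an extraspecial subgroup of order 27. Here `T = PSU_3(p)` for a prime `p ≥ 5` with `p ≡ 2 (mod 3)`, realised through `SU_3(p)`, the matrices of determinant 1 over the field `F` with `p²` elements preserving the hermitian form `Σ uᵢvᵢ^p`; `R` is a non-abelian subgroup of order 27 and exponent 3 of the full unitary group of that form (an extraspecial group 3^{1+2}, acting absolutely irreducibly), and `H` is the subgroup of `SU_3(p)` normalizing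 `R` — a subgroup of type 3^{1+2}.Sp₂(3) (maximality is not assumed). Ω is the set of cosets of `H`, so an element of `T` of prime order `r` (`x ∈ SU_3(p)` with `x^r` scalar, `x` not scalar) fixes a point of Ω exactly when some `SU_3(p)`-conjugate of `x` normalizes `R`. Let `r` be a prime dividing the index of `H`. Then every element of `T` of order `r` fixes a point of Ω if and only if `r = 2`, or `r = 3` and `p ≡ 8 (mod 9)`. -/
theorem result {F : Type*} [Field F] [Fintype F] {p : ℕ} [Fact p.Prime] [CharP F p] (hF : Fintype.card F = p ^ 2) (hp : 5 ≤ p) (hp3 : p % 3 = 2)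
    (R : Subgroup (GL (Fin 3) F)) (hRU : R ≤ Cfsg.GU 3 F p) (hR : Nat.card R = 27) (hRe : Monoid.exponent R = 3) (hRna : ¬ IsMulCommutative R)
    (r : ℕ) [Fact r.Prime]
    (hΩ : r ∣ (Cfsg.Geo.subgroupNormalizer R).relIndex (Cfsg.GU 3 F p ⊓ Cfsg.Geo.specialLinear (Fin 3) F)) :
    (∀ x ∈ Cfsg.GU 3 F p ⊓ Cfsg.Geo.specialLinear (Fin 3) F, (∃ z : F, ((x ^ r : GL (Fin 3) F) : Matrix (Fin 3) (Fin 3) F) = z • (1 : Matrix (Fin 3) (Fin 3) F)) →
      (∀ z : F, (x : Matrix (Fin 3) (Fin 3) F) ≠ z • (1 : Matrix (Fin 3) (Fin 3) F)) →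
      ∃ g ∈ Cfsg.GU 3 F p ⊓ Cfsg.Geo.specialLinear (Fin 3) F, g⁻¹ * x * g ∈ Cfsg.Geo.subgroupNormalizer R) ↔ (r = 2 ∨ (r = 3 ∧ p % 9 = 8)) := by
  classical
  have hpP : p.Prime := Fact.out
  have hr : r.Prime := Fact.out
  have hp3ne : p ≠ 3 := by rintro rfl; norm_num at hp3
  have hp2ne : p ≠ 2 := by omega
  have h3ne : (3 : F) ≠ 0 := by
    intro h
    have h' : ((3 : ℕ) : F) = 0 := by exact_mod_cast h
    rw [CharP.cast_eq_zero_iff F p] at h'
    exact hp3ne ((Nat.prime_dvd_prime_iff_eq hpP Nat.prime_three).mp h')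
  have h2ne : (2 : F) ≠ 0 := by
    intro h
    have h' : ((2 : ℕ) : F) = 0 := by exact_mod_cast h
    rw [CharP.cast_eq_zero_iff F p] at h'
    exact hp2ne ((Nat.prime_dvd_prime_iff_eq hpP Nat.prime_two).mp h')
  have h3q : 3 ∣ p + 1 := by omega
  have hpsq : p ^ 2 % 3 = 1 := by rw [Nat.pow_mod, hp3]
  have h3dvd : 3 ∣ Fintype.card F - 1 := by
    rw [hF]
    have : 1 ≤ p ^ 2 := Nat.one_le_pow _ _ hpP.pos
    omega
  obtain ⟨w, hw⟩ := aux.exists_prim_cube_root h3dvd
  obtain ⟨μ, Q, hQU, hstd⟩ := Cfsg.Agent.Helper42Heis3U.exists_std_unitary hF h3q w hw h3ne R hRU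
    hR hRe hRna
  have hNQ : ∀ m, m ∈ Cfsg.Geo.subgroupNormalizer (Cfsg.Agent.Helper42Heis3Grp.conjSub R Q) →
      Q * m * Q⁻¹ ∈ Cfsg.Geo.subgroupNormalizer R :=
    fun m hm => Cfsg.Agent.Helper42Heis3Grp.mem_normalizer_conjSub.mp hm
  have hdetOf : ∀ x ∈ Cfsg.Geo.specialLinear (Fin 3) F,
      Matrix.det (x : Matrix (Fin 3) (Fin 3) F) = 1 := by
    intro x hx
    have h1 := MonoidHom.mem_ker.mp hx
    have h2 := congrArg Units.val h1
    rwa [Matrix.GeneralLinearGroup.val_det_apply] at h2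
  have hcube : ∀ t : F, t ^ 3 = 1 →
      Cfsg.Agent.Lib.Helper13_HermBridge.frobQ hF t * t = 1 :=
    fun t ht => Cfsg.Agent.Helper42Heis3U.frob_cube hF h3q t ht
  constructor
  · intro hL
    by_contra hne
    push Not at hne
    obtain ⟨hr2, hr3⟩ := hne
    by_cases hr3' : r = 3
    · -- `r = 3`, `p ≢ 8 (mod 9)`: the index is prime to 3
      subst hr3'
      have hp9 : p % 9 = 2 ∨ p % 9 = 5 := by
        have := hr3 rfl
        omega
      apply aux.not_81_dvd_card_SU (F := F) hF hp9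
      have hRSL : R ≤ Cfsg.Geo.specialLinear (Fin 3) F := by
        intro x hx
        have hx0 : Q⁻¹ * x * Q ∈ Cfsg.Agent.Helper42Heis3Grp.conjSub R Q := by
          rw [Cfsg.Agent.Helper42Heis3Grp.mem_conjSub]
          have e : Q * (Q⁻¹ * x * Q) * Q⁻¹ = x := by group
          rw [e]; exact hx
        have h1 := hstd.le_specialLinear h3ne hx0
        rw [Cfsg.Geo.specialLinear, MonoidHom.mem_ker] at h1 ⊢
        rw [map_mul, map_mul, map_inv] at h1
        rwa [mul_comm, ← mul_assoc, mul_inv_cancel, one_mul] at h1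
      have hRN : R ≤ Cfsg.Geo.subgroupNormalizer R := Subgroup.le_normalizer
      have hle : R ≤ Cfsg.Geo.subgroupNormalizer R ⊓
          (Cfsg.GU 3 F p ⊓ Cfsg.Geo.specialLinear (Fin 3) F) :=
        le_inf hRN (le_inf hRU hRSL)
      have h27 : 27 ∣ Nat.card
          ↥(Cfsg.Geo.subgroupNormalizer R ⊓ (Cfsg.GU 3 F p ⊓ Cfsg.Geo.specialLinear (Fin 3) F)) :=
        hR ▸ Subgroup.card_dvd_of_le hle
      have hmul := Subgroup.relIndex_mul_relIndex ⊥
        (Cfsg.Geo.subgroupNormalizer R ⊓ (Cfsg.GU 3 F p ⊓ Cfsg.Geo.specialLinear (Fin 3) F))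
        (Cfsg.GU 3 F p ⊓ Cfsg.Geo.specialLinear (Fin 3) F) bot_le inf_le_right
      rw [Subgroup.relIndex_bot_left, Subgroup.relIndex_bot_left, Subgroup.inf_relIndex_right]
        at hmul
      rw [← hmul]
      exact Nat.mul_dvd_mul h27 hΩ
    · -- `r ≥ 5`
      have hr5 : 5 ≤ r := by
        have h2le := hr.two_le
        by_contra hlt
        push Not at hlt
        interval_cases r
        · exact hr2 rfl
        · exact hr3' rfl
        · norm_num at hr
      have hdvd : r ∣ Nat.card ↥(Cfsg.GU 3 F p ⊓ Cfsg.Geo.specialLinear (Fin 3) F) :=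
        hΩ.trans (Subgroup.relIndex_dvd_card _ _)
      obtain ⟨x, hx⟩ := exists_prime_orderOf_dvd_card'
        (G := ↥(Cfsg.GU 3 F p ⊓ Cfsg.Geo.specialLinear (Fin 3) F)) r hdvd
      have hxr : (x : GL (Fin 3) F) ^ r = 1 := by
        have h1 := pow_orderOf_eq_one x
        rw [hx] at h1
        have h2 := congrArg Subtype.val h1
        simpa using h2
      have hxns : ∀ z : F, ((x : GL (Fin 3) F) : Matrix (Fin 3) (Fin 3) F) ≠
          z • (1 : Matrix (Fin 3) (Fin 3) F) := by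
        intro z hz
        have hdet := hdetOf x x.2.2
        have hz3 : z ^ 3 = 1 := by
          rw [hz, Matrix.det_smul, Matrix.det_one] at hdet
          simpa using hdet
        have hx3 : (x : GL (Fin 3) F) ^ 3 = 1 := by
          apply Units.ext
          rw [Units.val_pow_eq_pow_val, hz, smul_pow, hz3]
          simp
        have h1 : orderOf (x : GL (Fin 3) F) ∣ 3 := orderOf_dvd_of_pow_eq_one hx3
        rw [Subgroup.orderOf_coe, hx] at h1
        have := Nat.le_of_dvd (by norm_num) h1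
        omega
      obtain ⟨g, hg, hgN⟩ := hL x x.2 ⟨1, by rw [hxr]; simp⟩ hxns
      set a : GL (Fin 3) F := (g * Q)⁻¹ with ha
      have hm_eq : Q⁻¹ * (g⁻¹ * x * g) * Q = a * x * a⁻¹ := by rw [ha]; group
      have hm : a * x * a⁻¹ ∈
          Cfsg.Geo.subgroupNormalizer (Cfsg.Agent.Helper42Heis3Grp.conjSub R Q) := by
        rw [Cfsg.Agent.Helper42Heis3Grp.mem_normalizer_conjSub, ← hm_eq]
        have e : Q * (Q⁻¹ * (g⁻¹ * x * g) * Q) * Q⁻¹ = g⁻¹ * x * g := by group
        rw [e]; exact hgN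
      have hmr : (a * x * a⁻¹) ^ r = 1 := by
        rw [conj_pow, hxr]; group
      have hsc := hstd.scalar_of_pow_scalar h3ne r hr hr5 _ hm 1 (by rw [hmr]; simp)
      exact hxns _ (Cfsg.Agent.Helper42Heis3Grp.scalar_of_conj_scalar a x _ hsc)
  · rintro (hr2 | ⟨hr3, hp9⟩)
    · -- `r = 2`
      subst hr2
      intro x hx ⟨z, hz⟩ hns
      have hdetX := hdetOf x hx.2
      have hXX : (x : Matrix (Fin 3) (Fin 3) F) * (x : Matrix (Fin 3) (Fin 3) F) =
          z • (1 : Matrix (Fin 3) (Fin 3) F) := by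
        rw [← hz, pow_two, Units.val_mul]
      have hz3 : z ^ 3 = 1 := by
        have h1 := congrArg Matrix.det hXX
        rw [Matrix.det_mul, hdetX, Matrix.det_smul, Matrix.det_one] at h1
        simpa using h1.symm
      have hz0 : z ≠ 0 := by
        rintro rfl
        simp at hz3
      have hMM : (z • (x : Matrix (Fin 3) (Fin 3) F)) * (z • (x : Matrix (Fin 3) (Fin 3) F)) = 1 := by
        rw [Matrix.smul_mul, Matrix.mul_smul, hXX, smul_smul, smul_smul]
        have : z * z * z = 1 := by rw [← hz3]; ring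
        rw [this, one_smul]
      have hdM : Matrix.det (z • (x : Matrix (Fin 3) (Fin 3) F)) = 1 := by
        rw [Matrix.det_smul, hdetX]
        simpa using hz3
      have hnsM : ∀ c : F, z • (x : Matrix (Fin 3) (Fin 3) F) ≠
          c • (1 : Matrix (Fin 3) (Fin 3) F) := by
        intro c hc
        apply hns (z⁻¹ * c)
        have h1 : (x : Matrix (Fin 3) (Fin 3) F) = z⁻¹ • (z • (x : Matrix (Fin 3) (Fin 3) F)) := by
          rw [smul_smul, inv_mul_cancel₀ hz0, one_smul]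
        rw [h1, hc, smul_smul]
      set t : GL (Fin 3) F := Q * Cfsg.Agent.Helper42Heis3Grp.gT * Q⁻¹ with ht
      have htN : t ∈ Cfsg.Geo.subgroupNormalizer R := hNQ _ (hstd.gT_mem_normalizer h3ne)
      have htt : (t : Matrix (Fin 3) (Fin 3) F) * (t : Matrix (Fin 3) (Fin 3) F) = 1 := by
        have h1 : t * t = 1 := by
          have : t * t = Q * (Cfsg.Agent.Helper42Heis3Grp.gT * Cfsg.Agent.Helper42Heis3Grp.gT) * Q⁻¹ := by
            rw [ht]; group
          rw [this, Cfsg.Agent.Helper42Heis3Grp.gT_mul_gT]; group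
        rw [← Units.val_mul, h1]; rfl
      have hdt : Matrix.det (t : Matrix (Fin 3) (Fin 3) F) = 1 := by
        rw [ht, Cfsg.Agent.Helper42Heis3Grp.det_conj]
        exact Cfsg.Agent.Helper42Heis3Grp.det_Tmat
      have hnst : ∀ c : F, (t : Matrix (Fin 3) (Fin 3) F) ≠ c • (1 : Matrix (Fin 3) (Fin 3) F) := by
        intro c hc
        have h1 := Cfsg.Agent.Helper42Heis3Grp.scalar_of_conj_scalar Q _ c hc
        have e := congrFun (congrFun h1 1) 2
        simp [Cfsg.Agent.Helper42Heis3Grp.Tmat] at e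
      obtain ⟨S, hS, hMS⟩ := Cfsg.Agent.Helper42QuadNF.exists_sl_conj_involution h2ne _ _
        hMM hdM hnsM htt hdt hnst
      exact aux.su_conj_mem hF R Q hQU x hx z hz0 (hcube z hz3)
        Cfsg.Agent.Helper42Heis3Grp.gT (Cfsg.Agent.Helper42Heis3U.gT_mem_GU hF) htN
        (fun α => aux.zd_mul_Tmat α) S (by rw [hS]; exact one_ne_zero) hMS
    · -- `r = 3`, `p ≡ 8 (mod 9)`
      subst hr3
      intro x hx ⟨z, hz⟩ hns
      have hdetX := hdetOf x hx.2
      have hXXX : (x : Matrix (Fin 3) (Fin 3) F) * (x : Matrix (Fin 3) (Fin 3) F) *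
          (x : Matrix (Fin 3) (Fin 3) F) = z • (1 : Matrix (Fin 3) (Fin 3) F) := by
        rw [← hz, pow_succ, pow_two, Units.val_mul, Units.val_mul]
      have hz3 : z ^ 3 = 1 := by
        have h1 := congrArg Matrix.det hXXX
        rw [Matrix.det_mul, Matrix.det_mul, hdetX, Matrix.det_smul, Matrix.det_one] at h1
        simpa using h1.symm
      have hz0 : z ≠ 0 := by
        rintro rfl
        simp at hz3
      by_cases hz1 : z = 1
      · subst hz1
        rw [one_smul] at hXXX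
        set a : GL (Fin 3) F := Q * Cfsg.Agent.Helper42Heis3Grp.gD μ hstd.cube * Q⁻¹ with ha
        have haR : a ∈ R := Cfsg.Agent.Helper42Heis3Grp.mem_conjSub.mp (hstd.memD _)
        have haN : a ∈ Cfsg.Geo.subgroupNormalizer R :=
          (Subgroup.le_normalizer : R ≤ Subgroup.normalizer (R : Set (GL (Fin 3) F))) haR
        have ha3 : (a : Matrix (Fin 3) (Fin 3) F) * (a : Matrix (Fin 3) (Fin 3) F) *
            (a : Matrix (Fin 3) (Fin 3) F) = 1 := by
          have h1 : a * a * a = 1 := by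
            have : a * a * a = Q * (Cfsg.Agent.Helper42Heis3Grp.gD μ hstd.cube *
                Cfsg.Agent.Helper42Heis3Grp.gD μ hstd.cube *
                Cfsg.Agent.Helper42Heis3Grp.gD μ hstd.cube) * Q⁻¹ := by
              rw [ha]; group
            rw [this, Cfsg.Agent.Helper42Heis3Grp.gD_cube]; group
          rw [← Units.val_mul, ← Units.val_mul, h1]; rfl
        have hda : Matrix.det (a : Matrix (Fin 3) (Fin 3) F) = 1 := by
          rw [ha, Cfsg.Agent.Helper42Heis3Grp.det_conj]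
          exact Cfsg.Agent.Helper42Heis3Grp.det_nfD μ hstd.cube
        have hnsa : ∀ c : F, (a : Matrix (Fin 3) (Fin 3) F) ≠
            c • (1 : Matrix (Fin 3) (Fin 3) F) := by
          intro c hc
          have h1 := Cfsg.Agent.Helper42Heis3Grp.scalar_of_conj_scalar Q _ c hc
          have e0 := congrFun (congrFun h1 0) 0
          have e1 := congrFun (congrFun h1 1) 1
          simp [Cfsg.Agent.Helper42CubeNF.nfD] at e0 e1
          exact hstd.ne_one h3ne (by rw [e1, ← e0])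
        obtain ⟨S, hS, hXS⟩ := Cfsg.Agent.Helper42CubeNF.exists_sl_conj_of_cube_one h3ne _ _
          hXXX hdetX hns ha3 hda hnsa
        exact aux.su_conj_mem hF R Q hQU x hx 1 one_ne_zero (by simp)
          (Cfsg.Agent.Helper42Heis3Grp.gD μ hstd.cube)
          (Cfsg.Agent.Helper42Heis3U.gD_mem_GU hF h3q μ hstd.cube) haN
          (fun α => Cfsg.Agent.Helper42CubeNF.zd_mul_nfD μ α) S (by rw [hS]; exact one_ne_zero)
          (by rw [one_smul]; exact hXS)
      · have hzp : z ^ 2 + z + 1 = 0 := by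
          have h1 : (z - 1) * (z ^ 2 + z + 1) = 0 := by linear_combination hz3
          rcases mul_eq_zero.mp h1 with e | e
          · exact absurd (sub_eq_zero.mp e) hz1
          · exact e
        have h9 : 9 ∣ Fintype.card F - 1 := by
          rw [hF]
          have h1 : p ^ 2 % 9 = 1 := by rw [Nat.pow_mod, hp9]
          have h2 : 1 ≤ p ^ 2 := Nat.one_le_pow _ _ hpP.pos
          omega
        have hζp : (z ^ 2) ^ 2 + z ^ 2 + 1 = 0 := by linear_combination (z ^ 2 - z + 1) * hzp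
        obtain ⟨a9, ha9, ha99⟩ := aux.exists_cube_root h9 (z ^ 2) hζp
        have ha0 : a9 ≠ 0 := by
          rintro rfl
          have : z ^ 2 = 0 := by rw [← ha9]; ring
          exact hz0 (pow_eq_zero_iff (by norm_num) |>.mp this)
        have ha9n : Cfsg.Agent.Lib.Helper13_HermBridge.frobQ hF a9 * a9 = 1 := by
          obtain ⟨k, hk⟩ : 9 ∣ p + 1 := by omega
          rw [Cfsg.Agent.Lib.Helper13_HermBridge.frobQ_apply, ← pow_succ, hk, pow_mul, ha99,
            one_pow]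
        have hM3 : (a9 • (x : Matrix (Fin 3) (Fin 3) F)) * (a9 • (x : Matrix (Fin 3) (Fin 3) F)) *
            (a9 • (x : Matrix (Fin 3) (Fin 3) F)) = 1 := by
          simp only [Matrix.smul_mul, Matrix.mul_smul, smul_smul, hXXX]
          have h1 : a9 * (a9 * a9 * z) = 1 := by
            have h2 : a9 * (a9 * a9 * z) = a9 ^ 3 * z := by ring
            rw [h2, ha9, ← hz3]; ring
          rw [h1, one_smul]
        have hdM : Matrix.det (a9 • (x : Matrix (Fin 3) (Fin 3) F)) = z ^ 2 := by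
          rw [Matrix.det_smul, hdetX]
          simpa using ha9
        obtain ⟨e, he, P₁, hP₁, hMP⟩ := Cfsg.Agent.Helper42QuadNF.exists_nf_cube_det h3ne (z ^ 2) hζp _
          hM3 hdM
        have hstdζ := hstd.of_prim (z ^ 2) hζp
        have hζ0 : z ^ 2 ≠ 0 := hstdζ.ne_zero
        have he0 : e ≠ 0 := by
          rintro rfl
          simp at he
        set n₀ : GL (Fin 3) F := Cfsg.Agent.Helper42Heis3Grp.gZ e he0 *
          Cfsg.Agent.Helper42Heis3Grp.gE (z ^ 2) hζ0 with hn₀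
        have hn₀N : n₀ ∈ Cfsg.Geo.subgroupNormalizer (Cfsg.Agent.Helper42Heis3Grp.conjSub R Q) :=
          Subgroup.mul_mem _ (Cfsg.Agent.Helper42Heis3Grp.Std.gZ_mem_normalizer _ _ _)
            (hstdζ.gE_mem_normalizer h3ne)
        have hn₀U : n₀ ∈ Cfsg.GU 3 F p :=
          Subgroup.mul_mem _ (Cfsg.Agent.Helper42Heis3U.gZ_mem_GU hF e he0 (hcube e he))
            (Cfsg.Agent.Helper42Heis3U.gE_mem_GU hF (z ^ 2) hζ0 (hcube (z ^ 2) hstdζ.cube))
        have hn₀val : (n₀ : Matrix (Fin 3) (Fin 3) F) = Matrix.diagonal ![e * z ^ 2, e, e] := by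
          simp only [hn₀, Units.val_mul, Cfsg.Agent.Helper42Heis3Grp.coe_gZ,
            Cfsg.Agent.Helper42Heis3Grp.coe_gE]
          ext i j
          fin_cases i <;> fin_cases j <;>
            simp [Cfsg.Agent.Helper42Heis3Grp.Emat, Matrix.diagonal_apply]
        have hQi : ((Q⁻¹ : GL (Fin 3) F) : Matrix (Fin 3) (Fin 3) F) *
            (Q : Matrix (Fin 3) (Fin 3) F) = 1 := by
          rw [← Units.val_mul, inv_mul_cancel]; rfl
        refine aux.su_conj_mem hF R Q hQU x hx a9 ha0 ha9n n₀ hn₀U (hNQ _ hn₀N)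
          (fun α => by rw [hn₀val]; exact Cfsg.Agent.Helper42QuadNF.zd_mul_diagonal α _)
          (P₁ * ((Q⁻¹ : GL (Fin 3) F) : Matrix (Fin 3) (Fin 3) F)) ?_ ?_
        · rw [Matrix.det_mul]
          exact mul_ne_zero hP₁ (Cfsg.Agent.Helper42Heis3Grp.det_coe_ne_zero _)
        · rw [← Matrix.mul_assoc, hMP]
          simp only [Units.val_mul]
          rw [hn₀val]
          calc P₁ * Matrix.diagonal ![e * z ^ 2, e, e] *
                ((Q⁻¹ : GL (Fin 3) F) : Matrix (Fin 3) (Fin 3) F)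
              = P₁ * (((Q⁻¹ : GL (Fin 3) F) : Matrix (Fin 3) (Fin 3) F) *
                  (Q : Matrix (Fin 3) (Fin 3) F)) * Matrix.diagonal ![e * z ^ 2, e, e] *
                ((Q⁻¹ : GL (Fin 3) F) : Matrix (Fin 3) (Fin 3) F) := by
                rw [hQi, Matrix.mul_one]
            _ = _ := by simp only [Matrix.mul_assoc]

end Cfsg.Agent.S5999
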